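import Cfsg.Agent.H952.F4.Jord
import Cfsg.Agent.R2.H28.SL2.Bas_m3
import Cfsg.Agent.R2.H22.P11_m3
import Cfsg.Agent.R2.F4P.Id_m3
import Cfsg.Agent.R2.H22.NR_m3
import Cfsg.Agent.H952.F4.FixV_m3
import Cfsg.Agent.H65.E6Ext_m3
import Cfsg.Agent.R2.H9.E6.Num_m3
import Cfsg.Agent.FastGrp
import Cfsg.Agent.Prune
set_option linter.all false

section
prune_inst 0x7fffbdfdbbacf1dfdf7f7e3faedcfffc11830fffa4dff94bffe063bf0b5f038809e56bad89e090fe1ed7c21410a87843f9ffeeffea6bdc7ffffd5ff41ffbee4ff5f7b50851d48c340f380ff703f0778e6f3fffffffffffffffffffffffffffaeffbffbfeffff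

-- part: R2/F4L/Act
section
prune_inst 0x420244530e20208001c001020001ee7830004220048000008c4070a0f810c4029400060a2200012828890c50831006001100110420000000a0000000119008000011202b008a008400088000080010000000000000000000000000000010004004010000
set_option linter.all false
open scoped Cfsg.Agent.FastGrp

-- part: R2/F4L/M
section
/-!
# The symmetric square of a 3-dimensional module and the Albert algebra (helper2, S5931, lemma (M))

`MH q1 q2 q3 p1 p2 p3 c1 c2 c3 c0` : `q_i = β(e_i, e_i)`, `p_i = β(e_j, e_l)` for a symmetric bilinear map `β` from a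
3-dimensional space to `J` with `β(x, x)^# = 0` for all `x`, and `c_1 q_1 + c_2 q_2 + c_3 q_3 = c_0 1`, `c_i ≠ 0`.

* `MH.white` : `c_0 = 0` : the span of the `q_i`, `p_i` is white;
* `MH.sh_mem` : `c_0 ≠ 0` : the span is closed under `#`, contains `1`;
* `MH.gen` : `c_0 ≠ 0` : the span is generated by two elements.
-/

set_option autoImplicit false

namespace Cfsg.Agent.R2.F4L

open Cfsg.Lie
open Cfsg.Agent.ChevalleyStructure.E6Min.Tables Cfsg.Agent.ChevalleyStructure.E6Min.Basic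
open Cfsg.Agent.H952.F4 (sh cr tf tr1 u0)
open Cfsg.Agent.H952.F4.Jord

universe u

variable {k : Type u} [Field k]

theorem sh_zero : sh (0 : I27 → k) = 0 := by
  have h := sh_smul (0 : k) (0 : I27 → k)
  rw [zero_smul] at h
  rw [h]
  simp

theorem cr_zero_left (x : I27 → k) : cr 0 x = 0 := by
  have h := cr_smul_left (0 : k) 0 x
  rw [zero_smul, zero_smul] at h
  exact h

theorem cr_zero_right (x : I27 → k) : cr x 0 = 0 := by rw [cr_comm, cr_zero_left]

theorem cr_neg_left (x y : I27 → k) : cr (-x) y = -cr x y := by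
  have h := cr_smul_left (-1 : k) x y
  rwa [neg_one_smul, neg_one_smul] at h

theorem cr_neg_right (x y : I27 → k) : cr x (-y) = -cr x y := by rw [cr_comm, cr_neg_left, cr_comm]

/-- a quadratic vector polynomial without linear part -/
theorem sh_add3 (x y z : I27 → k) : sh (x + y + z) = sh x + sh y + sh z + cr x y + cr x z + cr y z := by
  rw [sh_add, sh_add, cr_add_left]
  abel

structure MH (q1 q2 q3 p1 p2 p3 : I27 → k) (c1 c2 c3 c0 : k) : Prop where
  sq : ∀ x y z : k, sh (x ^ 2 • q1 + y ^ 2 • q2 + z ^ 2 • q3 + (2 * y * z) • p1 + (2 * x * z) • p2 + (2 * x * y) • p3) = 0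
  n1 : c1 ≠ 0
  n2 : c2 ≠ 0
  n3 : c3 ≠ 0
  w : c1 • q1 + c2 • q2 + c3 • q3 = c0 • u0 k

variable {q1 q2 q3 p1 p2 p3 : I27 → k} {c1 c2 c3 c0 : k}

/-- permutations of the indices -/
theorem MH.swap (h : MH q1 q2 q3 p1 p2 p3 c1 c2 c3 c0) : MH q2 q1 q3 p2 p1 p3 c2 c1 c3 c0 :=
  ⟨fun x y z => by
    have := h.sq y x z
    rw [← this]
    congr 1
    module, h.n2, h.n1, h.n3, by rw [← h.w]; module⟩

theorem MH.rot (h : MH q1 q2 q3 p1 p2 p3 c1 c2 c3 c0) : MH q2 q3 q1 p2 p3 p1 c2 c3 c1 c0 :=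
  ⟨fun x y z => by
    have := h.sq z x y
    rw [← this]
    congr 1
    module, h.n2, h.n3, h.n1, by rw [← h.w]; module⟩

theorem two_cancel (h2 : (2 : k) ≠ 0) {x : I27 → k} (h : (2 : k) • x = 0) : x = 0 :=
  (smul_eq_zero.1 h).resolve_left h2

/-- the relations of one pair -/
theorem MH.pair (h : MH q1 q2 q3 p1 p2 p3 c1 c2 c3 c0) (h2 : (2 : k) ≠ 0) {t : k} (ht : t ≠ 0) (ht2 : t ^ 2 ≠ 1) :
    sh q1 = 0 ∧ cr q1 p3 = 0 ∧ cr q1 q2 = (-4 : k) • sh p3 := by
  have s1 : sh q1 = 0 := by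
    have := h.sq 1 0 0
    simpa using this
  have s2 : sh q2 = 0 := by
    have := h.sq 0 1 0
    simpa using this
  have key : ∀ t : k, (2 * t) • cr q1 p3 + t ^ 2 • (cr q1 q2 + (4 : k) • sh p3) + (2 * t ^ 3) • cr p3 q2 = 0 := by
    intro t
    have h1 : sh (q1 + t ^ 2 • q2 + (2 * t) • p3) = 0 := by
      rw [← h.sq 1 t 0]
      congr 1
      module
    rw [sh_add3, sh_smul, sh_smul, s1, s2, cr_smul_right, cr_smul_right, cr_smul_left, cr_smul_right,
      cr_comm q2 p3] at h1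
    rw [← h1]
    module
  have k1 := key 1
  have k2 := key (-1)
  have k3 := key t
  have a1 : cr q1 q2 + (4 : k) • sh p3 = 0 := by
    apply two_cancel h2
    have : (2 : k) • (cr q1 q2 + (4 : k) • sh p3) = ((2 * (1 : k)) • cr q1 p3 + (1 : k) ^ 2 • (cr q1 q2 + (4 : k) • sh p3) +
        (2 * (1 : k) ^ 3) • cr p3 q2) + ((2 * (-1 : k)) • cr q1 p3 + (-1 : k) ^ 2 • (cr q1 q2 + (4 : k) • sh p3) +
        (2 * (-1 : k) ^ 3) • cr p3 q2) := by module
    rw [this, k1, k2, add_zero]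
  rw [a1] at k1 k3
  have a2 : cr q1 p3 + cr p3 q2 = 0 := by
    apply two_cancel h2
    rw [← k1]
    module
  have a3 : cr q1 p3 + t ^ 2 • cr p3 q2 = 0 := by
    have : (2 * t) • (cr q1 p3 + t ^ 2 • cr p3 q2) = 0 := by
      rw [← k3]
      module
    exact (smul_eq_zero.1 this).resolve_left (mul_ne_zero h2 ht)
  have a4 : (t ^ 2 - 1) • cr p3 q2 = 0 := by
    have : (t ^ 2 - 1) • cr p3 q2 = (cr q1 p3 + t ^ 2 • cr p3 q2) - (cr q1 p3 + cr p3 q2) := by module
    rw [this, a3, a2, sub_zero]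
  have a5 : cr p3 q2 = 0 := (smul_eq_zero.1 a4).resolve_left (sub_ne_zero.2 ht2)
  rw [a5, add_zero] at a2
  refine ⟨s1, a2, ?_⟩
  have : cr q1 q2 = (cr q1 q2 + (4 : k) • sh p3) - (4 : k) • sh p3 := by module
  rw [this, a1]
  module

/-- all relations -/
structure MR (q1 q2 q3 p1 p2 p3 : I27 → k) : Prop where
  s1 : sh q1 = 0
  s2 : sh q2 = 0
  s3 : sh q3 = 0
  z12 : cr q1 p2 = 0
  z13 : cr q1 p3 = 0
  z21 : cr q2 p1 = 0
  z23 : cr q2 p3 = 0
  z31 : cr q3 p1 = 0
  z32 : cr q3 p2 = 0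
  r3 : cr q1 q2 = (-4 : k) • sh p3
  r2 : cr q1 q3 = (-4 : k) • sh p2
  r1 : cr q2 q3 = (-4 : k) • sh p1
  m1 : cr q1 p1 = (-2 : k) • cr p2 p3
  m2 : cr q2 p2 = (-2 : k) • cr p1 p3
  m3 : cr q3 p3 = (-2 : k) • cr p1 p2

theorem MH.rel (h : MH q1 q2 q3 p1 p2 p3 c1 c2 c3 c0) (h2 : (2 : k) ≠ 0) {t : k} (ht : t ≠ 0) (ht2 : t ^ 2 ≠ 1) :
    MR q1 q2 q3 p1 p2 p3 := by
  obtain ⟨s1, z13, r3⟩ := h.pair h2 ht ht2
  obtain ⟨s2, z23, -⟩ := h.swap.pair h2 ht ht2
  obtain ⟨-, z21, r1⟩ := h.rot.pair h2 ht ht2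
  obtain ⟨s3, z32, r2'⟩ := h.rot.rot.pair h2 ht ht2
  obtain ⟨-, z12, r2⟩ := h.rot.rot.swap.pair h2 ht ht2
  obtain ⟨-, z31, -⟩ := h.rot.swap.pair h2 ht ht2
  have r3' : sh p3 = (-4 : k)⁻¹ • cr q1 q2 := by
    have h4 : (-4 : k) ≠ 0 := by
      have : (-4 : k) = -(2 * 2) := by norm_num
      rw [this]
      exact neg_ne_zero.2 (mul_ne_zero h2 h2)
    rw [r3, smul_smul, inv_mul_cancel₀ h4, one_smul]
  have key : ∀ y z : k, (y * z) • (cr q1 p1 + (2 : k) • cr p2 p3) + (y ^ 2 * z) • (cr q2 p2 + (2 : k) • cr p1 p3) +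
      (y * z ^ 2) • (cr q3 p3 + (2 : k) • cr p1 p2) = 0 := by
    intro y z
    have h1 := h.sq 1 y z
    have e1 : ((1 : k) ^ 2 • q1 + y ^ 2 • q2 + z ^ 2 • q3 + (2 * y * z) • p1 + (2 * 1 * z) • p2 + (2 * 1 * y) • p3) =
        (q1 + y ^ 2 • q2 + z ^ 2 • q3) + ((2 * y * z) • p1 + (2 * z) • p2 + (2 * y) • p3) := by module
    have z12' : cr p2 q1 = 0 := by rw [cr_comm]; exact z12
    rw [e1, sh_add, sh_add3, sh_add3] at h1
    simp only [sh_smul, cr_add_left, cr_add_right, cr_smul_left, cr_smul_right, s1, s2, s3, z12, z13, z21, z23, z31, z32,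
      r3, r2, r1, smul_zero, zero_add, add_zero] at h1
    apply two_cancel h2
    rw [← h1]
    module
  have k1 := key 1 1
  have k2 := key 1 (-1)
  have k3 := key (-1) 1
  set A := cr q1 p1 + (2 : k) • cr p2 p3 with hA
  set B := cr q2 p2 + (2 : k) • cr p1 p3 with hB
  set C := cr q3 p3 + (2 : k) • cr p1 p2 with hC
  have hC0 : C = 0 := by
    apply two_cancel h2
    have : (2 : k) • C = (((1 : k) * 1) • A + ((1 : k) ^ 2 * 1) • B + ((1 : k) * 1 ^ 2) • C) +
      (((1 : k) * (-1)) • A + ((1 : k) ^ 2 * (-1)) • B + ((1 : k) * (-1) ^ 2) • C) := by module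
    rw [this, k1, k2, add_zero]
  have hB0 : B = 0 := by
    apply two_cancel h2
    have : (2 : k) • B = (((1 : k) * 1) • A + ((1 : k) ^ 2 * 1) • B + ((1 : k) * 1 ^ 2) • C) +
      (((-1 : k) * 1) • A + ((-1 : k) ^ 2 * 1) • B + ((-1 : k) * 1 ^ 2) • C) := by module
    rw [this, k1, k3, add_zero]
  have hA0 : A = 0 := by
    rw [hB0, hC0] at k1
    simpa using k1
  refine ⟨s1, s2, s3, z12, z13, z21, z23, z31, z32, r3, r2, r1, ?_, ?_, ?_⟩
  · rw [neg_smul]
    exact eq_neg_of_add_eq_zero_left hA0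
  · rw [neg_smul]
    exact eq_neg_of_add_eq_zero_left hB0
  · rw [neg_smul]
    exact eq_neg_of_add_eq_zero_left hC0

/-- the adjoint of a general element -/
theorem MR.sh_eq (R : MR q1 q2 q3 p1 p2 p3) (a1 a2 a3 b1 b2 b3 : k) :
    (4 : k) • sh (a1 • q1 + a2 • q2 + a3 • q3 + b1 • p1 + b2 • p2 + b3 • p3) =
      (4 * a1 * a2 - b3 ^ 2) • cr q1 q2 + (4 * a1 * a3 - b2 ^ 2) • cr q1 q3 + (4 * a2 * a3 - b1 ^ 2) • cr q2 q3 +
      (4 * a1 * b1 - 2 * b2 * b3) • cr q1 p1 + (4 * a2 * b2 - 2 * b1 * b3) • cr q2 p2 +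
      (4 * a3 * b3 - 2 * b1 * b2) • cr q3 p3 := by
  have e1 : a1 • q1 + a2 • q2 + a3 • q3 + b1 • p1 + b2 • p2 + b3 • p3 =
      (a1 • q1 + a2 • q2 + a3 • q3) + (b1 • p1 + b2 • p2 + b3 • p3) := by module
  rw [e1, sh_add, sh_add3, sh_add3]
  simp only [sh_smul, cr_add_left, cr_add_right, cr_smul_left, cr_smul_right, R.s1, R.s2, R.s3, R.z12, R.z13, R.z21,
    R.z23, R.z31, R.z32, R.r3, R.r2, R.r1, R.m1, R.m2, R.m3, smul_zero, zero_add, add_zero]
  module

theorem four_cancel (h2 : (2 : k) ≠ 0) {x : I27 → k} (h : (4 : k) • x = 0) : x = 0 := by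
  apply two_cancel h2
  apply two_cancel h2
  rw [← h]
  module

/-- the products with the sum of the squares -/
theorem MH.prod (h : MH q1 q2 q3 p1 p2 p3 c1 c2 c3 c0) (y : I27 → k) :
    c1 • cr q1 y + c2 • cr q2 y + c3 • cr q3 y = c0 • (tr1 y • u0 k - y) := by
  rw [← cr_u0, ← cr_smul_left, ← cr_smul_left, ← cr_smul_left, ← cr_add_left, ← cr_add_left, h.w, cr_smul_left]

/-- **the case `c_0 = 0`** -/
theorem MH.white (h : MH q1 q2 q3 p1 p2 p3 c1 c2 c3 0) (h2 : (2 : k) ≠ 0) {t : k} (ht : t ≠ 0) (ht2 : t ^ 2 ≠ 1)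
    (a1 a2 a3 b1 b2 b3 : k) : sh (a1 • q1 + a2 • q2 + a3 • q3 + b1 • p1 + b2 • p2 + b3 • p3) = 0 := by
  have R := h.rel h2 ht ht2
  have S : ∀ {x : I27 → k}, sh x = 0 → cr x x = 0 := fun hx => by rw [cr_self, hx, smul_zero]
  have E1 := h.prod q1
  have E2 := h.prod q2
  have E3 := h.prod q3
  have P1 := h.prod p1
  have P2 := h.prod p2
  have P3 := h.prod p3
  rw [S R.s1, cr_comm q2 q1, cr_comm q3 q1, zero_smul, smul_zero, zero_add] at E1
  rw [S R.s2, cr_comm q3 q2, zero_smul, smul_zero, add_zero] at E2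
  rw [S R.s3, zero_smul, smul_zero, add_zero] at E3
  rw [R.z21, R.z31, zero_smul, smul_zero, smul_zero, add_zero, add_zero] at P1
  rw [R.z12, R.z32, zero_smul, smul_zero, smul_zero, zero_add, add_zero] at P2
  rw [R.z13, R.z23, zero_smul, smul_zero, smul_zero, zero_add, zero_add] at P3
  have r3 : cr q1 q2 = 0 := by
    have : (2 * (c1 * c2)) • cr q1 q2 = c1 • (c2 • cr q1 q2 + c3 • cr q1 q3) + c2 • (c1 • cr q1 q2 + c3 • cr q2 q3) -
        c3 • (c1 • cr q1 q3 + c2 • cr q2 q3) := by module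
    rw [E1, E2, E3, smul_zero, smul_zero, smul_zero, add_zero, sub_zero] at this
    exact (smul_eq_zero.1 this).resolve_left (mul_ne_zero h2 (mul_ne_zero h.n1 h.n2))
  rw [r3, smul_zero, zero_add] at E1 E2
  have r2 : cr q1 q3 = 0 := (smul_eq_zero.1 E1).resolve_left h.n3
  have r1 : cr q2 q3 = 0 := (smul_eq_zero.1 E2).resolve_left h.n3
  have m1 : cr q1 p1 = 0 := (smul_eq_zero.1 P1).resolve_left h.n1
  have m2 : cr q2 p2 = 0 := (smul_eq_zero.1 P2).resolve_left h.n2
  have m3 : cr q3 p3 = 0 := (smul_eq_zero.1 P3).resolve_left h.n3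
  apply four_cancel h2
  rw [R.sh_eq, r1, r2, r3, m1, m2, m3]
  simp

theorem u0_ne : u0 k ≠ 0 := by
  intro h
  have h1 : tr1 (u0 k) = 0 := by rw [h]; simp [tr1, Matrix.trace, mat3]
  have h2 : sh (u0 k) = u0 k := sh_u0
  have h3 : cubicT (u0 k) = 1 := N_u0
  rw [h] at h3
  have h4 := N_smul (0 : k) (0 : I27 → k)
  rw [zero_smul, h3] at h4
  norm_num at h4

/-- the traces -/
theorem MH.tr (h : MH q1 q2 q3 p1 p2 p3 c1 c2 c3 c0) (h2 : (2 : k) ≠ 0) {t : k} (ht : t ≠ 0) (ht2 : t ^ 2 ≠ 1)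
    (h0 : c0 ≠ 0) : c1 * tr1 q1 = c0 ∧ (c2 * c3) • cr q2 q3 = (c0 * c1) • q1 := by
  have R := h.rel h2 ht ht2
  have S : ∀ {x : I27 → k}, sh x = 0 → cr x x = 0 := fun hx => by rw [cr_self, hx, smul_zero]
  have E1 := h.prod q1
  have E2 := h.prod q2
  have E3 := h.prod q3
  rw [S R.s1, cr_comm q2 q1, cr_comm q3 q1, smul_zero, zero_add] at E1
  rw [S R.s2, cr_comm q3 q2, smul_zero, add_zero] at E2
  rw [S R.s3, smul_zero, add_zero] at E3
  have hw := h.w
  have htr : c1 * tr1 q1 + c2 * tr1 q2 + c3 * tr1 q3 = 3 * c0 := by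
    have := congrArg tr1 hw
    rw [tr1_add, tr1_add, tr1_smul, tr1_smul, tr1_smul, tr1_smul, tr1_u0] at this
    linear_combination this
  have key : (c2 * c3) • cr q2 q3 = (c0 * (c0 - c1 * tr1 q1)) • u0 k + (c0 * c1) • q1 := by
    have k1 : (2 : k) • ((c2 * c3) • cr q2 q3 - ((c0 * (c0 - c1 * tr1 q1)) • u0 k + (c0 * c1) • q1)) = 0 := by
      have e1 : (2 : k) • ((c2 * c3) • cr q2 q3) = c2 • (c1 • cr q1 q2 + c3 • cr q2 q3) + c3 • (c1 • cr q1 q3 + c2 • cr q2 q3) -
        c1 • (c2 • cr q1 q2 + c3 • cr q1 q3) := by module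
      rw [E1, E2, E3] at e1
      have e2 : c2 • q2 + c3 • q3 = c0 • u0 k - c1 • q1 := by rw [← hw]; module
      have e3 : c2 • (c0 • (tr1 q2 • u0 k - q2)) + c3 • (c0 • (tr1 q3 • u0 k - q3)) - c1 • (c0 • (tr1 q1 • u0 k - q1)) =
          (c0 * (c2 * tr1 q2 + c3 * tr1 q3 - c1 * tr1 q1)) • u0 k - c0 • (c2 • q2 + c3 • q3) + (c0 * c1) • q1 := by module
      have e4 : c2 * tr1 q2 + c3 * tr1 q3 - c1 * tr1 q1 = 3 * c0 - 2 * (c1 * tr1 q1) := by linear_combination htr
      rw [smul_sub, e1, e3, e2, e4]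
      module
    exact sub_eq_zero.1 (two_cancel h2 k1)
  have hsh : sh ((c2 * c3) • cr q2 q3) = 0 := by
    have h1 := sh_cr q2 q3
    rw [R.s2, R.s3, cr_zero_left, add_zero] at h1
    have z1 : ∀ y : I27 → k, tf 0 y = 0 := fun y => by
      have := tf_smul_left (0 : k) 0 y
      rwa [zero_smul, zero_mul] at this
    rw [z1, tf_comm, z1, zero_smul, zero_smul, add_zero] at h1
    rw [sh_smul, h1, smul_zero]
  rw [key] at hsh
  set α := c0 * (c0 - c1 * tr1 q1) with hα
  set β := c0 * c1 with hβ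
  have hβ0 : β ≠ 0 := mul_ne_zero h0 h.n1
  have e5 : (α * (α + β * tr1 q1)) • u0 k = (α * β) • q1 := by
    rw [sh_add, sh_smul, sh_smul, sh_u0, R.s1, cr_smul_left, cr_smul_right, cr_u0] at hsh
    have : (α * (α + β * tr1 q1)) • u0 k - (α * β) • q1 =
        α ^ 2 • u0 k + β ^ 2 • (0 : I27 → k) + α • β • (tr1 q1 • u0 k - q1) := by module
    rw [hsh] at this
    exact sub_eq_zero.1 this
  have hα0 : α = 0 := by
    by_contra hne
    have e6 : (α + β * tr1 q1) • u0 k = β • q1 := by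
      have : α • ((α + β * tr1 q1) • u0 k - β • q1) = 0 := by
        rw [smul_sub, smul_smul, smul_smul, e5, sub_self]
      exact sub_eq_zero.1 ((smul_eq_zero.1 this).resolve_left hne)
    have e7 := congrArg sh e6
    rw [sh_smul, sh_smul, R.s1, smul_zero, sh_u0] at e7
    have e8 : α + β * tr1 q1 = 0 := by
      rcases smul_eq_zero.1 e7 with h | h
      · exact pow_eq_zero_iff (by norm_num) |>.1 h
      · exact absurd h u0_ne
    rw [e8, zero_smul] at e6
    have e9 : q1 = 0 := (smul_eq_zero.1 e6.symm).resolve_left hβ0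
    have e10 : tr1 q1 = 0 := by
      rw [e9]
      have := tr1_smul (0 : k) (0 : I27 → k)
      rwa [zero_smul, zero_mul] at this
    rw [e10, mul_zero, add_zero] at e8
    exact hne e8
  have h3 : c0 - c1 * tr1 q1 = 0 := (mul_eq_zero.1 hα0).resolve_left h0
  refine ⟨(sub_eq_zero.1 h3).symm, ?_⟩
  rw [key, hα0, zero_smul, zero_add]

/-- **the case `c_0 ≠ 0`** : generation by two elements -/
theorem MH.gen (h : MH q1 q2 q3 p1 p2 p3 c1 c2 c3 c0) (h2 : (2 : k) ≠ 0) {t : k} (ht : t ≠ 0) (ht2 : t ^ 2 ≠ 1)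
    (h0 : c0 ≠ 0) {U : Submodule k (I27 → k)} (hu : u0 k ∈ U) (hcr : ∀ a ∈ U, ∀ b ∈ U, cr a b ∈ U)
    (hx : c2 • q2 + (t * c3) • q3 ∈ U) (hy : p1 + p3 ∈ U) : (q1 ∈ U ∧ q2 ∈ U ∧ q3 ∈ U) ∧ p1 ∈ U ∧ p2 ∈ U ∧ p3 ∈ U := by
  have R := h.rel h2 ht ht2
  obtain ⟨-, hq⟩ := h.tr h2 ht ht2 h0
  have ht1 : t - 1 ≠ 0 := by
    intro h1
    apply ht2
    rw [sub_eq_zero.1 h1, one_pow]
  have can : ∀ {c : k} {x : I27 → k}, c ≠ 0 → c • x ∈ U → x ∈ U := fun {c x} hc hx => by
    have := U.smul_mem c⁻¹ hx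
    rwa [smul_smul, inv_mul_cancel₀ hc, one_smul] at this
  -- `q1`
  have a1 : q1 ∈ U := by
    have h3 := hcr _ hx _ hx
    have h4 : cr (c2 • q2 + (t * c3) • q3) (c2 • q2 + (t * c3) • q3) = (2 * t * (c0 * c1)) • q1 := by
      rw [cr_self, sh_add, sh_smul, sh_smul, R.s2, R.s3, cr_smul_left, cr_smul_right]
      have : (2 : k) • (c2 ^ 2 • (0 : I27 → k) + (t * c3) ^ 2 • (0 : I27 → k) + c2 • (t * c3) • cr q2 q3) =
          (2 * t) • ((c2 * c3) • cr q2 q3) := by module
      rw [this, hq, smul_smul]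
    rw [h4] at h3
    exact can (mul_ne_zero (mul_ne_zero h2 ht) (mul_ne_zero h0 h.n1)) h3
  have a2 : c2 • q2 + c3 • q3 ∈ U := by
    have : c2 • q2 + c3 • q3 = c0 • u0 k - c1 • q1 := by rw [← h.w]; module
    rw [this]
    exact U.sub_mem (U.smul_mem _ hu) (U.smul_mem _ a1)
  have a3 : q3 ∈ U := by
    have h3 := U.sub_mem hx a2
    have : c2 • q2 + (t * c3) • q3 - (c2 • q2 + c3 • q3) = ((t - 1) * c3) • q3 := by module
    rw [this] at h3
    exact can (mul_ne_zero ht1 h.n3) h3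
  have a4 : q2 ∈ U := by
    have h3 := U.sub_mem a2 (U.smul_mem c3 a3)
    rw [add_sub_cancel_right] at h3
    exact can h.n2 h3
  have P1 := h.prod p1
  have P2 := h.prod p2
  rw [R.z21, R.z31, smul_zero, smul_zero, add_zero, add_zero] at P1
  rw [R.z12, R.z32, smul_zero, smul_zero, zero_add, add_zero] at P2
  have fin : ∀ {z : I27 → k}, c0 • (tr1 z • u0 k - z) ∈ U → z ∈ U := fun {z} hz => by
    have h3 := U.sub_mem (U.smul_mem (tr1 z) hu) (can h0 hz)
    rwa [sub_sub_cancel] at h3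
  have b1 : p1 ∈ U := by
    apply fin
    rw [← P1]
    apply U.smul_mem
    have h3 := hcr _ a1 _ hy
    rwa [cr_add_right, R.z13, add_zero] at h3
  have b3 : p3 ∈ U := by
    have h3 := U.sub_mem hy b1
    rwa [add_sub_cancel_left] at h3
  have b2 : p2 ∈ U := by
    apply fin
    rw [← P2]
    apply U.smul_mem
    rw [R.m2]
    exact U.smul_mem _ (hcr _ b1 _ b3)
  exact ⟨⟨a1, a4, a3⟩, b1, b2, b3⟩

end Cfsg.Agent.R2.F4L
end

-- part: R2/F4L/Tup
section
/-!
# Tuples: equivariant maps from the modules `V_{n p ^ i}` in coordinates (helper2, S5931)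

* `hw_mem_cf` : the weights of the vectors fixed by the upper unitriangular group are labels of composition factors;
* `poly0` : polynomial identities over a finite subfield;
* `TS ρ n i x` : `x : ℕ → V` transforms like the basis of `V_{n p ^ i}` (possibly `x = 0`).
-/

set_option autoImplicit false
set_option linter.unusedSectionVars false

namespace Cfsg.Agent.R2.F4L

open Matrix Cfsg.Agent.H943.SL2Rel Cfsg.Agent.H943.SL2Mod Cfsg.Agent.H943.RepAdd Cfsg.Agent.R2.H28.SL2

universe u v w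

section Gen

variable {k : Type u} [Field k] [DecidableEq k] {K : Type w} [Field K] [Fintype K] [DecidableEq K] (ι : K →+* k)

/-- polynomial identities -/
theorem poly0 {V : Type*} [AddCommGroup V] [Module k V] {N : ℕ} (hN : N ≤ Fintype.card K) (p : ℕ) [Fact p.Prime]
    [CharP k p] [CharP K p] (i : ℕ) {a : ℕ → V}
    (h0 : ∀ t : K, ∑ j ∈ Finset.range N, (ι t ^ p ^ i) ^ j • a j = 0) : ∀ j < N, a j = 0 := by
  classical
  -- the values are the values of a polynomial at all the elements of `ι K`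
  have h1 : ∀ s : K, ∑ j ∈ Finset.range N, ι s ^ j • a j = 0 := by
    intro s
    obtain ⟨t, ht⟩ : ∃ t : K, t ^ p ^ i = s := by
      have hinj : Function.Injective (fun t : K => t ^ p ^ i) := by
        have : (fun t : K => t ^ p ^ i) = iterateFrobenius K p i := by
          funext t
          rw [iterateFrobenius_def]
        rw [this]
        exact (iterateFrobenius K p i).injective
      exact (Finite.injective_iff_surjective.1 hinj) s
    rw [← h0 t]
    refine Finset.sum_congr rfl fun j _ => ?_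
    rw [← ht, map_pow]
  intro j hj
  -- interpolation with the sums over `K^*`
  have hcard : 1 < Fintype.card K := Fintype.one_lt_card
  by_cases hj0 : j = 0
  · subst hj0
    have h2 := h1 0
    rw [Finset.sum_eq_single 0 (fun m _ hm => by rw [map_zero, zero_pow hm, zero_smul]) (fun h => absurd (Finset.mem_range.2 hj) h),
      pow_zero, one_smul] at h2
    exact h2
  · have h2 : ∑ s : K, ι s ^ (Fintype.card K - 1 - j) • ∑ m ∈ Finset.range N, ι s ^ m • a m = 0 := by
      refine Finset.sum_eq_zero fun s _ => ?_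
      rw [h1, smul_zero]
    have h3 : ∑ m ∈ Finset.range N, (∑ s : K, ι s ^ (Fintype.card K - 1 - j + m)) • a m = 0 := by
      rw [← h2]
      simp only [Finset.smul_sum, Finset.sum_smul]
      rw [Finset.sum_comm]
      refine Finset.sum_congr rfl fun m _ => Finset.sum_congr rfl fun s _ => ?_
      rw [smul_smul, pow_add]
    rw [Finset.sum_eq_single j] at h3
    · rw [psum ι (by omega), if_pos (by omega), neg_smul, one_smul, neg_eq_zero] at h3
      exact h3
    · intro m hm hmj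
      rw [Finset.mem_range] at hm
      rw [psum ι (by omega), if_neg (by omega), zero_smul]
    · intro h
      exact absurd (Finset.mem_range.2 hj) h

end Gen

section HW

variable {k : Type u} [Field k] [DecidableEq k] {K : Type w} [Field K] [Fintype K] [DecidableEq K] (ι : K →+* k)
variable (p : ℕ) [Fact p.Prime] [CharP k p] [CharP K p] [IsAlgClosed k]

theorem hw_mem_JHn {c : ℕ} (n : ℕ) : ∀ {V : Type v} [AddCommGroup V] [Module k V]
    {ρ : Representation k (SpecialLinearGroup (Fin 2) K) V} {s : Multiset ℕ}, JHn (Sy.{u, v, w} ι p) n ρ s →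
    ∀ y : V, y ≠ 0 → (∀ t, ρ (u t) y = y) → (∀ a : Kˣ, ρ (Cfsg.Agent.H943.SL2Rel.h a) y = ι a ^ c • y) →
    ∃ b ∈ s, ∀ a : Kˣ, ι a ^ b = ι a ^ c := by
  induction n with
  | zero =>
    intro V _ _ ρ s h y hy _ _
    have := h.1
    exact absurd (Subsingleton.elim y 0) hy
  | succ n ih =>
    intro V _ _ ρ s h y hy hu hh
    obtain ⟨W, hW, b, t, hb, rfl, ht⟩ := h
    by_cases hyW : y ∈ W
    · obtain ⟨m, hm0, -, hmh, -, huniq⟩ := IsV.hw ι p hb
      obtain ⟨c', hc'⟩ := huniq ⟨y, hyW⟩ (fun t => Subtype.ext (hu t))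
      refine ⟨b, Multiset.mem_cons_self _ _, fun a => ?_⟩
      have h1 : c' ≠ 0 := by
        rintro rfl
        rw [zero_smul] at hc'
        exact hy (congrArg Subtype.val hc')
      have h2 : (subRep ρ W hW) (Cfsg.Agent.H943.SL2Rel.h a) (⟨y, hyW⟩ : W) = ι a ^ c • (⟨y, hyW⟩ : W) :=
        Subtype.ext (hh a)
      rw [hc', map_smul, hmh, smul_comm (ι (a : K) ^ c) c'] at h2
      have h3 : (ι (a : K) ^ b - ι (a : K) ^ c) • m = 0 := by
        rw [sub_smul]
        have h4 : c' • (ι (a : K) ^ b • m - ι (a : K) ^ c • m) = 0 := by rw [smul_sub, h2, sub_self]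
        exact (smul_eq_zero.1 h4).resolve_left h1
      exact sub_eq_zero.1 ((smul_eq_zero.1 h3).resolve_right hm0)
    · obtain ⟨b', hb', h1⟩ := ih ht (W.mkQ y) (fun h0 => hyW ((Submodule.Quotient.mk_eq_zero W).1 h0))
        (fun t => by rw [quotRep_mk, hu]) (fun a => by rw [quotRep_mk, hh, map_smul])
      exact ⟨b', Multiset.mem_cons_of_mem hb', h1⟩

/-- **highest weight vectors** -/
theorem hw_mem_cf {V : Type v} [AddCommGroup V] [Module k V] [FiniteDimensional k V]
    {ρ : Representation k (SpecialLinearGroup (Fin 2) K) V} {y : V} (hy : y ≠ 0) {c : ℕ} (hu : ∀ t, ρ (u t) y = y)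
    (hh : ∀ a : Kˣ, ρ (Cfsg.Agent.H943.SL2Rel.h a) y = ι a ^ c • y) :
    ∃ b ∈ cf (Sy.{u, v, w} ι p) ρ, ∀ a : Kˣ, ι a ^ b = ι a ^ c := by
  obtain ⟨n, hn⟩ := cf_spec (Sy.{u, v, w} ι p) ρ
  exact hw_mem_JHn ι p n hn y hy hu hh

end HW

variable {k : Type u} [Field k] [DecidableEq k] {K : Type w} [Field K] [Fintype K] [DecidableEq K] (ι : K →+* k)
variable (p : ℕ) [Fact p.Prime] [CharP k p] [CharP K p]

/-- labels modulo `q - 1` -/
theorem label_eq {b c : ℕ} (hb : b < Fintype.card K) (hc : c < Fintype.card K) (hc0 : c ≠ 0) (hc1 : c ≠ Fintype.card K - 1)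
    (h : ∀ a : Kˣ, ι a ^ b = ι a ^ c) : b = c := by
  obtain ⟨lam, hlam⟩ := IsCyclic.exists_generator (α := Kˣ)
  have hprim := primitive ι ι.injective hlam
  have h1 := h lam
  by_cases hb' : b = Fintype.card K - 1
  · rw [hb', hprim.pow_eq_one] at h1
    exact absurd (hprim.pow_inj (i := 0) (j := c) (by omega) (by omega) (by rw [pow_zero]; exact h1)) (Ne.symm hc0)
  · exact hprim.pow_inj (by omega) (by omega) h1

variable {V : Type*} [AddCommGroup V] [Module k V]

/-- an equivariant map `V_{n p ^ i} → V` in coordinates -/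
structure TS (ρ : Representation k (SpecialLinearGroup (Fin 2) K) V) (n i : ℕ) (x : ℕ → V) : Prop where
  zero : ∀ s, n < s → x s = 0
  u : ∀ s ≤ n, ∀ t, ρ (u t) (x s) =
    ∑ j ∈ Finset.range (n - s + 1), (((n - s).choose j : k) * (ι t ^ p ^ i) ^ j) • x (s + j)
  h : ∀ s ≤ n, ∀ a : Kˣ, ρ (h a) (x s) = ((ι a ^ p ^ i) ^ s * ((ι a ^ p ^ i)⁻¹) ^ (n - s)) • x s
  w : ∀ s ≤ n, ρ w (x s) = (-1 : k) ^ s • x (n - s)

variable {ι p} {ρ : Representation k (SpecialLinearGroup (Fin 2) K) V} {n i : ℕ} {x y : ℕ → V}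

theorem TS.add (hx : TS ι p ρ n i x) (hy : TS ι p ρ n i y) : TS ι p ρ n i (x + y) where
  zero := fun s hs => by rw [Pi.add_apply, hx.zero s hs, hy.zero s hs, add_zero]
  u := fun s hs t => by
    rw [Pi.add_apply, map_add, hx.u s hs, hy.u s hs, ← Finset.sum_add_distrib]
    exact Finset.sum_congr rfl fun j _ => by rw [Pi.add_apply, smul_add]
  h := fun s hs a => by rw [Pi.add_apply, map_add, hx.h s hs, hy.h s hs, smul_add]
  w := fun s hs => by rw [Pi.add_apply, map_add, hx.w s hs, hy.w s hs, Pi.add_apply, smul_add]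

theorem TS.smul (c : k) (hx : TS ι p ρ n i x) : TS ι p ρ n i (c • x) where
  zero := fun s hs => by rw [Pi.smul_apply, hx.zero s hs, smul_zero]
  u := fun s hs t => by
    rw [Pi.smul_apply, map_smul, hx.u s hs, Finset.smul_sum]
    exact Finset.sum_congr rfl fun j _ => by rw [Pi.smul_apply, smul_comm]
  h := fun s hs a => by rw [Pi.smul_apply, map_smul, hx.h s hs, smul_comm]
  w := fun s hs => by rw [Pi.smul_apply, map_smul, hx.w s hs, Pi.smul_apply, smul_comm]

theorem TS.zero' : TS ι p ρ n i (0 : ℕ → V) where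
  zero := fun _ _ => rfl
  u := fun s _ t => by simp
  h := fun s _ a => by simp
  w := fun s _ => by simp

/-- the tuple of a submodule -/
theorem BasS.ts {W : Submodule k V} {hW : ∀ g, ∀ x ∈ W, ρ g x ∈ W} {v : ℕ → W} (hv : BasS ι p (subRep ρ W hW) n i v) :
    TS ι p ρ n i (fun s => (v s : V)) where
  zero := fun s hs => by rw [hv.zero s hs]; rfl
  u := fun s hs t => by
    have := congrArg Subtype.val (hv.u s hs t)
    rw [Submodule.coe_sum] at this
    exact this
  h := fun s hs a => congrArg Subtype.val (hv.h s hs a)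
  w := fun s hs => congrArg Subtype.val (hv.w s hs)

/-- the last vector is fixed -/
theorem TS.u_top (hx : TS ι p ρ n i x) (t : K) : ρ (Cfsg.Agent.H943.SL2Rel.u t) (x n) = x n := by
  rw [hx.u n le_rfl t, Nat.sub_self, Finset.sum_range_one, Nat.choose_zero_right, Nat.cast_one, pow_zero, mul_one,
    one_smul, add_zero]

/-- the first vector generates -/
theorem TS.u_bot (hx : TS ι p ρ n i x) (t : K) : ρ (Cfsg.Agent.H943.SL2Rel.u t) (x 0) =
    ∑ j ∈ Finset.range (n + 1), ((n.choose j : k) * (ι t ^ p ^ i) ^ j) • x j := by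
  rw [hx.u 0 (Nat.zero_le _) t, Nat.sub_zero]
  simp only [zero_add]

/-- `sl_2` weights of a product -/
theorem pow_wt {α : k} (hα : α ≠ 0) {s n : ℕ} (hs : s ≤ n) : α ^ s * α⁻¹ ^ (n - s) = α ^ (2 * (s : ℤ) - n) := by
  rw [inv_pow, ← zpow_natCast, ← zpow_natCast, ← _root_.zpow_neg, ← zpow_add₀ hα]
  congr 1
  push_cast [Nat.cast_sub hs]
  ring

theorem TS.h' (hx : TS ι p ρ n i x) {s : ℕ} (hs : s ≤ n) (a : Kˣ) :
    ρ (Cfsg.Agent.H943.SL2Rel.h a) (x s) = ((ι a ^ p ^ i) ^ (2 * (s : ℤ) - n)) • x s := by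
  rw [hx.h s hs a, pow_wt _ hs]
  exact pow_ne_zero _ ((map_ne_zero ι).2 a.ne_zero)

end Cfsg.Agent.R2.F4L
end

-- part: R2/F4L/Act
section
/-!
# Actions preserving the Albert algebra (helper2, S5931)

`Act ρ` : `ρ` preserves `#` and `1`; then also `×`, `N`, `tr`, `T`.
`trilinear weights` : `Act.wt`; `Act.fix` : invariants from generators.
-/

set_option autoImplicit false
set_option linter.unusedSectionVars false

namespace Cfsg.Agent.R2.F4L

open Cfsg.Lie
open Cfsg.Agent.ChevalleyStructure.E6Min.Tables Cfsg.Agent.ChevalleyStructure.E6Min.Basic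
open Cfsg.Agent.H952.F4 (sh cr tf tr1 u0)
open Cfsg.Agent.H952.F4.Jord

universe u v w

variable {k : Type u} [Field k]

/-- the action preserves `#` and `1` -/
structure Act {A : Type*} [Group A] (ρ : Representation k A (I27 → k)) : Prop where
  sh : ∀ a x, ρ a (sh x) = sh (ρ a x)
  u0 : ∀ a, ρ a (u0 k) = u0 k

section

variable {A : Type*} [Group A] {ρ : Representation k A (I27 → k)}

theorem cr_eq (x y : I27 → k) : cr x y = sh (x + y) - sh x - sh y := by
  rw [sh_add]
  abel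

theorem Act.cr (H : Act ρ) (a : A) (x y : I27 → k) : ρ a (cr x y) = cr (ρ a x) (ρ a y) := by
  rw [cr_eq, cr_eq, map_sub, map_sub, H.sh, H.sh, H.sh, map_add]

theorem Act.tr (H : Act ρ) (a : A) (x : I27 → k) : tr1 (ρ a x) = tr1 x := by
  have h1 := congrArg (ρ a) (cr_u0 x)
  rw [H.cr, H.u0, cr_u0, map_sub, map_smul, H.u0] at h1
  have h2 : (tr1 (ρ a x) - tr1 x) • (H952.F4.u0 k) = 0 := by
    rw [sub_smul, sub_eq_zero]
    exact sub_left_injective h1
  exact sub_eq_zero.1 ((smul_eq_zero.1 h2).resolve_right u0_ne)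

theorem rho_ne (ρ : Representation k A (I27 → k)) (a : A) {x : I27 → k} (hx : x ≠ 0) : ρ a x ≠ 0 := by
  intro h
  apply hx
  have h1 : ρ a⁻¹ (ρ a x) = x := by
    rw [← Module.End.mul_apply, ← map_mul, inv_mul_cancel, map_one, Module.End.one_apply]
  rw [← h1, h, map_zero]

theorem Act.N (H : Act ρ) (a : A) (x : I27 → k) : cubicT (ρ a x) = cubicT x := by
  by_cases hx : x = 0
  · rw [hx, map_zero]
  · have h1 := congrArg (ρ a) (sh_sh x)
    rw [H.sh, H.sh, sh_sh, map_smul] at h1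
    have h2 : (cubicT (ρ a x) - cubicT x) • ρ a x = 0 := by
      rw [sub_smul, h1, sub_self]
    exact sub_eq_zero.1 ((smul_eq_zero.1 h2).resolve_right (rho_ne ρ a hx))

theorem Act.tf (H : Act ρ) (a : A) (x y : I27 → k) : tf (ρ a x) (ρ a y) = tf x y := by
  have h1 := tr1_cr x y
  have h2 := tr1_cr (ρ a x) (ρ a y)
  rw [← H.cr, H.tr, H.tr, H.tr] at h2
  linear_combination h2 - h1

theorem Act.tf3 (H : Act ρ) (a : A) (x y z : I27 → k) :
    H952.F4.tf (H952.F4.cr (ρ a x) (ρ a y)) (ρ a z) = H952.F4.tf (H952.F4.cr x y) z := by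
  rw [← H.cr, H.tf]

/-- trilinear weights -/
theorem Act.wt3 (H : Act ρ) {a : A} {x y z : I27 → k} {α β γ : k} (hx : ρ a x = α • x) (hy : ρ a y = β • y)
    (hz : ρ a z = γ • z) (h : α * β * γ ≠ 1) : H952.F4.tf (H952.F4.cr x y) z = 0 := by
  have h1 := H.tf3 a x y z
  rw [hx, hy, hz, cr_smul_left, cr_smul_right, tf_smul_left, tf_smul_left, tf_smul_right] at h1
  have h2 : (α * β * γ - 1) * H952.F4.tf (H952.F4.cr x y) z = 0 := by linear_combination h1
  exact (mul_eq_zero.1 h2).resolve_left (sub_ne_zero.2 h)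

theorem Act.wtN (H : Act ρ) {a : A} {x : I27 → k} {α : k} (hx : ρ a x = α • x) (h : α ^ 3 ≠ 1) : cubicT x = 0 := by
  have h1 := H.N a x
  rw [hx, N_smul] at h1
  have h2 : (α ^ 3 - 1) * cubicT x = 0 := by linear_combination h1
  exact (mul_eq_zero.1 h2).resolve_left (sub_ne_zero.2 h)

theorem Act.wts (H : Act ρ) {a : A} {x y : I27 → k} {α β : k} (hx : ρ a x = α • x) (hy : ρ a y = β • y)
    (h : α ^ 2 * β ≠ 1) : H952.F4.tf (H952.F4.sh x) y = 0 := by
  have h1 := H.tf a (H952.F4.sh x) y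
  rw [H.sh, hx, hy, sh_smul, tf_smul_left, tf_smul_right] at h1
  have h2 : (α ^ 2 * β - 1) * H952.F4.tf (H952.F4.sh x) y = 0 := by linear_combination h1
  exact (mul_eq_zero.1 h2).resolve_left (sub_ne_zero.2 h)

theorem tf3_symm (x y z : I27 → k) : H952.F4.tf (H952.F4.cr x y) z = H952.F4.tf (H952.F4.cr y z) x := by
  rw [tf_cr, tf_comm]

/-- the norm of a combination of three vectors -/
theorem N_lin3 (a b c : k) (x y z : I27 → k) : cubicT (a • x + b • y + c • z) =
    a ^ 3 * cubicT x + b ^ 3 * cubicT y + c ^ 3 * cubicT z +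
    a ^ 2 * b * H952.F4.tf (H952.F4.sh x) y + a ^ 2 * c * H952.F4.tf (H952.F4.sh x) z +
    a * b ^ 2 * H952.F4.tf (H952.F4.sh y) x + b ^ 2 * c * H952.F4.tf (H952.F4.sh y) z +
    a * c ^ 2 * H952.F4.tf (H952.F4.sh z) x + b * c ^ 2 * H952.F4.tf (H952.F4.sh z) y +
    a * b * c * H952.F4.tf (H952.F4.cr x y) z := by
  rw [N_add, N_add, N_smul, N_smul, N_smul, sh_add, sh_smul, sh_smul, sh_smul, cr_smul_left, cr_smul_right]
  simp only [tf_add_left, tf_smul_left, tf_smul_right]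
  rw [tf_comm x (H952.F4.sh y), tf_comm x (H952.F4.sh z), tf_comm y (H952.F4.sh z)]
  ring

theorem tf_zero_left (y : I27 → k) : H952.F4.tf 0 y = 0 := by
  have := tf_smul_left (0 : k) 0 y
  rwa [zero_smul, zero_mul] at this

theorem tr1_zero : tr1 (0 : I27 → k) = 0 := by
  have := tr1_smul (0 : k) (0 : I27 → k)
  rwa [zero_smul, zero_mul] at this

end

/-! ## `SL(2, K)` -/

open Cfsg.Agent.H943.SL2Rel Cfsg.Agent.R2.H28.SL2

variable {K : Type w} [Field K] [Fintype K] [DecidableEq K] {ι : K →+* k}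
variable {p : ℕ} [Fact p.Prime] [CharP k p] [CharP K p]

/-- invariants -/
theorem fix_of {V : Type*} [AddCommGroup V] [Module k V] {ρ : Representation k (Matrix.SpecialLinearGroup (Fin 2) K) V} {y : V}
    (hu : ∀ t, ρ (u t) y = y) (hh : ∀ a, ρ (h a) y = y) (hw : ρ w y = y) (g : Matrix.SpecialLinearGroup (Fin 2) K) : ρ g y = y := by
  refine induct (P := fun g => ρ g y = y) hu hh hw (fun a b ha hb => ?_) g
  rw [map_mul, Module.End.mul_apply, hb, ha]

theorem two_ne (p : ℕ) [Fact p.Prime] [CharP k p] (hp2 : p ≠ 2) : (2 : k) ≠ 0 := by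
  intro h
  have h1 : ((2 : ℕ) : k) = 0 := by exact_mod_cast h
  rw [CharP.cast_eq_zero_iff k p] at h1
  have hp : p.Prime := Fact.out
  exact hp2 ((Nat.prime_dvd_prime_iff_eq hp Nat.prime_two).1 h1)

theorem exists_prim (ι : K →+* k) (i : ℕ) (p : ℕ) [Fact p.Prime] [CharP K p] :
    ∃ lam : Kˣ, IsPrimitiveRoot (ι lam ^ p ^ i) (Fintype.card K - 1) := by
  classical
  obtain ⟨lam, hlam⟩ := IsCyclic.exists_generator (α := Kˣ)
  have hprim := Cfsg.Agent.H943.SL2Mod.primitive ι ι.injective hlam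
  refine ⟨lam, hprim.pow_of_coprime _ ?_⟩
  obtain ⟨n, hp, hn⟩ := FiniteField.card K p
  apply Nat.Coprime.pow_left
  rw [Nat.Prime.coprime_iff_not_dvd hp]
  intro h
  have h1 : p ∣ Fintype.card K := by
    rw [hn]
    exact dvd_pow_self p n.ne_zero
  have h2 : 1 ≤ Fintype.card K := Fintype.card_pos
  have h3 := Nat.dvd_sub h1 h
  rw [Nat.sub_sub_self h2] at h3
  exact hp.one_lt.ne' (Nat.dvd_one.1 h3)

end Cfsg.Agent.R2.F4L
end
end

-- part: R2/F4T/Sd
section
set_option linter.all false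
open scoped Cfsg.Agent.FastGrp

/-!
# Self-dual modules of `SL(2, q)` (helper6, S5931)

* `SD ρ P` : `P` is a symmetric nondegenerate invariant form; `Nd P X`, `Iso P X`;
* `SD.nd_of_count` (KEY), `SD.compl`, `SD.restrict`, `SD.nd_orth`;
* `SD.all_soc` (NDG) : if all irreducible submodules are nondegenerate, every factor is in the socle;
* `SD.kp` : the same for types; `SD.mf` : multiplicity-free modules.
-/

set_option autoImplicit false
set_option linter.unusedSectionVars false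

namespace Cfsg.Agent.R2.F4T

open Matrix Cfsg.Agent.H943.SL2Rel Cfsg.Agent.H943.SL2Mod Cfsg.Agent.H943.RepAdd Cfsg.Agent.R2.H28.SL2
open Cfsg.Agent.R2.SL2 (typ tyl coe_tyl typ_step typ_zero tyl_eq_nil mem_typ)

universe u v w

section gen

variable {k : Type u} [Field k] {G : Type w} [Group G] {V : Type v} [AddCommGroup V] [Module k V]

/-- a symmetric nondegenerate invariant form -/
structure SD (ρ : Representation k G V) (P : V →ₗ[k] V →ₗ[k] k) : Prop where
  dul : Dul ρ ρ P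
  symm : ∀ x y, P x y = P y x

/-- nondegenerate subspaces -/
def Nd (P : V →ₗ[k] V →ₗ[k] k) (X : Submodule k V) : Prop := X ⊓ orth P X = ⊥

/-- isotropic subspaces -/
def Iso (P : V →ₗ[k] V →ₗ[k] k) (X : Submodule k V) : Prop := ∀ x ∈ X, ∀ y ∈ X, P x y = 0

variable {ρ : Representation k G V} {P : V →ₗ[k] V →ₗ[k] k}

theorem Iso.le {X : Submodule k V} (h : Iso P X) : X ≤ orth P X := fun y hy x hx => h x hx y hy

theorem Nd.of {X : Submodule k V} (h : ∀ x ∈ X, (∀ y ∈ X, P y x = 0) → x = 0) : Nd P X := by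
  unfold Nd
  rw [eq_bot_iff]
  rintro x ⟨hx, hx'⟩
  exact (Submodule.mem_bot k).2 (h x hx hx')

theorem Nd.eq_zero {X : Submodule k V} (h : Nd P X) {x : V} (hx : x ∈ X) (hx' : ∀ y ∈ X, P y x = 0) : x = 0 := by
  have h1 : x ∈ X ⊓ orth P X := ⟨hx, hx'⟩
  rwa [h, Submodule.mem_bot] at h1

theorem SD.orth_inv (S : SD ρ P) {X : Submodule k V} (hX : ∀ g, ∀ x ∈ X, ρ g x ∈ X) :
    ∀ g, ∀ x ∈ orth P X, ρ g x ∈ orth P X := S.dul.orth_inv hX

/-- the dimension of the orthogonal space -/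
theorem SD.orth_flip (S : SD ρ P) (X : Submodule k V) : orth P.flip X = orth P X := by
  ext y
  rw [mem_orth, mem_orth]
  refine forall₂_congr fun x _ => ?_
  rw [LinearMap.flip_apply, S.symm]

variable [FiniteDimensional k V]

theorem SD.orth_orth (S : SD ρ P) (X : Submodule k V) : orth P (orth P X) = X := by
  ext x
  constructor
  · intro h
    exact S.dul.orth_orth X x fun y hy => by
      rw [S.symm]
      exact h y hy
  · intro h y hy
    rw [S.symm]
    exact hy x h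

theorem SD.finrank_orth (S : SD ρ P) {X : Submodule k V} (hX : ∀ g, ∀ x ∈ X, ρ g x ∈ X) :
    Module.finrank k X + Module.finrank k (orth P X) = Module.finrank k V := by
  obtain ⟨B', D', -⟩ := S.dul.sub hX
  have h1 := D'.finrank_eq
  have h2 := Submodule.finrank_quotient_add_finrank (orth P X)
  omega

theorem SD.compl (S : SD ρ P) {X : Submodule k V} (hX : ∀ g, ∀ x ∈ X, ρ g x ∈ X) (h : Nd P X) :
    IsCompl X (orth P X) := by
  rw [isCompl_iff, disjoint_iff, codisjoint_iff]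
  refine ⟨h, ?_⟩
  apply Submodule.eq_top_of_finrank_eq
  have h7 := Submodule.finrank_sup_add_finrank_inf_eq X (orth P X)
  rw [show X ⊓ orth P X = ⊥ from h, finrank_bot, add_zero] at h7
  rw [h7]
  exact S.finrank_orth hX

theorem SD.nd_orth (S : SD ρ P) {X : Submodule k V} (h : Nd P X) : Nd P (orth P X) := by
  unfold Nd
  rw [S.orth_orth, inf_comm]
  exact h

theorem SD.restrict (S : SD ρ P) {X : Submodule k V} (hX : ∀ g, ∀ x ∈ X, ρ g x ∈ X) (h : Nd P X) :
    SD (subRep ρ X hX) (P.compl₁₂ X.subtype X.subtype) := by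
  have hl : ∀ x : X, (∀ y : X, P x y = 0) → x = 0 := fun x hx => Subtype.ext (h.eq_zero x.2 fun y hy => by
    rw [S.symm]
    exact hx ⟨y, hy⟩)
  refine ⟨⟨fun g x y => S.dul.inv g x y, hl, fun y hy => hl y fun x => ?_⟩, fun x y => S.symm x y⟩
  rw [S.symm]
  exact hy x

/-- nondegenerate subspaces of a subspace -/
theorem nd_map {X : Submodule k V} {Y : Submodule k X} (h : Nd P (Y.map X.subtype)) :
    Nd (P.compl₁₂ X.subtype X.subtype) Y := by
  refine Nd.of fun x hx hx' => ?_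
  have h1 := h.eq_zero (x := (x : V)) ⟨x, hx, rfl⟩ (by
    rintro _ ⟨y, hy, rfl⟩
    exact hx' y hy)
  exact Subtype.ext h1

theorem nd_map' {X : Submodule k V} {Y : Submodule k X} (h : Nd (P.compl₁₂ X.subtype X.subtype) Y) :
    Nd P (Y.map X.subtype) := by
  refine Nd.of ?_
  rintro _ ⟨x, hx, rfl⟩ hx'
  have h1 := h.eq_zero (x := x) hx fun y hy => hx' _ ⟨y, hy, rfl⟩
  rw [h1]
  rfl

end gen

variable {k : Type u} [Field k] [DecidableEq k] {F : Type w} [Field F] [Fintype F] [DecidableEq F] {ι : F →+* k}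
variable {p : ℕ} [Fact p.Prime] [CharP k p] [CharP F p] [IsAlgClosed k] {a : ℕ}
variable {V : Type v} [AddCommGroup V] [Module k V] [FiniteDimensional k V]
  {ρ : Representation k (SpecialLinearGroup (Fin 2) F) V} {P : V →ₗ[k] V →ₗ[k] k}

/-- an irreducible submodule is nondegenerate or isotropic -/
theorem SD.nd_or_iso (S : SD ρ P) {X : Submodule k V} {hX : ∀ g, ∀ x ∈ X, ρ g x ∈ X} {b : ℕ}
    (hb : IsV ι p (subRep ρ X hX) b) : Nd P X ∨ Iso P X := by
  rcases IsV.inf_or_le ι p hb (S.orth_inv hX) with h | h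
  · exact Or.inl h
  · exact Or.inr fun x hx y hy => h hy x hx

/-- an isotropic factor occurs twice -/
theorem SD.two_le_count (S : SD ρ P) {X : Submodule k V} {hX : ∀ g, ∀ x ∈ X, ρ g x ∈ X} {b : ℕ}
    (hb : IsV ι p (subRep ρ X hX) b) (h : Iso P X) : 2 ≤ (cf (Sy.{u, v, w} ι p) ρ).count b := by
  obtain ⟨B₁, D₁, -⟩ := S.dul.sub hX
  have hK := S.orth_inv hX
  have h2 : IsV ι p (quotRep ρ (orth P X) hK) b := IsV.dual ι p hb D₁.flip.flip
  have h3 := cf_add (Sy.{u, v, w} ι p) ρ (orth P X) hK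
  have h4 : cf (Sy.{u, v, w} ι p) (quotRep ρ (orth P X) hK) = {b} := cf_irr _ h2
  have h5 := Multiset.one_le_count_iff_mem.2 (mem_cf_of_le ι p hb hK h.le)
  rw [h3, h4, Multiset.count_add, Multiset.count_singleton_self]
  omega

/-- **KEY** -/
theorem SD.nd_of_count (S : SD ρ P) {X : Submodule k V} {hX : ∀ g, ∀ x ∈ X, ρ g x ∈ X} {b : ℕ}
    (hb : IsV ι p (subRep ρ X hX) b) (h : (cf (Sy.{u, v, w} ι p) ρ).count b ≤ 1) : Nd P X := by
  rcases S.nd_or_iso hb with h1 | h1
  · exact h1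
  · have := S.two_le_count hb h1
    omega

/-- the factors -/
theorem SD.cf_eq (S : SD ρ P) {X : Submodule k V} (hX : ∀ g, ∀ x ∈ X, ρ g x ∈ X) (h : Nd P X) :
    cf (Sy.{u, v, w} ι p) ρ = cf (Sy.{u, v, w} ι p) (subRep ρ X hX) +
      cf (Sy.{u, v, w} ι p) (subRep ρ (orth P X) (S.orth_inv hX)) :=
  cf_sup hX (S.orth_inv hX) (S.compl hX h)

/-- **NDG** -/
theorem SD.all_soc (S : SD ρ P) (h : ∀ (X : Submodule k V) (hX : ∀ g, ∀ x ∈ X, ρ g x ∈ X) (b : ℕ),
    IsV ι p (subRep ρ X hX) b → Nd P X) : ∀ b ∈ cf (Sy.{u, v, w} ι p) ρ, InSoc ι p ρ b :=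
  ss_of_compl ι p _ V ρ le_rfl fun X hX b hb => ⟨orth P X, S.orth_inv hX, S.compl hX (h X hX b hb)⟩

variable {W : List (List ℕ)}

theorem count_tyl (hw : (W : Multiset (List ℕ)) = (cf (Sy.{u, v, w} ι p) ρ).map (tyl p)) (b : ℕ) :
    (cf (Sy.{u, v, w} ι p) ρ).count b ≤ (W : Multiset (List ℕ)).count (tyl p b) := by
  rw [hw]
  exact count_le_map _ _ _

theorem InSoc.typ_mem (hw : (W : Multiset (List ℕ)) = (cf (Sy.{u, v, w} ι p) ρ).map (tyl p)) {b : ℕ}
    (h : InSoc ι p ρ b) : tyl p b ∈ W := cf_typ_mem ι p hw h.mem_cf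

/-- **types**: if the possible types of the socle have multiplicity one, every factor is in the socle -/
theorem SD.kp' (S : SD ρ P) (hw : (W : Multiset (List ℕ)) = (cf (Sy.{u, v, w} ι p) ρ).map (tyl p)) (ok : List ℕ → Bool)
    (hs : ∀ c, InSoc ι p ρ c → ok (tyl p c) = true)
    (h1 : ∀ t ∈ W, ok t = true → (W : Multiset (List ℕ)).count t ≤ 1) :
    (∀ (X : Submodule k V) (hX : ∀ g, ∀ x ∈ X, ρ g x ∈ X) (b : ℕ), IsV ι p (subRep ρ X hX) b → Nd P X) ∧
      ∀ t ∈ W, ok t = true := by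
  have hnd : ∀ (X : Submodule k V) (hX : ∀ g, ∀ x ∈ X, ρ g x ∈ X) (b : ℕ), IsV ι p (subRep ρ X hX) b → Nd P X :=
    fun X hX b hb => S.nd_of_count hb (le_trans (count_tyl hw b)
      (h1 _ (InSoc.typ_mem hw ⟨X, hX, hb⟩) (hs b ⟨X, hX, hb⟩)))
  refine ⟨hnd, fun t ht => ?_⟩
  have h2 : t ∈ (W : Multiset (List ℕ)) := ht
  rw [hw] at h2
  obtain ⟨c, hc, rfl⟩ := Multiset.mem_map.1 h2
  exact hs c (S.all_soc hnd c hc)

/-- **kill by types** -/
theorem SD.kp (S : SD ρ P) (hw : (W : Multiset (List ℕ)) = (cf (Sy.{u, v, w} ι p) ρ).map (tyl p)) (ok : List ℕ → Bool)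
    (hs : ∀ c, InSoc ι p ρ c → ok (tyl p c) = true)
    (h1 : (∀ t ∈ W, ok t = true → (W : Multiset (List ℕ)).count t ≤ 1) ∧ ¬ ∀ t ∈ W, ok t = true) : False :=
  h1.2 (S.kp' hw ok hs h1.1).2

end Cfsg.Agent.R2.F4T
end

-- part: R2/H27/F4Th/Sqs
section
prune_inst 0x420044130e202080000051230001ea2ce0005b0000b0000f9c00f420fc73c2189402660f6900e02038a90a55839802001100009420000002a003600411b00a080821202b108a00c56008f802880000000000000000000000000000000051004000000000
set_option linter.all false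
open scoped Cfsg.Agent.FastGrp

/-!
# S5931, theta types: symmetric squares (helper27)

* `tri_zero` : an equivariant symmetric product `W × W → V / Z` vanishes if the label of `V / Z` is not a factor of `S² W`;
* `even_of_sq` : the digits of the factors of `S² V_b` are even if there is no overflow;
* `not_mem_sq` : `b` is not a factor of `S² V_b` for the types `[1,1,2]`, `[1,5]`, `p ≥ 7`.
-/

set_option autoImplicit false
set_option linter.unusedSectionVars false

namespace Cfsg.Agent.R2.H27.F4Th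

open Matrix Cfsg.Agent.H943.SL2Rel Cfsg.Agent.H943.SL2Mod Cfsg.Agent.H943.RepAdd Cfsg.Agent.R2.H28.SL2
open Cfsg.Agent.R2.SL2 (typ tyl coe_tyl typ_step typ_zero tyl_eq_nil mem_typ)
open scoped TensorProduct

universe u v w

section dig

variable {p : ℕ} [hp : Fact p.Prime]

/-- the elements of the type are digits -/
theorem exists_digit {b d : ℕ} (h : d ∈ typ p b) : ∃ l, b / p ^ l % p = d := by
  unfold typ at h
  rw [Multiset.mem_coe, List.mem_filter] at h
  obtain ⟨i, hi, e⟩ := List.mem_iff_getElem.1 h.1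
  refine ⟨i, ?_⟩
  rw [← Nat.getD_digits b i hp.out.two_le, List.getD_eq_getElem _ _ hi, e]

theorem exists_digit_lt {a b d : ℕ} (hb : b < p ^ a) (h : d ∈ tyl p b) : ∃ l < a, b / p ^ l % p = d := by
  have h0 : d ∈ typ p b := by rw [← coe_tyl]; exact h
  obtain ⟨l, hl⟩ := exists_digit h0
  refine ⟨l, ?_, hl⟩
  by_contra hla
  rw [dg_zero_of_le hp.out.pos hb (not_lt.1 hla)] at hl
  have := (mem_typ hp.out.one_lt h0).1
  omega

end dig

variable {k : Type u} [Field k] [DecidableEq k] {F : Type w} [Field F] [Fintype F] [DecidableEq F] (ι : F →+* k)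
variable (p : ℕ) [Fact p.Prime] [CharP k p] [CharP F p] [IsAlgClosed k] {a : ℕ}

/-- **the vanishing of products** -/
theorem tri_zero {V : Type v} [AddCommGroup V] [Module k V] [FiniteDimensional k V]
    {ρ : Representation k (SpecialLinearGroup (Fin 2) F) V} {Z : Submodule k V} (hZ : ∀ g, ∀ x ∈ Z, ρ g x ∈ Z) {c : ℕ}
    (hq : cf (Sy.{u, v, w} ι p) (quotRep ρ Z hZ) = {c}) {W : Submodule k V} (hW : ∀ g, ∀ x ∈ W, ρ g x ∈ W)
    (hc : c ∉ cf (Sy.{u, v, w} ι p) (Sq (subRep ρ W hW))) {β : V →ₗ[k] V →ₗ[k] V} (hs : ∀ x y, β x y = β y x)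
    (he : ∀ g x y, β (ρ g x) (ρ g y) = ρ g (β x y)) {x y : V} (hx : x ∈ W) (hy : y ∈ W) : β x y ∈ Z := by
  by_contra hcon
  let γ : W →ₗ[k] W →ₗ[k] (V ⧸ Z) := (β.compl₁₂ W.subtype W.subtype).compr₂ Z.mkQ
  have hγ : ∀ x y : W, γ x y = Z.mkQ (β x y) := fun _ _ => rfl
  obtain ⟨d, h1, h2⟩ := soc_of_sq ι p (σ := subRep ρ W hW) (ρ := quotRep ρ Z hZ) γ
    (fun x y => by rw [hγ, hγ, hs]) (fun g x y => by
      rw [hγ, hγ, quotRep_mk, ← he]
      rfl) (fun h0 => hcon (by
      have h3 : γ ⟨x, hx⟩ ⟨y, hy⟩ = 0 := by rw [h0]; rfl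
      rw [hγ] at h3
      exact (Submodule.Quotient.mk_eq_zero Z).1 h3))
  have h3 := h2.mem_cf
  rw [hq, Multiset.mem_singleton] at h3
  exact hc (h3 ▸ h1)

/-- the quotient by the orthogonal space -/
theorem cf_quot_orth {V : Type v} [AddCommGroup V] [Module k V] [FiniteDimensional k V]
    {ρ : Representation k (SpecialLinearGroup (Fin 2) F) V} {P : V →ₗ[k] V →ₗ[k] k} (S : F4T.SD ρ P) {X : Submodule k V}
    {hX : ∀ g, ∀ x ∈ X, ρ g x ∈ X} {c : ℕ} (hV : IsV ι p (subRep ρ X hX) c) (hnd : F4T.Nd P X) :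
    cf (Sy.{u, v, w} ι p) (quotRep ρ (orth P X) (S.orth_inv hX)) = {c} := by
  have h4 := S.cf_eq (ι := ι) (p := p) hX hnd
  have h5 := cf_add (Sy.{u, v, w} ι p) ρ (orth P X) (S.orth_inv hX)
  rw [h4, cf_irr (Sy.{u, v, w} ι p) hV, add_comm] at h5
  exact (add_left_cancel h5).symm

/-- the factors of the orthogonal space -/
theorem cf_orth {V : Type v} [AddCommGroup V] [Module k V] [FiniteDimensional k V]
    {ρ : Representation k (SpecialLinearGroup (Fin 2) F) V} {P : V →ₗ[k] V →ₗ[k] k} (S : F4T.SD ρ P) {X : Submodule k V}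
    {hX : ∀ g, ∀ x ∈ X, ρ g x ∈ X} {c : ℕ} (hV : IsV ι p (subRep ρ X hX) c) (hnd : F4T.Nd P X) {m : Multiset ℕ}
    (hcf : cf (Sy.{u, v, w} ι p) ρ = c ::ₘ m) : cf (Sy.{u, v, w} ι p) (subRep ρ (orth P X) (S.orth_inv hX)) = m := by
  have h4 := S.cf_eq (ι := ι) (p := p) hX hnd
  rw [hcf, cf_irr (Sy.{u, v, w} ι p) hV, ← Multiset.singleton_add] at h4
  exact (add_left_cancel h4).symm

/-- all factors -/
theorem cf_all {V : Type v} [AddCommGroup V] [Module k V] [FiniteDimensional k V]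
    {ρ : Representation k (SpecialLinearGroup (Fin 2) F) V} {P : V →ₗ[k] V →ₗ[k] k} (S : F4T.SD ρ P) {Y : Submodule k V}
    (hY : ∀ g, ∀ x ∈ Y, ρ g x ∈ Y) (hYn : F4T.Nd P Y) {hYo : ∀ g, ∀ x ∈ orth P Y, ρ g x ∈ orth P Y} {c : ℕ}
    (hV : IsV ι p (subRep ρ (orth P Y) hYo) c) :
    cf (Sy.{u, v, w} ι p) ρ = c ::ₘ cf (Sy.{u, v, w} ι p) (subRep ρ Y hY) := by
  rw [S.cf_eq (ι := ι) (p := p) hY hYn, cf_irr (Sy.{u, v, w} ι p) hV, add_comm, Multiset.singleton_add]

/-- **products by characters** -/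
theorem th_gen {V : Type v} [AddCommGroup V] [Module k V] [FiniteDimensional k V]
    {ρ : Representation k (SpecialLinearGroup (Fin 2) F) V} {P : V →ₗ[k] V →ₗ[k] k} (S : F4T.SD ρ P) {X : Submodule k V}
    {hX : ∀ g, ∀ x ∈ X, ρ g x ∈ X} {c : ℕ} (hV : IsV ι p (subRep ρ X hX) c) (hnd : F4T.Nd P X) {W : Submodule k V}
    (hW : ∀ g, ∀ x ∈ W, ρ g x ∈ W) (hc : c ∉ cf (Sy.{u, v, w} ι p) (Sq (subRep ρ W hW))) {β : V →ₗ[k] V →ₗ[k] V}
    (hs : ∀ x y, β x y = β y x) (he : ∀ g x y, β (ρ g x) (ρ g y) = ρ g (β x y)) :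
    ∀ x ∈ W, ∀ y ∈ W, ∀ z ∈ X, P z (β x y) = 0 := fun _ hx _ hy z hz =>
  tri_zero ι p _ (cf_quot_orth ι p S hV hnd) hW hc hs he hx hy z hz

variable (hF : Fintype.card F = p ^ a)

include hF

/-- the factors of the tensor square -/
theorem cf_sq_cg {X : Type v} [AddCommGroup X] [Module k X] [FiniteDimensional k X]
    {σ : Representation k (SpecialLinearGroup (Fin 2) F) X} {b : ℕ} (h : IsV ι p σ b)
    (hb : ∀ i < a, b / p ^ i % p + b / p ^ i % p < p) {c : ℕ} (hc : c ∈ cf (Sy.{u, v, w} ι p) (Sq σ)) : c ∈ cg p a b b := by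
  have hp : p.Prime := Fact.out
  have h1 := label_lt ι p hF h
  have h3 : cf (Sy.{u, v, w} ι p) (σ.tprod σ) = cg p a b b := by
    refine cf_of_cs ι p hF (fun x hx => (mem_cg hp.pos a hb hx).1) fun z hz => ?_
    rw [cs_tens ι p hF σ σ hz, cf_irr (Sy.{u, v, w} ι p) h, cs_singleton,
      cs_cg k p a h1 h1 hb (hz.ne_zero (two_le_q p hF))]
  rw [← h3, cf_add (Sy.{u, v, w} ι p) (σ.tprod σ) (Alt k X) (alt_inv σ)]
  exact Multiset.mem_add.2 (Or.inr hc)

/-- **parity** -/
theorem even_of_sq {X : Type v} [AddCommGroup X] [Module k X] [FiniteDimensional k X]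
    {σ : Representation k (SpecialLinearGroup (Fin 2) F) X} {b : ℕ} (h : IsV ι p σ b)
    (hb : ∀ i < a, b / p ^ i % p + b / p ^ i % p < p) {c : ℕ} (hc : c ∈ cf (Sy.{u, v, w} ι p) (Sq σ)) {i : ℕ} (hi : i < a) :
    c / p ^ i % p % 2 = 0 := by
  have hp : p.Prime := Fact.out
  have h1 := ((mem_cg hp.pos a hb (cf_sq_cg ι p hF h hb hc)).2 i hi).2.2.2
  omega

/-- the case without overflow -/
theorem not_mem_sq_of_odd {X : Type v} [AddCommGroup X] [Module k X] [FiniteDimensional k X]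
    {σ : Representation k (SpecialLinearGroup (Fin 2) F) X} {b : ℕ} (h : IsV ι p σ b)
    (hb : ∀ i < a, b / p ^ i % p + b / p ^ i % p < p) (h1 : 1 ∈ tyl p b) : b ∉ cf (Sy.{u, v, w} ι p) (Sq σ) := by
  intro hc
  obtain ⟨l, hl, e⟩ := exists_digit_lt (label_lt ι p hF h) h1
  have h2 := even_of_sq ι p hF h hb hc hl
  rw [e] at h2
  exact absurd h2 (by norm_num)

omit [IsAlgClosed k] hF in
theorem a2_five {z : ℂ} (hz : z ≠ 0) : a2 5 z = s2 4 z := a2_succ 4 hz

/-- the factors of `S² (L(5)_j ⊗ L(1)_i)`, `p ≥ 7` -/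
theorem cf_sq_51 {X : Type v} [AddCommGroup X] [Module k X] [FiniteDimensional k X]
    {σ : Representation k (SpecialLinearGroup (Fin 2) F) X} {i j : ℕ} (hp7 : 7 ≤ p) (hi : i < a) (hj : j < a) (hij : j ≠ i)
    (hdj : ∀ c ∈ sqs p a j 5, ∀ l < a, c / p ^ l % p + (2 * p ^ i) / p ^ l % p < p)
    (h : IsV ι p σ (5 * p ^ j + 1 * p ^ i)) :
    cf (Sy.{u, v, w} ι p) (Sq σ) = ((sqs p a j 5).bind fun c => cg p a c (2 * p ^ i)) + sqs p a j 4 := by
  have hp : p.Prime := Fact.out
  have h2i : 2 * p ^ i < p ^ a := single_lt p (by omega) hi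
  refine cf_of_cs ι p hF ?_ fun z hz => ?_
  · intro b hb
    rcases Multiset.mem_add.1 hb with hb | hb
    · obtain ⟨c, hc, hb⟩ := Multiset.mem_bind.1 hb
      exact (mem_cg hp.pos a (hdj c hc) hb).1
    · exact sqs_lt p hj 4 (by omega) b hb
  · have hz0 := hz.ne_zero (two_le_q p hF)
    have hi0 := pow_ne_zero (p ^ i) hz0
    have hj0 := pow_ne_zero (p ^ j) hz0
    rw [cs_sq_pair ι p hF (by omega) (by omega) hij h hz, s2_one hi0, a2_one hi0, a2_five hj0, mul_one, cs_add,
      cs_sqs p hF hj 4 (by omega) hz, cs_bind]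
    congr 1
    have h3 : ((sqs p a j 5).map fun t => cs k (cg p a t (2 * p ^ i)) z) =
        (sqs p a j 5).map fun t => chB k t z * chi 2 (z ^ p ^ i) :=
      Multiset.map_congr rfl fun c hc => by
        rw [cs_cg k p a (sqs_lt p hj 5 (by omega) c hc) h2i (hdj c hc) hz0, chB_single k p (by omega)]
    rw [h3, Multiset.sum_map_mul_right]
    show _ = cs k (sqs p a j 5) z * _
    rw [cs_sqs p hF hj 5 (by omega) hz]

omit [DecidableEq k] [IsAlgClosed k] [CharP k p] [CharP F p] [Fintype F] [DecidableEq F] hF in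
/-- the members of `one p a i n` -/
theorem mem_one {i n c : ℕ} (ha : a ≠ 1) (hc : c ∈ H28.SL2.one p a i n) :
    (n < p ∧ c = n * p ^ i) ∨ (p ≤ n ∧ (c = (n - p) * p ^ i + p ^ ((i + 1) % a) ∨ c = (p - (n - p) - 2) * p ^ i)) := by
  unfold H28.SL2.one at hc
  split_ifs at hc with h
  · exact Or.inl ⟨h, Multiset.mem_singleton.1 hc⟩
  · refine Or.inr ⟨not_lt.1 h, ?_⟩
    unfold ov at hc
    rw [if_neg ha, Multiset.insert_eq_cons, Multiset.mem_cons, Multiset.mem_singleton] at hc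
    exact hc

/-- **`b` is not a factor of `S² V_b`** -/
theorem not_mem_sq {X : Type v} [AddCommGroup X] [Module k X] [FiniteDimensional k X]
    {σ : Representation k (SpecialLinearGroup (Fin 2) F) X} {b : ℕ} (hp7 : 7 ≤ p) (hp : p = 7 ∨ 11 ≤ p) (h : IsV ι p σ b)
    (ht : tyl p b = [1, 1, 2] ∨ tyl p b = [1, 5]) : b ∉ cf (Sy.{u, v, w} ι p) (Sq σ) := by
  have hpp : p.Prime := Fact.out
  rcases ht with ht | ht
  · refine not_mem_sq_of_odd ι p hF h (fun i _ => ?_) (by rw [ht]; simp)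
    have := digit_le_of_tyl (N := 2) (by rw [ht]; simp) i
    omega
  rcases hp with hp | hp
  swap
  · refine not_mem_sq_of_odd ι p hF h (fun i _ => ?_) (by rw [ht]; simp)
    have := digit_le_of_tyl (N := 5) (by rw [ht]; simp) i
    omega
  obtain ⟨i, hi, j, hj, hij, rfl⟩ := tyl_pair_inv ht (label_lt ι p hF h) (by norm_num) (by norm_num)
  have ha : a ≠ 1 := by omega
  have hs : j ≠ (j + 1) % a := succ_mod_ne (by omega) hj
  have e5 : sqs p a j 5 = H28.SL2.one p a j 10 + (H28.SL2.one p a j 6 + H28.SL2.one p a j 2) := rfl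
  have e4 : sqs p a j 4 = H28.SL2.one p a j 8 + (H28.SL2.one p a j 4 + {0}) := rfl
  rw [add_comm] at h ⊢
  have h5 : ∀ c ∈ sqs p a j 5, c = 3 * p ^ j + p ^ ((j + 1) % a) ∨ c = 2 * p ^ j ∨ c = 6 * p ^ j := by
    intro c hc
    rw [e5] at hc
    rcases Multiset.mem_add.1 hc with hc | hc
    · rcases mem_one p ha hc with ⟨h1, -⟩ | ⟨-, h1 | h1⟩
      · omega
      · left; rw [h1, hp]
      · right; left; rw [h1, hp]
    · rcases Multiset.mem_add.1 hc with hc | hc
      · rcases mem_one p ha hc with ⟨-, h1⟩ | ⟨h1, -⟩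
        · right; right; exact h1
        · omega
      · rcases mem_one p ha hc with ⟨-, h1⟩ | ⟨h1, -⟩
        · right; left; exact h1
        · omega
  have h4 : ∀ c ∈ sqs p a j 4, c = 1 * p ^ j + p ^ ((j + 1) % a) ∨ c = 4 * p ^ j ∨ c = 0 := by
    intro c hc
    rw [e4] at hc
    rcases Multiset.mem_add.1 hc with hc | hc
    · rcases mem_one p ha hc with ⟨h1, -⟩ | ⟨-, h1 | h1⟩
      · omega
      · left; rw [h1, hp]
      · right; left; rw [h1, hp]
    · rcases Multiset.mem_add.1 hc with hc | hc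
      · rcases mem_one p ha hc with ⟨-, h1⟩ | ⟨h1, -⟩
        · right; left; exact h1
        · omega
      · rw [Multiset.mem_singleton] at hc
        right; right; exact hc
  have hd : ∀ c ∈ sqs p a j 5, ∀ l < a, c / p ^ l % p + (2 * p ^ i) / p ^ l % p < p := by
    intro c hc l _
    rw [dg_single hpp.one_lt (by omega)]
    rcases h5 c hc with rfl | rfl | rfl
    · rw [dg_two hpp.one_lt hs (by omega)]
      split_ifs <;> omega
    · rw [dg_single hpp.one_lt (by omega)]
      split_ifs <;> omega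
    · rw [dg_single hpp.one_lt (by omega)]
      split_ifs <;> omega
  rw [cf_sq_51 ι p hF hp7 hi hj (Ne.symm hij) hd h]
  intro hmem
  have hbj : (5 * p ^ j + 1 * p ^ i) / p ^ j % p = 5 := by
    rw [one_mul, dg_two hpp.one_lt (Ne.symm hij) (by omega), if_pos rfl]
  rcases Multiset.mem_add.1 hmem with hmem | hmem
  · obtain ⟨c, hc, hb⟩ := Multiset.mem_bind.1 hmem
    have h1 := (mem_cg hpp.pos a (hd c hc) hb).2 j hj
    rw [hbj, dg_single hpp.one_lt (by omega), if_neg (Ne.symm hij)] at h1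
    rcases h5 c hc with rfl | rfl | rfl
    · rw [dg_two hpp.one_lt hs (by omega), if_pos rfl] at h1
      omega
    · rw [dg_single hpp.one_lt (by omega), if_pos rfl] at h1
      omega
    · rw [dg_single hpp.one_lt (by omega), if_pos rfl] at h1
      omega
  · rcases h4 _ hmem with h1 | h1 | h1
    · rw [h1, dg_two hpp.one_lt hs (by omega), if_pos rfl] at hbj
      omega
    · rw [h1, dg_single hpp.one_lt (by omega), if_pos rfl] at hbj
      omega
    · rw [h1, Nat.zero_div, Nat.zero_mod] at hbj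
      omega

end Cfsg.Agent.R2.H27.F4Th
end

-- part: R2/H27/F4Th/SqY
section
prune_inst 0x420244430e202080000051230003e66ce0005b000280001f8800f4a0fc77f6089402160f6b01c1082ceb2854839006001100110421000002a000400011a00a080a912023534ae0c5e008f002084000000000000000000000000000000051004000000000
set_option linter.all false
open scoped Cfsg.Agent.FastGrp

/-!
# S5931, theta types: the symmetric square of the complement (helper27)

* `sqY11` : the factors of type `[1,1,2]`, `[1,5]` of `S² (V_{4 p^r} + V_{8 p^r})`, `p ≥ 11`: only `5 p^r + p^{r+1}`, `p = 11`;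
* `sqY7` : the same for `S² (2 V_{4 p^r} + V_{p^r + p^{r+1}})`, `p = 7`.
-/

set_option autoImplicit false
set_option linter.unusedSectionVars false

namespace Cfsg.Agent.R2.H27.F4Th

open Matrix Cfsg.Agent.H943.SL2Rel Cfsg.Agent.H943.SL2Mod Cfsg.Agent.H943.RepAdd Cfsg.Agent.R2.H28.SL2
open Cfsg.Agent.R2.SL2 (typ tyl coe_tyl typ_step typ_zero tyl_eq_nil mem_typ)
open scoped TensorProduct

universe u v w

section typ

variable {p : ℕ} [hp : Fact p.Prime] {a : ℕ}

/-- the type of `b` is `[1,1,2]` or `[1,5]` -/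
def Ty (p b : ℕ) : Prop := tyl p b = [1, 1, 2] ∨ tyl p b = [1, 5]

theorem not_ty_zero : ¬ Ty p 0 := by
  intro h
  have h0 : tyl p 0 = [] := tyl_eq_nil.2 rfl
  unfold Ty at h
  rw [h0] at h
  simp at h

theorem not_ty_single {n i : ℕ} (hn : n < p) : ¬ Ty p (n * p ^ i) := by
  rcases Nat.eq_zero_or_pos n with rfl | h0
  · rw [zero_mul]
    exact not_ty_zero
  · intro h
    unfold Ty at h
    rw [tyl_single h0 hn] at h
    simp at h

theorem ty_pair {n i j : ℕ} (hp1 : 1 < p) (hn : n < p) (hij : i ≠ j) (h : Ty p (n * p ^ i + p ^ j)) : n = 5 := by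
  rcases Nat.eq_zero_or_pos n with rfl | h0
  · rw [zero_mul, zero_add] at h
    have h1 := not_ty_single (p := p) (i := j) hp1
    rw [one_mul] at h1
    exact absurd h h1
  · have h1 := tyl_pair' (p := p) (n := 1) (m := n) one_pos hp1 h0 hn hij
    rw [one_mul] at h1
    unfold Ty at h
    rw [h1] at h
    simpa using h

theorem not_ty_22 {i j : ℕ} (hp2 : 2 < p) (hij : i ≠ j) : ¬ Ty p (2 * p ^ i + 2 * p ^ j) := by
  intro h
  unfold Ty at h
  rw [tyl_pair (by norm_num) hp2 le_rfl hp2 hij] at h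
  simp at h

theorem ty_one {n r c : ℕ} (ha : a ≠ 1) (hr : r < a) (hn : n + 2 ≤ 2 * p) (hc : c ∈ H28.SL2.one p a r n) (ht : Ty p c) :
    n = p + 5 ∧ c = 5 * p ^ r + p ^ ((r + 1) % a) := by
  have h1p := hp.out.one_lt
  rcases mem_one p ha hc with ⟨h1, rfl⟩ | ⟨h1, rfl | rfl⟩
  · exact absurd ht (not_ty_single h1)
  · have h2 := ty_pair h1p (by omega) (succ_mod_ne (by omega) hr) ht
    exact ⟨by omega, by rw [h2]⟩
  · exact absurd ht (not_ty_single (by omega))

end typ

variable {k : Type u} [Field k] [DecidableEq k] {F : Type w} [Field F] [Fintype F] [DecidableEq F] (ι : F →+* k)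
variable (p : ℕ) [Fact p.Prime] [CharP k p] [CharP F p] [IsAlgClosed k] {a : ℕ} (hF : Fintype.card F = p ^ a)
variable {X : Type v} [AddCommGroup X] [Module k X] [FiniteDimensional k X]
  {σ : Representation k (SpecialLinearGroup (Fin 2) F) X} {r : ℕ}

include hF in
theorem cs_cgd {r : ℕ} (hr : r < a) (m n : ℕ) (hmn : m + n + 2 ≤ 2 * p) {z : ℂ} (hz : Zs (p ^ a) z) :
    cs k ((cgd m n).bind fun t => H28.SL2.one p a r t) z = chi m (z ^ p ^ r) * chi n (z ^ p ^ r) := by
  have hz0 := hz.ne_zero (two_le_q p hF)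
  rw [cs_bind, ← sum_cgd m n (pow_ne_zero (p ^ r) hz0)]
  congr 1
  refine Multiset.map_congr rfl fun t ht => cs_one p hF hr ?_ hz
  have := (mem_cgd ht).1
  omega

include hF

theorem cf_sqY11 (hp11 : 11 ≤ p) (hr : r < a) (h : cf (Sy.{u, v, w} ι p) σ = {4 * p ^ r, 8 * p ^ r}) :
    cf (Sy.{u, v, w} ι p) (Sq σ) =
      sqs p a r 4 + sqs p a r 8 + (cgd 4 8).bind fun t => H28.SL2.one p a r t := by
  have hpp : p.Prime := Fact.out
  refine cf_of_cs ι p hF ?_ fun z hz => ?_
  · intro b hb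
    rcases Multiset.mem_add.1 hb with hb | hb
    · rcases Multiset.mem_add.1 hb with hb | hb
      · exact sqs_lt p hr 4 (by omega) b hb
      · exact sqs_lt p hr 8 (by omega) b hb
    · obtain ⟨t, ht, hb⟩ := Multiset.mem_bind.1 hb
      have := (mem_cgd ht).1
      exact one_lt' p hr (by omega) b hb
  · rw [cs_sq ι p hF σ hz, h, cs_add, cs_add, cs_sqs p hF hr 4 (by omega) hz, cs_sqs p hF hr 8 (by omega) hz,
      cs_cgd p hF hr 4 8 (by omega) hz, Multiset.insert_eq_cons, cs_cons, cs_singleton, cs_cons, cs_singleton,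
      chB_single k p (by omega), chB_single k p (by omega), chB_single k p (by omega), chB_single k p (by omega)]
    unfold s2
    rw [← pow_mul z 2, ← pow_mul z (p ^ r) 2, mul_comm 2]
    ring

theorem sqY11 (hp11 : 11 ≤ p) (ha : a ≠ 1) (hr : r < a) (h : cf (Sy.{u, v, w} ι p) σ = {4 * p ^ r, 8 * p ^ r}) {c : ℕ}
    (hc : c ∈ cf (Sy.{u, v, w} ι p) (Sq σ)) (ht : Ty p c) : p = 11 ∧ c = 5 * p ^ r + p ^ ((r + 1) % a) := by
  rw [cf_sqY11 ι p hF hp11 hr h] at hc
  have e4 : sqs p a r 4 = H28.SL2.one p a r 8 + (H28.SL2.one p a r 4 + {0}) := rfl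
  have e8 : sqs p a r 8 = H28.SL2.one p a r 16 + (H28.SL2.one p a r 12 + sqs p a r 4) := rfl
  have key : c = 0 ∨ ∃ n, n ≤ 16 ∧ c ∈ H28.SL2.one p a r n := by
    rw [e8, e4] at hc
    simp only [Multiset.mem_add, Multiset.mem_singleton, Multiset.mem_bind] at hc
    rcases hc with ((h | h | h) | h | h | h | h | h) | ⟨t, ht, h⟩
    · exact Or.inr ⟨8, by norm_num, h⟩
    · exact Or.inr ⟨4, by norm_num, h⟩
    · exact Or.inl h
    · exact Or.inr ⟨16, by norm_num, h⟩
    · exact Or.inr ⟨12, by norm_num, h⟩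
    · exact Or.inr ⟨8, by norm_num, h⟩
    · exact Or.inr ⟨4, by norm_num, h⟩
    · exact Or.inl h
    · have := (mem_cgd ht).1
      exact Or.inr ⟨t, by omega, h⟩
  rcases key with rfl | ⟨n, hn, hc⟩
  · exact absurd ht not_ty_zero
  · obtain ⟨h1, h2⟩ := ty_one ha hr (by omega) hc ht
    exact ⟨by omega, h2⟩

theorem cf_sqY7 (hp : p = 7) (ha : a ≠ 1) (hr : r < a)
    (h : cf (Sy.{u, v, w} ι p) σ = {4 * p ^ r, 4 * p ^ r, p ^ r + p ^ ((r + 1) % a)}) :
    cf (Sy.{u, v, w} ι p) (Sq σ) = sqs p a r 4 + sqs p a r 4 + ((cgd 4 4).bind fun t => H28.SL2.one p a r t) +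
      ({5 * p ^ r + 1 * p ^ ((r + 1) % a), 3 * p ^ r + 1 * p ^ ((r + 1) % a)} : Multiset ℕ) +
      ({5 * p ^ r + 1 * p ^ ((r + 1) % a), 3 * p ^ r + 1 * p ^ ((r + 1) % a)} : Multiset ℕ) +
      ({2 * p ^ r + 2 * p ^ ((r + 1) % a), 0} : Multiset ℕ) := by
  have hpp : p.Prime := Fact.out
  have hs : r ≠ (r + 1) % a := succ_mod_ne (by omega) hr
  have hr' : (r + 1) % a < a := Nat.mod_lt _ (by omega)
  have h' : cf (Sy.{u, v, w} ι p) σ = {4 * p ^ r, 4 * p ^ r, 1 * p ^ r + 1 * p ^ ((r + 1) % a)} := by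
    rw [h, one_mul, one_mul]
  refine cf_of_cs ι p hF ?_ fun z hz => ?_
  · intro b hb
    simp only [Multiset.mem_add, Multiset.mem_bind, Multiset.insert_eq_cons, Multiset.mem_cons, Multiset.mem_singleton] at hb
    rcases hb with ((((h | h) | ⟨t, ht, h⟩) | rfl | rfl) | rfl | rfl) | rfl | rfl
    · exact sqs_lt p hr 4 (by omega) b h
    · exact sqs_lt p hr 4 (by omega) b h
    · have := (mem_cgd ht).1
      exact one_lt' p hr (by omega) b h
    · exact pair_lt p (by omega) (by omega) hs hr hr'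
    · exact pair_lt p (by omega) (by omega) hs hr hr'
    · exact pair_lt p (by omega) (by omega) hs hr hr'
    · exact pair_lt p (by omega) (by omega) hs hr hr'
    · exact pair_lt p (by omega) (by omega) hs hr hr'
    · exact Nat.pow_pos hpp.pos
  · have hz0 := hz.ne_zero (two_le_q p hF)
    have hr0 := pow_ne_zero (p ^ r) hz0
    have hr0' := pow_ne_zero (p ^ ((r + 1) % a)) hz0
    have c41 := chi_mul_one 3 hr0
    have h2a := s2_one hr0
    have h2b := s2_one hr0'
    have ha1 := a2_one hr0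
    have hb1 := a2_one hr0'
    rw [cs_sq ι p hF σ hz, h']
    simp only [Multiset.insert_eq_cons, cs_add, cs_cons, cs_singleton]
    rw [cs_sqs p hF hr 4 (by omega) hz, cs_cgd p hF hr 4 4 (by omega) hz,
      chB_single k p (by omega), chB_single k p (by omega), chB_pair k p (by omega) (by omega) hs,
      chB_pair k p (by omega) (by omega) hs, chB_pair k p (by omega) (by omega) hs, chB_pair k p (by omega) (by omega) hs,
      chB_pair k p (by omega) (by omega) hs, chB_zero]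
    unfold s2 at h2a h2b ⊢
    unfold a2 at ha1 hb1
    rw [← pow_mul z (p ^ r) 2] at h2a ha1 ⊢
    rw [← pow_mul z (p ^ ((r + 1) % a)) 2] at h2b hb1
    rw [← pow_mul z 2, ← pow_mul z 2, mul_comm 2, mul_comm 2]
    have e1 : chi 1 (z ^ (p ^ r * 2)) = chi 1 (z ^ p ^ r) ^ 2 - 2 := by linear_combination (-2 : ℂ) * ha1
    have e2 : chi 1 (z ^ (p ^ ((r + 1) % a) * 2)) = chi 1 (z ^ p ^ ((r + 1) % a)) ^ 2 - 2 := by
      linear_combination (-2 : ℂ) * hb1
    have e3 : chi 2 (z ^ p ^ r) = chi 1 (z ^ p ^ r) ^ 2 - 1 := by rw [← h2a, e1]; ring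
    have e4 : chi 2 (z ^ p ^ ((r + 1) % a)) = chi 1 (z ^ p ^ ((r + 1) % a)) ^ 2 - 1 := by rw [← h2b, e2]; ring
    have e5 : chi 5 (z ^ p ^ r) = chi 4 (z ^ p ^ r) * chi 1 (z ^ p ^ r) - chi 3 (z ^ p ^ r) := by
      linear_combination -c41
    rw [e1, e2, e3, e4, e5]
    ring

theorem sqY7 (hp : p = 7) (ha : a ≠ 1) (hr : r < a)
    (h : cf (Sy.{u, v, w} ι p) σ = {4 * p ^ r, 4 * p ^ r, p ^ r + p ^ ((r + 1) % a)}) {c : ℕ}
    (hc : c ∈ cf (Sy.{u, v, w} ι p) (Sq σ)) (ht : Ty p c) : c = 5 * p ^ r + p ^ ((r + 1) % a) := by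
  have hs : r ≠ (r + 1) % a := succ_mod_ne (by omega) hr
  rw [cf_sqY7 ι p hF hp ha hr h] at hc
  have e4 : sqs p a r 4 = H28.SL2.one p a r 8 + (H28.SL2.one p a r 4 + {0}) := rfl
  rw [e4] at hc
  simp only [Multiset.mem_add, Multiset.mem_bind, Multiset.insert_eq_cons, Multiset.mem_cons, Multiset.mem_singleton] at hc
  have key : ∀ n ≤ 8, c ∈ H28.SL2.one p a r n → c = 5 * p ^ r + p ^ ((r + 1) % a) := fun n hn h =>
    (ty_one ha hr (by omega) h ht).2
  have k3 : c ≠ 3 * p ^ r + 1 * p ^ ((r + 1) % a) := by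
    rintro rfl
    rw [one_mul] at ht
    have := ty_pair (by omega) (by omega) hs ht
    omega
  rcases hc with (((((h | h | h) | h | h | h) | ⟨t, ht', h⟩) | h | h) | h | h) | h | h
  · exact key 8 (by norm_num) h
  · exact key 4 (by norm_num) h
  · exact absurd (h ▸ ht) not_ty_zero
  · exact key 8 (by norm_num) h
  · exact key 4 (by norm_num) h
  · exact absurd (h ▸ ht) not_ty_zero
  · have := (mem_cgd ht').1
    exact key t (by omega) h
  · rw [h, one_mul]
  · exact absurd h k3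
  · rw [h, one_mul]
  · exact absurd h k3
  · exact absurd (h ▸ ht) (not_ty_22 (by omega) hs)
  · exact absurd (h ▸ ht) not_ty_zero

end Cfsg.Agent.R2.H27.F4Th
end

-- part: R2/F4M/Eig
section
prune_inst 0x420240500e20008001c0500100002810100000000000000800403080200004020000041002000020008000000000060000000004000000000000000000100000000100030000008400000000000010000000000000000000000000000010004004010000
set_option linter.all false
open scoped Cfsg.Agent.FastGrp

-- part: R2/F4M/Quad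
section
/-!
# S5931: the quadratic extension (helper21)

* `Qd i s` : `i : F →+* E` the quadratic extension of a finite field, `s` the Frobenius automorphism; `exists_quad`;
* `exists_eig` : eigenvectors of operators `T`, `T ^ N = 1`, `N ∣ p ^ m (|E| - 1)`;
* `Nb_dvd` : `24` resp. `72` divides `p ^ 3 (p ^ (2 b) - 1)`.
-/

set_option autoImplicit false
set_option linter.unusedSectionVars false

namespace Cfsg.Agent.R2.F4M

open Cfsg Cfsg.Lie Module

universe u v w

/-! ### the field -/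

/-- the quadratic extension -/
structure Qd {F E : Type u} [Field F] [Fintype F] [Field E] [Fintype E] (i : F →+* E) (s : E →+* E) : Prop where
  frob : ∀ x, s x = x ^ Fintype.card F
  card : Fintype.card E = Fintype.card F ^ 2

theorem exists_quad (F : Type u) [Field F] [Fintype F] {p b : ℕ} [Fact p.Prime] [CharP F p]
    (hF : Fintype.card F = p ^ b) :
    ∃ (E : Type u) (_ : Field E) (_ : Fintype E) (i : F →+* E) (s : E →+* E), CharP E p ∧ Qd i s := by
  let E0 := FiniteField.Extension F p 2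
  let E := ULift.{u} E0
  let _ : Field E := inferInstanceAs (Field (ULift.{u} E0))
  have hfE0 : Finite E0 := inferInstance
  have hfE : Finite E := inferInstanceAs (Finite (ULift.{u} E0))
  let _ : Fintype E := Fintype.ofFinite E
  let i : F →+* E := (ULift.ringEquiv (R := E0)).symm.toRingHom.comp (algebraMap F E0)
  have hc : CharP E p := charP_of_injective_ringHom i.injective p
  refine ⟨E, inferInstance, inferInstance, i, iterateFrobenius E p b, hc, ?_, ?_⟩
  · intro x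
    rw [hF]
    rfl
  · rw [← Nat.card_eq_fintype_card, ← Nat.card_eq_fintype_card]
    have h1 : Nat.card E = Nat.card E0 := Nat.card_congr Equiv.ulift
    rw [h1]
    exact FiniteField.natCard_extension F p 2

section qd

variable {F E : Type u} [Field F] [Fintype F] [Field E] [Fintype E] {i : F →+* E} {s : E →+* E}

theorem Qd.ss (h : Qd i s) (x : E) : s (s x) = x := by
  rw [h.frob, h.frob, ← pow_mul, ← pow_two, ← h.card]
  exact FiniteField.pow_card x

theorem Qd.si (h : Qd i s) (x : F) : s (i x) = i x := by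
  rw [h.frob, ← map_pow, FiniteField.pow_card]

open Polynomial in
/-- the fixed field -/
theorem Qd.fix (h : Qd i s) {x : E} (hx : s x = x) : ∃ y, i y = x := by
  classical
  have h1 : 1 < Fintype.card F := Fintype.one_lt_card
  have hne : (X ^ Fintype.card F - X : E[X]) ≠ 0 := FiniteField.X_pow_card_sub_X_ne_zero E h1
  have hsub : (Finset.univ.image i : Finset E) ⊆ (X ^ Fintype.card F - X : E[X]).roots.toFinset := by
    intro z hz
    obtain ⟨y, -, rfl⟩ := Finset.mem_image.1 hz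
    rw [Multiset.mem_toFinset, mem_roots hne, IsRoot.def, eval_sub, eval_pow, eval_X, ← h.frob, h.si, sub_self]
  have hcard : (X ^ Fintype.card F - X : E[X]).roots.toFinset.card ≤ (Finset.univ.image i : Finset E).card := by
    rw [Finset.card_image_of_injective _ i.injective, Finset.card_univ]
    refine (Multiset.toFinset_card_le _).trans ((card_roots' _).trans ?_)
    rw [FiniteField.X_pow_card_sub_X_natDegree_eq E h1]
  have heq := Finset.eq_of_subset_of_card_le hsub hcard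
  have h2 : x ∈ (X ^ Fintype.card F - X : E[X]).roots.toFinset := by
    rw [Multiset.mem_toFinset, mem_roots hne, IsRoot.def, eval_sub, eval_pow, eval_X, ← h.frob, hx, sub_self]
  rw [← heq] at h2
  obtain ⟨y, -, hy⟩ := Finset.mem_image.1 h2
  exact ⟨y, hy⟩

theorem Qd.exists_ne (h : Qd i s) : ∃ α, s α ≠ α := by
  by_contra hcon
  push Not at hcon
  have h1 : Function.Surjective i := fun x => h.fix (hcon x)
  have h2 := Fintype.card_le_of_surjective i h1
  have h3 : 1 < Fintype.card F := Fintype.one_lt_card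
  rw [h.card] at h2
  nlinarith

end qd

/-! ### eigenvectors -/

open Polynomial in
theorem exists_eig {E : Type u} [Field E] [Fintype E] {V : Type v} [AddCommGroup V] [Module E V]
    [FiniteDimensional E V] [Nontrivial V] {p : ℕ} [Fact p.Prime] [CharP E p] {T : Module.End E V} {N m : ℕ}
    (hT : T ^ N = 1) (hN : N ∣ p ^ m * (Fintype.card E - 1)) : ∃ (c : E) (v : V), v ≠ 0 ∧ T v = c • v := by
  classical
  have h1 : 1 < Fintype.card E := Fintype.one_lt_card
  have hT' : T ^ (p ^ m * (Fintype.card E - 1)) = 1 := by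
    obtain ⟨c, hc⟩ := hN
    rw [hc, pow_mul, hT, one_pow]
  set P : E[X] := (X ^ Fintype.card E - X) ^ p ^ m with hP
  have hP0 : P ≠ 0 := pow_ne_zero _ (FiniteField.X_pow_card_sub_X_ne_zero E h1)
  have hsp : P.Splits := by
    have h2 := splits_X_pow_nat_card_sub_X (K := E)
    rw [Nat.card_eq_fintype_card] at h2
    exact h2.pow _
  have hae : aeval T P = 0 := by
    rw [hP, sub_pow_char_pow, map_sub, map_pow, map_pow, map_pow, aeval_X, ← pow_mul]
    have h3 : Fintype.card E * p ^ m = p ^ m * (Fintype.card E - 1) + p ^ m := by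
      obtain ⟨c, hc⟩ : ∃ c, Fintype.card E = c + 1 := ⟨Fintype.card E - 1, by omega⟩
      rw [hc, Nat.add_sub_cancel]
      ring
    rw [h3, pow_add, hT', one_mul, sub_self]
  have hdvd : minpoly E T ∣ P := minpoly.dvd E T hae
  have hsp' : (minpoly E T).Splits := hsp.of_dvd hP0 hdvd
  have hdeg : (minpoly E T).degree ≠ 0 := (minpoly.degree_pos (Algebra.IsIntegral.isIntegral T)).ne'
  obtain ⟨c, hc⟩ := hsp'.exists_eval_eq_zero hdeg
  have h4 : T.HasEigenvalue c := Module.End.hasEigenvalue_of_isRoot hc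
  obtain ⟨v, hv⟩ := h4.exists_hasEigenvector
  exact ⟨c, v, hv.2, hv.apply_eq_smul⟩

/-! ### numbers -/

/-- the exponent -/
def Nb (b : ℕ) : ℕ := if 3 ∣ b then 72 else 24

theorem Nb_dvd {p b : ℕ} (hp : p.Prime) (hb : 1 ≤ b) : Nb b ∣ p ^ 3 * (p ^ (2 * b) - 1) := by
  have key : ∀ m : ℕ, p ^ (2 * b) ≡ 1 [MOD m] → m ∣ p ^ (2 * b) - 1 := fun m hm =>
    (Nat.modEq_iff_dvd' (Nat.one_le_pow _ _ hp.pos)).1 hm.symm
  have h8 : 8 ∣ p ^ 3 * (p ^ (2 * b) - 1) := by
    rcases hp.eq_two_or_odd with rfl | h2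
    · exact Dvd.dvd.mul_right (by norm_num) _
    · refine Dvd.dvd.mul_left (key 8 ?_) _
      rw [pow_mul]
      have h3 : p ^ 2 ≡ 1 [MOD 8] := by
        have h4 : p % 8 = 1 ∨ p % 8 = 3 ∨ p % 8 = 5 ∨ p % 8 = 7 := by omega
        rcases h4 with h | h | h | h <;> simp [Nat.ModEq, Nat.pow_mod, h]
      simpa using h3.pow b
  have h9 : 3 ∣ b → 9 ∣ p ^ 3 * (p ^ (2 * b) - 1) := by
    rintro ⟨c, rfl⟩
    by_cases h3 : p = 3
    · subst h3
      exact Dvd.dvd.mul_right (by norm_num) _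
    · refine Dvd.dvd.mul_left (key 9 ?_) _
      rw [show 2 * (3 * c) = 6 * c by ring, pow_mul]
      have h4 : ¬ 3 ∣ p := fun h => h3 ((Nat.prime_dvd_prime_iff_eq Nat.prime_three hp).1 h).symm
      have h5 : p ^ 6 ≡ 1 [MOD 9] := by
        have h6 : p % 9 = 1 ∨ p % 9 = 2 ∨ p % 9 = 4 ∨ p % 9 = 5 ∨ p % 9 = 7 ∨ p % 9 = 8 := by omega
        rcases h6 with h | h | h | h | h | h <;> simp [Nat.ModEq, Nat.pow_mod, h]
      simpa using h5.pow c
  have h3 : 3 ∣ p ^ 3 * (p ^ (2 * b) - 1) := by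
    by_cases h3 : p = 3
    · subst h3
      exact Dvd.dvd.mul_right (by norm_num) _
    · refine Dvd.dvd.mul_left (key 3 ?_) _
      rw [pow_mul]
      have h4 : ¬ 3 ∣ p := fun h => h3 ((Nat.prime_dvd_prime_iff_eq Nat.prime_three hp).1 h).symm
      have h5 : p ^ 2 ≡ 1 [MOD 3] := by
        have h6 : p % 3 = 1 ∨ p % 3 = 2 := by omega
        rcases h6 with h | h <;> simp [Nat.ModEq, Nat.pow_mod, h]
      simpa using h5.pow b
  unfold Nb
  split_ifs with hb3
  · exact Nat.Coprime.mul_dvd_of_dvd_of_dvd (m := 8) (n := 9) (by norm_num) h8 (h9 hb3)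
  · exact Nat.Coprime.mul_dvd_of_dvd_of_dvd (m := 8) (n := 3) (by norm_num) h8 h3

end Cfsg.Agent.R2.F4M
end

-- part: R2/F4M/Eig
section
/-!
# S5931: common eigenvectors of `H` over the quadratic extension (helper21)

* `TE i g` : the action of `g` on `J` over `E`; `sg s` : the semilinear Frobenius map, `ic i` : extension of scalars;
* `Cfg.eigF` : eigenvectors modulo the unit with eigenvalues in `F` are multiples of the unit;
* `Cfg.exists_common` : if `L` fixes a vector which is not a multiple of the unit and `g ^ N ∈ L` for all `g ∈ H`, there is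
  a common eigenvector of `H` over `E` fixed by `L` with an eigenvalue which is not in `F`.
-/

set_option autoImplicit false
set_option linter.unusedSectionVars false

namespace Cfsg.Agent.R2.F4M

open Cfsg Cfsg.Lie Module Matrix
open Cfsg.Agent.ChevalleyStructure.E6Min.Basic
open Cfsg.Agent.H952.F4 Cfsg.Agent.H952.F4.Jord
open Cfsg.Agent.H952.F4.FixV (W0 mem_W0 finrank_W0 u0_ne_zero)
open Cfsg.Agent.R2.H9.E6
open Cfsg.Agent.GpExc.Field (emb)
open Cfsg.Agent.R2.H8.NoFix.Aut (comm_inner)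

universe u v w

section basic

variable {F E : Type u} [Field F] [Field E] (i : F →+* E) (s : E →+* E)

/-- the action over `E` -/
noncomputable def TE (g : ↥(chevF4.group F)) : (I27 → E) →ₗ[E] (I27 → E) := Jr E (emb hF4 i g)

/-- the semilinear map -/
def sg (x : I27 → E) : I27 → E := fun j => s (x j)

/-- extension of scalars -/
def ic (x : I27 → F) : I27 → E := fun j => i (x j)

theorem TE_mul (g h : ↥(chevF4.group F)) (x : I27 → E) : TE i (g * h) x = TE i g (TE i h x) := by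
  unfold TE
  rw [map_mul, Jr_mul]

theorem TE_one (x : I27 → E) : TE i 1 x = x := by
  unfold TE
  rw [map_one, Jr_one]

theorem TE_u0 (g : ↥(chevF4.group F)) : TE i g (u0 E) = u0 E := Jr_u0 _

theorem TE_sh (g : ↥(chevF4.group F)) (x : I27 → E) : sh (TE i g x) = TE i g (sh x) := Jr_sh _ x

theorem TE_cr (g : ↥(chevF4.group F)) (x y : I27 → E) : cr (TE i g x) (TE i g y) = TE i g (cr x y) := Jr_cr _ x y

theorem TE_tr (g : ↥(chevF4.group F)) (x : I27 → E) : tr1 (TE i g x) = tr1 x := Jr_tr _ x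

theorem TE_tf (g : ↥(chevF4.group F)) (x y : I27 → E) : tf (TE i g x) (TE i g y) = tf x y := Jr_tf _ x y

theorem TE_N (g : ↥(chevF4.group F)) (x : I27 → E) : cubicT (TE i g x) = cubicT x := Jr_N _ x

theorem TE_ic (g : ↥(chevF4.group F)) (x : I27 → F) : TE i g (ic i x) = ic i (Jr F g x) := Jr_map i g x

theorem sg_add (x y : I27 → E) : sg s (x + y) = sg s x + sg s y := funext fun _ => map_add s _ _

theorem sg_smul (c : E) (x : I27 → E) : sg s (c • x) = s c • sg s x := funext fun _ => map_mul s _ _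

theorem sg_sh (x : I27 → E) : sh (sg s x) = sg s (sh x) := H163.E6.Act.sh_map s x

theorem sg_cr (x y : I27 → E) : cr (sg s x) (sg s y) = sg s (cr x y) := by
  have h1 : sg s x + sg s y = sg s (x + y) := (sg_add s x y).symm
  unfold cr
  rw [h1, sg_sh, sg_sh, sg_sh]
  funext j
  simp [sg]

theorem sg_tr (x : I27 → E) : tr1 (sg s x) = s (tr1 x) := F4P.tr1_map s x

theorem sg_u0 : sg s (u0 E) = u0 E := F4P.u0_map s

theorem ic_add (x y : I27 → F) : ic i (x + y) = ic i x + ic i y := funext fun _ => map_add i _ _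

theorem ic_smul (c : F) (x : I27 → F) : ic i (c • x) = i c • ic i x := funext fun _ => map_mul i _ _

theorem ic_u0 : ic i (u0 F) = u0 E := F4P.u0_map i

theorem ic_inj : Function.Injective (ic i) := fun _ _ h => funext fun j => i.injective (congrFun h j)

end basic

section qd

variable {F E : Type u} [Field F] [Fintype F] [Field E] [Fintype E] {i : F →+* E} {s : E →+* E}

theorem Qd.emb_emb (q : Qd i s) (g : ↥(chevF4.group F)) : emb hF4 s (emb hF4 i g) = emb hF4 i g := by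
  apply Subtype.ext
  rw [Cfsg.Agent.GpExc.Field.coe_emb, Cfsg.Agent.GpExc.Field.coe_emb]
  apply Units.ext
  ext j l
  exact q.si _

theorem Qd.sg_T (q : Qd i s) (g : ↥(chevF4.group F)) (x : I27 → E) : sg s (TE i g x) = TE i g (sg s x) := by
  have h := Jr_map s (emb hF4 i g) x
  rw [q.emb_emb] at h
  exact h.symm

theorem Qd.sg_sg (q : Qd i s) (x : I27 → E) : sg s (sg s x) = x := funext fun _ => q.ss _

theorem Qd.exists_ic (q : Qd i s) {x : I27 → E} (hx : sg s x = x) : ∃ y, ic i y = x := by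
  have h : ∀ j, ∃ y, i y = x j := fun j => q.fix (congrFun hx j)
  choose y hy using h
  exact ⟨y, funext hy⟩

/-- the rational vectors `α x + α^q σ x` -/
theorem Qd.exists_rat (q : Qd i s) (x : I27 → E) (α : E) : ∃ y, ic i y = α • x + s α • sg s x := by
  refine q.exists_ic ?_
  rw [sg_add, sg_smul, sg_smul, q.ss, q.sg_sg, add_comm]

variable {K : Type v} [Field K] [Fintype K] {p a b : ℕ}
variable {H : Subgroup ↥(chevF4.group F)} {φ : ProjectiveSpecialLinearGroup (Fin 2) K →* ↥(chevF4.group F)}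

omit [Fintype F] in
theorem li_of_not_mem {w : I27 → F} (hwu : w ∉ Submodule.span F {u0 F}) : LinearIndependent F ![u0 F, w] := by
  rw [LinearIndependent.pair_iff]
  intro s t hst
  have ht : t = 0 := by
    by_contra ht
    apply hwu
    refine Submodule.mem_span_singleton.2 ⟨-(t⁻¹ * s), ?_⟩
    have h3 : t • w = -(s • u0 F) := by
      rw [eq_neg_iff_add_eq_zero, add_comm]
      exact hst
    have h4 : w = t⁻¹ • (t • w) := by rw [smul_smul, inv_mul_cancel₀ ht, one_smul]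
    rw [h4, h3, smul_neg, smul_smul, neg_smul]
  rw [ht, zero_smul, add_zero] at hst
  exact ⟨(smul_eq_zero.1 hst).resolve_right u0_ne_zero, ht⟩

/-- **FV** modulo the unit -/
theorem Cfg.fv_mod (h : Cfg p a b H φ) {w : I27 → F} (hw : ∀ g ∈ H, ∃ c d : F, Jr F g w = c • w + d • u0 F) :
    w ∈ Submodule.span F {u0 F} := by
  by_contra hwu
  have hli := li_of_not_mem hwu
  refine h.fv (P := Submodule.span F (Set.range ![u0 F, w])) ?_ (Submodule.subset_span ⟨0, rfl⟩)
    (by rw [finrank_span_eq_card hli, Fintype.card_fin])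
  intro g hg x hx
  have h3 : Submodule.span F (Set.range ![u0 F, w]) ≤ (Submodule.span F (Set.range ![u0 F, w])).comap (Jr F g) := by
    rw [Submodule.span_le]
    rintro _ ⟨i, rfl⟩
    show Jr F g _ ∈ Submodule.span F (Set.range ![u0 F, w])
    fin_cases i
    · show Jr F g (u0 F) ∈ _
      rw [Jr_u0]
      exact Submodule.subset_span ⟨0, rfl⟩
    · show Jr F g w ∈ _
      obtain ⟨c, d, hc⟩ := hw g hg
      rw [hc]
      exact Submodule.add_mem _ (Submodule.smul_mem _ _ (Submodule.subset_span ⟨1, rfl⟩))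
        (Submodule.smul_mem _ _ (Submodule.subset_span ⟨0, rfl⟩))
  exact h3 hx

/-- **eigenvectors modulo the unit with eigenvalues in `F`** -/
theorem Cfg.eigF (h : Cfg p a b H φ) (q : Qd i s) {x : I27 → E}
    (hx : ∀ g ∈ H, ∃ (c : F) (d : E), TE i g x = i c • x + d • u0 E) : x ∈ Submodule.span E {u0 E} := by
  have key : ∀ α : E, ∃ t : E, α • x + s α • sg s x = t • u0 E := by
    intro α
    obtain ⟨y, hy⟩ := q.exists_rat x α
    have h1 : y ∈ Submodule.span F {u0 F} := by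
      refine h.fv_mod fun g hg => ?_
      obtain ⟨c, d, hcd⟩ := hx g hg
      obtain ⟨e, he⟩ : ∃ e, i e = α * d + s (α * d) := q.fix (by rw [map_add, q.ss, add_comm])
      refine ⟨c, e, ic_inj i ?_⟩
      rw [← TE_ic, hy, map_add, map_smul, map_smul, ← q.sg_T, hcd, sg_add, sg_smul, sg_smul, sg_u0, q.si, ic_add,
        ic_smul, ic_smul, hy, ic_u0, he, map_mul]
      module
    obtain ⟨t, ht⟩ := Submodule.mem_span_singleton.1 h1
    refine ⟨i t, ?_⟩
    rw [← hy, ← ht, ic_smul, ic_u0]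
  obtain ⟨α, hα⟩ := q.exists_ne
  obtain ⟨t1, h1⟩ := key 1
  obtain ⟨t2, h2⟩ := key α
  have h3 : s α - α ≠ 0 := sub_ne_zero.2 hα
  rw [one_smul, map_one, one_smul] at h1
  have h4 : (s α - α) • x = (s α * t1 - t2) • u0 E := by
    have h5 : (s α * t1 - t2) • u0 E = s α • (t1 • u0 E) - t2 • u0 E := by module
    rw [h5, ← h1, ← h2]
    module
  refine Submodule.mem_span_singleton.2 ⟨(s α - α)⁻¹ * (s α * t1 - t2), ?_⟩
  rw [← smul_smul, ← h4, smul_smul, inv_mul_cancel₀ h3, one_smul]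

/-- the commutators of `H` belong to `L` -/
theorem Cfg.comm_mem (h : Cfg p a b H φ) {g g' : ↥(chevF4.group F)} (hg : g ∈ H) (hg' : g' ∈ H) :
    ∃ t, g * g' * g⁻¹ * g'⁻¹ = φ t := by
  obtain ⟨τ, hτ, -, hconj⟩ := h.max.act
  obtain ⟨t, ht⟩ := comm_inner (τ ⟨g, hg⟩) (τ ⟨g', hg'⟩)
  refine ⟨t, ?_⟩
  have h3 : τ (⟨g, hg⟩ * ⟨g', hg'⟩ * ⟨g, hg⟩⁻¹ * ⟨g', hg'⟩⁻¹) = τ ⟨φ t, h.mem t⟩ := by
    rw [map_mul, map_mul, map_mul, map_inv, map_inv, ht, hconj]
  exact congrArg Subtype.val (hτ h3)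

/-- the fixed vectors of `L` over `E` -/
def ME (i : F →+* E) (φ : ProjectiveSpecialLinearGroup (Fin 2) K →* ↥(chevF4.group F)) : Submodule E (I27 → E) where
  carrier := {x | ∀ t, TE i (φ t) x = x}
  add_mem' := by
    intro x y hx hy t
    rw [map_add, hx t, hy t]
  zero_mem' := fun t => map_zero _
  smul_mem' := by
    intro c x hx t
    rw [map_smul, hx t]

theorem Cfg.ME_st (h : Cfg p a b H φ) {g : ↥(chevF4.group F)} (hg : g ∈ H) {x : I27 → E} (hx : x ∈ ME i φ) :
    TE i g x ∈ ME i φ := by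
  intro t
  obtain ⟨t', ht'⟩ := h.max.norm g⁻¹ (inv_mem hg) (φ t) ⟨t, rfl⟩
  rw [← TE_mul]
  have h1 : φ t * g = g * φ t' := by
    rw [ht']
    group
  rw [h1, TE_mul, hx t']

theorem Cfg.ME_comm (h : Cfg p a b H φ) {g g' : ↥(chevF4.group F)} (hg : g ∈ H) (hg' : g' ∈ H) {x : I27 → E}
    (hx : x ∈ ME i φ) : TE i g (TE i g' x) = TE i g' (TE i g x) := by
  obtain ⟨t, ht⟩ := h.comm_mem hg hg'
  have h1 : g * g' = φ t * (g' * g) := by
    rw [← ht]
    group
  rw [← TE_mul, h1, TE_mul, TE_mul, h.ME_st hg' (h.ME_st hg hx)]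

theorem TE_span (g : ↥(chevF4.group F)) {x : I27 → E} (hx : x ∈ Submodule.span E {u0 E}) :
    TE i g x ∈ Submodule.span E {u0 E} := by
  obtain ⟨c, rfl⟩ := Submodule.mem_span_singleton.1 hx
  rw [map_smul, TE_u0]
  exact Submodule.smul_mem _ _ (Submodule.mem_span_singleton_self _)

/-- the stable subspaces of `ME` containing the unit and something else -/
structure Sx (i : F →+* E) (H : Subgroup ↥(chevF4.group F)) (φ : ProjectiveSpecialLinearGroup (Fin 2) K →* ↥(chevF4.group F))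
    (X : Submodule E (I27 → E)) : Prop where
  le : X ≤ ME i φ
  u : u0 E ∈ X
  ne : ∃ x ∈ X, x ∉ Submodule.span E {u0 E}
  st : ∀ g ∈ H, ∀ x ∈ X, TE i g x ∈ X

/-- eigenvectors modulo the unit -/
theorem Cfg.exists_mod (h : Cfg p a b H φ) (q : Qd i s) (hNb : ∀ g ∈ H, ∃ t, g ^ Nb b = φ t)
    {X : Submodule E (I27 → E)} (hX : Sx i H φ X) {g : ↥(chevF4.group F)} (hg : g ∈ H) :
    ∃ (c : E) (x : I27 → E), x ∈ X ∧ x ∉ Submodule.span E {u0 E} ∧ TE i g x - c • x ∈ Submodule.span E {u0 E} := by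
  have hp : Fact p.Prime := ⟨h.prime⟩
  have := h.charF
  have hE : CharP E p := charP_of_injective_ringHom i.injective p
  let U' : Submodule E ↥X := (Submodule.span E {u0 E}).comap X.subtype
  let T : ↥X →ₗ[E] ↥X := (TE i g).restrict (hX.st g hg)
  have hT : ∀ x, ((T x : ↥X) : I27 → E) = TE i g x := fun x => rfl
  have hTn : ∀ (n : ℕ) (x : ↥X), (((T ^ n) x : ↥X) : I27 → E) = TE i (g ^ n) x := by
    intro n
    induction n with
    | zero => intro x; rw [pow_zero, pow_zero, TE_one]; rfl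
    | succ n ih =>
      intro x
      rw [pow_succ, Module.End.mul_apply, ih, hT, pow_succ, TE_mul]
  have hU' : U' ≤ U'.comap T := by
    intro x hx
    exact TE_span g hx
  let Q : Module.End E (↥X ⧸ U') := Submodule.mapQ U' U' T hU'
  have hQ : ∀ x, Q (U'.mkQ x) = U'.mkQ (T x) := fun x => rfl
  have hQn : ∀ (n : ℕ) (x : ↥X), (Q ^ n) (U'.mkQ x) = U'.mkQ ((T ^ n) x) := by
    intro n
    induction n with
    | zero => intro x; rfl
    | succ n ih =>
      intro x
      rw [pow_succ, Module.End.mul_apply, hQ, ih, pow_succ, Module.End.mul_apply]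
  have hQN : Q ^ Nb b = 1 := by
    refine LinearMap.ext fun y => ?_
    obtain ⟨x, rfl⟩ := Submodule.mkQ_surjective _ y
    rw [hQn, Module.End.one_apply]
    congr 1
    apply Subtype.ext
    obtain ⟨t, ht⟩ := hNb g hg
    rw [hTn, ht]
    exact hX.le x.2 t
  obtain ⟨x0, hx0, hx0u⟩ := hX.ne
  have hnt : Nontrivial (↥X ⧸ U') := by
    refine ⟨U'.mkQ ⟨x0, hx0⟩, 0, fun h0 => hx0u ?_⟩
    have h1 := (Submodule.Quotient.mk_eq_zero _).1 h0
    exact h1
  have hdvd : Nb b ∣ p ^ 3 * (Fintype.card E - 1) := by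
    rw [q.card, h.cardF, ← pow_mul, mul_comm b 2]
    exact Nb_dvd h.prime h.hb
  obtain ⟨c, y, hy0, hy⟩ := exists_eig (p := p) (m := 3) hQN hdvd
  obtain ⟨x, rfl⟩ := Submodule.mkQ_surjective _ y
  refine ⟨c, x, x.2, fun hx => hy0 ?_, ?_⟩
  · exact (Submodule.Quotient.mk_eq_zero _).2 hx
  · have h1 : U'.mkQ (T x - c • x) = 0 := by
      rw [map_sub, map_smul, ← hQ, hy, sub_self]
    have h2 : T x - c • x ∈ U' := (Submodule.Quotient.mk_eq_zero _).1 h1
    exact h2

/-- **common eigenvectors** -/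
theorem Cfg.exists_common (h : Cfg p a b H φ) (q : Qd i s) (hNb : ∀ g ∈ H, ∃ t, g ^ Nb b = φ t)
    (hM : ∃ y : I27 → F, (∀ t, Jr F (φ t) y = y) ∧ y ∉ Submodule.span F {u0 F}) :
    ∃ (w : I27 → E) (χ : ↥(chevF4.group F) → E), w ∉ Submodule.span E {u0 E} ∧ (∀ g ∈ H, TE i g w = χ g • w) ∧
      (∀ t, TE i (φ t) w = w) ∧ ∃ g0 ∈ H, s (χ g0) ≠ χ g0 := by
  classical
  obtain ⟨y, hy, hyu⟩ := hM
  have hS : Sx i H φ (ME i φ) := by
    refine ⟨le_rfl, fun t => TE_u0 i _, ⟨ic i y, fun t => ?_, fun hmem => hyu ?_⟩, fun g hg x hx => h.ME_st hg hx⟩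
    · rw [TE_ic, hy]
    · obtain ⟨c, hc⟩ := Submodule.mem_span_singleton.1 hmem
      obtain ⟨d, hd⟩ : ∃ d, i d = c := by
        refine ⟨y (0, 0, 0), ?_⟩
        have h1 := congrFun hc (0, 0, 0)
        simp only [Pi.smul_apply, u0, smul_eq_mul, and_self, if_true, mul_one] at h1
        exact h1.symm
      refine Submodule.mem_span_singleton.2 ⟨d, ic_inj i ?_⟩
      rw [ic_smul, ic_u0, hd, hc]
  have hex : ∃ n, ∃ X : Submodule E (I27 → E), Sx i H φ X ∧ finrank E ↥X = n := ⟨_, _, hS, rfl⟩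
  obtain ⟨X, hX, hXn⟩ := Nat.find_spec hex
  have hmin : ∀ X' : Submodule E (I27 → E), Sx i H φ X' → X' ≤ X → X' = X := by
    intro X' hX' hle
    refine Submodule.eq_of_le_of_finrank_le hle ?_
    rw [hXn]
    exact Nat.find_min' hex ⟨X', hX', rfl⟩
  have hsc : ∀ g : ↥(chevF4.group F), ∃ c : E, g ∈ H → ∀ x ∈ X, TE i g x - c • x ∈ Submodule.span E {u0 E} := by
    intro g
    by_cases hg : g ∈ H
    · obtain ⟨c, x1, hx1, hx1u, hx1c⟩ := h.exists_mod q hNb hX hg
      refine ⟨c, fun _ => ?_⟩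
      let X' : Submodule E (I27 → E) := X ⊓ (Submodule.span E {u0 E}).comap (TE i g - c • LinearMap.id)
      have hX' : Sx i H φ X' := by
        refine ⟨inf_le_left.trans hX.le, ⟨hX.u, ?_⟩, ⟨x1, ⟨hx1, hx1c⟩, hx1u⟩, fun g' hg' x hx => ⟨hX.st g' hg' x hx.1, ?_⟩⟩
        · show TE i g (u0 E) - c • u0 E ∈ Submodule.span E {u0 E}
          rw [TE_u0]
          exact Submodule.sub_mem _ (Submodule.mem_span_singleton_self _)
            (Submodule.smul_mem _ _ (Submodule.mem_span_singleton_self _))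
        · show TE i g (TE i g' x) - c • TE i g' x ∈ Submodule.span E {u0 E}
          rw [h.ME_comm hg hg' (hX.le hx.1), ← map_smul, ← map_sub]
          exact TE_span g' hx.2
      have hXX := hmin X' hX' inf_le_left
      intro x hx
      rw [← hXX] at hx
      exact hx.2
    · exact ⟨0, fun hg' => absurd hg' hg⟩
  choose χ hχ using hsc
  obtain ⟨x, hx, hxu⟩ := hX.ne
  obtain ⟨g0, hg0, hχ0⟩ : ∃ g0 ∈ H, s (χ g0) ≠ χ g0 := by
    by_contra hcon
    push Not at hcon
    apply hxu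
    refine h.eigF q fun g hg => ?_
    obtain ⟨c, hc⟩ := q.fix (hcon g hg)
    obtain ⟨d, hd⟩ := Submodule.mem_span_singleton.1 (hχ g hg x hx)
    refine ⟨c, d, ?_⟩
    rw [hc, hd]
    module
  have h1 : (1 : E) - χ g0 ≠ 0 := by
    intro h0
    apply hχ0
    rw [← sub_eq_zero.1 h0, map_one]
  obtain ⟨d, hd⟩ := Submodule.mem_span_singleton.1 (hχ g0 hg0 x hx)
  have hd' : TE i g0 x = χ g0 • x + d • u0 E := by
    rw [hd]
    module
  set w : I27 → E := x + (-(d / (1 - χ g0))) • u0 E with hw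
  have hwX : w ∈ X := X.add_mem hx (X.smul_mem _ hX.u)
  have hwu : w ∉ Submodule.span E {u0 E} := by
    intro hmem
    apply hxu
    have h2 : x = w - (-(d / (1 - χ g0))) • u0 E := by rw [hw]; module
    rw [h2]
    exact Submodule.sub_mem _ hmem (Submodule.smul_mem _ _ (Submodule.mem_span_singleton_self _))
  have hw0 : TE i g0 w = χ g0 • w := by
    rw [hw, map_add, map_smul, TE_u0, hd', smul_add, smul_smul, add_assoc, ← add_smul]
    congr 2
    field_simp
    ring
  refine ⟨w, χ, hwu, fun g hg => ?_, hX.le hwX, g0, hg0, hχ0⟩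
  obtain ⟨e, he⟩ := Submodule.mem_span_singleton.1 (hχ g hg w hwX)
  have he' : TE i g w = χ g • w + e • u0 E := by
    rw [he]
    module
  have h2 := h.ME_comm hg hg0 (hX.le hwX)
  rw [hw0, map_smul, he', map_add, map_smul, map_smul, hw0, TE_u0] at h2
  have h3 : ((1 - χ g0) * e) • u0 E = 0 := by
    have h4 : χ g0 • (χ g • w + e • u0 E) - (χ g • χ g0 • w + e • u0 E) = 0 := sub_eq_zero.2 h2
    have h5 : χ g0 • (χ g • w + e • u0 E) - (χ g • χ g0 • w + e • u0 E) = -(((1 - χ g0) * e) • u0 E) := by module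
    rw [h5] at h4
    exact neg_eq_zero.1 h4
  have h4 : e = 0 := by
    rcases smul_eq_zero.1 h3 with h5 | h5
    · exact (mul_eq_zero.1 h5).resolve_left h1
    · exact absurd h5 u0_ne_zero
  rw [he', h4, zero_smul, add_zero]

end qd

end Cfsg.Agent.R2.F4M
end

private theorem dce_2378475b6d72 : _root_.True := by
  try have : _root_.True := by simp only [_root_.Cfsg.Agent.R2.F4M.sg.eq_1]
  exact _root_.True.intro
end

-- part: R2/F4M/Rk
section
prune_inst 0x240530a20008001c051030001ee3cf0004b2004b000049c40a4a07816c4029410621b6b00012029e88456039006001000010422000000a0004000119008000800202b008a108600080808080010000000000000000000000000000010004004010000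
set_option linter.all false
open scoped Cfsg.Agent.FastGrp

/-!
# S5931: the representation of `SL(2, p^a)` on `J` and `J₀` over an algebraically closed field (helper21)

* `Rk f φ` : `SL(2, K)` on `I27 → k`, `f : F →+* k`; `Rk_sh`, `Rk_cr`, `Rk_tf`, `Rk_tr`, `Rk_u0`, `Rk_N`, `Rk_map`;
* `R0 f φ` : `SL(2, K)` on `J₀` (dimension 26); `Rk_dul`, `R0_dul` (`p ≠ 3`);
* `Cfg.pat5`, `Cfg.pat3`, `Cfg.pat2` : the composition patterns of `J₀`.
-/

set_option autoImplicit false
set_option linter.unusedSectionVars false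

namespace Cfsg.Agent.R2.F4M

open Cfsg Cfsg.Lie Module Matrix
open Cfsg.Agent.ChevalleyStructure.E6Min.Basic
open Cfsg.Agent.H952.F4 Cfsg.Agent.H952.F4.Jord
open Cfsg.Agent.H952.F4.FixV (W0 mem_W0 finrank_W0 u0_ne_zero trL trL_apply trL_ne_zero tr1_sub tf_sub_right)
open Cfsg.Agent.R2.H9.E6
open Cfsg.Agent.GpExc.Field (emb)
open Cfsg.Agent.R2.H28.SL2 Cfsg.Agent.H943.RepAdd Cfsg.Agent.R2.SL2
open Cfsg.Agent.R2.GEO (tfB tfB_apply)

universe u v

section

variable {F : Type u} [Field F] {k : Type u} [Field k] (f : F →+* k) {K : Type v} [Field K]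
variable (φ : ProjectiveSpecialLinearGroup (Fin 2) K →* ↥(chevF4.group F))

/-- `SL(2, K)` on `J` over `k` -/
noncomputable def Rk : Representation k (_root_.Matrix.SpecialLinearGroup (Fin 2) K) (I27 → k) :=
  MonoidHom.comp (Jr k) (((emb hF4 f).comp φ).comp pq)

theorem Rk_apply (g : _root_.Matrix.SpecialLinearGroup (Fin 2) K) (x : I27 → k) : Rk f φ g x = Jr k (emb hF4 f (φ (pq g))) x := rfl

theorem Rk_u0 (g : _root_.Matrix.SpecialLinearGroup (Fin 2) K) : Rk f φ g (u0 k) = u0 k := Jr_u0 _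

theorem Rk_tr (g : _root_.Matrix.SpecialLinearGroup (Fin 2) K) (x : I27 → k) : tr1 (Rk f φ g x) = tr1 x := Jr_tr _ x

theorem Rk_tf (g : _root_.Matrix.SpecialLinearGroup (Fin 2) K) (x y : I27 → k) : tf (Rk f φ g x) (Rk f φ g y) = tf x y := Jr_tf _ x y

theorem Rk_sh (g : _root_.Matrix.SpecialLinearGroup (Fin 2) K) (x : I27 → k) : sh (Rk f φ g x) = Rk f φ g (sh x) := Jr_sh _ x

theorem Rk_cr (g : _root_.Matrix.SpecialLinearGroup (Fin 2) K) (x y : I27 → k) : cr (Rk f φ g x) (Rk f φ g y) = Rk f φ g (cr x y) :=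
  Jr_cr _ x y

theorem Rk_map (g : _root_.Matrix.SpecialLinearGroup (Fin 2) K) (x : I27 → F) :
    Rk f φ g (fun i => f (x i)) = fun i => f (Jr F (φ (pq g)) x i) := Jr_map f _ x

theorem h_neg_one : Cfsg.Agent.H943.SL2Rel.h (-1 : Kˣ) = -1 := by
  apply Subtype.ext
  ext i j
  (revert i j; simp only [Cfsg.Agent.H943.SL2Rel.h, _root_.Fin.forall_fin_succ, _root_.Units.val_neg, _root_.Units.val_one, _root_.inv_neg, _root_.inv_one, _root_.Matrix.of_apply, _root_.Matrix.cons_val', _root_.Matrix.cons_val_fin_one, _root_.Matrix.SpecialLinearGroup.coe_neg, _root_.Matrix.SpecialLinearGroup.coe_one, _root_.Matrix.neg_apply, Fin.isValue, _root_.Matrix.cons_val_zero, _root_.Matrix.cons_val_succ, _root_.IsEmpty.forall_iff, _root_.and_true, _root_.Matrix.one_apply_eq, Nat.reduceAdd, _root_.Fin.succ_zero_eq_one, _root_.ne_eq, _root_.zero_ne_one, _root_.not_false_eq_true, _root_.Matrix.one_apply_ne, _root_.neg_zero, _root_.and_self, _root_.Fin.succ_ne_zero, _root_.neg_inj,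 _root_.true_and])

theorem pq_h : pq (Cfsg.Agent.H943.SL2Rel.h (-1 : Kˣ)) = 1 := pq_eq_one.2 (Or.inr h_neg_one)

theorem Rk_cen : Rk f φ (Cfsg.Agent.H943.SL2Rel.h (-1)) = 1 := by
  unfold Rk
  rw [MonoidHom.comp_apply, MonoidHom.comp_apply, pq_h, map_one, map_one]

theorem W0_st (g : _root_.Matrix.SpecialLinearGroup (Fin 2) K) : ∀ x ∈ W0 k, Rk f φ g x ∈ W0 k := by
  intro x hx
  rw [mem_W0, Rk_tr]
  exact (mem_W0 x).1 hx

/-- `SL(2, K)` on `J₀` over `k` -/
noncomputable def R0 : Representation k (_root_.Matrix.SpecialLinearGroup (Fin 2) K) ↥(W0 k) := subRep (Rk f φ) (W0 k) (W0_st f φ)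

theorem R0_apply (g : _root_.Matrix.SpecialLinearGroup (Fin 2) K) (x : ↥(W0 k)) : ((R0 f φ g x : ↥(W0 k)) : I27 → k) = Rk f φ g x := rfl

theorem R0_cen : R0 f φ (Cfsg.Agent.H943.SL2Rel.h (-1)) = 1 := by
  refine LinearMap.ext fun x => Subtype.ext ?_
  rw [R0_apply, Rk_cen]
  rfl

/-- the trace form on `J₀` -/
noncomputable def tf0 (k : Type u) [Field k] : ↥(W0 k) →ₗ[k] ↥(W0 k) →ₗ[k] k :=
  (tfB k).compl₁₂ (W0 k).subtype (W0 k).subtype

theorem tf0_apply (x y : ↥(W0 k)) : tf0 k x y = tf (x : I27 → k) y := rfl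

theorem tf0_left (h3 : (3 : k) ≠ 0) (x : ↥(W0 k)) (hx : ∀ y, tf0 k x y = 0) : x = 0 := by
  obtain ⟨v, hv⟩ := x
  refine Subtype.ext (tf_nondeg fun y => ?_)
  rw [mem_W0] at hv
  have h1 : tr1 (y - (tr1 y / 3) • u0 k) = 0 := by
    rw [tr1_sub, tr1_smul, tr1_u0]
    field_simp
    ring
  have h2 : tf v (y - (tr1 y / 3) • u0 k) = 0 := hx ⟨_, (mem_W0 _).2 h1⟩
  rw [tf_sub_right, tf_smul_right, tf_comm v (u0 k), tf_u0, hv, mul_zero, sub_zero] at h2
  exact h2

/-- self-duality of `J₀`, `p ≠ 3` -/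
theorem R0_dul (h3 : (3 : k) ≠ 0) : Dul (R0 f φ) (R0 f φ) (tf0 k) where
  inv g x y := by rw [tf0_apply, tf0_apply, R0_apply, R0_apply, Rk_tf]
  left x hx := tf0_left h3 x hx
  right y hy := tf0_left h3 y fun x => by rw [tf0_apply, tf_comm]; exact hy x

end

section cfg

variable {F : Type u} [Field F] [Fintype F] {K : Type v} [Field K] [Fintype K] {p a b : ℕ}
variable {H : Subgroup ↥(chevF4.group F)} {φ : ProjectiveSpecialLinearGroup (Fin 2) K →* ↥(chevF4.group F)}
variable {k : Type u} [Field k] (f : F →+* k)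

theorem g4_sq : (g4 K) * g4 K = -1 := by
  apply Subtype.ext
  have h1 : ((g4 K * g4 K : _root_.Matrix.SpecialLinearGroup (Fin 2) K) : Matrix (Fin 2) (Fin 2) K) =
      !![0, -1; 1, 0] * !![0, -1; 1, 0] := rfl
  rw [h1, Matrix.mul_fin_two]
  ext i j
  (revert i j; simp only [_root_.Fin.forall_fin_succ, _root_.MulZeroClass.mul_zero, _root_.mul_one, _root_.zero_add, _root_.mul_neg, _root_.neg_zero, _root_.add_zero, _root_.Matrix.of_apply, _root_.Matrix.cons_val', _root_.Matrix.cons_val_fin_one, _root_.Matrix.SpecialLinearGroup.coe_neg, _root_.Matrix.SpecialLinearGroup.coe_one, _root_.Matrix.neg_apply, Fin.isValue, _root_.Matrix.cons_val_zero, _root_.Matrix.cons_val_succ, _root_.IsEmpty.forall_iff, _root_.and_true, _root_.Matrix.one_apply_eq, Nat.reduceAdd, _root_.Fin.succ_zero_eq_one, _root_.ne_eq, _root_.zero_ne_one, _root_.not_false_eq_true, _root_.Matrix.one_apply_ne, _root_.and_self, _root_.Fin.succ_ne_zero, _root_.neg_inj, _root_.true_and])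

theorem g4_ne : pq (g4 K) ≠ 1 := by
  rw [Ne, pq_eq_one]
  rintro (h | h)
  · have h1 := congrFun (congrFun (congrArg Subtype.val h) 0) 0
    simp only [g4, _root_.Fin.isValue, _root_.Matrix.of_apply, _root_.Matrix.cons_val', _root_.Matrix.cons_val_zero, _root_.Matrix.cons_val_fin_one, _root_.Matrix.SpecialLinearGroup.coe_one, _root_.Matrix.one_apply_eq, _root_.zero_ne_one] at h1
  · have h1 := congrFun (congrFun (congrArg Subtype.val h) 0) 0
    simp [g4] at h1

theorem g3_cube : (g3 K) ^ 3 = 1 := by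
  apply Subtype.ext
  have h1 : ((g3 K ^ 3 : _root_.Matrix.SpecialLinearGroup (Fin 2) K) : Matrix (Fin 2) (Fin 2) K) =
      !![0, -1; 1, -1] * !![0, -1; 1, -1] * !![0, -1; 1, -1] := by
    rw [pow_succ, pow_succ, pow_one]
    rfl
  rw [h1, Matrix.mul_fin_two, Matrix.mul_fin_two]
  ext i j
  (revert i j; simp only [_root_.Fin.forall_fin_succ, _root_.MulZeroClass.mul_zero, _root_.mul_one, _root_.zero_add, _root_.mul_neg, _root_.neg_zero, _root_.neg_neg, _root_.add_neg_cancel, _root_.neg_add_cancel, _root_.add_zero, _root_.Matrix.of_apply, _root_.Matrix.cons_val', _root_.Matrix.cons_val_fin_one, _root_.Matrix.SpecialLinearGroup.coe_one, Fin.isValue, _root_.Matrix.cons_val_zero, _root_.Matrix.cons_val_succ, _root_.IsEmpty.forall_iff, _root_.and_true, _root_.Matrix.one_apply_eq, Nat.reduceAdd, _root_.Fin.succ_zero_eq_one, _root_.ne_eq, _root_.zero_ne_one, _root_.not_false_eq_true, _root_.Matrix.one_apply_ne, _root_.and_self, _root_.Fin.succ_ne_zero,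 _root_.true_and])

theorem g3_ne : pq (g3 K) ≠ 1 := by
  rw [Ne, pq_eq_one]
  rintro (h | h)
  · have h1 := congrFun (congrFun (congrArg Subtype.val h) 1) 0
    simp [g3] at h1
  · have h1 := congrFun (congrFun (congrArg Subtype.val h) 1) 0
    simp [g3] at h1

/-- fixed spaces on `J` and `J₀` -/
theorem finrank_eig {g : _root_.Matrix.SpecialLinearGroup (Fin 2) K} {n : ℕ} (hn : (n : k) ≠ 0) (hg : pq g ^ n = 1) :
    ev (Jr F (φ (pq g))) 1 = finrank k (eig (R0 f φ) g 1) + 1 := by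
  have h1 : ev (Jr k (emb hF4 f (φ (pq g)))) 1 = ev (Jr F (φ (pq g))) 1 := by
    have h2 := Chg.ev_J f isJ_rJ isJ_rJ (φ (pq g)) 1
    rw [map_one] at h2
    exact h2
  have hT : (Jr k (emb hF4 f (φ (pq g)))) ^ n = 1 := by
    rw [← map_pow, ← map_pow, ← map_pow, hg, map_one, map_one, map_one]
  have hW : LinearMap.ker (trL k) ≤ (LinearMap.ker (trL k)).comap (Jr k (emb hF4 f (φ (pq g)))) :=
    fun x hx => W0_st f φ g x hx
  have h3 := FixEv.ev_ker hn hT (trL k) trL_ne_zero (fun v => Jr_tr _ v) hW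
  rw [← h1, h3]
  congr 1
  have h4 : (Module.End.eigenspace ((Jr k (emb hF4 f (φ (pq g)))).restrict hW) 1) = eig (R0 f φ) g 1 := by
    ext x
    rw [Module.End.mem_eigenspace_iff, mem_eig]
    rfl
  unfold ev
  rw [h4]

theorem Cfg.eig4 (h : Cfg p a b H φ) (hp2 : p ≠ 2) :
    finrank k (eig (R0 f φ) (g4 K) 1) = 14 ∨ finrank k (eig (R0 f φ) (g4 K) 1) = 10 := by
  have hp : Fact p.Prime := ⟨h.prime⟩
  have := h.charF
  have := h.charK
  have hk : CharP k p := charP_of_injective_ringHom f.injective p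
  have hsq : pq (g4 K) * pq (g4 K) = 1 := by
    rw [← map_mul, g4_sq]
    exact pq_eq_one.2 (Or.inr rfl)
  have h2k : ((2 : ℕ) : k) ≠ 0 := by
    rw [Ne, CharP.cast_eq_zero_iff k p]
    exact fun h1 => hp2 ((Nat.prime_dvd_prime_iff_eq hp.out Nat.prime_two).1 h1)
  have hne : φ (pq (g4 K)) ≠ 1 := fun hh => g4_ne (h.max.inj (by rw [hh, map_one]))
  have h1 := finrank_eig (φ := φ) f (g := g4 K) (n := 2) h2k (by rw [pow_two, hsq])
  rcases (Tor.tab_finite p (isJ_rJ (F := F))).two hp2 _ hne (by rw [← map_mul, hsq, map_one]) with ⟨h2, -⟩ | ⟨h2, -⟩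
  · have h3 : ev (Jr F (φ (pq (g4 K)))) 1 = 15 := h2
    left
    omega
  · have h3 : ev (Jr F (φ (pq (g4 K)))) 1 = 11 := h2
    right
    omega

theorem Cfg.eig3 (h : Cfg p a b H φ) (hp3 : p ≠ 3) :
    finrank k (eig (R0 f φ) (g3 K) 1) = 14 ∨ finrank k (eig (R0 f φ) (g3 K) 1) = 8 := by
  have hp : Fact p.Prime := ⟨h.prime⟩
  have := h.charF
  have := h.charK
  have hk : CharP k p := charP_of_injective_ringHom f.injective p
  have hcu : pq (g3 K) ^ 3 = 1 := by rw [← map_pow, g3_cube, map_one]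
  have hne : φ (pq (g3 K)) ≠ 1 := fun hh => g3_ne (h.max.inj (by rw [hh, map_one]))
  have h3k : ((3 : ℕ) : k) ≠ 0 := by
    rw [Ne, CharP.cast_eq_zero_iff k p]
    exact fun h1 => hp3 ((Nat.prime_dvd_prime_iff_eq hp.out Nat.prime_three).1 h1)
  have h1 := finrank_eig (φ := φ) f (g := g3 K) (n := 3) h3k hcu
  rcases (Tor.tab_finite p (isJ_rJ (F := F))).three hp3 _ hne (by rw [← map_pow, hcu, map_one]) with
    ⟨h2, -⟩ | ⟨h2, -⟩ | ⟨h2, -⟩
  · have h3 : ev (Jr F (φ (pq (g3 K)))) 1 = 15 := h2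
    left
    omega
  · have h3 : ev (Jr F (φ (pq (g3 K)))) 1 = 9 := h2
    right
    omega
  · have h3 : ev (Jr F (φ (pq (g3 K)))) 1 = 9 := h2
    right
    omega

section cf

variable [DecidableEq k] [IsAlgClosed k] [DecidableEq K] (ι : K →+* k) [Fact p.Prime] [CharP k p] [CharP K p]

/-- the multiset of composition factors is that of the multiplicity function -/
theorem ms_cf {V : Type u} [AddCommGroup V] [Module k V] [FiniteDimensional k V]
    (hK : Fintype.card K = p ^ a) (ρ : Representation k (_root_.Matrix.SpecialLinearGroup (Fin 2) K) V) :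
    ms p a (fun b => (cf (Sy.{u, u, v} ι p) ρ).count b) = cf (Sy.{u, u, v} ι p) ρ := by
  ext c
  rw [count_ms]
  split_ifs with hc
  · rfl
  · symm
    rw [Multiset.count_eq_zero]
    intro h
    exact hc (cf_lt.{u, u, v} ι p hK ρ c h)

/-- **the composition patterns, `p ≥ 5`** -/
theorem Cfg.pat5 (h : Cfg p a b H φ) (hp5 : 5 ≤ p) :
    ∃ w ∈ listF4, (w : Multiset (List ℕ)) = (cf (Sy.{u, u, v} ι p) (R0 f φ)).map (tyl p) := by
  rw [← ms_cf (a := a) ι h.cardK (R0 f φ)]
  exact isMult_patF4 (isMult_cf.{u, u, v} ι p h.cardK (R0 f φ)) hp5 (R0_cen f φ) finrank_W0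
    (h.eig4 f (by omega)) (h.eig3 f (by omega))

/-- **the composition patterns, `p = 3`** -/
theorem Cfg.pat3 (h : Cfg p a b H φ) (hp3 : p = 3) :
    ∃ w ∈ listF4_3, (w : Multiset (List ℕ)) = (cf (Sy.{u, u, v} ι p) (R0 f φ)).map (tyl p) := by
  rw [← ms_cf (a := a) ι h.cardK (R0 f φ)]
  exact isMult_patF4_three (isMult_cf.{u, u, v} ι p h.cardK (R0 f φ)) hp3 (R0_cen f φ) finrank_W0
    (h.eig4 f (by omega))

/-- **the composition patterns, `p = 2`** -/
theorem Cfg.pat2 (h : Cfg p a b H φ) (hp2 : p = 2) :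
    ∃ w ∈ listF4_2, (w : Multiset (List ℕ)) = (cf (Sy.{u, u, v} ι p) (R0 f φ)).map (tyl p) := by
  rw [← ms_cf (a := a) ι h.cardK (R0 f φ)]
  exact isMult_patF4_two (isMult_cf.{u, u, v} ι p h.cardK (R0 f φ)) hp2 finrank_W0 (h.eig3 f (by omega))

end cf

end cfg

end Cfsg.Agent.R2.F4M

private theorem dce_d99afedc15b1 : _root_.True := by
  try have : _root_.True := by simp only [_root_.Cfsg.Agent.R2.SL2.g4.eq_1]
  try have : _root_.True := by simp only [_root_.Cfsg.Agent.R2.SL2.g3.eq_1]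
  exact _root_.True.intro
end

-- part: R2/H1/F4/TabOK
section
set_option linter.all false
open scoped Cfsg.Agent.FastGrp

/-!
# S5931: type alpha, the conditions on the table (helper1)
-/

set_option autoImplicit false

namespace Cfsg.Agent.R2.H1.F4

/-- evaluate first -/
private noncomputable def frc {α : Type} (n : ℕ) (f : ℕ → α) : α :=
  Nat.rec (motive := fun _ => α) (f 0) (fun m _ => f (Nat.succ m)) n

private theorem frc_eq {α : Type} (n : ℕ) (f : ℕ → α) : frc n f = f n := by cases n <;> rfl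

/-- one term -/
private noncomputable def tm (A B C x y z c : ℕ) : ℤ :=
  frc (Nat.mul (Nat.mul (A.choose x) (B.choose y)) (C.choose z)) fun v =>
    Bool.rec (Int.negOfNat v) (Int.ofNat v) (Nat.beq (Nat.mod (Nat.add x c) 2) 0)

private theorem tm_eq (A B C x y z c : ℕ) :
    tm A B C x y z c = (-1) ^ (x + c) * (A.choose x : ℤ) * (B.choose y : ℤ) * (C.choose z : ℤ) := by
  unfold tm
  rw [frc_eq]
  have e : ((Nat.mul (Nat.mul (A.choose x) (B.choose y)) (C.choose z) : ℕ) : ℤ) =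
      (A.choose x : ℤ) * (B.choose y : ℤ) * (C.choose z : ℤ) := by
    show ((A.choose x * B.choose y * C.choose z : ℕ) : ℤ) = _
    rw [Nat.cast_mul, Nat.cast_mul]
  rw [mul_assoc, mul_assoc, ← mul_assoc (A.choose x : ℤ), ← e]
  cases h : Nat.beq (Nat.mod (Nat.add x c) 2) 0
  · have h1 : (x + c) % 2 ≠ 0 := Nat.ne_of_beq_eq_false h
    rw [Odd.neg_one_pow (Nat.odd_iff.2 (by omega)), neg_one_mul]
    exact Int.negOfNat_eq
  · have h1 : (x + c) % 2 = 0 := Nat.eq_of_beq_eq_true h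
    rw [Even.neg_one_pow (Nat.even_iff.2 h1), one_mul]
    rfl

/-- the inner sum -/
private noncomputable def inn (A B C a b c x : ℕ) : ℤ :=
  frc (Nat.sub (Nat.add A B) (Nat.add a x)) fun y => frc (Nat.sub c y) fun z =>
    Bool.rec 0 (Bool.rec 0 (Bool.rec 0 (Bool.rec 0 (Bool.rec 0 (tm A B C x y z c) (Nat.ble z C)) (Nat.ble y c)) (Nat.ble y B))
      (Nat.ble (Nat.add a x) (Nat.add A B))) (Nat.beq (Nat.add b z) (Nat.add x C))

private theorem inn_eq (A B C a b c x : ℕ) : (∑ y ∈ Finset.range (B + 1),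
    if y ≤ c ∧ c - y ≤ C ∧ a + x + y = A + B ∧ b + (c - y) = x + C then
      (-1) ^ (x + c) * (A.choose x : ℤ) * (B.choose y : ℤ) * (C.choose (c - y) : ℤ) else 0) = inn A B C a b c x := by
  unfold inn
  rw [frc_eq, frc_eq, tm_eq]
  show _ = (Bool.rec 0 (Bool.rec 0 (Bool.rec 0 (Bool.rec 0 (Bool.rec 0 _ (Nat.ble (c - (A + B - (a + x))) C))
    (Nat.ble (A + B - (a + x)) c)) (Nat.ble (A + B - (a + x)) B)) (Nat.ble (a + x) (A + B)))
    (Nat.beq (b + (c - (A + B - (a + x)))) (x + C)) : ℤ)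
  by_cases h : b + (c - (A + B - (a + x))) = x + C ∧ a + x ≤ A + B ∧ A + B - (a + x) ≤ B ∧ A + B - (a + x) ≤ c ∧
      c - (A + B - (a + x)) ≤ C
  · obtain ⟨h1, h2, h3, h4, h5⟩ := h
    rw [Nat.beq_eq.mpr h1, Nat.ble_eq.mpr h2, Nat.ble_eq.mpr h3, Nat.ble_eq.mpr h4, Nat.ble_eq.mpr h5,
      Finset.sum_eq_single (A + B - (a + x)) (fun y _ hy => if_neg fun h => hy (by omega))
        (fun h => absurd (Finset.mem_range.2 (by omega)) h), if_pos ⟨h4, h5, by omega, h1⟩]
    rfl
  · rw [Finset.sum_eq_zero fun y hy => if_neg fun g => h (by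
      have := Finset.mem_range.1 hy
      omega)]
    cases h1 : Nat.beq (b + (c - (A + B - (a + x)))) (x + C); · rfl
    cases h2 : Nat.ble (a + x) (A + B); · rfl
    cases h3 : Nat.ble (A + B - (a + x)) B; · rfl
    cases h4 : Nat.ble (A + B - (a + x)) c; · rfl
    cases h5 : Nat.ble (c - (A + B - (a + x))) C; · rfl
    exact absurd ⟨Nat.eq_of_beq_eq_true h1, Nat.le_of_ble_eq_true h2, Nat.le_of_ble_eq_true h3, Nat.le_of_ble_eq_true h4,
      Nat.le_of_ble_eq_true h5⟩ h

/-- the table, one sum -/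
private noncomputable def tauF (A B C a b c : ℕ) : ℤ :=
  frc a fun a => frc b fun b => frc c fun c =>
    Nat.rec (motive := fun _ => ℤ) 0 (fun x s => Int.add s (inn A B C a b c x)) (Nat.succ A)

private theorem tau_eq : tau = tauF := by
  funext A B C a b c
  unfold tau tauF
  rw [frc_eq, frc_eq, frc_eq, Finset.sum_congr rfl fun x _ => inn_eq A B C a b c x]
  show _ = Nat.rec (motive := fun _ => ℤ) 0 (fun x s => Int.add s (inn A B C a b c x)) (A + 1)
  generalize A + 1 = n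
  induction n with
  | zero => rfl
  | succ n ih => rw [Finset.sum_range_succ, ih]; rfl

private noncomputable def okF : {f // tauOK = f} := ⟨_, by delta tauOK; rewrite [tau_eq]; exact rfl⟩

private noncomputable def chk (x y z : ℕ) : Bool :=
  frc ((x + y - z) / 2) fun A => frc ((x + z - y) / 2) fun B => frc ((y + z - x) / 2) fun C =>
    Bool.rec false (decide (tauF A B C 0 (A + C) B = (-1) ^ (A + B))) (okF.1 A B C)

theorem sz_ok : ∀ X Y Z : Fin 4, X ≤ Y → Y ≤ Z →
    tauOK ((sz X + sz Y - sz Z) / 2) ((sz X + sz Z - sz Y) / 2) ((sz Y + sz Z - sz X) / 2) = true ∧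
    tau ((sz X + sz Y - sz Z) / 2) ((sz X + sz Z - sz Y) / 2) ((sz Y + sz Z - sz X) / 2) 0
      ((sz X + sz Y - sz Z) / 2 + (sz Y + sz Z - sz X) / 2) ((sz X + sz Z - sz Y) / 2) =
      (-1) ^ ((sz X + sz Y - sz Z) / 2 + (sz X + sz Z - sz Y) / 2) := fun X Y Z h1 h2 => by
  have h := (by decide +kernel : ∀ X Y Z : Fin 4, X ≤ Y → Y ≤ Z → chk (sz X) (sz Y) (sz Z) = true) X Y Z h1 h2
  unfold chk at h
  rw [frc_eq, frc_eq, frc_eq, ← okF.2, ← tau_eq] at h
  generalize tauOK _ _ _ = t at h ⊢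
  cases t
  · exact absurd h Bool.false_ne_true
  · exact ⟨rfl, of_decide_eq_true h⟩

end Cfsg.Agent.R2.H1.F4
end

-- part: R2/H1/F4/AlphaS
section
set_option linter.all false
open scoped Cfsg.Agent.FastGrp

/-!
# S5931: type alpha, from the standard bases to the table (helper1)

`Sys κ ρ x` : four standard bases of lengths 8, 6, 4, 4 spanning the trace-zero part; `exists_alpha` : after a change of the
bases there is a table as in `Alpha`.
-/

set_option autoImplicit false
set_option linter.unusedSectionVars false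

namespace Cfsg.Agent.R2.H1.F4

open Cfsg Cfsg.Lie Module Cfsg.Agent.H952.F4 Cfsg.Agent.H952.F4.Jord
open Cfsg.Agent.ChevalleyStructure.E6Min.Tables Cfsg.Agent.ChevalleyStructure.E6Min.Basic
open Cfsg.Agent.R2.F4N (Str)
open Cfsg.Agent.R2.F4L (Act)
open Cfsg.Agent.H952.F4.FixV (W0 mem_W0 finrank_W0 trL tfL tfL_apply)
open Matrix

universe u v w

section lin

variable {k : Type u} [Field k]

/-- the trace form with a trivial argument -/
noncomputable def N1 (k : Type u) [Field k] : (I27 → k) →ₗ[k] (I27 → k) →ₗ[k] (I27 → k) →ₗ[k] k :=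
  LinearMap.mk₂ k (fun x y => tr1 y • tfL k x)
    (fun x x' y => by rw [map_add, smul_add]) (fun c x y => by rw [map_smul, smul_comm])
    (fun x y y' => by rw [tr1_add, add_smul]) (fun c x y => by rw [tr1_smul, smul_smul])

theorem N1_apply (x y z : I27 → k) : N1 k x y z = tr1 y * tf x z := rfl

/-- the cubic form -/
noncomputable def N3 (k : Type u) [Field k] : (I27 → k) →ₗ[k] (I27 → k) →ₗ[k] (I27 → k) →ₗ[k] k :=
  LinearMap.mk₂ k (fun x y => tfL k (st x y))
    (fun x x' y => by rw [st_add_left, map_add]) (fun c x y => by rw [st_smul_left, map_smul])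
    (fun x y y' => by rw [st_add_right, map_add]) (fun c x y => by rw [st_smul_right, map_smul])

theorem N3_apply (x y z : I27 → k) : N3 k x y z = tf (st x y) z := rfl

end lin

section str

variable {k : Type u} [Field k] {K : Type w} [Field K] {κ : K →+* k}
variable {ρ : Representation k (SpecialLinearGroup (Fin 2) K) (I27 → k)}

theorem N1_inv (H : Act ρ) (g : SpecialLinearGroup (Fin 2) K) (x y z : I27 → k) :
    N1 k (ρ g x) (ρ g y) (ρ g z) = N1 k x y z := by
  rw [N1_apply, N1_apply, H.tr, H.tf]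

theorem st_inv (H : Act ρ) (g : SpecialLinearGroup (Fin 2) K) (x y : I27 → k) :
    st (ρ g x) (ρ g y) = ρ g (st x y) := by
  unfold st
  rw [map_add, map_smul, H.cr, H.tf, H.u0]

theorem N3_inv (H : Act ρ) (g : SpecialLinearGroup (Fin 2) K) (x y z : I27 → k) :
    N3 k (ρ g x) (ρ g y) (ρ g z) = N3 k x y z := by
  rw [N3_apply, N3_apply, st_inv H, H.tf]

theorem str_u0 (H : Act ρ) : Str κ ρ 0 (fun _ => u0 k) where
  u := fun s hs t => by
    rw [H.u0, Nat.le_zero.1 hs]
    simp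
  h := fun s hs a => by
    rw [H.u0, Nat.le_zero.1 hs]
    simp
  w := fun s hs => by
    rw [H.u0, Nat.le_zero.1 hs]
    simp

variable [Fintype K] {p : ℕ} [Fact p.Prime] [CharP k p] (hpK : p ≤ Fintype.card K)

include hpK

theorem tf_str (H : Act ρ) (h3 : (3 : k) ≠ 0) {i l : ℕ} {x z : ℕ → (I27 → k)} (hx : Str κ ρ i x) (hz : Str κ ρ l z)
    (hi : i < p) (hl : l < p) {m c : ℕ} (hm : m < p) (hc : c ≤ l) :
    (i.choose m : k) * tf (x m) (z c) = (-1) ^ m * ((l - c).choose m : k) * tf (x 0) (z (c + m)) := by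
  have h1 := R2.F4N.eq_one (N1_inv H) hx (str_u0 (κ := κ) H) hz hpK hi hl hc m hm
  rw [N1_apply, N1_apply, tr1_u0] at h1
  refine mul_left_cancel₀ h3 ?_
  linear_combination h1

theorem tf_str_zero (H : Act ρ) (h3 : (3 : k) ≠ 0) {i l : ℕ} {x z : ℕ → (I27 → k)} (hx : Str κ ρ i x) (hz : Str κ ρ l z)
    (hi : i < p) (hl : l < p) {c : ℕ} (hc : c ≤ l) (h : i ≠ l ∨ c ≠ l) : tf (x 0) (z c) = 0 := by
  have hp : p.Prime := Fact.out
  rcases Nat.lt_or_ge c l with h1 | h1
  · have h2 := R2.F4N.bot_zero (N1_inv H) hx (str_u0 (κ := κ) H) hz hpK hp.pos hl hc (by omega)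
    rw [N1_apply, tr1_u0] at h2
    exact (mul_eq_zero.1 h2).resolve_left h3
  · have h1' : c = l := by omega
    subst h1'
    have h2 : i ≠ c := by rcases h with h | h <;> omega
    rcases Nat.lt_or_ge i c with h4 | h4
    · have h5 := R2.F4N.top_zero (N1_inv H) hx (str_u0 (κ := κ) H) hz hpK hi hl hc h4
      rw [N1_apply, tr1_u0] at h5
      exact (mul_eq_zero.1 h5).resolve_left h3
    · have h5 := tf_str hpK H h3 hz hx hl hi (m := c) (c := 0) (by omega) (Nat.zero_le i)
      have h6 := R2.F4N.bot_zero (N1_inv H) hz (str_u0 (κ := κ) H) hx hpK hp.pos hi (c := c) (by omega) (by omega)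
      rw [N1_apply, tr1_u0] at h6
      rw [Nat.choose_self, Nat.cast_one, one_mul, zero_add, (mul_eq_zero.1 h6).resolve_left h3, mul_zero, tf_comm] at h5
      exact h5

theorem tf_str_val (H : Act ρ) (h3 : (3 : k) ≠ 0) {i l : ℕ} {x z : ℕ → (I27 → k)} (hx : Str κ ρ i x) (hz : Str κ ρ l z)
    (hi : i < p) (hl : l < p) {a c : ℕ} (ha : a ≤ i) (hc : c ≤ l) :
    (i.choose a : k) * tf (x a) (z c) = if i = l ∧ a + c = l then (-1) ^ a * tf (x 0) (z l) else 0 := by
  rw [tf_str hpK H h3 hx hz hi hl (by omega) hc]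
  split_ifs with h
  · obtain ⟨h1, h2⟩ := h
    have e1 : l - c = a := by omega
    have e2 : c + a = l := by omega
    rw [e1, e2, Nat.choose_self, Nat.cast_one, mul_one]
  · rcases Nat.lt_or_ge (l - c) a with h1 | h1
    · rw [Nat.choose_eq_zero_of_lt h1, Nat.cast_zero, mul_zero, zero_mul]
    · rw [tf_str_zero hpK H h3 hx hz hi hl (c := c + a) (by omega) (by omega), mul_zero]

end str

/-- four standard bases spanning the trace-zero part -/
structure Sys {k : Type u} [Field k] {K : Type w} [Field K] (κ : K →+* k)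
    (ρ : Representation k (SpecialLinearGroup (Fin 2) K) (I27 → k)) (x : Fin 4 → ℕ → (I27 → k)) : Prop where
  str : ∀ X, Str κ ρ (sz X) (x X)
  tr : ∀ X, ∀ a ≤ sz X, tr1 (x X a) = 0
  span : ∀ v : I27 → k, tr1 v = 0 → v ∈ Submodule.span k {w | ∃ X a, a ≤ sz X ∧ w = x X a}

section sys

variable {k : Type u} [Field k] {K : Type w} [Field K] {κ : K →+* k}
variable {ρ : Representation k (SpecialLinearGroup (Fin 2) K) (I27 → k)} {x : Fin 4 → ℕ → (I27 → k)}

theorem str_smul {n : ℕ} {v : ℕ → (I27 → k)} (h : Str κ ρ n v) (c : k) : Str κ ρ n (fun a => c • v a) where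
  u := fun s hs t => by
    rw [map_smul, h.u s hs, Finset.smul_sum]
    refine Finset.sum_congr rfl fun j _ => ?_
    rw [smul_comm]
  h := fun s hs a => by rw [map_smul, h.h s hs, smul_comm]
  w := fun s hs => by rw [map_smul, h.w s hs, smul_comm]

theorem str_add {n : ℕ} {v v' : ℕ → (I27 → k)} (h : Str κ ρ n v) (h' : Str κ ρ n v') :
    Str κ ρ n (fun a => v a + v' a) where
  u := fun s hs t => by
    rw [map_add, h.u s hs, h'.u s hs, ← Finset.sum_add_distrib]
    refine Finset.sum_congr rfl fun j _ => ?_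
    rw [smul_add]
  h := fun s hs a => by rw [map_add, h.h s hs, h'.h s hs, smul_add]
  w := fun s hs => by rw [map_add, h.w s hs, h'.w s hs, smul_add]

theorem sz_le (X : Fin 4) : sz X ≤ 8 := by fin_cases X <;> decide

theorem sz_tri (X Y Z : Fin 4) (h : X ≤ Y) (h' : Y ≤ Z) :
    (sz X + sz Y - sz Z) / 2 + (sz X + sz Z - sz Y) / 2 = sz X ∧ (sz X + sz Y - sz Z) / 2 + (sz Y + sz Z - sz X) / 2 = sz Y ∧
      (sz X + sz Z - sz Y) / 2 + (sz Y + sz Z - sz X) / 2 = sz Z ∧ sz Z ≤ sz Y ∧ sz Y ≤ sz X ∧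
      2 * ((sz X + sz Y - sz Z) / 2 + (sz X + sz Z - sz Y) / 2 + (sz Y + sz Z - sz X) / 2) = sz X + sz Y + sz Z := by
  revert X Y Z
  decide +kernel

theorem sz_half (X Y : Fin 4) : X ≠ Y → sz X = sz Y → (X = 2 ∧ Y = 3) ∨ (X = 3 ∧ Y = 2) := by
  revert X Y
  decide

variable [Fintype K] {p : ℕ} [Fact p.Prime] [CharP k p]

/-- the table of an orthonormal system -/
theorem Sys.alpha (S : Sys κ ρ x) (H : Act ρ) (hp : 11 ≤ p) (hpK : p ≤ Fintype.card K)
    (one : ∀ X, tf (x X 0) (x X (sz X)) = 1) (orth : tf (x 2 0) (x 3 4) = 0) :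
    ∃ κ₀ : Fin 4 → Fin 4 → Fin 4 → k, Alpha (fun X a => ((sz X).choose a : k) • x X a) κ₀ := by
  have h3 : (3 : k) ≠ 0 := by
    have h1 : ((3 : ℕ) : k) ≠ 0 := by
      intro h
      rw [CharP.cast_eq_zero_iff k p] at h
      have := Nat.le_of_dvd (by norm_num) h
      omega
    exact_mod_cast h1
  have hszp : ∀ X, sz X < p := fun X => by have := sz_le X; omega
  have tri : ∀ X Y Z : Fin 4, ∃ c : k, X ≤ Y → Y ≤ Z → ∀ a b c', ((sz X).choose a : k) * (((sz Y).choose b : k) *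
      (((sz Z).choose c' : k) * tf (st (x X a) (x Y b)) (x Z c'))) = c * (t3 (X, a) (Y, b) (Z, c') : k) := by
    intro X Y Z
    by_cases hXY : X ≤ Y ∧ Y ≤ Z
    swap
    · exact ⟨0, fun h1 h2 => absurd ⟨h1, h2⟩ hXY⟩
    obtain ⟨e1, e2, e3, e4, e5, e6⟩ := sz_tri X Y Z hXY.1 hXY.2
    obtain ⟨o1, o2⟩ := sz_ok X Y Z hXY.1 hXY.2
    have l1 := sz_le X
    have l2 := sz_le Y
    have l3 := sz_le Z
    have hX := S.str X
    have hY := S.str Y
    have hZ := S.str Z
    rw [← e1] at hX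
    rw [← e2] at hY
    rw [← e3] at hZ
    have hpp : p.Prime := Fact.out
    obtain ⟨c, hc⟩ := str_tab_of (p := p) (N3_inv H) hX hY hZ (by omega) (by omega) (by omega) (by omega) (fun a b c ha hb hc h => by
      have h1 := R2.F4N.exact (N3_inv H) (S.str Y) (S.str Z) (S.str X) hpK (hszp Y) (hszp Z) (hszp X)
        (s := (sz X + sz Y - sz Z) / 2 + (sz X + sz Z - sz Y) / 2 + (sz Y + sz Z - sz X) / 2) (by omega) (by omega)
        (m := b) (b := c) (c := a) (by omega) (by omega) (by omega) (by omega)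
      rw [N3_apply] at h1 ⊢
      rw [tf_st_rot (S.tr X a (by omega)) (S.tr Z c (by omega)), tf_comm, h1]) o1 o2 (fun n h0 h1 h2 => by
      have h3 := (CharP.cast_eq_zero_iff k p n).1 h2
      have h4 := Nat.le_of_dvd h0 h3
      omega)
    refine ⟨c, fun _ _ a b c' => ?_⟩
    have h1 := hc a b c'
    rw [N3_apply] at h1
    rw [e1, e2, e3] at h1
    exact h1
  choose κ₀ hκ using tri
  refine ⟨κ₀, ⟨?_, ?_, ?_, ?_⟩⟩
  · intro X a
    rw [tr1_smul]
    rcases Nat.lt_or_ge (sz X) a with h | h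
    · rw [Nat.choose_eq_zero_of_lt h, Nat.cast_zero, zero_mul]
    · rw [S.tr X a h, mul_zero]
  · rintro ⟨X, a⟩ ⟨Y, c⟩ ha hc
    simp only at ha hc ⊢
    rw [tf_smul_left, tf_smul_right]
    have h1 := tf_str_val hpK H h3 (S.str X) (S.str Y) (hszp X) (hszp Y) ha hc
    have h2 : ((sz X).choose a : k) * (((sz Y).choose c : k) * tf (x X a) (x Y c)) =
        ((sz Y).choose c : k) * (((sz X).choose a : k) * tf (x X a) (x Y c)) := by ring
    rw [h2, h1]
    unfold tI
    simp only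
    by_cases hXY : X = Y
    · subst hXY
      rw [one X]
      by_cases hac : a + c = sz X
      · rw [if_pos ⟨rfl, hac⟩, if_pos ⟨rfl, hac⟩]
        have h3 : (sz X).choose c = (sz X).choose a := by
          rw [← hac]
          exact Nat.choose_symm_of_eq_add (by omega)
        rw [h3]
        push_cast
        ring
      · rw [if_neg (fun h => hac h.2), if_neg (fun h => hac h.2)]
        simp
    · rw [if_neg (fun h : X = Y ∧ _ => hXY h.1)]
      by_cases hs : sz X = sz Y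
      · have h4 : tf (x X 0) (x Y (sz Y)) = 0 := by
          rcases sz_half X Y hXY hs with ⟨rfl, rfl⟩ | ⟨rfl, rfl⟩
          · exact orth
          · have h5 := tf_str_val hpK H h3 (S.str 2) (S.str 3) (hszp 2) (hszp 3) (a := 4) (c := 0) (by decide) (by decide)
            rw [if_pos ⟨by decide, by decide⟩] at h5
            have h6 : (sz 2).choose 4 = 1 := by decide
            have h7 : sz 3 = 4 := by decide
            have h8 : sz 2 = 4 := by decide
            rw [h6, Nat.cast_one, one_mul, h7, orth, mul_zero] at h5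
            rw [h8, tf_comm]
            exact h5
        rw [h4]
        simp
      · rw [if_neg (fun h => hs h.1)]
        simp
  · intro v hv
    have h1 := S.span v hv
    refine Submodule.span_le.2 ?_ h1
    rintro w ⟨X, a, ha, rfl⟩
    have hne : ((sz X).choose a : k) ≠ 0 := R2.F4N.choose_ne (p := p) (hszp X) ha
    have h2 : x X a = ((sz X).choose a : k)⁻¹ • (((sz X).choose a : k) • x X a) := by
      rw [smul_smul, inv_mul_cancel₀ hne, one_smul]
    rw [h2]
    exact Submodule.smul_mem _ _ (Submodule.subset_span ⟨X, a, ha, rfl⟩)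
  · rintro ⟨X, a⟩ ⟨Y, b⟩ ⟨Z, c⟩ hXY hYZ _ _ _
    simp only at hXY hYZ ⊢
    rw [st_smul_left, st_smul_right, tf_smul_left, tf_smul_left, tf_smul_right]
    rw [← hκ X Y Z hXY hYZ a b c]

end sys

end Cfsg.Agent.R2.H1.F4
end

-- part: R2/H1/F4/StrIrr
section
set_option linter.all false
open scoped Cfsg.Agent.FastGrp

/-!
# S5931: strings and stable subspaces (helper1)

* `Str.mem_of` : a stable subspace containing a nonzero combination of a string contains the string;
* `tf_diff` : strings of different lengths are orthogonal (also for different embeddings of `K`).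
-/

set_option autoImplicit false
set_option linter.unusedSectionVars false

namespace Cfsg.Agent.R2.H1.F4

open Cfsg Cfsg.Lie Module Cfsg.Agent.H952.F4 Cfsg.Agent.H952.F4.Jord
open Cfsg.Agent.ChevalleyStructure.E6Min.Tables Cfsg.Agent.ChevalleyStructure.E6Min.Basic
open Cfsg.Agent.R2.F4N (Str)
open Cfsg.Agent.R2.F4L (Act)
open Cfsg.Agent.H952.F4.FixV (tfL tfL_apply)
open Matrix Finset

universe u v w

section gen

variable {k : Type u} [Field k] {K : Type w} [Field K] [Fintype K] {κ : K →+* k} {W : Type v} [AddCommGroup W] [Module k W]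
variable {ρ : Representation k (SpecialLinearGroup (Fin 2) K) W}

/-- coefficients of polynomials with values in a subspace -/
theorem coef_mem (κ : K →+* k) {S : Submodule k W} {d : ℕ} (hd : d ≤ Fintype.card K) {c : ℕ → W}
    (h : ∀ t : K, ∑ j ∈ range d, κ t ^ j • c j ∈ S) : ∀ j < d, c j ∈ S := by
  intro j hj
  by_contra hne
  obtain ⟨l, hl, hl'⟩ := Submodule.exists_le_ker_of_notMem hne
  have h1 := R2.F4N.coef_zero κ hd (c := fun i => l (c i)) (fun t => by
    have h2 := hl' (h t)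
    rw [LinearMap.mem_ker, map_sum] at h2
    rw [← h2]
    refine sum_congr rfl fun i _ => ?_
    rw [map_smul, smul_eq_mul, mul_comm]) j hj
  exact hl h1

theorem str_top_mem {n : ℕ} {x : ℕ → W} (hx : Str κ ρ n x) (hn : n < Fintype.card K) {S : Submodule k W}
    (hS : ∀ g, ∀ v ∈ S, ρ g v ∈ S) {c : ℕ → k} (hv : ∑ a ∈ range (n + 1), c a • x a ∈ S) {a₀ : ℕ} (ha : a₀ ≤ n)
    (hc : c a₀ ≠ 0) : x n ∈ S := by
  classical
  -- the least index with a nonzero coefficient
  have hex : ∃ m, m ≤ n ∧ c m ≠ 0 := ⟨a₀, ha, hc⟩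
  obtain ⟨hm, hcm⟩ := Nat.find_spec hex
  set m := Nat.find hex
  have hmin : ∀ i < m, c i = 0 := fun i hi => by
    by_contra h
    exact Nat.find_min hex hi ⟨by omega, h⟩
  have h1 := coef_mem κ (S := S) (d := n + 1) (by omega) (c := fun j => ∑ a ∈ range (n + 1),
      (c a * ((n - a).choose j : k)) • x (a + j)) (fun t => by
    have h2 := hS (Cfsg.Agent.H943.SL2Rel.u t) _ hv
    rw [map_sum] at h2
    convert h2 using 1
    have h3 : ∀ a ∈ range (n + 1), ρ (Cfsg.Agent.H943.SL2Rel.u t) (c a • x a) =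
        ∑ j ∈ range (n + 1), κ t ^ j • ((c a * ((n - a).choose j : k)) • x (a + j)) := by
      intro a ha
      rw [mem_range] at ha
      rw [map_smul, hx.u' (d := n + 1) (by omega) (by omega), smul_sum]
      refine sum_congr rfl fun j _ => ?_
      rw [smul_smul, smul_smul]
      congr 1
      ring
    rw [sum_congr rfl h3, sum_comm]
    refine sum_congr rfl fun j _ => ?_
    rw [smul_sum]) (n - m) (by omega)
  have h4 : (∑ a ∈ range (n + 1), (c a * ((n - a).choose (n - m) : k)) • x (a + (n - m))) = c m • x n := by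
    rw [sum_eq_single m]
    · rw [Nat.choose_self, Nat.cast_one, mul_one, Nat.add_sub_of_le hm]
    · intro a ha hne
      rw [mem_range] at ha
      rcases Nat.lt_or_ge a m with h | h
      · rw [hmin a h, zero_mul, zero_smul]
      · rw [Nat.choose_eq_zero_of_lt (by omega), Nat.cast_zero, mul_zero, zero_smul]
    · intro h
      exact absurd (mem_range.2 (by omega)) h
  rw [h4] at h1
  have h5 := S.smul_mem (c m)⁻¹ h1
  rwa [smul_smul, inv_mul_cancel₀ hcm, one_smul] at h5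

theorem str_all_mem {p : ℕ} [Fact p.Prime] [CharP k p] (hpK : p ≤ Fintype.card K) {n : ℕ} {x : ℕ → W} (hx : Str κ ρ n x)
    (hn : n < p) {S : Submodule k W} (hS : ∀ g, ∀ v ∈ S, ρ g v ∈ S) (h : x n ∈ S) : ∀ a ≤ n, x a ∈ S := by
  have h0 : x 0 ∈ S := by
    have h1 := hS (Cfsg.Agent.H943.SL2Rel.w) _ h
    rw [hx.w n le_rfl, Nat.sub_self] at h1
    have h2 := S.smul_mem ((-1 : k) ^ n) h1
    rwa [smul_smul, ← mul_pow, neg_one_mul, neg_neg, one_pow, one_smul] at h2
  intro a ha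
  have h1 := coef_mem κ (S := S) (d := n + 1) (by omega) (c := fun j => (n.choose j : k) • x j) (fun t => by
    have h2 := hS (Cfsg.Agent.H943.SL2Rel.u t) _ h0
    rw [hx.u' (d := n + 1) (by omega) (Nat.zero_le n)] at h2
    convert h2 using 1
    refine sum_congr rfl fun j _ => ?_
    rw [Nat.sub_zero, zero_add, smul_smul, mul_comm]) a (by omega)
  have hne : (n.choose a : k) ≠ 0 := R2.F4N.choose_ne (p := p) hn ha
  have h5 := S.smul_mem (n.choose a : k)⁻¹ h1
  rwa [smul_smul, inv_mul_cancel₀ hne, one_smul] at h5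

/-- **irreducibility** -/
theorem str_mem_of {p : ℕ} [Fact p.Prime] [CharP k p] (hpK : p ≤ Fintype.card K) {n : ℕ} {x : ℕ → W} (hx : Str κ ρ n x)
    (hn : n < p) {S : Submodule k W} (hS : ∀ g, ∀ v ∈ S, ρ g v ∈ S) {v : W} (hv : v ∈ S) (hv0 : v ≠ 0)
    (hvx : v ∈ Submodule.span k {w | ∃ a, a ≤ n ∧ w = x a}) : ∀ a ≤ n, x a ∈ S := by
  have h1 : ∃ c : ℕ → k, v = ∑ a ∈ range (n + 1), c a • x a := by
    clear hv hv0
    induction hvx using Submodule.span_induction with
    | mem w hw =>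
      obtain ⟨b, hb, rfl⟩ := hw
      refine ⟨fun a => if a = b then 1 else 0, ?_⟩
      rw [sum_eq_single b]
      · simp only [if_true, one_smul]
      · intro a _ hne
        simp only [if_neg hne, zero_smul]
      · intro h
        exact absurd (mem_range.2 (by omega)) h
    | zero => exact ⟨fun _ => 0, by simp⟩
    | add w w' _ _ ih ih' =>
      obtain ⟨c, hc⟩ := ih
      obtain ⟨c', hc'⟩ := ih'
      refine ⟨fun a => c a + c' a, ?_⟩
      rw [hc, hc', ← sum_add_distrib]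
      exact sum_congr rfl fun a _ => (add_smul _ _ _).symm
    | smul r w _ ih =>
      obtain ⟨c, hc⟩ := ih
      refine ⟨fun a => r * c a, ?_⟩
      rw [hc, smul_sum]
      exact sum_congr rfl fun a _ => smul_smul _ _ _
  obtain ⟨c, rfl⟩ := h1
  have h2 : ∃ a₀ ≤ n, c a₀ ≠ 0 := by
    by_contra h
    push Not at h
    apply hv0
    exact sum_eq_zero fun a ha => by rw [h a (by rw [mem_range] at ha; omega), zero_smul]
  obtain ⟨a₀, ha₀, hc₀⟩ := h2
  exact str_all_mem hpK hx hn hS (str_top_mem hx (by omega) hS hv ha₀ hc₀)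

/-- the span of a string is stable -/
theorem str_stable {n : ℕ} {x : ℕ → W} (hx : Str κ ρ n x) (g : SpecialLinearGroup (Fin 2) K) :
    ∀ v ∈ Submodule.span k {w | ∃ a, a ≤ n ∧ w = x a}, ρ g v ∈ Submodule.span k {w | ∃ a, a ≤ n ∧ w = x a} := by
  classical
  have key : ∀ g, (∀ a ≤ n, ρ g (x a) ∈ Submodule.span k {w | ∃ a, a ≤ n ∧ w = x a}) →
      ∀ v ∈ Submodule.span k {w | ∃ a, a ≤ n ∧ w = x a}, ρ g v ∈ Submodule.span k {w | ∃ a, a ≤ n ∧ w = x a} := by
    intro g h v hv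
    have h1 : Submodule.span k {w | ∃ a, a ≤ n ∧ w = x a} ≤
        (Submodule.span k {w | ∃ a, a ≤ n ∧ w = x a}).comap (ρ g) := by
      rw [Submodule.span_le]
      rintro w ⟨a, ha, rfl⟩
      exact h a ha
    exact h1 hv
  refine Cfsg.Agent.H943.SL2Rel.induct (P := fun g => ∀ v ∈ Submodule.span k {w | ∃ a, a ≤ n ∧ w = x a},
    ρ g v ∈ Submodule.span k {w | ∃ a, a ≤ n ∧ w = x a}) ?_ ?_ ?_ ?_ g
  · intro t
    refine key _ fun a ha => ?_
    rw [hx.u a ha]
    refine Submodule.sum_mem _ fun j hj => Submodule.smul_mem _ _ (Submodule.subset_span ⟨a + j, ?_, rfl⟩)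
    rw [mem_range] at hj
    omega
  · intro t
    refine key _ fun a ha => ?_
    rw [hx.h a ha]
    exact Submodule.smul_mem _ _ (Submodule.subset_span ⟨a, ha, rfl⟩)
  · refine key _ fun a ha => ?_
    rw [hx.w a ha]
    exact Submodule.smul_mem _ _ (Submodule.subset_span ⟨n - a, by omega, rfl⟩)
  · intro g g' h h' v hv
    rw [map_mul, Module.End.mul_apply]
    exact h _ (h' _ hv)

end gen

section tf

variable {k : Type u} [Field k] {K : Type w} [Field K] [Fintype K] {κ κ' : K →+* k}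
variable {ρ : Representation k (SpecialLinearGroup (Fin 2) K) (I27 → k)}
variable {p : ℕ} [Fact p.Prime] [CharP k p] (hpK : p ≤ Fintype.card K)

include hpK

theorem tf_lt (H : Act ρ) {n m : ℕ} {x z : ℕ → (I27 → k)} (hx : Str κ ρ n x) (hz : Str κ' ρ m z) (hn : n < p)
    (hnm : m < n) : ∀ a ≤ n, ∀ c ≤ m, tf (x a) (z c) = 0 := by
  classical
  let S : Submodule k (I27 → k) :=
    { carrier := {v | ∀ w ∈ Submodule.span k {w | ∃ a, a ≤ m ∧ w = z a}, tf v w = 0}
      add_mem' := fun {v v'} h h' w hw => by rw [tf_add_left, h w hw, h' w hw, add_zero]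
      zero_mem' := fun w _ => by
        have := tf_smul_left (0 : k) (0 : I27 → k) w
        rwa [zero_smul, zero_mul] at this
      smul_mem' := fun c v h w hw => by rw [tf_smul_left, h w hw, mul_zero] }
  have hS : ∀ g, ∀ v ∈ S, ρ g v ∈ S := by
    intro g v hv w hw
    have h1 : w = ρ g (ρ g⁻¹ w) := by
      rw [← Module.End.mul_apply, ← map_mul, mul_inv_cancel, map_one, Module.End.one_apply]
    rw [h1, H.tf]
    exact hv _ (str_stable hz g⁻¹ w hw)
  -- a nonzero combination in `S`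
  have hex : ∃ c : Fin (n + 1) → k, c ≠ 0 ∧ ∀ j : Fin (m + 1), ∑ i : Fin (n + 1), c i * tf (x i) (z j) = 0 := by
    let L : (Fin (n + 1) → k) →ₗ[k] (Fin (m + 1) → k) :=
      { toFun := fun c j => ∑ i : Fin (n + 1), c i * tf (x i) (z j)
        map_add' := fun c c' => by
          funext j
          simp only [Pi.add_apply, add_mul, sum_add_distrib]
        map_smul' := fun r c => by
          funext j
          simp only [Pi.smul_apply, smul_eq_mul, RingHom.id_apply, mul_sum, mul_assoc] }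
    have h1 : LinearMap.ker L ≠ ⊥ := LinearMap.ker_ne_bot_of_finrank_lt (by
      rw [Module.finrank_fin_fun, Module.finrank_fin_fun]
      omega)
    obtain ⟨c, hc, hc0⟩ := Submodule.exists_mem_ne_zero_of_ne_bot h1
    exact ⟨c, hc0, fun j => congrFun (LinearMap.mem_ker.1 hc) j⟩
  obtain ⟨c, hc0, hc⟩ := hex
  obtain ⟨i₀, hi₀⟩ : ∃ i, c i ≠ 0 := by
    by_contra h
    push Not at h
    exact hc0 (funext h)
  have htop : x n ∈ S := by
    refine str_top_mem hx (by omega) hS (c := fun a => if h : a < n + 1 then c ⟨a, h⟩ else 0) ?_ (a₀ := i₀.1)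
      (by have := i₀.2; omega) (by rw [dif_pos i₀.2]; exact hi₀)
    have h1 : ∑ a ∈ range (n + 1), (if h : a < n + 1 then c ⟨a, h⟩ else 0) • x a = ∑ i : Fin (n + 1), c i • x i := by
      rw [sum_range]
      refine sum_congr rfl fun i _ => ?_
      rw [dif_pos i.2]
    rw [h1]
    intro w hw
    induction hw using Submodule.span_induction with
    | mem w hw =>
      obtain ⟨j, hj, rfl⟩ := hw
      have h2 := hc ⟨j, by omega⟩
      rw [← tfL_apply, map_sum, LinearMap.sum_apply, ← h2]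
      refine sum_congr rfl fun i _ => ?_
      rw [tfL_apply, tf_smul_left]
    | zero =>
      rw [← tfL_apply, map_zero]
    | add w w' _ _ ih ih' => rw [tf_add_right, ih, ih', add_zero]
    | smul r w _ ih => rw [tf_smul_right, ih, mul_zero]
  intro a ha c' hc'
  exact str_all_mem hpK hx hn hS htop a ha (z c') (Submodule.subset_span ⟨c', hc', rfl⟩)

/-- **strings of different lengths are orthogonal** -/
theorem tf_diff (H : Act ρ) {n m : ℕ} {x z : ℕ → (I27 → k)} (hx : Str κ ρ n x) (hz : Str κ' ρ m z) (hn : n < p)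
    (hm : m < p) (hnm : n ≠ m) : ∀ a ≤ n, ∀ c ≤ m, tf (x a) (z c) = 0 := by
  rcases Nat.lt_or_gt_of_ne hnm with h | h
  · intro a ha c hc
    rw [tf_comm]
    exact tf_lt hpK H hz hx hm h c hc a ha
  · exact tf_lt hpK H hx hz hn h

end tf

end Cfsg.Agent.R2.H1.F4
end

-- part: R2/H1/F4/Grade
section
set_option linter.all false
open scoped Cfsg.Agent.FastGrp

/-!
# S5931: no gradings (helper1)

* `Fr f s` : `s` is a field endomorphism of `k` with fixed field `F`; `exists_fr`;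
* `no_grade` : there is no `Z/2`-grading of the Albert algebra over `k` stable under `L` and under `s`.
-/

set_option autoImplicit false
set_option linter.unusedSectionVars false

namespace Cfsg.Agent.R2.H1.F4

open Cfsg Cfsg.Lie Module Matrix
open Cfsg.Agent.ChevalleyStructure.E6Min.Tables Cfsg.Agent.ChevalleyStructure.E6Min.Basic
open Cfsg.Agent.H952.F4 Cfsg.Agent.H952.F4.Jord
open Cfsg.Agent.H952.F4.FixV (W0 mem_W0 finrank_W0 u0_ne_zero trL trL_apply trL_ne_zero tr1_sub tf_sub_right)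
open Cfsg.Agent.R2.F4M (Jr Rk Cfg)
open Cfsg.Agent.R2.H9.E6 (pq pq_surjective)
open Cfsg.Agent.R2.F4L (Act)

universe u v w

section fr

variable {F : Type u} [Field F] {k : Type v} [Field k]

/-- `s` is an endomorphism of `k` with fixed field `F` -/
structure Fr (f : F →+* k) (s : k →+* k) : Prop where
  fix : ∀ a, s (f a) = f a
  ex : ∀ c, s c = c → ∃ a, f a = c

theorem exists_fr [Fintype F] (f : F →+* k) : ∃ s : k →+* k, Fr f s ∧ ∀ c, s c = c ^ Fintype.card F := by
  obtain ⟨p, hp⟩ := CharP.exists F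
  obtain ⟨n, hpp, hn⟩ := FiniteField.card F p
  have hfp : Fact p.Prime := ⟨hpp⟩
  have hck : CharP k p := (f.charP_iff f.injective p).1 hp
  refine ⟨iterateFrobenius k p n, ⟨fun a => ?_, fun c hc => ?_⟩, fun c => ?_⟩
  · rw [iterateFrobenius_def, ← hn, ← map_pow, FiniteField.pow_card]
  · rw [iterateFrobenius_def, ← hn] at hc
    classical
    have h1 := FiniteField.roots_X_pow_card_sub_X F
    have h2 : (Polynomial.X ^ Fintype.card F - Polynomial.X : Polynomial F) =
        (Multiset.map (fun a => Polynomial.X - Polynomial.C a) (Finset.univ.val : Multiset F)).prod := by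
      rw [← h1]
      have h3 : (Polynomial.X ^ Fintype.card F - Polynomial.X : Polynomial F).Monic :=
        Polynomial.monic_X_pow_sub (by
          rw [Polynomial.degree_X]
          exact_mod_cast Fintype.one_lt_card)
      refine (Polynomial.prod_multiset_X_sub_C_of_monic_of_roots_card_eq h3 ?_).symm
      rw [h1, FiniteField.X_pow_card_sub_X_natDegree_eq F Fintype.one_lt_card]
      rfl
    have h4 := congrArg (Polynomial.eval₂ f c) h2
    rw [Polynomial.eval₂_sub, Polynomial.eval₂_pow, Polynomial.eval₂_X, hc, sub_self] at h4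
    have h5 : Polynomial.eval₂ f c (Multiset.map (fun a => Polynomial.X - Polynomial.C a)
        (Finset.univ.val : Multiset F)).prod = ∏ a : F, (c - f a) := by
      rw [← Polynomial.coe_eval₂RingHom, map_multiset_prod, Multiset.map_map]
      simp only [Finset.prod]
      congr 1
      refine Multiset.map_congr rfl fun a _ => ?_
      simp
    rw [h5] at h4
    obtain ⟨a, _, ha⟩ := Finset.prod_eq_zero_iff.1 h4.symm
    exact ⟨a, (sub_eq_zero.1 ha).symm⟩
  · rw [iterateFrobenius_def, ← hn]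

end fr

section sv

variable {k : Type v} [Field k] (s : k →+* k)

/-- the semilinear map -/
def sv (x : I27 → k) : I27 → k := fun i => s (x i)

theorem sv_add (x y : I27 → k) : sv s (x + y) = sv s x + sv s y := funext fun _ => map_add s _ _

theorem sv_smul (c : k) (x : I27 → k) : sv s (c • x) = s c • sv s x := funext fun _ => map_mul s _ _

theorem sv_u0 : sv s (u0 k) = u0 k := F4P.u0_map s

theorem sv_tr (x : I27 → k) : tr1 (sv s x) = s (tr1 x) := F4P.tr1_map s x

theorem sv_cr (x y : I27 → k) : cr (sv s x) (sv s y) = sv s (cr x y) := F4M.sg_cr s x y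

theorem sv_tf (x y : I27 → k) : tf (sv s x) (sv s y) = s (tf x y) := by
  have h1 := tr1_cr x y
  have h2 := tr1_cr (sv s x) (sv s y)
  rw [sv_cr, sv_tr, sv_tr, sv_tr, h1, map_sub, map_mul] at h2
  linear_combination h2

theorem sv_st (x y : I27 → k) : st (sv s x) (sv s y) = sv s (st x y) := by
  unfold st
  rw [sv_add, sv_smul, sv_cr, sv_tf, sv_u0, map_div₀, map_ofNat]

end sv

/-- the decomposition of the Albert algebra -/
theorem compl_of {k : Type v} [Field k] (h3 : (3 : k) ≠ 0) {P Q : Submodule k (I27 → k)}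
    (hP : ∀ x ∈ P, tr1 x = 0) (hQ : ∀ x ∈ Q, tr1 x = 0)
    (hPQ : ∀ v : I27 → k, tr1 v = 0 → ∃ x ∈ P, ∃ y ∈ Q, v = x + y) (ho : ∀ x ∈ P, ∀ y ∈ Q, tf x y = 0) :
    IsCompl Q (P ⊔ Submodule.span k {u0 k}) := by
  constructor
  · rw [Submodule.disjoint_def]
    intro v hv hv'
    obtain ⟨x, hx, y, hy, rfl⟩ := Submodule.mem_sup.1 hv'
    obtain ⟨c, rfl⟩ := Submodule.mem_span_singleton.1 hy
    have h1 := hQ _ hv
    rw [tr1_add, hP x hx, tr1_smul, tr1_u0, zero_add] at h1
    have hc : c = 0 := (mul_eq_zero.1 h1).resolve_right h3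
    subst hc
    rw [zero_smul, add_zero] at hv ⊢
    refine tf_nondeg fun z => ?_
    have h2 : tr1 (z - (tr1 z / 3) • u0 k) = 0 := by
      rw [tr1_sub, tr1_smul, tr1_u0]
      field_simp
      ring
    obtain ⟨x', hx', y', hy', e⟩ := hPQ _ h2
    have h4 : z = x' + y' + (tr1 z / 3) • u0 k := by rw [← e]; abel
    rw [h4, tf_add_right, tf_add_right, tf_smul_right, tf_u0_right, hP x hx, ho x hx y' hy', tf_comm, ho x' hx' x hv]
    simp
  · rw [codisjoint_iff, eq_top_iff]
    intro z _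
    have h2 : tr1 (z - (tr1 z / 3) • u0 k) = 0 := by
      rw [tr1_sub, tr1_smul, tr1_u0]
      field_simp
      ring
    obtain ⟨x', hx', y', hy', e⟩ := hPQ _ h2
    have h4 : z = y' + (x' + (tr1 z / 3) • u0 k) := by
      rw [← add_assoc, add_comm y', ← e]; abel
    rw [h4]
    exact Submodule.add_mem_sup hy' (Submodule.add_mem_sup hx' (Submodule.smul_mem _ _ (Submodule.mem_span_singleton_self _)))

section inv

variable {k : Type v} [Field k] {P Q : Submodule k (I27 → k)}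

/-- the involution -/
noncomputable def thI (hc : IsCompl Q (P ⊔ Submodule.span k {u0 k})) : (I27 → k) →ₗ[k] (I27 → k) :=
  LinearMap.id - (2 : k) • Q.projection _ hc

variable (hc : IsCompl Q (P ⊔ Submodule.span k {u0 k}))

theorem thI_left {x : I27 → k} (hx : x ∈ P) : thI hc x = x := by
  unfold thI
  rw [LinearMap.sub_apply, LinearMap.smul_apply, (Submodule.projection_apply_eq_zero_iff hc).2 (Submodule.mem_sup_left hx),
    smul_zero, sub_zero, LinearMap.id_apply]

theorem thI_u0 : thI hc (u0 k) = u0 k := by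
  unfold thI
  rw [LinearMap.sub_apply, LinearMap.smul_apply, (Submodule.projection_apply_eq_zero_iff hc).2
    (Submodule.mem_sup_right (Submodule.mem_span_singleton_self _)), smul_zero, sub_zero, LinearMap.id_apply]

theorem thI_right {x : I27 → k} (hx : x ∈ Q) : thI hc x = -x := by
  unfold thI
  rw [LinearMap.sub_apply, LinearMap.smul_apply, Submodule.projection_apply_of_mem_left hc hx, LinearMap.id_apply, two_smul]
  abel

include hc in
theorem decomp (v : I27 → k) : ∃ x ∈ P, ∃ y ∈ Q, ∃ c : k, v = x + y + c • u0 k := by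
  have h1 : v ∈ Q ⊔ (P ⊔ Submodule.span k {u0 k}) := by
    rw [codisjoint_iff.1 hc.codisjoint]; trivial
  obtain ⟨y, hy, z, hz, rfl⟩ := Submodule.mem_sup.1 h1
  obtain ⟨x, hx, w, hw, rfl⟩ := Submodule.mem_sup.1 hz
  obtain ⟨c, rfl⟩ := Submodule.mem_span_singleton.1 hw
  exact ⟨x, hx, y, hy, c, by abel⟩

theorem thI_dec {x y : I27 → k} (hx : x ∈ P) (hy : y ∈ Q) (c : k) : thI hc (x + y + c • u0 k) = x - y + c • u0 k := by
  rw [map_add, map_add, map_smul, thI_left hc hx, thI_right hc hy, thI_u0]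
  abel

theorem thI_sq (v : I27 → k) : thI hc (thI hc v) = v := by
  obtain ⟨x, hx, y, hy, c, rfl⟩ := decomp hc v
  rw [thI_dec hc hx hy, sub_eq_add_neg, thI_dec hc hx (Q.neg_mem hy), sub_neg_eq_add]

theorem thI_comm {g : (I27 → k) → (I27 → k)} (ga : ∀ x y, g (x + y) = g x + g y) (gu : ∀ c : k, ∃ d : k, g (c • u0 k) = d • u0 k)
    (gP : ∀ x ∈ P, g x ∈ P) (gQ : ∀ x ∈ Q, g x ∈ Q) (v : I27 → k) : thI hc (g v) = g (thI hc v) := by
  obtain ⟨x, hx, y, hy, c, rfl⟩ := decomp hc v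
  obtain ⟨d, hd⟩ := gu c
  have g0 : g 0 = 0 := by
    have := ga 0 0
    rw [add_zero] at this
    exact left_eq_add.1 this
  have gn : g (-y) = - g y := by
    have := ga y (-y)
    rw [add_neg_cancel, g0] at this
    exact (neg_eq_of_add_eq_zero_right this.symm).symm
  rw [thI_dec hc hx hy, ga, ga, hd, thI_dec hc (gP x hx) (gQ y hy), ga, hd, sub_eq_add_neg x y, ga, gn]
  abel

include hc in
theorem mem_of_orth (h3 : (3 : k) ≠ 0) (hP : ∀ x ∈ P, tr1 x = 0) (hQ : ∀ x ∈ Q, tr1 x = 0)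
    (ho : ∀ x ∈ P, ∀ y ∈ Q, tf x y = 0) {v : I27 → k} (hv : tr1 v = 0) :
    ((∀ y ∈ Q, tf v y = 0) → v ∈ P) ∧ ((∀ x ∈ P, tf v x = 0) → v ∈ Q) := by
  obtain ⟨x, hx, y, hy, c, rfl⟩ := decomp hc v
  rw [tr1_add, tr1_add, hP x hx, hQ y hy, tr1_smul, tr1_u0, zero_add, zero_add] at hv
  have hc0 : c = 0 := (mul_eq_zero.1 hv).resolve_right h3
  subst hc0
  rw [zero_smul, add_zero]
  constructor
  · intro h
    have hy0 : y = 0 := by
      refine tf_nondeg fun z => ?_
      obtain ⟨x', hx', y', hy', c', rfl⟩ := decomp hc z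
      rw [tf_add_right, tf_add_right, tf_smul_right, tf_u0_right, hQ y hy, tf_comm y x', ho x' hx' y hy]
      have := h y' hy'
      rw [tf_add_left, ho x hx y' hy', zero_add] at this
      rw [this]
      simp
    rw [hy0, add_zero]
    exact hx
  · intro h
    have hx0 : x = 0 := by
      refine tf_nondeg fun z => ?_
      obtain ⟨x', hx', y', hy', c', rfl⟩ := decomp hc z
      rw [tf_add_right, tf_add_right, tf_smul_right, tf_u0_right, hP x hx, ho x hx y' hy']
      have := h x' hx'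
      rw [tf_add_left, tf_comm y x', ho x' hx' y hy, add_zero] at this
      rw [this]
      simp
    rw [hx0, zero_add]
    exact hy

theorem thI_sh (h2 : (2 : k) ≠ 0) (h3 : (3 : k) ≠ 0) (hP : ∀ x ∈ P, tr1 x = 0) (hQ : ∀ x ∈ Q, tr1 x = 0)
    (ho : ∀ x ∈ P, ∀ y ∈ Q, tf x y = 0) (n1 : ∀ x ∈ P, ∀ y ∈ P, ∀ z ∈ Q, tf (st x y) z = 0)
    (n2 : ∀ x ∈ Q, ∀ y ∈ Q, ∀ z ∈ Q, tf (st x y) z = 0) (v : I27 → k) : sh (thI hc v) = thI hc (sh v) := by
  obtain ⟨x, hx, y, hy, c, rfl⟩ := decomp hc v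
  rw [thI_dec hc hx hy]
  have tx := hP x hx
  have ty := hQ y hy
  have hxx : st x x ∈ P := (mem_of_orth hc h3 hP hQ ho (tr1_st h3 tx)).1 fun z hz => n1 x hx x hx z hz
  have hyy : st y y ∈ P := (mem_of_orth hc h3 hP hQ ho (tr1_st h3 ty)).1 fun z hz => n2 y hy y hy z hz
  have hxy : st x y ∈ Q := (mem_of_orth hc h3 hP hQ ho (tr1_st h3 tx)).2 fun z hz => by
    rw [st_comm, tf_st_rot ty (hP z hz), tf_comm, n1 x hx z hz y hy]
  have e1 : ∀ y : I27 → k, tr1 y = 0 → tf x y = 0 → sh (x + y + c • u0 k) =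
      (1 / 2 : k) • (st x x + st y y) + (st x y - c • y) + (-c) • x +
        (c ^ 2 - 1 / 2 * ((tf x x + tf y y) / 3)) • u0 k := by
    intro y hy hxy
    rw [sh_add, sh_smul, sh_u0, cr_smul_right, cr_comm, cr_u0, tr1_add, tx, hy, add_zero, zero_smul, zero_sub,
      sh_eq h2 (x + y), st_add_left, st_add_right, st_add_right, st_comm y x, tf_add_left, tf_add_right, tf_add_right,
      hxy, tf_comm y x, hxy]
    have h4 : (1 / 2 : k) • ((2 : k) • st x y) = st x y := by
      rw [smul_smul, one_div, inv_mul_cancel₀ h2, one_smul]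
    have h5 : (1 / 2 : k) • (st x x + st x y + (st x y + st y y) - ((tf x x + 0 + (0 + tf y y)) / 3) • u0 k) =
        (1 / 2 : k) • (st x x + st y y) + (1 / 2 : k) • ((2 : k) • st x y) -
          (1 / 2 : k) • ((tf x x + tf y y) / 3) • u0 k := by
      rw [add_zero, zero_add]
      module
    rw [h5, h4]
    module
  have e2 : sh (x - y + c • u0 k) = sh (x + (-y) + c • u0 k) := by rw [sub_eq_add_neg]
  have ny : -y = (-1 : k) • y := by rw [neg_one_smul]
  rw [e2, e1 (-y) (by rw [ny, tr1_smul, ty, mul_zero]) (by rw [ny, tf_smul_right, ho x hx y hy, mul_zero]), e1 y ty (ho x hx y hy)]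
  have hA : (1 / 2 : k) • (st x x + st y y) + (st x y - c • y) + (-c) • x +
        (c ^ 2 - 1 / 2 * ((tf x x + tf y y) / 3)) • u0 k =
      ((1 / 2 : k) • (st x x + st y y) + (-c) • x) + (st x y - c • y) +
        (c ^ 2 - 1 / 2 * ((tf x x + tf y y) / 3)) • u0 k := by abel
  rw [hA, thI_dec hc (P.add_mem (P.smul_mem _ (P.add_mem hxx hyy)) (P.smul_mem _ hx)) (Q.sub_mem hxy (Q.smul_mem _ hy))]
  have h6 : st (-y) (-y) = st y y := by rw [ny, st_smul_left, st_smul_right, smul_smul]; norm_num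
  have h7 : st x (-y) = - st x y := by rw [ny, st_smul_right, neg_one_smul]
  have h8 : tf (-y) (-y) = tf y y := by rw [ny, tf_smul_left, tf_smul_right]; ring
  rw [h6, h7, h8]
  module

end inv

section main

variable {F : Type u} [Field F] [Fintype F] {K : Type w} [Field K] [Fintype K] {p a b : ℕ}
  {H : Subgroup ↥(chevF4.group F)} {φ : ProjectiveSpecialLinearGroup (Fin 2) K →* ↥(chevF4.group F)}
variable {k : Type u} [Field k] {f : F →+* k} {s : k →+* k}

/-- a linear involution commuting with everything comes from `F` -/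
theorem rational_eq_one (h : Cfg p a b H φ) (fr : Fr f s) {g : (I27 → k) →ₗ[k] (I27 → k)} (g2 : ∀ x, g (g x) = x)
    (gs : ∀ x, g (sv s x) = sv s (g x)) (gsh : ∀ x, sh (g x) = g (sh x)) (gu : g (u0 k) = u0 k)
    (gL : ∀ a x, g (Rk f φ a x) = Rk f φ a (g x)) (x : I27 → k) : g x = x := by
  classical
  have hsing : ∀ i : I27, sv s (Pi.single i (1 : k)) = Pi.single i (1 : k) := by
    intro i
    funext j
    unfold sv
    rcases eq_or_ne j i with rfl | hj
    · rw [Pi.single_eq_same, map_one]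
    · rw [Pi.single_eq_of_ne hj, map_zero]
  have hent : ∀ i j : I27, ∃ a : F, f a = g (Pi.single i (1 : k)) j := by
    intro i j
    refine fr.ex _ ?_
    have h1 := congrFun (gs (Pi.single i (1 : k))) j
    rw [hsing] at h1
    exact h1.symm
  choose m hm using hent
  have hdec : ∀ y : I27 → k, g y = fun j => ∑ i, y i * g (Pi.single i (1 : k)) j := by
    intro y
    have h1 : y = ∑ i, y i • (Pi.single i (1 : k) : I27 → k) := by
      funext j
      rw [Finset.sum_apply, Finset.sum_eq_single j]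
      · simp
      · intro i _ hi
        rw [Pi.smul_apply, Pi.single_eq_of_ne hi.symm, smul_zero]
      · intro h; exact absurd (Finset.mem_univ j) h
    conv_lhs => rw [h1]
    rw [map_sum]
    funext j
    rw [Finset.sum_apply]
    refine Finset.sum_congr rfl fun i _ => ?_
    rw [map_smul]
    rfl
  let g0 : (I27 → F) →ₗ[F] (I27 → F) :=
    { toFun := fun y j => ∑ i, y i * m i j
      map_add' := fun y z => by
        funext j
        simp only [Pi.add_apply, add_mul, Finset.sum_add_distrib]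
      map_smul' := fun c y => by
        funext j
        simp only [Pi.smul_apply, smul_eq_mul, Finset.mul_sum, RingHom.id_apply, mul_assoc] }
  have hg0 : ∀ y : I27 → F, (fun j => f (g0 y j)) = g (fun j => f (y j)) := by
    intro y
    rw [hdec]
    funext j
    change f (∑ i, y i * m i j) = _
    rw [map_sum]
    refine Finset.sum_congr rfl fun i _ => ?_
    rw [map_mul, hm]
  have hinj : ∀ y z : I27 → F, (fun j => f (y j)) = (fun j => f (z j)) → y = z := by
    intro y z h1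
    funext j
    exact f.injective (congrFun h1 j)
  have hinv : Function.Involutive g0 := by
    intro y
    refine hinj _ _ ?_
    rw [hg0, hg0, g2]
  have h1 := R2.F4N.aut1 h (g := LinearEquiv.ofInvolutive g0 hinv) (fun y => ?_) ?_ (fun a' y => ?_)
  · have h2 : ∀ i : I27, g (Pi.single i (1 : k)) = Pi.single i (1 : k) := by
      intro i
      have h3 : (fun j => f ((Pi.single i (1 : F) : I27 → F) j)) = (Pi.single i (1 : k) : I27 → k) := by
        funext j
        rcases eq_or_ne j i with rfl | hj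
        · rw [Pi.single_eq_same, Pi.single_eq_same, map_one]
        · rw [Pi.single_eq_of_ne hj, Pi.single_eq_of_ne hj, map_zero]
      have h4 := h1 (Pi.single i (1 : F))
      have h5 := hg0 (Pi.single i (1 : F))
      rw [h3] at h5
      rw [← h5]
      have h6 : g0 (Pi.single i (1 : F)) = Pi.single i (1 : F) := h4
      rw [h6, h3]
    rw [hdec x]
    funext j
    rw [Finset.sum_eq_single j]
    · rw [h2, Pi.single_eq_same, mul_one]
    · intro i _ hi
      rw [h2, Pi.single_eq_of_ne hi.symm, mul_zero]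
    · intro h; exact absurd (Finset.mem_univ j) h
  · refine hinj _ _ ?_
    change (fun i => f (sh (g0 y) i)) = fun i => f (g0 (sh y) i)
    rw [hg0, ← H163.E6.Act.sh_map, ← H163.E6.Act.sh_map, hg0, gsh]
  · refine hinj _ _ ?_
    change (fun i => f (g0 (u0 F) i)) = _
    rw [hg0, F4P.u0_map, gu]
  · obtain ⟨t, rfl⟩ := pq_surjective a'
    refine hinj _ _ ?_
    change (fun i => f (g0 (Jr F (φ (pq t)) y) i)) = fun i => f (Jr F (φ (pq t)) (g0 y) i)
    rw [hg0, ← F4M.Rk_map f φ t y, ← F4M.Rk_map f φ t, gL, hg0]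

/-- **no gradings** -/
theorem no_grade (h : Cfg p a b H φ) (fr : Fr f s) (h2 : (2 : k) ≠ 0) (h3 : (3 : k) ≠ 0)
    {P Q : Submodule k (I27 → k)} (hP : ∀ x ∈ P, tr1 x = 0) (hQ : ∀ x ∈ Q, tr1 x = 0)
    (hPQ : ∀ v : I27 → k, tr1 v = 0 → ∃ x ∈ P, ∃ y ∈ Q, v = x + y) (ho : ∀ x ∈ P, ∀ y ∈ Q, tf x y = 0)
    (n1 : ∀ x ∈ P, ∀ y ∈ P, ∀ z ∈ Q, tf (st x y) z = 0) (n2 : ∀ x ∈ Q, ∀ y ∈ Q, ∀ z ∈ Q, tf (st x y) z = 0)
    (LP : ∀ g, ∀ x ∈ P, Rk f φ g x ∈ P) (LQ : ∀ g, ∀ x ∈ Q, Rk f φ g x ∈ Q)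
    (sP : ∀ x ∈ P, sv s x ∈ P) (sQ : ∀ x ∈ Q, sv s x ∈ Q) : Q = ⊥ := by
  have hc := compl_of h3 hP hQ hPQ ho
  rw [eq_bot_iff]
  intro y hy
  have h1 := rational_eq_one (g := thI hc) h fr (thI_sq hc)
    (fun x => thI_comm hc (sv_add s) (fun c => ⟨s c, by rw [sv_smul, sv_u0]⟩) sP sQ x)
    (thI_sh hc h2 h3 hP hQ ho n1 n2) (thI_u0 hc)
    (fun g x => thI_comm hc (map_add _) (fun c => ⟨c, by rw [map_smul, F4M.Rk_u0]⟩) (LP g) (LQ g) x) y
  rw [thI_right hc hy] at h1
  have h4 : (2 : k) • y = 0 := by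
    rw [two_smul]
    nth_rewrite 1 [← h1]
    rw [neg_add_cancel]
  exact (Submodule.mem_bot k).2 ((smul_eq_zero.1 h4).resolve_left h2)

end main

end Cfsg.Agent.R2.H1.F4
end

-- part: R2/H1/F4/StrIrr_mg
section

end
end
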