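import Cfsg.Agent.R2.H27.F4Th.SqY_m3
import Cfsg.Agent.R2.F4P.Id_m3
import Cfsg.Agent.R2.H22.P11_m3
import Cfsg.Agent.H952.F4.FixV_m3
import Cfsg.Agent.R2.H28.SL2.Bas_m3
import Cfsg.Agent.R2.H28.SL2.ExtY_m3
import Cfsg.Agent.FastGrp
import Cfsg.Agent.Prune
set_option linter.all false

section
prune_inst 0x7fffedfbbbfcf9dfdfff7e3faedcfffdb9a33fffa6dff9cb7fe063bf2b1f3b8889c56ba989ea90fe1ed7e21410b87853f97eeeffea6bdc7ffffd5ff41ffbee4ff5f7b50851d688340fbc0ff703f0778e7f3fffffffffffffffffffffffffffaeffbfffffffff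

-- part: R2/F4L/TupD
section
prune_inst 0x12000403062000000040010200004618000040000400000088405060401044009404020022004120080000408300068111000100200000000000000011a00800000100080480000000080000000000000000000000000000000000000010000000000000
set_option linter.all false
open scoped Cfsg.Agent.FastGrp

-- part: R2/F4L/B
section
/-!
# Lemma (B): the submodules `V_{2 p ^ j}` of the Albert algebra (helper2, S5931)

`three_MH` : for a tuple `x` of type `(2, j)` : the relations `MH` of `R2/F4L/M.lean` hold for the orthogonal basis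
`x_0 + x_2`, `x_0 - x_2`, `x_1`.
-/

set_option autoImplicit false
set_option linter.unusedSectionVars false

namespace Cfsg.Agent.R2.F4L

open Cfsg.Lie
open Cfsg.Agent.ChevalleyStructure.E6Min.Tables Cfsg.Agent.ChevalleyStructure.E6Min.Basic
open Cfsg.Agent.H952.F4 (sh cr tf tr1 u0)
open Cfsg.Agent.H952.F4.Jord
open Cfsg.Agent.H943.SL2Rel Cfsg.Agent.R2.H28.SL2

universe u v w

variable {k : Type u} [Field k] [DecidableEq k] {K : Type w} [Field K] [Fintype K] [DecidableEq K] {ι : K →+* k}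
variable {p : ℕ} [Fact p.Prime] [CharP k p] [CharP K p]

section Two

variable {V : Type*} [AddCommGroup V] [Module k V] {ρ : Representation k (Matrix.SpecialLinearGroup (Fin 2) K) V}
variable {i : ℕ} {x : ℕ → V}

theorem ts2_u0 (hx : TS ι p ρ 2 i x) (t : K) :
    ρ (u t) (x 0) = x 0 + (2 * (ι t ^ p ^ i)) • x 1 + ((ι t ^ p ^ i) ^ 2) • x 2 := by
  rw [hx.u 0 (by norm_num) t]
  simp only [Finset.sum_range_succ, Finset.sum_range_zero, Nat.choose]
  norm_num

theorem ts2_u1 (hx : TS ι p ρ 2 i x) (t : K) : ρ (u t) (x 1) = x 1 + (ι t ^ p ^ i) • x 2 := by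
  rw [hx.u 1 (by norm_num) t]
  simp only [Finset.sum_range_succ, Finset.sum_range_zero, Nat.choose]
  norm_num

theorem ts2_u2 (hx : TS ι p ρ 2 i x) (t : K) : ρ (u t) (x 2) = x 2 := hx.u_top t

theorem ts2_h0 (hx : TS ι p ρ 2 i x) (a : Kˣ) : ρ (h a) (x 0) = ((ι a ^ p ^ i)⁻¹ ^ 2) • x 0 := by
  rw [hx.h 0 (by norm_num)]
  norm_num

theorem ts2_h1 (hx : TS ι p ρ 2 i x) (a : Kˣ) : ρ (h a) (x 1) = x 1 := by
  rw [hx.h 1 (by norm_num)]
  have h0 : ι (a : K) ^ p ^ i ≠ 0 := pow_ne_zero _ ((map_ne_zero ι).2 a.ne_zero)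
  rw [pow_one, show 2 - 1 = 1 from rfl, pow_one, mul_inv_cancel₀ h0, one_smul]

theorem ts2_h2 (hx : TS ι p ρ 2 i x) (a : Kˣ) : ρ (h a) (x 2) = ((ι a ^ p ^ i) ^ 2) • x 2 := by
  rw [hx.h 2 (by norm_num)]
  norm_num

theorem ts2_w0 (hx : TS ι p ρ 2 i x) : ρ w (x 0) = x 2 := by
  rw [hx.w 0 (by norm_num)]
  norm_num

theorem ts2_w1 (hx : TS ι p ρ 2 i x) : ρ w (x 1) = -x 1 := by
  rw [hx.w 1 (by norm_num)]
  norm_num

theorem ts2_w2 (hx : TS ι p ρ 2 i x) : ρ w (x 2) = x 0 := by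
  rw [hx.w 2 (by norm_num)]
  norm_num

end Two

variable {ρ : Representation k (Matrix.SpecialLinearGroup (Fin 2) K) (I27 → k)} {i : ℕ} {x : ℕ → I27 → k}

/-- the norm vanishes -/
theorem three_N (H : Act ρ) (hp2 : p ≠ 2) (hQ : 7 ≤ Fintype.card K) (hx : TS ι p ρ 2 i x) (a b c : k) :
    cubicT (a • x 0 + b • x 1 + c • x 2) = 0 := by
  have h2 := two_ne (k := k) p hp2
  obtain ⟨lam, hl⟩ := exists_prim ι i p
  set α := ι (lam : K) ^ p ^ i with hα
  have hα0 : α ≠ 0 := pow_ne_zero _ ((map_ne_zero ι).2 lam.ne_zero)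
  have ne : ∀ m : ℕ, 0 < m → m < 6 → α ^ m ≠ 1 := fun m h0 h6 => hl.pow_ne_one_of_pos_of_lt (by omega) (by omega)
  have w0 := (ts2_h0 hx) lam
  have w1 : ρ (h lam) (x 1) = (1 : k) • x 1 := by rw [one_smul]; exact (ts2_h1 hx) lam
  have w2 := (ts2_h2 hx) lam
  rw [← hα] at w0 w2
  have inv_ne : ∀ m : ℕ, 0 < m → m < 6 → α⁻¹ ^ m ≠ 1 := fun m h0 h6 h => by
    rw [inv_pow] at h
    exact ne m h0 h6 (inv_injective (h.trans inv_one.symm))
  have e1 : tf (sh (x 0)) (x 1) = 0 := H.wts w0 w1 (by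
    rw [mul_one, ← pow_mul]
    exact inv_ne 4 (by norm_num) (by norm_num))
  have e2 : tf (sh (x 0)) (x 2) = 0 := H.wts w0 w2 (by
    rw [← pow_mul, inv_pow]
    have : (α ^ (2 * 2))⁻¹ * α ^ 2 = (α ^ 2)⁻¹ := by field_simp
    rw [this, ← inv_pow]
    exact inv_ne 2 (by norm_num) (by norm_num))
  have e3 : tf (sh (x 1)) (x 0) = 0 := H.wts w1 w0 (by
    rw [one_pow, one_mul]
    exact inv_ne 2 (by norm_num) (by norm_num))
  have e4 : tf (sh (x 1)) (x 2) = 0 := H.wts w1 w2 (by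
    rw [one_pow, one_mul]
    exact ne 2 (by norm_num) (by norm_num))
  have e5 : tf (sh (x 2)) (x 0) = 0 := H.wts w2 w0 (by
    rw [← pow_mul, inv_pow]
    have : α ^ (2 * 2) * (α ^ 2)⁻¹ = α ^ 2 := by field_simp
    rw [this]
    exact ne 2 (by norm_num) (by norm_num))
  have e6 : tf (sh (x 2)) (x 1) = 0 := H.wts w2 w1 (by
    rw [mul_one, ← pow_mul]
    exact ne 4 (by norm_num) (by norm_num))
  have hw : ∀ y : I27 → k, cubicT (ρ w y) = cubicT y := fun y => H.N w y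
  have e7 : cubicT (x 1) = 0 := by
    have h3 := hw (x 1)
    rw [(ts2_w1 hx), show -x 1 = (-1 : k) • x 1 by rw [neg_one_smul], N_smul] at h3
    have h4 : (2 : k) * cubicT (x 1) = 0 := by linear_combination -h3
    exact (mul_eq_zero.1 h4).resolve_left h2
  have e8 : tf (cr (x 0) (x 1)) (x 2) = 0 := by
    have h3 := H.tf3 w (x 0) (x 1) (x 2)
    rw [(ts2_w0 hx), (ts2_w1 hx), (ts2_w2 hx), cr_neg_right, show -cr (x 2) (x 1) = (-1 : k) • cr (x 2) (x 1) by rw [neg_one_smul],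
      tf_smul_left, cr_comm (x 2) (x 1), ← tf3_symm (x 0) (x 1) (x 2)] at h3
    have h4 : (2 : k) * tf (cr (x 0) (x 1)) (x 2) = 0 := by linear_combination -h3
    exact (mul_eq_zero.1 h4).resolve_left h2
  have e9 : cubicT (x 2) = cubicT (x 0) := by
    have h3 := hw (x 0)
    rwa [(ts2_w0 hx)] at h3
  have e10 : cubicT (x 0) = 0 := by
    have h3 := H.N (u 1) (x 0)
    rw [(ts2_u0 hx), show x 0 + (2 * (ι 1 ^ p ^ i)) • x 1 + ((ι 1 ^ p ^ i) ^ 2) • x 2 =
      (1 : k) • x 0 + (2 : k) • x 1 + (1 : k) • x 2 by rw [map_one, one_pow, one_pow, mul_one, one_smul, one_smul], N_lin3, e1, e2, e3,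
      e4, e5, e6, e7, e8, e9] at h3
    linear_combination h3
  rw [N_lin3, e1, e2, e3, e4, e5, e6, e7, e8, e9, e10]
  ring

/-- the invariant -/
theorem three_w0 (H : Act ρ) (hx : TS ι p ρ 2 i x) (g : Matrix.SpecialLinearGroup (Fin 2) K) :
    ρ g (cr (x 0) (x 2) - (2 : k) • sh (x 1)) = cr (x 0) (x 2) - (2 : k) • sh (x 1) := by
  refine fix_of (fun t => ?_) (fun a => ?_) ?_ g
  · rw [map_sub, map_smul, H.cr, H.sh, (ts2_u0 hx), (ts2_u1 hx), (ts2_u2 hx), sh_add]
    simp only [cr_add_left, cr_smul_left, cr_smul_right, sh_smul, cr_self]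
    module
  · rw [map_sub, map_smul, H.cr, H.sh, (ts2_h0 hx), (ts2_h1 hx), (ts2_h2 hx), cr_smul_left, cr_smul_right, smul_smul]
    have h0 : ι (a : K) ^ p ^ i ≠ 0 := pow_ne_zero _ ((map_ne_zero ι).2 a.ne_zero)
    rw [← mul_pow, inv_mul_cancel₀ h0, one_pow, one_smul]
  · rw [map_sub, map_smul, H.cr, H.sh, (ts2_w0 hx), (ts2_w1 hx), (ts2_w2 hx), cr_comm,
      show -x 1 = (-1 : k) • x 1 by rw [neg_one_smul], sh_smul]
    module

/-- **the relations** -/
theorem three_MH (H : Act ρ) (hp2 : p ≠ 2) (hQ : 7 ≤ Fintype.card K)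
    (hfix : ∀ y : I27 → k, (∀ g, ρ g y = y) → ∃ c : k, y = c • u0 k) (hx : TS ι p ρ 2 i x) :
    ∃ c0 : k, MH (sh (x 0 + x 2)) (sh (x 0 - x 2)) (sh (x 1)) ((2 : k)⁻¹ • cr (x 0 - x 2) (x 1))
      ((2 : k)⁻¹ • cr (x 0 + x 2) (x 1)) ((2 : k)⁻¹ • cr (x 0 + x 2) (x 0 - x 2)) 1 (-1) (-4) c0 := by
  have h2 := two_ne (k := k) p hp2
  have h4 : (4 : k) ≠ 0 := by
    rw [show (4 : k) = 2 * 2 by norm_num]
    exact mul_ne_zero h2 h2
  obtain ⟨c0, hc0⟩ := hfix _ (three_w0 H hx)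
  refine ⟨2 * c0, ?_, one_ne_zero, neg_ne_zero.2 one_ne_zero, neg_ne_zero.2 h4, ?_⟩
  · intro a b c
    have e1 : a ^ 2 • sh (x 0 + x 2) + b ^ 2 • sh (x 0 - x 2) + c ^ 2 • sh (x 1) +
        (2 * b * c) • ((2 : k)⁻¹ • cr (x 0 - x 2) (x 1)) + (2 * a * c) • ((2 : k)⁻¹ • cr (x 0 + x 2) (x 1)) +
        (2 * a * b) • ((2 : k)⁻¹ • cr (x 0 + x 2) (x 0 - x 2)) =
        sh (a • (x 0 + x 2) + b • (x 0 - x 2) + c • x 1) := by
      rw [sh_add3]
      simp only [sh_smul, cr_smul_left, cr_smul_right, smul_smul]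
      have i1 : ∀ s t : k, 2 * s * t * 2⁻¹ = s * t := fun s t => by field_simp
      rw [i1, i1, i1]
      module
    rw [e1, show a • (x 0 + x 2) + b • (x 0 - x 2) + c • x 1 = (a + b) • x 0 + c • x 1 + (a - b) • x 2 by module, sh_sh,
      three_N H hp2 hQ hx, zero_smul]
  · rw [mul_smul, ← hc0, sub_eq_add_neg (x 0) (x 2), sh_add, sh_add, show -x 2 = (-1 : k) • x 2 by rw [neg_one_smul],
      sh_smul, cr_smul_right]
    module

end Cfsg.Agent.R2.F4L
end

-- part: R2/F4L/Four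
section
/-!
# The submodules `V_{4 p ^ i}` of the Albert algebra (helper2, S5931)

For a tuple `x` of type `(4, i)` with `x_4 ^ # = 0` (`p ≥ 5`):
* `Q5` : the table of the products;
* `ph x` : the tuple `φ(x)`; `zt x` : the invariant;
* `Q5.four` : `φ(φ(x)) = t φ(x)`, `t(φ x) = t(x) ^ 2`, `2 t φ(x)_2 = N(x_2) x_2`.
-/

set_option autoImplicit false
set_option linter.unusedSectionVars false

namespace Cfsg.Agent.R2.F4L

open Cfsg.Lie
open Cfsg.Agent.ChevalleyStructure.E6Min.Tables Cfsg.Agent.ChevalleyStructure.E6Min.Basic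
open Cfsg.Agent.H952.F4 (sh cr tf tr1 u0)
open Cfsg.Agent.H952.F4.Jord
open Cfsg.Agent.H943.SL2Rel Cfsg.Agent.R2.H28.SL2

universe u v w

variable {k : Type u} [Field k] [DecidableEq k] {K : Type w} [Field K] [Fintype K] [DecidableEq K] {ι : K →+* k}
variable {p : ℕ} [Fact p.Prime] [CharP k p] [CharP K p]

section Tab

variable {V : Type*} [AddCommGroup V] [Module k V] {ρ : Representation k (Matrix.SpecialLinearGroup (Fin 2) K) V}
variable {i : ℕ} {x : ℕ → V}

theorem ts4_u0 (hx : TS ι p ρ 4 i x) (t : K) : ρ (u t) (x 0) = x 0 + (4 * (ι t ^ p ^ i)) • x 1 +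
    (6 * (ι t ^ p ^ i) ^ 2) • x 2 + (4 * (ι t ^ p ^ i) ^ 3) • x 3 + ((ι t ^ p ^ i) ^ 4) • x 4 := by
  rw [hx.u 0 (by norm_num) t]
  simp only [Finset.sum_range_succ, Finset.sum_range_zero, Nat.choose]
  norm_num

theorem ts4_u1 (hx : TS ι p ρ 4 i x) (t : K) : ρ (u t) (x 1) = x 1 + (3 * (ι t ^ p ^ i)) • x 2 +
    (3 * (ι t ^ p ^ i) ^ 2) • x 3 + ((ι t ^ p ^ i) ^ 3) • x 4 := by
  rw [hx.u 1 (by norm_num) t]
  simp only [Finset.sum_range_succ, Finset.sum_range_zero, Nat.choose]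
  norm_num

theorem ts4_u2 (hx : TS ι p ρ 4 i x) (t : K) : ρ (u t) (x 2) = x 2 + (2 * (ι t ^ p ^ i)) • x 3 +
    ((ι t ^ p ^ i) ^ 2) • x 4 := by
  rw [hx.u 2 (by norm_num) t]
  simp only [Finset.sum_range_succ, Finset.sum_range_zero, Nat.choose]
  norm_num

theorem ts4_u3 (hx : TS ι p ρ 4 i x) (t : K) : ρ (u t) (x 3) = x 3 + (ι t ^ p ^ i) • x 4 := by
  rw [hx.u 3 (by norm_num) t]
  simp only [Finset.sum_range_succ, Finset.sum_range_zero, Nat.choose]
  norm_num

theorem ts4_u4 (hx : TS ι p ρ 4 i x) (t : K) : ρ (u t) (x 4) = x 4 := hx.u_top t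

/-- the scalars of the torus as integral powers -/
theorem ts4_h (hx : TS ι p ρ 4 i x) {s : ℕ} (hs : s ≤ 4) (a : Kˣ) :
    ρ (h a) (x s) = ((ι a ^ p ^ i) ^ (2 * (s : ℤ) - 4)) • x s := by
  have := hx.h' hs a
  exact_mod_cast this

theorem ts4_w0 (hx : TS ι p ρ 4 i x) : ρ w (x 0) = x 4 := by
  rw [hx.w 0 (by norm_num)]
  norm_num

theorem ts4_w1 (hx : TS ι p ρ 4 i x) : ρ w (x 1) = -x 3 := by
  rw [hx.w 1 (by norm_num)]
  norm_num

theorem ts4_w2 (hx : TS ι p ρ 4 i x) : ρ w (x 2) = x 2 := by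
  rw [hx.w 2 (by norm_num)]
  norm_num

theorem ts4_w3 (hx : TS ι p ρ 4 i x) : ρ w (x 3) = -x 1 := by
  rw [hx.w 3 (by norm_num)]
  norm_num

theorem ts4_w4 (hx : TS ι p ρ 4 i x) : ρ w (x 4) = x 0 := by
  rw [hx.w 4 (by norm_num)]
  norm_num

theorem ts4_mk (hz : ∀ s, 4 < s → x s = 0)
    (u0 : ∀ t, ρ (u t) (x 0) = x 0 + (4 * (ι t ^ p ^ i)) • x 1 +
      (6 * (ι t ^ p ^ i) ^ 2) • x 2 + (4 * (ι t ^ p ^ i) ^ 3) • x 3 + ((ι t ^ p ^ i) ^ 4) • x 4)
    (u1 : ∀ t, ρ (u t) (x 1) = x 1 + (3 * (ι t ^ p ^ i)) • x 2 +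
      (3 * (ι t ^ p ^ i) ^ 2) • x 3 + ((ι t ^ p ^ i) ^ 3) • x 4)
    (u2 : ∀ t, ρ (u t) (x 2) = x 2 + (2 * (ι t ^ p ^ i)) • x 3 + ((ι t ^ p ^ i) ^ 2) • x 4)
    (u3 : ∀ t, ρ (u t) (x 3) = x 3 + (ι t ^ p ^ i) • x 4)
    (u4 : ∀ t, ρ (u t) (x 4) = x 4)
    (h : ∀ s ≤ 4, ∀ a : Kˣ, ρ (h a) (x s) = ((ι a ^ p ^ i) ^ (2 * (s : ℤ) - 4)) • x s)
    (w0 : ρ w (x 0) = x 4) (w1 : ρ w (x 1) = -x 3) (w2 : ρ w (x 2) = x 2) (w3 : ρ w (x 3) = -x 1) (w4 : ρ w (x 4) = x 0) :
    TS ι p ρ 4 i x where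
  zero := hz
  u := fun s hs t => by
    interval_cases s
    · rw [u0]
      simp only [Finset.sum_range_succ, Finset.sum_range_zero, Nat.choose]
      norm_num
    · rw [u1]
      simp only [Finset.sum_range_succ, Finset.sum_range_zero, Nat.choose]
      norm_num only [_root_.pow_zero, _root_.mul_one, _root_.one_smul, _root_.zero_add, _root_.pow_one, _root_.one_mul]
    · rw [u2]
      simp only [Finset.sum_range_succ, Finset.sum_range_zero, Nat.choose]
      norm_num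
    · rw [u3]
      simp only [Finset.sum_range_succ, Finset.sum_range_zero, Nat.choose]
      norm_num
    · rw [u4]
      simp only [Finset.sum_range_succ, Finset.sum_range_zero, Nat.choose]
      norm_num
  h := fun s hs a => by
    rw [h s hs, pow_wt _ hs]
    · norm_num
    · exact pow_ne_zero _ ((map_ne_zero ι).2 a.ne_zero)
  w := fun s hs => by
    interval_cases s
    · rw [w0]
      norm_num
    · rw [w1]
      norm_num
    · rw [w2]
      norm_num
    · rw [w3]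
      norm_num
    · rw [w4]
      norm_num

end Tab

theorem sh_lin5 (a0 a1 a2 a3 a4 : k) (x0 x1 x2 x3 x4 : I27 → k) :
    sh (a0 • x0 + a1 • x1 + a2 • x2 + a3 • x3 + a4 • x4) =
    a0 ^ 2 • sh x0 + a1 ^ 2 • sh x1 + a2 ^ 2 • sh x2 + a3 ^ 2 • sh x3 + a4 ^ 2 • sh x4 +
    (a0 * a1) • cr x0 x1 + (a0 * a2) • cr x0 x2 + (a0 * a3) • cr x0 x3 + (a0 * a4) • cr x0 x4 + (a1 * a2) • cr x1 x2 +
    (a1 * a3) • cr x1 x3 + (a1 * a4) • cr x1 x4 + (a2 * a3) • cr x2 x3 + (a2 * a4) • cr x2 x4 + (a3 * a4) • cr x3 x4 := by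
  rw [sh_add, sh_add, sh_add, sh_add]
  simp only [sh_smul, cr_add_left, cr_smul_left, cr_smul_right]
  module

/-- the table -/
structure Q5 (x : ℕ → I27 → k) (A B G D E F : I27 → k) : Prop where
  s0 : sh (x 0) = 0
  s1 : sh (x 1) = (3 : k) • A
  s2 : sh (x 2) = D
  s3 : sh (x 3) = (3 : k) • F
  s4 : sh (x 4) = 0
  c01 : cr (x 0) (x 1) = 0
  c02 : cr (x 0) (x 2) = (-8 : k) • A
  c03 : cr (x 0) (x 3) = (-6 : k) • B
  c04 : cr (x 0) (x 4) = (-48 : k) • G + (-36 : k) • D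
  c12 : cr (x 1) (x 2) = B
  c13 : cr (x 1) (x 3) = (3 : k) • G
  c14 : cr (x 1) (x 4) = (-6 : k) • E
  c23 : cr (x 2) (x 3) = E
  c24 : cr (x 2) (x 4) = (-8 : k) • F
  c34 : cr (x 3) (x 4) = 0

theorem smul_cancel {V : Type*} [AddCommGroup V] [Module k V] {c : k} (hc : c ≠ 0) {a b : V} (h : c • a = c • b) :
    a = b := by
  have h1 : c • (a - b) = 0 := by rw [smul_sub, h, sub_self]
  exact sub_eq_zero.1 ((smul_eq_zero.1 h1).resolve_left hc)

theorem three_ne (p : ℕ) [Fact p.Prime] [CharP k p] (hp3 : p ≠ 3) : (3 : k) ≠ 0 := by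
  intro h
  have h1 : ((3 : ℕ) : k) = 0 := by exact_mod_cast h
  rw [CharP.cast_eq_zero_iff k p] at h1
  have hp : p.Prime := Fact.out
  exact hp3 ((Nat.prime_dvd_prime_iff_eq hp Nat.prime_three).1 h1)

variable {ρ : Representation k (Matrix.SpecialLinearGroup (Fin 2) K) (I27 → k)} {i : ℕ} {x : ℕ → I27 → k}

/-- the relations from `x_4 ^ # = 0` -/
theorem four_rel (H : Act ρ) (hQ : 9 ≤ Fintype.card K) (hx : TS ι p ρ 4 i x) (h4 : sh (x 4) = 0) :
    sh (x 0) = 0 ∧ (4 : k) • cr (x 0) (x 1) = 0 ∧ (16 : k) • sh (x 1) + (6 : k) • cr (x 0) (x 2) = 0 ∧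
    (24 : k) • cr (x 1) (x 2) + (4 : k) • cr (x 0) (x 3) = 0 ∧
    (36 : k) • sh (x 2) + cr (x 0) (x 4) + (16 : k) • cr (x 1) (x 3) = 0 ∧
    (24 : k) • cr (x 2) (x 3) + (4 : k) • cr (x 1) (x 4) = 0 ∧ (16 : k) • sh (x 3) + (6 : k) • cr (x 2) (x 4) = 0 ∧
    (4 : k) • cr (x 3) (x 4) = 0 := by
  have h0 : sh (x 0) = 0 := by
    rw [← ts4_w4 hx, ← H.sh, h4, map_zero]
  have key := poly0 (V := I27 → k) ι (N := 9) hQ p i (a := fun j => match j with
    | 0 => sh (x 0)
    | 1 => (4 : k) • cr (x 0) (x 1)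
    | 2 => (16 : k) • sh (x 1) + (6 : k) • cr (x 0) (x 2)
    | 3 => (24 : k) • cr (x 1) (x 2) + (4 : k) • cr (x 0) (x 3)
    | 4 => (36 : k) • sh (x 2) + cr (x 0) (x 4) + (16 : k) • cr (x 1) (x 3)
    | 5 => (24 : k) • cr (x 2) (x 3) + (4 : k) • cr (x 1) (x 4)
    | 6 => (16 : k) • sh (x 3) + (6 : k) • cr (x 2) (x 4)
    | 7 => (4 : k) • cr (x 3) (x 4)
    | _ => sh (x 4)) (fun t => by
      have h1 : sh (ρ (u t) (x 0)) = 0 := by rw [← H.sh, h0, map_zero]
      rw [ts4_u0 hx] at h1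
      rw [← h1]
      simp only [Finset.sum_range_succ, Finset.sum_range_zero, zero_add]
      rw [show x 0 + (4 * (ι t ^ p ^ i)) • x 1 + (6 * (ι t ^ p ^ i) ^ 2) • x 2 + (4 * (ι t ^ p ^ i) ^ 3) • x 3 +
        ((ι t ^ p ^ i) ^ 4) • x 4 = (1 : k) • x 0 + (4 * (ι t ^ p ^ i)) • x 1 + (6 * (ι t ^ p ^ i) ^ 2) • x 2 +
        (4 * (ι t ^ p ^ i) ^ 3) • x 3 + ((ι t ^ p ^ i) ^ 4) • x 4 by rw [one_smul], sh_lin5]
      module)
  exact ⟨h0, key 1 (by norm_num), key 2 (by norm_num), key 3 (by norm_num), key 4 (by norm_num), key 5 (by norm_num),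
    key 6 (by norm_num), key 7 (by norm_num)⟩

/-- **the table** -/
theorem four_Q5 (H : Act ρ) (hp5 : 5 ≤ p) (hQ : 9 ≤ Fintype.card K) (hx : TS ι p ρ 4 i x) (h4 : sh (x 4) = 0) :
    Q5 x ((3 : k)⁻¹ • sh (x 1)) (cr (x 1) (x 2)) ((3 : k)⁻¹ • cr (x 1) (x 3)) (sh (x 2)) (cr (x 2) (x 3))
      ((3 : k)⁻¹ • sh (x 3)) := by
  have h2 := two_ne (k := k) p (by omega)
  have h3 := three_ne (k := k) p (by omega)
  have h4' : (4 : k) ≠ 0 := by
    rw [show (4 : k) = 2 * 2 by norm_num]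
    exact mul_ne_zero h2 h2
  have h6 : (6 : k) ≠ 0 := by
    rw [show (6 : k) = 2 * 3 by norm_num]
    exact mul_ne_zero h2 h3
  obtain ⟨r0, r1, r2, r3, r4, r5, r6, r7⟩ := four_rel H hQ hx h4
  have c3 : ∀ y : I27 → k, (3 : k) • (3 : k)⁻¹ • y = y := fun y => by rw [smul_smul, mul_inv_cancel₀ h3, one_smul]
  refine ⟨r0, (c3 _).symm, rfl, (c3 _).symm, h4, ?_, ?_, ?_, ?_, rfl, (c3 _).symm, ?_, rfl, ?_, ?_⟩
  · exact (smul_eq_zero.1 r1).resolve_left h4'
  · apply smul_cancel h6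
    rw [← c3 (sh (x 1))] at r2
    rw [← sub_eq_zero, ← r2]
    module
  · apply smul_cancel h4'
    rw [← sub_eq_zero, ← r3]
    module
  · rw [← c3 (cr (x 1) (x 3))] at r4
    rw [← sub_eq_zero, ← r4]
    module
  · apply smul_cancel h4'
    rw [← sub_eq_zero, ← r5]
    module
  · apply smul_cancel h6
    rw [← c3 (sh (x 3))] at r6
    rw [← sub_eq_zero, ← r6]
    module
  · exact (smul_eq_zero.1 r7).resolve_left h4'

/-- the tuple `φ(x)` -/
noncomputable def ph (x : ℕ → I27 → k) : ℕ → I27 → k := fun s => match s with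
  | 0 => (4 : k) • (3 : k)⁻¹ • sh (x 1)
  | 1 => cr (x 1) (x 2)
  | 2 => (2 : k) • (3 : k)⁻¹ • cr (x 1) (x 3) + (2 : k) • sh (x 2)
  | 3 => cr (x 2) (x 3)
  | 4 => (4 : k) • (3 : k)⁻¹ • sh (x 3)
  | _ => 0

/-- the invariant -/
noncomputable def ze (x : ℕ → I27 → k) : I27 → k := (2 : k) • (3 : k)⁻¹ • cr (x 1) (x 3) + sh (x 2)

theorem zpow_nat2 {α : k} (hα : α ≠ 0) (m n : ℤ) (y : I27 → k) : α ^ m • α ^ n • y = α ^ (m + n) • y := by
  rw [smul_smul, zpow_add₀ hα]

theorem four_ph (H : Act ρ) (hp5 : 5 ≤ p) (hQ : 9 ≤ Fintype.card K) (hx : TS ι p ρ 4 i x) (h4 : sh (x 4) = 0) :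
    TS ι p ρ 4 i (ph x) := by
  have Q := four_Q5 H hp5 hQ hx h4
  generalize hA : (3 : k)⁻¹ • sh (x 1) = A at Q
  generalize hB : cr (x 1) (x 2) = B at Q
  generalize hG : (3 : k)⁻¹ • cr (x 1) (x 3) = G at Q
  generalize hD : sh (x 2) = D at Q
  generalize hE : cr (x 2) (x 3) = E at Q
  generalize hF : (3 : k)⁻¹ • sh (x 3) = F at Q
  have e0 : ph x 0 = (4 : k) • A := by rw [← hA]; rfl
  have e1 : ph x 1 = B := by rw [← hB]; rfl
  have e2 : ph x 2 = (2 : k) • G + (2 : k) • D := by rw [← hG, ← hD]; rfl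
  have e3 : ph x 3 = E := by rw [← hE]; rfl
  have e4 : ph x 4 = (4 : k) • F := by rw [← hF]; rfl
  have h2 := two_ne (k := k) p (by omega)
  have h3 := three_ne (k := k) p (by omega)
  -- the action of `u`
  have uA : ∀ t, ρ (u t) ((3 : k) • A) = (3 : k) • A + (3 * (ι t ^ p ^ i)) • B +
      ((ι t ^ p ^ i) ^ 2) • ((9 : k) • G + (9 : k) • D) + ((ι t ^ p ^ i) ^ 3) • ((3 : k) • E) +
      ((ι t ^ p ^ i) ^ 4) • ((3 : k) • F) := by
    intro t
    rw [← Q.s1, H.sh, ts4_u1 hx, show x 1 + (3 * (ι t ^ p ^ i)) • x 2 +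
      (3 * (ι t ^ p ^ i) ^ 2) • x 3 + ((ι t ^ p ^ i) ^ 3) • x 4 = (0 : k) • x 0 + (1 : k) • x 1 + (3 * (ι t ^ p ^ i)) • x 2 +
      (3 * (ι t ^ p ^ i) ^ 2) • x 3 + ((ι t ^ p ^ i) ^ 3) • x 4 by rw [zero_smul, zero_add, one_smul], sh_lin5, Q.s0, Q.s1, Q.s2,
      Q.s3, Q.s4, Q.c01, Q.c02, Q.c03, Q.c04, Q.c12, Q.c13, Q.c14, Q.c23, Q.c24, Q.c34]
    module
  have uB : ∀ t, ρ (u t) B = B + (3 * (ι t ^ p ^ i)) • ((2 : k) • G + (2 : k) • D) + (3 * (ι t ^ p ^ i) ^ 2) • E +
      ((ι t ^ p ^ i) ^ 3) • ((4 : k) • F) := by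
    intro t
    rw [← Q.c12, H.cr, ts4_u1 hx, ts4_u2 hx]
    simp only [cr_add_left, cr_add_right, cr_smul_left, cr_smul_right, cr_self, cr_comm (x 3) (x 2), cr_comm (x 4) (x 2),
      cr_comm (x 4) (x 3), Q.s2, Q.s3, Q.s4, Q.c12, Q.c13, Q.c14, Q.c23, Q.c24, Q.c34]
    module
  have uD : ∀ t, ρ (u t) D = D + (2 * (ι t ^ p ^ i)) • E + ((ι t ^ p ^ i) ^ 2) • ((4 : k) • F) := by
    intro t
    rw [← Q.s2, H.sh, ts4_u2 hx, show x 2 + (2 * (ι t ^ p ^ i)) • x 3 +
      ((ι t ^ p ^ i) ^ 2) • x 4 = (0 : k) • x 0 + (0 : k) • x 1 + (1 : k) • x 2 +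
      (2 * (ι t ^ p ^ i)) • x 3 + ((ι t ^ p ^ i) ^ 2) • x 4 by rw [zero_smul, zero_add, zero_smul, zero_add, one_smul], sh_lin5, Q.s0, Q.s1, Q.s2,
      Q.s3, Q.s4, Q.c01, Q.c02, Q.c03, Q.c04, Q.c12, Q.c13, Q.c14, Q.c23, Q.c24, Q.c34]
    module
  have uG : ∀ t, ρ (u t) ((3 : k) • G) = (3 : k) • G + (-3 * (ι t ^ p ^ i)) • E + (-6 * (ι t ^ p ^ i) ^ 2) • F := by
    intro t
    rw [← Q.c13, H.cr, ts4_u1 hx, ts4_u3 hx]
    simp only [cr_add_left, cr_smul_left, cr_add_right, cr_smul_right, cr_self, cr_comm (x 4) (x 3),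
      Q.s3, Q.s4, Q.c13, Q.c14, Q.c23, Q.c24, Q.c34]
    module
  have uE : ∀ t, ρ (u t) E = E + (ι t ^ p ^ i) • ((4 : k) • F) := by
    intro t
    rw [← Q.c23, H.cr, ts4_u2 hx, ts4_u3 hx]
    simp only [cr_add_left, cr_smul_left, cr_add_right, cr_smul_right, cr_self, cr_comm (x 4) (x 3),
      Q.s3, Q.s4, Q.c23, Q.c24, Q.c34]
    module
  have uF : ∀ t, ρ (u t) ((3 : k) • F) = (3 : k) • F := by
    intro t
    rw [← Q.s3, H.sh, ts4_u3 hx, show x 3 + (ι t ^ p ^ i) • x 4 = (0 : k) • x 0 + (0 : k) • x 1 + (0 : k) • x 2 +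
      (1 : k) • x 3 + (ι t ^ p ^ i) • x 4 by rw [zero_smul, zero_add, zero_smul, zero_add, zero_smul, zero_add, one_smul], sh_lin5, Q.s0, Q.s1, Q.s2,
      Q.s3, Q.s4, Q.c01, Q.c02, Q.c03, Q.c04, Q.c12, Q.c13, Q.c14, Q.c23, Q.c24, Q.c34]
    module
  -- the torus
  have hA : ∀ a : Kˣ, ρ (h a) ((3 : k) • A) = ((ι a ^ p ^ i) ^ (-4 : ℤ)) • ((3 : k) • A) := by
    intro a
    have h0 : ι (a : K) ^ p ^ i ≠ 0 := pow_ne_zero _ ((map_ne_zero ι).2 a.ne_zero)
    rw [← Q.s1, H.sh, ts4_h hx (by norm_num), sh_smul, ← zpow_natCast, ← _root_.zpow_mul]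
    norm_num
  have hBB : ∀ a : Kˣ, ρ (h a) B = ((ι a ^ p ^ i) ^ (-2 : ℤ)) • B := by
    intro a
    have h0 : ι (a : K) ^ p ^ i ≠ 0 := pow_ne_zero _ ((map_ne_zero ι).2 a.ne_zero)
    rw [← Q.c12, H.cr, ts4_h hx (by norm_num), ts4_h hx (by norm_num), cr_smul_left, cr_smul_right, zpow_nat2 h0]
    norm_num
  have hDD : ∀ a : Kˣ, ρ (h a) D = D := by
    intro a
    rw [← Q.s2, H.sh, ts4_h hx (by norm_num), sh_smul]
    norm_num
  have hGG : ∀ a : Kˣ, ρ (h a) ((3 : k) • G) = (3 : k) • G := by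
    intro a
    have h0 : ι (a : K) ^ p ^ i ≠ 0 := pow_ne_zero _ ((map_ne_zero ι).2 a.ne_zero)
    rw [← Q.c13, H.cr, ts4_h hx (by norm_num), ts4_h hx (by norm_num), cr_smul_left, cr_smul_right, zpow_nat2 h0]
    norm_num
  have hEE : ∀ a : Kˣ, ρ (h a) E = ((ι a ^ p ^ i) ^ (2 : ℤ)) • E := by
    intro a
    have h0 : ι (a : K) ^ p ^ i ≠ 0 := pow_ne_zero _ ((map_ne_zero ι).2 a.ne_zero)
    rw [← Q.c23, H.cr, ts4_h hx (by norm_num), ts4_h hx (by norm_num), cr_smul_left, cr_smul_right, zpow_nat2 h0]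
    norm_num
  have hFF : ∀ a : Kˣ, ρ (h a) ((3 : k) • F) = ((ι a ^ p ^ i) ^ (4 : ℤ)) • ((3 : k) • F) := by
    intro a
    have h0 : ι (a : K) ^ p ^ i ≠ 0 := pow_ne_zero _ ((map_ne_zero ι).2 a.ne_zero)
    rw [← Q.s3, H.sh, ts4_h hx (by norm_num), sh_smul, ← zpow_natCast, ← _root_.zpow_mul]
    norm_num
  refine ts4_mk (fun s hs => ?_) (fun t => ?_) (fun t => ?_) (fun t => ?_) (fun t => ?_) (fun t => ?_) (fun s hs a => ?_)
    ?_ ?_ ?_ ?_ ?_
  · match s, hs with
    | s + 5, _ => rfl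
  · rw [e0, e1, e2, e3, e4]
    apply smul_cancel h3
    rw [← map_smul, smul_comm (3 : k) (4 : k) A, map_smul, uA]
    module
  · rw [e1, e2, e3, e4, uB]
  · rw [e2, e3, e4]
    apply smul_cancel h3
    rw [← map_smul, smul_add, smul_comm (3 : k) (2 : k) G, smul_comm (3 : k) (2 : k) D, map_add, map_smul, uG, map_smul, map_smul, uD]
    module
  · rw [e3, e4, uE]
  · rw [e4]
    apply smul_cancel h3
    rw [← map_smul, smul_comm (3 : k) (4 : k) F, map_smul, uF]
  · interval_cases s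
    · rw [e0]
      apply smul_cancel h3
      rw [← map_smul, smul_comm (3 : k) (4 : k) A, map_smul, hA]
      norm_num only [_root_.zpow_neg, _root_.zpow_ofNat]
      module
    · rw [e1, hBB]
      norm_num
    · rw [e2]
      apply smul_cancel h3
      rw [← map_smul, smul_add, smul_comm (3 : k) (2 : k) G, smul_comm (3 : k) (2 : k) D, map_add, map_smul, hGG, map_smul, map_smul, hDD]
      norm_num only [_root_.zpow_ofNat, _root_.pow_zero, _root_.smul_add, _root_.one_smul]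
      module
    · rw [e3, hEE]
      norm_num
    · rw [e4]
      apply smul_cancel h3
      rw [← map_smul, smul_comm (3 : k) (4 : k) F, map_smul, hFF]
      norm_num only [_root_.zpow_ofNat]
      module
  · rw [e0, e4]
    apply smul_cancel h3
    rw [← map_smul, smul_comm (3 : k) (4 : k) A, map_smul, ← Q.s1, H.sh, ts4_w1 hx, show -x 3 = (-1 : k) • x 3 by rw [neg_one_smul],
      sh_smul, Q.s3]
    module
  · rw [e1, e3, ← Q.c12, H.cr, ts4_w1 hx, ts4_w2 hx, cr_neg_left, cr_comm, Q.c23]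
  · rw [e2]
    apply smul_cancel h3
    rw [← map_smul, smul_add, smul_comm (3 : k) (2 : k) G, smul_comm (3 : k) (2 : k) D, map_add, map_smul, ← Q.c13, H.cr, ts4_w1 hx,
      ts4_w3 hx, cr_neg_left, cr_neg_right, neg_neg, cr_comm, map_smul, map_smul, ← Q.s2, H.sh, ts4_w2 hx]
  · rw [e3, e1, ← Q.c23, H.cr, ts4_w2 hx, ts4_w3 hx, cr_neg_right, cr_comm, Q.c12]
  · rw [e4, e0]
    apply smul_cancel h3
    rw [← map_smul, smul_comm (3 : k) (4 : k) F, map_smul, ← Q.s3, H.sh, ts4_w3 hx, show -x 1 = (-1 : k) • x 1 by rw [neg_one_smul],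
      sh_smul, Q.s1]
    module

end Cfsg.Agent.R2.F4L
end

-- part: R2/F4L/FourB
section
/-!
# The submodules `V_{4 p ^ i}`, II (helper2, S5931)

* `Q5.sh3` : `#` on the span of `x_0, x_2, x_4`;
* `four_main` : `φ(φ(x)) = t φ(x)`, `t(φ x) = t(x) ^ 2`, `2 t φ(x) = N(x_2) x`.
-/

set_option autoImplicit false
set_option linter.unusedSectionVars false

namespace Cfsg.Agent.R2.F4L

open Cfsg.Lie
open Cfsg.Agent.ChevalleyStructure.E6Min.Tables Cfsg.Agent.ChevalleyStructure.E6Min.Basic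
open Cfsg.Agent.H952.F4 (sh cr tf tr1 u0)
open Cfsg.Agent.H952.F4.Jord
open Cfsg.Agent.H943.SL2Rel Cfsg.Agent.R2.H28.SL2

universe u v w

variable {k : Type u} [Field k] [DecidableEq k] {K : Type w} [Field K] [Fintype K] [DecidableEq K] {ι : K →+* k}
variable {p : ℕ} [Fact p.Prime] [CharP k p] [CharP K p]

section Tup

variable {V : Type*} [AddCommGroup V] [Module k V] {ρ : Representation k (Matrix.SpecialLinearGroup (Fin 2) K) V}
variable {i : ℕ} {x : ℕ → V}

/-- a tuple is determined by its middle component -/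
theorem ts4_zero_of_mid (hp2 : p ≠ 2) (hQ : 9 ≤ Fintype.card K) (hx : TS ι p ρ 4 i x) (h2 : x 2 = 0) : x = 0 := by
  have h2' := two_ne (k := k) p hp2
  have key := poly0 (V := V) ι (N := 3) (by omega) p i (a := fun j => match j with
    | 0 => 0
    | 1 => (2 : k) • x 3
    | _ => x 4) (fun t => by
      have h1 := ts4_u2 hx t
      rw [h2, map_zero, zero_add] at h1
      refine Eq.trans ?_ h1.symm
      simp only [Finset.sum_range_succ, Finset.sum_range_zero, zero_add]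
      module)
  have k3 : x 3 = 0 := (smul_eq_zero.1 (key 1 (by norm_num))).resolve_left h2'
  have k4 : x 4 = 0 := key 2 (by norm_num)
  have k1 : x 1 = 0 := by
    have := ts4_w3 hx
    rw [k3, map_zero] at this
    exact neg_eq_zero.1 this.symm
  have k0 : x 0 = 0 := by
    rw [← ts4_w4 hx, k4, map_zero]
  funext s
  match s with
  | 0 => exact k0
  | 1 => exact k1
  | 2 => exact h2
  | 3 => exact k3
  | 4 => exact k4
  | s + 5 => exact hx.zero _ (by omega)

end Tup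

variable {ρ : Representation k (Matrix.SpecialLinearGroup (Fin 2) K) (I27 → k)} {i : ℕ} {x : ℕ → I27 → k}

theorem ts4_tr (H : Act ρ) (hp2 : p ≠ 2) (hp3 : p ≠ 3) (hQ : 9 ≤ Fintype.card K) (hx : TS ι p ρ 4 i x) : tr1 (x 2) = 0 := by
  have h2 := two_ne (k := k) p hp2
  have h3 := three_ne (k := k) p hp3
  have key := poly0 (V := k) ι (N := 4) (by omega) p i (a := fun j => match j with
    | 0 => 0
    | 1 => 3 * tr1 (x 2)
    | 2 => 3 * tr1 (x 3)
    | _ => tr1 (x 4)) (fun t => by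
      have h1 := H.tr (u t) (x 1)
      rw [ts4_u1 hx t, tr1_add, tr1_add, tr1_add, tr1_smul, tr1_smul, tr1_smul] at h1
      simp only [Finset.sum_range_succ, Finset.sum_range_zero, zero_add, smul_eq_mul]
      linear_combination h1)
  exact (mul_eq_zero.1 (key 1 (by norm_num))).resolve_left h3

/-- the invariant is invariant -/
theorem four_ze (H : Act ρ) (hp5 : 5 ≤ p) (hQ : 9 ≤ Fintype.card K) (hx : TS ι p ρ 4 i x) (h4 : sh (x 4) = 0)
    (g : Matrix.SpecialLinearGroup (Fin 2) K) : ρ g (ze x) = ze x := by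
  have Q := four_Q5 H hp5 hQ hx h4
  have h3 := three_ne (k := k) p (by omega)
  have c3 : ∀ y : I27 → k, (3 : k) • (3 : k)⁻¹ • y = y := fun y => by rw [smul_smul, mul_inv_cancel₀ h3, one_smul]
  have e : (3 : k) • ze x = (2 : k) • cr (x 1) (x 3) + (3 : k) • sh (x 2) := by
    unfold ze
    rw [smul_add, smul_comm (3 : k) (2 : k), c3]
  generalize (3 : k)⁻¹ • sh (x 1) = A at Q
  generalize hB : cr (x 1) (x 2) = B at Q
  generalize (3 : k)⁻¹ • cr (x 1) (x 3) = G at Q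
  generalize hD : sh (x 2) = D at Q
  generalize hE : cr (x 2) (x 3) = E at Q
  generalize (3 : k)⁻¹ • sh (x 3) = F at Q
  apply smul_cancel h3
  rw [← map_smul, e]
  refine fix_of (fun t => ?_) (fun a => ?_) ?_ g
  · rw [map_add, map_smul, map_smul, H.cr, H.sh, ts4_u1 hx, ts4_u2 hx, ts4_u3 hx, show x 2 + (2 * (ι t ^ p ^ i)) • x 3 +
      ((ι t ^ p ^ i) ^ 2) • x 4 = (0 : k) • x 0 + (0 : k) • x 1 + (1 : k) • x 2 +
      (2 * (ι t ^ p ^ i)) • x 3 + ((ι t ^ p ^ i) ^ 2) • x 4 by rw [zero_smul, zero_add, zero_smul, zero_add, one_smul], sh_lin5]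
    simp only [cr_add_left, cr_smul_left, cr_add_right, cr_smul_right, cr_self, cr_comm (x 4) (x 3), Q.s0, Q.s1, Q.s2, Q.s3,
      Q.s4, Q.c01, Q.c02, Q.c03, Q.c04, Q.c12, Q.c13, Q.c14, Q.c23, Q.c24, Q.c34]
    module
  · have h0 : ι (a : K) ^ p ^ i ≠ 0 := pow_ne_zero _ ((map_ne_zero ι).2 a.ne_zero)
    rw [map_add, map_smul, map_smul, H.cr, H.sh, ts4_h hx (by norm_num), ts4_h hx (by norm_num), ts4_h hx (by norm_num),
      cr_smul_left, cr_smul_right, zpow_nat2 h0, sh_smul]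
    norm_num
  · rw [map_add, map_smul, map_smul, H.cr, H.sh, ts4_w1 hx, ts4_w2 hx, ts4_w3 hx, cr_neg_left, cr_neg_right, neg_neg, cr_comm]

/-- `#` on the span of `x_0, x_2, x_4` -/
theorem Q5.sh3 {A B G D E F : I27 → k} (Q : Q5 x A B G D E F) (a b c : k) :
    sh (a • x 0 + b • x 2 + c • x 4) = (-(2 * a * b)) • ((4 : k) • A) + (b ^ 2 - 12 * a * c) • ((2 : k) • G + (2 : k) • D) +
      (-(2 * b * c)) • ((4 : k) • F) - (b ^ 2 + 12 * a * c) • ((2 : k) • G + D) := by
  rw [show a • x 0 + b • x 2 + c • x 4 = a • x 0 + (0 : k) • x 1 + b • x 2 + (0 : k) • x 3 + c • x 4 by module, sh_lin5,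
    Q.s0, Q.s1, Q.s2, Q.s3, Q.s4, Q.c01, Q.c02, Q.c03, Q.c04, Q.c12, Q.c13, Q.c14, Q.c23, Q.c24, Q.c34]
  module

theorem four_sh3 (H : Act ρ) (hp5 : 5 ≤ p) (hQ : 9 ≤ Fintype.card K) (hx : TS ι p ρ 4 i x) (h4 : sh (x 4) = 0) (a b c : k) :
    sh (a • x 0 + b • x 2 + c • x 4) = (-(2 * a * b)) • ph x 0 + (b ^ 2 - 12 * a * c) • ph x 2 +
      (-(2 * b * c)) • ph x 4 - (b ^ 2 + 12 * a * c) • ze x := (four_Q5 H hp5 hQ hx h4).sh3 a b c

/-- **the main relations** -/
theorem four_main (H : Act ρ) (hp5 : 5 ≤ p) (hQ : 11 ≤ Fintype.card K)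
    (hv : ∀ y : ℕ → I27 → k, TS ι p ρ 4 i y → sh (y 4) = 0) (hx : TS ι p ρ 4 i x) {t t' : k} (ht : ze x = t • u0 k)
    (ht' : ze (ph x) = t' • u0 k) :
    ph (ph x) = t • ph x ∧ t' = t ^ 2 ∧ (2 * t) • ph x = cubicT (x 2) • x := by
  have h2 := two_ne (k := k) p (by omega)
  have h3 := three_ne (k := k) p (by omega)
  have hQ9 : 9 ≤ Fintype.card K := by omega
  have h4 := hv x hx
  have hy := four_ph H hp5 hQ9 hx h4
  have hy' := four_ph H hp5 hQ9 hy (hv _ hy)
  have try' := ts4_tr H (by omega) (by omega) hQ9 hy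
  have try'' := ts4_tr H (by omega) (by omega) hQ9 hy'
  have shy2 : ∀ (z : ℕ → I27 → k), TS ι p ρ 4 i z → ∀ b : k, sh (b • z 2) = b ^ 2 • (ph z 2 - ze z) := fun z hz b => by
    have := four_sh3 H hp5 hQ9 hz (hv z hz) 0 b 0
    rw [zero_smul, zero_add, zero_smul, add_zero] at this
    rw [this]
    module
  -- `x_0 + x_4`
  obtain ⟨lam, hl⟩ := exists_prim ι i p
  have e1 : sh (x 0 + x 4) = (-12 : k) • ph x 2 - (12 : k) • ze x := by
    have := four_sh3 H hp5 hQ9 hx h4 1 0 1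
    rw [one_smul, zero_smul, one_smul, add_zero] at this
    rw [this]
    module
  have e2 : cubicT (x 0 + x 4) • (x 0 + x 4) = (144 : k) • (ph (ph x) 2 - t • ph x 2 + (t ^ 2 - t') • u0 k) := by
    rw [← sh_sh, e1, ht, sub_eq_add_neg, ← neg_smul, sh_add, shy2 _ hy, sh_smul, smul_smul, sh_smul, sh_u0, cr_smul_left,
      cr_smul_right, cr_comm, cr_u0, try', ht']
    module
  have e3 : cubicT (x 0 + x 4) • (x 0 + x 4) = 0 := by
    set α := ι (lam : K) ^ p ^ i with hα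
    have hα0 : α ≠ 0 := pow_ne_zero _ ((map_ne_zero ι).2 lam.ne_zero)
    have hfix : ρ (h lam) (cubicT (x 0 + x 4) • (x 0 + x 4)) = cubicT (x 0 + x 4) • (x 0 + x 4) := by
      rw [e2, map_smul, map_add, map_sub, map_smul, map_smul, H.u0, ts4_h hy (by norm_num), ts4_h hy' (by norm_num)]
      norm_num
    set n := cubicT (x 0 + x 4) with hn
    have w0 : ρ (h lam) (x 0) = (α⁻¹ ^ 4) • x 0 := by
      rw [ts4_h hx (by norm_num), ← hα, inv_pow, ← zpow_natCast, ← _root_.zpow_neg]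
      norm_num
    have w4 : ρ (h lam) (x 4) = (α ^ 4) • x 4 := by
      rw [ts4_h hx (by norm_num), ← hα, ← zpow_natCast]
      norm_num
    have f1 : n • (α⁻¹ ^ 4) • x 0 + n • (α ^ 4) • x 4 = n • x 0 + n • x 4 := by
      rw [← smul_add, ← smul_add, ← hfix, map_smul, map_add, w0, w4]
    have f2 : n • (α⁻¹ ^ 4 * α⁻¹ ^ 4) • x 0 + n • (α ^ 4 * α ^ 4) • x 4 = n • x 0 + n • x 4 := by
      have := congrArg (ρ (h lam)) f1
      rw [map_add, map_add, map_smul, map_smul, map_smul, map_smul, map_smul, map_smul, w0, w4, f1] at this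
      rw [← this]
      module
    have hi : α⁻¹ ^ 4 * α ^ 4 = 1 := by rw [← mul_pow, inv_mul_cancel₀ hα0, one_pow]
    have n4 : α ^ 4 ≠ 1 := hl.pow_ne_one_of_pos_of_lt (by omega) (by omega)
    have n8 : α ^ 8 ≠ 1 := hl.pow_ne_one_of_pos_of_lt (by omega) (by omega)
    set β := α ^ 4 with hβ
    set γ := α⁻¹ ^ 4 with hγ
    have hγ1 : γ ≠ 1 := by
      intro h
      rw [h, one_mul] at hi
      exact n4 hi
    have hγβ : γ ≠ β := by
      intro h
      rw [h, hβ, ← pow_add] at hi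
      exact n8 hi
    have f3 : ((γ - 1) * (γ - β)) • n • x 0 = 0 := by
      have : ((γ - 1) * (γ - β)) • n • x 0 = (n • (γ * γ) • x 0 + n • (β * β) • x 4 - (n • x 0 + n • x 4)) -
        (β + 1) • (n • γ • x 0 + n • β • x 4 - (n • x 0 + n • x 4)) := by module
      rw [this, f1, f2]
      simp
    have f4 : n • x 0 = 0 := (smul_eq_zero.1 f3).resolve_left (mul_ne_zero (sub_ne_zero.2 hγ1) (sub_ne_zero.2 hγβ))
    have f5 : n • x 4 = 0 := by
      have := congrArg (ρ w) f4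
      rwa [map_smul, ts4_w0 hx, map_zero] at this
    rw [smul_add, f4, f5, add_zero]
  have e4 : ph (ph x) 2 - t • ph x 2 + (t ^ 2 - t') • u0 k = 0 := by
    rw [e3] at e2
    have h12 : (144 : k) ≠ 0 := by
      rw [show (144 : k) = 2 * 2 * 2 * 2 * (3 * 3) by norm_num]
      exact mul_ne_zero (mul_ne_zero (mul_ne_zero (mul_ne_zero h2 h2) h2) h2) (mul_ne_zero h3 h3)
    exact (smul_eq_zero.1 e2.symm).resolve_left h12
  have e5 : t ^ 2 - t' = 0 := by
    have := congrArg tr1 e4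
    rw [tr1_add, sub_eq_add_neg, ← neg_smul, tr1_add, tr1_smul, tr1_smul, try', try'', tr1_u0, mul_zero, add_zero, zero_add,
      tr1_zero] at this
    exact (mul_eq_zero.1 this).resolve_right h3
  have e6 : t' = t ^ 2 := (sub_eq_zero.1 e5).symm
  have e7 : ph (ph x) 2 = t • ph x 2 := by
    rw [e5, zero_smul, add_zero] at e4
    exact sub_eq_zero.1 e4
  have e8 : ph (ph x) = t • ph x := by
    have h5 : TS ι p ρ 4 i (ph (ph x) + (-t) • ph x) := hy'.add (hy.smul (-t))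
    have h6 := ts4_zero_of_mid (by omega) hQ9 h5 (by
      rw [Pi.add_apply, Pi.smul_apply, e7]
      module)
    rw [neg_smul, ← sub_eq_add_neg] at h6
    exact sub_eq_zero.1 h6
  refine ⟨e8, e6, ?_⟩
  have e9 : (2 * t) • ph x 2 = cubicT (x 2) • x 2 := by
    have h5 : sh (x 2) = ph x 2 - t • u0 k := by
      have := shy2 x hx 1
      rw [one_smul, one_pow, one_smul, ht] at this
      exact this
    rw [← sh_sh, h5, sub_eq_add_neg, ← neg_smul, sh_add, sh_smul, sh_u0, cr_smul_right, cr_comm, cr_u0, try']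
    have h6 := shy2 _ hy 1
    rw [one_smul, one_pow, one_smul, ht', e6, e7] at h6
    rw [h6]
    module
  have h5 : TS ι p ρ 4 i ((2 * t) • ph x + (-cubicT (x 2)) • x) := (hy.smul _).add (hx.smul _)
  have h6 := ts4_zero_of_mid (by omega) hQ9 h5 (by
    rw [Pi.add_apply, Pi.smul_apply, Pi.smul_apply, e9]
    module)
  rw [neg_smul, ← sub_eq_add_neg] at h6
  exact sub_eq_zero.1 h6

end Cfsg.Agent.R2.F4L
end

-- part: R2/F4L/FourC
section
/-!
# The submodules `V_{4 p ^ i}`, III (helper2, S5931)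

* `four_scalar` : `t ≠ 0` : `φ(x) = ν x`, `t = ν ^ 2`;
* `four_pair` : two orthogonal non-isotropic tuples do not exist;
* `four_rad` : `φ` of a radical tuple is a radical tuple;
* `four_dead` : the space of the tuples is one-dimensional and not isotropic;
* `four_gen` : two generators.
-/

set_option autoImplicit false
set_option linter.unusedSectionVars false

namespace Cfsg.Agent.R2.F4L

open Cfsg.Lie
open Cfsg.Agent.ChevalleyStructure.E6Min.Tables Cfsg.Agent.ChevalleyStructure.E6Min.Basic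
open Cfsg.Agent.H952.F4 (sh cr tf tr1 u0)
open Cfsg.Agent.H952.F4.Jord
open Cfsg.Agent.H943.SL2Rel Cfsg.Agent.R2.H28.SL2

universe u v w

variable {k : Type u} [Field k] [DecidableEq k] {K : Type w} [Field K] [Fintype K] [DecidableEq K] {ι : K →+* k}
variable {p : ℕ} [Fact p.Prime] [CharP k p] [CharP K p]

theorem ph_smul (c : k) (x : ℕ → I27 → k) : ph (c • x) = c ^ 2 • ph x := by
  funext s
  match s with
  | 0 => show (4 : k) • (3 : k)⁻¹ • sh (c • x 1) = c ^ 2 • (4 : k) • (3 : k)⁻¹ • sh (x 1); rw [sh_smul]; module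
  | 1 => show cr (c • x 1) (c • x 2) = c ^ 2 • cr (x 1) (x 2); rw [cr_smul_left, cr_smul_right]; module
  | 2 =>
    show (2 : k) • (3 : k)⁻¹ • cr (c • x 1) (c • x 3) + (2 : k) • sh (c • x 2) =
      c ^ 2 • ((2 : k) • (3 : k)⁻¹ • cr (x 1) (x 3) + (2 : k) • sh (x 2))
    rw [cr_smul_left, cr_smul_right, sh_smul]
    module
  | 3 => show cr (c • x 2) (c • x 3) = c ^ 2 • cr (x 2) (x 3); rw [cr_smul_left, cr_smul_right]; module
  | 4 => show (4 : k) • (3 : k)⁻¹ • sh (c • x 3) = c ^ 2 • (4 : k) • (3 : k)⁻¹ • sh (x 3); rw [sh_smul]; module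
  | s + 5 => show (0 : I27 → k) = c ^ 2 • 0; rw [smul_zero]

/-- the parallelogram law -/
theorem ph_par (x y : ℕ → I27 → k) : ph (x + y) + ph (x + (-1 : k) • y) = (2 : k) • ph x + (2 : k) • ph y := by
  funext s
  match s with
  | 0 =>
    show (4 : k) • (3 : k)⁻¹ • sh (x 1 + y 1) + (4 : k) • (3 : k)⁻¹ • sh (x 1 + (-1 : k) • y 1) =
      (2 : k) • (4 : k) • (3 : k)⁻¹ • sh (x 1) + (2 : k) • (4 : k) • (3 : k)⁻¹ • sh (y 1)
    simp only [sh_add, sh_smul, cr_smul_right]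
    module
  | 1 =>
    show cr (x 1 + y 1) (x 2 + y 2) + cr (x 1 + (-1 : k) • y 1) (x 2 + (-1 : k) • y 2) =
      (2 : k) • cr (x 1) (x 2) + (2 : k) • cr (y 1) (y 2)
    simp only [cr_add_left, cr_add_right, cr_smul_left, cr_smul_right]
    module
  | 2 =>
    show (2 : k) • (3 : k)⁻¹ • cr (x 1 + y 1) (x 3 + y 3) + (2 : k) • sh (x 2 + y 2) +
      ((2 : k) • (3 : k)⁻¹ • cr (x 1 + (-1 : k) • y 1) (x 3 + (-1 : k) • y 3) + (2 : k) • sh (x 2 + (-1 : k) • y 2)) =
      (2 : k) • ((2 : k) • (3 : k)⁻¹ • cr (x 1) (x 3) + (2 : k) • sh (x 2)) +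
      (2 : k) • ((2 : k) • (3 : k)⁻¹ • cr (y 1) (y 3) + (2 : k) • sh (y 2))
    simp only [sh_add, sh_smul, cr_add_left, cr_add_right, cr_smul_left, cr_smul_right]
    module
  | 3 =>
    show cr (x 2 + y 2) (x 3 + y 3) + cr (x 2 + (-1 : k) • y 2) (x 3 + (-1 : k) • y 3) =
      (2 : k) • cr (x 2) (x 3) + (2 : k) • cr (y 2) (y 3)
    simp only [cr_add_left, cr_add_right, cr_smul_left, cr_smul_right]
    module
  | 4 =>
    show (4 : k) • (3 : k)⁻¹ • sh (x 3 + y 3) + (4 : k) • (3 : k)⁻¹ • sh (x 3 + (-1 : k) • y 3) =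
      (2 : k) • (4 : k) • (3 : k)⁻¹ • sh (x 3) + (2 : k) • (4 : k) • (3 : k)⁻¹ • sh (y 3)
    simp only [sh_add, sh_smul, cr_smul_right]
    module
  | s + 5 => show (0 : I27 → k) + 0 = (2 : k) • 0 + (2 : k) • 0; simp

variable {ρ : Representation k (Matrix.SpecialLinearGroup (Fin 2) K) (I27 → k)} {i : ℕ} {x : ℕ → I27 → k}

/-- the hypotheses -/
structure F4Hyp (ι : K →+* k) (p : ℕ) [Fact p.Prime] [CharP k p] [CharP K p]
    (ρ : Representation k (Matrix.SpecialLinearGroup (Fin 2) K) (I27 → k)) (i : ℕ) : Prop where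
  act : Act ρ
  hp5 : 5 ≤ p
  hQ : 11 ≤ Fintype.card K
  fix : ∀ y : I27 → k, (∀ g, ρ g y = y) → ∃ c : k, y = c • u0 k
  hv : ∀ y : ℕ → I27 → k, TS ι p ρ 4 i y → sh (y 4) = 0

theorem F4Hyp.exists_t (C : F4Hyp ι p ρ i) (hx : TS ι p ρ 4 i x) : ∃ t : k, ze x = t • u0 k :=
  C.fix _ (four_ze C.act C.hp5 (by have := C.hQ; omega) hx (C.hv x hx))

theorem F4Hyp.ph (C : F4Hyp ι p ρ i) (hx : TS ι p ρ 4 i x) : TS ι p ρ 4 i (ph x) :=
  four_ph C.act C.hp5 (by have := C.hQ; omega) hx (C.hv x hx)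

theorem F4Hyp.tr (C : F4Hyp ι p ρ i) (hx : TS ι p ρ 4 i x) : tr1 (x 2) = 0 :=
  ts4_tr C.act (by have := C.hp5; omega) (by have := C.hp5; omega) (by have := C.hQ; omega) hx

theorem F4Hyp.mid (C : F4Hyp ι p ρ i) (hx : TS ι p ρ 4 i x) (h : x 2 = 0) : x = 0 :=
  ts4_zero_of_mid (by have := C.hp5; omega) (by have := C.hQ; omega) hx h

theorem F4Hyp.main (C : F4Hyp ι p ρ i) (hx : TS ι p ρ 4 i x) {t : k} (ht : ze x = t • u0 k) :
    R2.F4L.ph (R2.F4L.ph x) = t • R2.F4L.ph x ∧ ze (R2.F4L.ph x) = t ^ 2 • u0 k ∧ (2 * t) • R2.F4L.ph x = cubicT (x 2) • x := by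
  obtain ⟨t', ht'⟩ := C.exists_t (C.ph hx)
  obtain ⟨h1, h2, h3⟩ := four_main C.act C.hp5 C.hQ C.hv hx ht ht'
  exact ⟨h1, by rw [ht', h2], h3⟩

theorem F4Hyp.two (C : F4Hyp ι p ρ i) : (2 : k) ≠ 0 := two_ne p (by have := C.hp5; omega)

theorem F4Hyp.three (C : F4Hyp ι p ρ i) : (3 : k) ≠ 0 := three_ne p (by have := C.hp5; omega)

/-- `x_2 ^ #` -/
theorem F4Hyp.sh2 (C : F4Hyp ι p ρ i) (hx : TS ι p ρ 4 i x) {t : k} (ht : ze x = t • u0 k) :
    sh (x 2) = R2.F4L.ph x 2 - t • u0 k := by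
  have := four_sh3 C.act C.hp5 (by have := C.hQ; omega) hx (C.hv x hx) 0 1 0
  rw [zero_smul, zero_add, zero_smul, add_zero, one_smul, ht] at this
  rw [this]
  module

/-- the form -/
theorem F4Hyp.tf2 (C : F4Hyp ι p ρ i) (hx : TS ι p ρ 4 i x) {t : k} (ht : ze x = t • u0 k) : tf (x 2) (x 2) = 6 * t := by
  have h1 := tr1_sh (x 2)
  rw [C.sh2 hx ht, sub_eq_add_neg, ← neg_smul, tr1_add, tr1_smul, tr1_u0, C.tr hx, C.tr (C.ph hx)] at h1
  linear_combination h1

/-- **the non-isotropic tuples** -/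
theorem F4Hyp.scalar (C : F4Hyp ι p ρ i) (hx : TS ι p ρ 4 i x) {t : k} (ht : ze x = t • u0 k) (h0 : t ≠ 0) :
    ∃ ν : k, R2.F4L.ph x = ν • x ∧ t = ν ^ 2 := by
  obtain ⟨h1, h2, h3⟩ := C.main hx ht
  have ht2 : (2 * t) ≠ 0 := mul_ne_zero C.two h0
  refine ⟨(2 * t)⁻¹ * cubicT (x 2), ?_, ?_⟩
  · rw [mul_smul, ← h3, smul_smul, inv_mul_cancel₀ ht2, one_smul]
  · set ν := (2 * t)⁻¹ * cubicT (x 2) with hν
    have h4 : R2.F4L.ph x = ν • x := by rw [hν, mul_smul, ← h3, smul_smul, inv_mul_cancel₀ ht2, one_smul]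
    have hx0 : x ≠ 0 := by
      rintro rfl
      have h5 : ze (0 : ℕ → I27 → k) = 0 := by
        show (2 : k) • (3 : k)⁻¹ • cr (0 : I27 → k) 0 + sh (0 : I27 → k) = 0
        rw [cr_zero_left, sh_zero]
        simp
      rw [h5] at ht
      exact h0 ((smul_eq_zero.1 ht.symm).resolve_right u0_ne)
    have hν0 : ν ≠ 0 := by
      intro h
      rw [h, zero_smul] at h4
      rw [h4] at h2
      have h5 : ze (0 : ℕ → I27 → k) = 0 := by
        show (2 : k) • (3 : k)⁻¹ • cr (0 : I27 → k) 0 + sh (0 : I27 → k) = 0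
        rw [cr_zero_left, sh_zero]
        simp
      rw [h5] at h2
      exact pow_ne_zero 2 h0 ((smul_eq_zero.1 h2.symm).resolve_right u0_ne)
    rw [h4, ph_smul, h4, smul_smul, smul_smul] at h1
    have h5 : (ν ^ 2 * ν - t * ν) • x = 0 := by rw [sub_smul, h1, sub_self]
    have h6 := (smul_eq_zero.1 h5).resolve_right hx0
    have h7 : (ν ^ 2 - t) * ν = 0 := by linear_combination h6
    exact (sub_eq_zero.1 ((mul_eq_zero.1 h7).resolve_right hν0)).symm

/-- **orthogonal pairs** -/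
theorem F4Hyp.pair (C : F4Hyp ι p ρ i) {x y : ℕ → I27 → k} (hx : TS ι p ρ 4 i x) (hy : TS ι p ρ 4 i y)
    (hxy : tf (x 2) (y 2) = 0) (hxx : tf (x 2) (x 2) ≠ 0) (hyy : tf (y 2) (y 2) ≠ 0) : False := by
  have h2 := C.two
  have h3 := C.three
  have h6 : (6 : k) ≠ 0 := by
    rw [show (6 : k) = 2 * 3 by norm_num]
    exact mul_ne_zero h2 h3
  -- generic coefficients
  have key : ∀ b : k, b ≠ 0 → tf (x 2) (x 2) + b ^ 2 * tf (y 2) (y 2) ≠ 0 → False := by
    intro b hb hne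
    obtain ⟨s, hs⟩ := C.exists_t hx
    obtain ⟨t, ht⟩ := C.exists_t hy
    have es := C.tf2 hx hs
    have et := C.tf2 hy ht
    have hs0 : s ≠ 0 := by
      rintro rfl
      rw [mul_zero] at es
      exact hxx es
    have ht0 : t ≠ 0 := by
      rintro rfl
      rw [mul_zero] at et
      exact hyy et
    obtain ⟨ν, hν, hsν⟩ := C.scalar hx hs hs0
    obtain ⟨μ, hμ, htμ⟩ := C.scalar hy ht ht0
    have hyb := hy.smul b
    have hp := hx.add hyb
    have hm := hx.add (hyb.smul (-1))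
    obtain ⟨c, hc⟩ := C.exists_t hp
    obtain ⟨d, hd⟩ := C.exists_t hm
    have ec := C.tf2 hp hc
    have ed := C.tf2 hm hd
    have e1 : tf ((x + b • y) 2) ((x + b • y) 2) = tf (x 2) (x 2) + b ^ 2 * tf (y 2) (y 2) := by
      show tf (x 2 + b • y 2) (x 2 + b • y 2) = _
      rw [tf_add_left, tf_add_right, tf_add_right, tf_smul_left, tf_smul_left, tf_smul_right, tf_smul_right, hxy,
        tf_comm (y 2) (x 2), hxy]
      ring
    have e2 : tf ((x + (-1 : k) • b • y) 2) ((x + (-1 : k) • b • y) 2) = tf (x 2) (x 2) + b ^ 2 * tf (y 2) (y 2) := by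
      show tf (x 2 + (-1 : k) • b • y 2) (x 2 + (-1 : k) • b • y 2) = _
      rw [tf_add_left, tf_add_right, tf_add_right, tf_smul_left, tf_smul_left, tf_smul_right, tf_smul_left, tf_smul_left,
        tf_smul_right, tf_smul_right, tf_smul_right, hxy, tf_comm (y 2) (x 2), hxy]
      ring
    rw [e1] at ec
    rw [e2] at ed
    have hc0 : c ≠ 0 := by
      rintro rfl
      rw [mul_zero] at ec
      exact hne ec
    have hd0 : d ≠ 0 := by
      rintro rfl
      rw [mul_zero] at ed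
      exact hne ed
    obtain ⟨α, hα, hcα⟩ := C.scalar hp hc hc0
    obtain ⟨β, hβ, hdβ⟩ := C.scalar hm hd hd0
    have par := ph_par x (b • y)
    rw [hα, hβ, hν, ph_smul, hμ] at par
    have par2 := congrFun par 2
    have e3 := congrArg (fun z => tf z (x 2)) par2
    have e4 := congrArg (fun z => tf z (y 2)) par2
    have hyx : tf (y 2) (x 2) = 0 := by rw [tf_comm, hxy]
    have e5 : (α + β) * tf (x 2) (x 2) = 2 * ν * tf (x 2) (x 2) := by
      have : tf (α • (x 2 + b • y 2) + β • (x 2 + (-1 : k) • b • y 2)) (x 2) =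
        tf ((2 : k) • ν • x 2 + (2 : k) • b ^ 2 • μ • y 2) (x 2) := e3
      simp only [tf_add_left, tf_smul_left, hyx] at this
      linear_combination this
    have e6 : (α - β) * b * tf (y 2) (y 2) = 2 * b ^ 2 * μ * tf (y 2) (y 2) := by
      have : tf (α • (x 2 + b • y 2) + β • (x 2 + (-1 : k) • b • y 2)) (y 2) =
        tf ((2 : k) • ν • x 2 + (2 : k) • b ^ 2 • μ • y 2) (y 2) := e4
      simp only [tf_add_left, tf_smul_left, hxy] at this
      linear_combination this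
    have e7 : α + β = 2 * ν := mul_right_cancel₀ hxx e5
    have e8 : α - β = 2 * b * μ := by
      have := mul_right_cancel₀ hyy e6
      have h : ((α - β) - 2 * b * μ) * b = 0 := by linear_combination this
      exact sub_eq_zero.1 ((mul_eq_zero.1 h).resolve_right hb)
    have e9 : α = ν + b * μ := by
      have : (2 : k) * (α - (ν + b * μ)) = 0 := by linear_combination e7 + e8
      exact sub_eq_zero.1 ((mul_eq_zero.1 this).resolve_left h2)
    have e10 : 6 * (ν ^ 2 + b ^ 2 * μ ^ 2) = 6 * α ^ 2 := by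
      rw [← hcα, ← ec, es, et, hsν, htμ]
      ring
    rw [e9] at e10
    have e11 : 6 * (2 * (ν * (b * μ))) = 0 := by linear_combination -e10
    have e12 : ν * (b * μ) = 0 := (mul_eq_zero.1 ((mul_eq_zero.1 e11).resolve_left h6)).resolve_left h2
    rcases mul_eq_zero.1 e12 with h | h
    · rw [h, zero_pow two_ne_zero] at hsν
      exact hs0 hsν
    · have h' := (mul_eq_zero.1 h).resolve_left hb
      rw [h', zero_pow two_ne_zero] at htμ
      exact ht0 htμ
  by_cases h : tf (x 2) (x 2) + 1 ^ 2 * tf (y 2) (y 2) = 0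
  · apply key 2 h2
    intro h'
    have : (3 : k) * tf (y 2) (y 2) = 0 := by linear_combination h' - h
    exact hyy ((mul_eq_zero.1 this).resolve_left h3)
  · exact key 1 one_ne_zero h

/-- radical tuples -/
def RadT (ι : K →+* k) (p : ℕ) [Fact p.Prime] [CharP k p] [CharP K p]
    (ρ : Representation k (Matrix.SpecialLinearGroup (Fin 2) K) (I27 → k)) (i : ℕ) (x : ℕ → I27 → k) : Prop :=
  ∀ y : ℕ → I27 → k, TS ι p ρ 4 i y → tf (x 2) (y 2) = 0

/-- **`φ` preserves the radical** -/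
theorem F4Hyp.rad (C : F4Hyp ι p ρ i) (hx : TS ι p ρ 4 i x) (hr : RadT ι p ρ i x) : RadT ι p ρ i (R2.F4L.ph x) := by
  intro y hy
  obtain ⟨s, hs⟩ := C.exists_t hx
  obtain ⟨t, ht⟩ := C.exists_t hy
  obtain ⟨r, hr'⟩ := C.exists_t (hx.add hy)
  have e1 := C.sh2 hx hs
  have e2 := C.sh2 hy ht
  have e3 := C.sh2 (hx.add hy) hr'
  have e4 : cr (x 2) (y 2) = R2.F4L.ph (x + y) 2 - R2.F4L.ph x 2 - R2.F4L.ph y 2 - (r - s - t) • u0 k := by
    rw [cr_eq, show x 2 + y 2 = (x + y) 2 from rfl, e3, e1, e2]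
    module
  have e5 : tf (x 2) (cr (x 2) (y 2)) = 0 := by
    rw [e4]
    have tfs : ∀ a b c : I27 → k, tf a (b - c) = tf a b - tf a c := fun a b c => by
      rw [sub_eq_add_neg, tf_add_right, show -c = (-1 : k) • c by rw [neg_one_smul], tf_smul_right]
      ring
    rw [tfs, tfs, tfs, tf_smul_right, hr _ (C.ph (hx.add hy)), hr _ (C.ph hx), hr _ (C.ph hy), tf_comm, tf_u0, C.tr hx]
    ring
  have e6 : tf (cr (x 2) (x 2)) (y 2) = 0 := by rw [tf_cr, e5]
  rw [cr_self, tf_smul_left, e1, sub_eq_add_neg, ← neg_smul, tf_add_left, tf_smul_left, tf_u0, C.tr hy] at e6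
  have e7 : (2 : k) * tf (R2.F4L.ph x 2) (y 2) = 0 := by linear_combination e6
  exact (mul_eq_zero.1 e7).resolve_left C.two

/-- the white case -/
theorem F4Hyp.white (C : F4Hyp ι p ρ i) (hx : TS ι p ρ 4 i x) (h1 : R2.F4L.ph x = 0) (h2 : ze x = 0) (a0 a1 a2 a3 a4 : k) :
    sh (a0 • x 0 + a1 • x 1 + a2 • x 2 + a3 • x 3 + a4 • x 4) = 0 := by
  have Q := four_Q5 C.act C.hp5 (by have := C.hQ; omega) hx (C.hv x hx)
  have h4 : (4 : k) ≠ 0 := by
    rw [show (4 : k) = 2 * 2 by norm_num]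
    exact mul_ne_zero C.two C.two
  have eA : (3 : k)⁻¹ • sh (x 1) = 0 := (smul_eq_zero.1 (congrFun h1 0 : (4 : k) • (3 : k)⁻¹ • sh (x 1) = 0)).resolve_left h4
  have eB : cr (x 1) (x 2) = 0 := congrFun h1 1
  have eE : cr (x 2) (x 3) = 0 := congrFun h1 3
  have eF : (3 : k)⁻¹ • sh (x 3) = 0 := (smul_eq_zero.1 (congrFun h1 4 : (4 : k) • (3 : k)⁻¹ • sh (x 3) = 0)).resolve_left h4
  have e2 : (2 : k) • (3 : k)⁻¹ • cr (x 1) (x 3) + (2 : k) • sh (x 2) = 0 := congrFun h1 2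
  have e3 : (2 : k) • (3 : k)⁻¹ • cr (x 1) (x 3) + sh (x 2) = 0 := h2
  have eD : sh (x 2) = 0 := by
    have : sh (x 2) = ((2 : k) • (3 : k)⁻¹ • cr (x 1) (x 3) + (2 : k) • sh (x 2)) -
      ((2 : k) • (3 : k)⁻¹ • cr (x 1) (x 3) + sh (x 2)) := by module
    rw [this, e2, e3, sub_zero]
  have eG : (3 : k)⁻¹ • cr (x 1) (x 3) = 0 := by
    rw [eD, add_zero] at e3
    exact (smul_eq_zero.1 e3).resolve_left C.two
  rw [eA, eB, eD, eE, eF, eG] at Q
  rw [sh_lin5, Q.s0, Q.s1, Q.s2, Q.s3, Q.s4, Q.c01, Q.c02, Q.c03, Q.c04, Q.c12, Q.c13, Q.c14, Q.c23, Q.c24, Q.c34]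
  simp

/-- **dead or one-dimensional** -/
theorem F4Hyp.dead (C : F4Hyp ι p ρ i)
    (hW : ∀ y : ℕ → I27 → k, TS ι p ρ 4 i y →
      (∀ a0 a1 a2 a3 a4 : k, sh (a0 • y 0 + a1 • y 1 + a2 • y 2 + a3 • y 3 + a4 • y 4) = 0) → y = 0)
    (hcount : ∀ y z : ℕ → I27 → k, TS ι p ρ 4 i y → TS ι p ρ 4 i z → RadT ι p ρ i y → RadT ι p ρ i z → y ≠ 0 →
      ∃ c : k, z = c • y) (hx : TS ι p ρ 4 i x) (hx0 : x ≠ 0) :
    ∃ z : ℕ → I27 → k, TS ι p ρ 4 i z ∧ tf (z 2) (z 2) ≠ 0 ∧ ∀ y : ℕ → I27 → k, TS ι p ρ 4 i y → ∃ c : k, y = c • z := by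
  have hrad : ∀ y : ℕ → I27 → k, TS ι p ρ 4 i y → RadT ι p ρ i y → y = 0 := by
    intro y hy hr
    by_contra hne
    obtain ⟨c, hc⟩ := hcount y _ hy (C.ph hy) hr (C.rad hy hr) hne
    obtain ⟨t, ht⟩ := C.exists_t hy
    have h1 := C.tf2 hy ht
    rw [hr y hy] at h1
    have h6 : (6 : k) ≠ 0 := by
      rw [show (6 : k) = 2 * 3 by norm_num]
      exact mul_ne_zero C.two C.three
    have ht0 : t = 0 := (mul_eq_zero.1 h1.symm).resolve_left h6
    obtain ⟨h2, -, -⟩ := C.main hy ht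
    rw [ht0, zero_smul, hc, ph_smul, hc, smul_smul] at h2
    have hc0 : c = 0 := by
      have := (smul_eq_zero.1 h2).resolve_right hne
      have h3 : c ^ 3 = 0 := by rw [← this]; ring
      exact pow_eq_zero_iff (by norm_num) |>.1 h3
    rw [hc0, zero_smul] at hc
    apply hne
    exact hW y hy (C.white hy hc (by rw [ht, ht0, zero_smul]))
  -- a non-isotropic tuple, orthogonal to a given one or not
  have noniso : ∀ (P : (ℕ → I27 → k) → Prop) (_ : ∀ y z, P y → P z → P (y + z)) (y z : ℕ → I27 → k), TS ι p ρ 4 i y →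
      TS ι p ρ 4 i z → P y → P z → tf (y 2) (z 2) ≠ 0 → ∃ z' : ℕ → I27 → k, TS ι p ρ 4 i z' ∧ P z' ∧ tf (z' 2) (z' 2) ≠ 0 := by
    intro P hP y z hy hz hPy hPz hyz
    by_cases h1 : tf (y 2) (y 2) = 0
    · by_cases h2 : tf (z 2) (z 2) = 0
      · refine ⟨y + z, hy.add hz, hP _ _ hPy hPz, ?_⟩
        show tf (y 2 + z 2) (y 2 + z 2) ≠ 0
        rw [tf_add_left, tf_add_right, tf_add_right, h1, h2, tf_comm (z 2) (y 2), zero_add, add_zero, ← two_mul]
        exact mul_ne_zero C.two hyz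
      · exact ⟨z, hz, hPz, h2⟩
    · exact ⟨y, hy, hPy, h1⟩
  have ex : ∀ y : ℕ → I27 → k, TS ι p ρ 4 i y → y ≠ 0 → ∃ z, TS ι p ρ 4 i z ∧ tf (y 2) (z 2) ≠ 0 := by
    intro y hy hy0
    by_contra hne
    push Not at hne
    exact hy0 (hrad y hy hne)
  obtain ⟨x', hx', hxx'⟩ := ex x hx hx0
  obtain ⟨z, hz, -, hzz⟩ := noniso (fun _ => True) (fun _ _ _ _ => trivial) x x' hx hx' trivial trivial hxx'
  refine ⟨z, hz, hzz, fun y hy => ?_⟩
  -- the projections to the orthogonal space of `z`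
  have proj : ∀ y : ℕ → I27 → k, TS ι p ρ 4 i y → ∃ c : k, TS ι p ρ 4 i (y + (-c) • z) ∧ tf ((y + (-c) • z) 2) (z 2) = 0 := by
    intro y hy
    refine ⟨tf (y 2) (z 2) * (tf (z 2) (z 2))⁻¹, hy.add (hz.smul _), ?_⟩
    show tf (y 2 + (-(tf (y 2) (z 2) * (tf (z 2) (z 2))⁻¹)) • z 2) (z 2) = 0
    rw [tf_add_left, tf_smul_left]
    field_simp
    ring
  obtain ⟨c, hc, hc2⟩ := proj y hy
  refine ⟨c, ?_⟩
  by_contra hne
  have hy1 : y + (-c) • z ≠ 0 := by
    intro h
    apply hne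
    have : y = (y + (-c) • z) + c • z := by module
    rw [this, h, zero_add]
  obtain ⟨z1, hz1, hyz1⟩ := ex _ hc hy1
  obtain ⟨d, hd, hd2⟩ := proj z1 hz1
  obtain ⟨z', hz', hP', hz'z'⟩ := noniso (fun y => tf (y 2) (z 2) = 0) (fun a b ha hb => by
    show tf (a 2 + b 2) (z 2) = 0
    rw [tf_add_left, ha, hb, add_zero]) _ _ hc hd hc2 hd2 (by
      show tf ((y + (-c) • z) 2) (z1 2 + (-d) • z 2) ≠ 0
      rw [tf_add_right, tf_smul_right, hc2, mul_zero, add_zero]
      exact hyz1)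
  exact C.pair hz' hz hP' hz'z' hzz

/-- **two generators** -/
theorem F4Hyp.gen (C : F4Hyp ι p ρ i) (hx : TS ι p ρ 4 i x) {t : k} (ht : ze x = t • u0 k) (h0 : t ≠ 0)
    {U : Submodule k (I27 → k)} (hu : u0 k ∈ U) (hcr : ∀ a ∈ U, ∀ b ∈ U, cr a b ∈ U) (h1 : x 1 ∈ U) (h4 : x 4 ∈ U) :
    ∀ s, x s ∈ U := by
  obtain ⟨ν, hν, hν2⟩ := C.scalar hx ht h0
  have hν0 : ν ≠ 0 := by
    rintro rfl
    rw [zero_pow two_ne_zero] at hν2
    exact h0 hν2
  have Q := four_Q5 C.act C.hp5 (by have := C.hQ; omega) hx (C.hv x hx)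
  have can : ∀ {c : k} {x : I27 → k}, c ≠ 0 → c • x ∈ U → x ∈ U := fun {c x} hc hx => by
    have := U.smul_mem c⁻¹ hx
    rwa [smul_smul, inv_mul_cancel₀ hc, one_smul] at this
  have h2' := C.two
  have h3' := C.three
  have h6 : (6 : k) ≠ 0 := by
    rw [show (6 : k) = 2 * 3 by norm_num]
    exact mul_ne_zero h2' h3'
  -- `x 0`
  have e0 : x 0 ∈ U := by
    have h5 := hcr _ h1 _ h1
    rw [cr_self] at h5
    have h6 : (4 : k) • (3 : k)⁻¹ • sh (x 1) = ν • x 0 := congrFun hν 0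
    apply can hν0
    rw [← h6]
    exact U.smul_mem _ (U.smul_mem _ (can h2' h5))
  have e3 : x 3 ∈ U := by
    have h5 := hcr _ h1 _ h4
    rw [Q.c14] at h5
    have h7 : cr (x 2) (x 3) = ν • x 3 := congrFun hν 3
    rw [h7] at h5
    exact can hν0 (can (neg_ne_zero.2 h6) h5)
  have e2 : x 2 ∈ U := by
    have h5 := hcr _ e0 _ h4
    have h7 : (2 : k) • (3 : k)⁻¹ • cr (x 1) (x 3) + (2 : k) • sh (x 2) = ν • x 2 := congrFun hν 2
    have h8 : (2 : k) • (3 : k)⁻¹ • cr (x 1) (x 3) + sh (x 2) = t • u0 k := ht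
    have h9 : cr (x 0) (x 4) = (-12 : k) • ν • x 2 + (-12 : k) • t • u0 k := by
      rw [Q.c04, ← h7, ← h8]
      module
    rw [h9] at h5
    have h10 := U.sub_mem h5 (U.smul_mem (-12 : k) (U.smul_mem t hu))
    rw [add_sub_cancel_right] at h10
    apply can hν0
    apply can _ h10
    rw [show (-12 : k) = -(2 * 6) by norm_num]
    exact neg_ne_zero.2 (mul_ne_zero h2' h6)
  intro s
  match s with
  | 0 => exact e0
  | 1 => exact h1
  | 2 => exact e2
  | 3 => exact e3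
  | 4 => exact h4
  | s + 5 =>
    rw [hx.zero _ (by omega)]
    exact U.zero_mem

end Cfsg.Agent.R2.F4L
end

-- part: R2/F4L/Rules
section
/-!
# The rules for the socle of the 26-dimensional module, `p ≥ 5` (helper2, S5931)

* `Cx` : the context over `k` (representation `ρ` on `J = I27 → k`); `Em ρ σ j` : `σ` on `V` is the representation on `J_0`,
  `j : V → J` the embedding;
* `Cx.ruleS` : the symmetric square of a submodule of `V` has a nontrivial factor in the socle;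
* `Cx.sq_single`, `Cx.n11`;
* `ts_of_isV` : tuples of submodules.
-/

set_option autoImplicit false
set_option linter.unusedSectionVars false
set_option linter.unusedVariables false

namespace Cfsg.Agent.R2.F4L

open Cfsg.Lie
open Cfsg.Agent.ChevalleyStructure.E6Min.Tables Cfsg.Agent.ChevalleyStructure.E6Min.Basic
open Cfsg.Agent.H952.F4 (sh cr tf tr1 u0)
open Cfsg.Agent.H952.F4.Jord
open Cfsg.Agent.H943.SL2Rel Cfsg.Agent.H943.SL2Mod Cfsg.Agent.R2.H28.SL2 Cfsg.Agent.H943.RepAdd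

universe u v w

variable {k : Type u} [Field k] [DecidableEq k] {K : Type w} [Field K] [Fintype K] [DecidableEq K] {ι : K →+* k}
variable {p : ℕ} [Fact p.Prime] [CharP k p] [CharP K p] {a : ℕ}
variable {ρ : Representation k (Matrix.SpecialLinearGroup (Fin 2) K) (I27 → k)}
variable {V : Type v} [AddCommGroup V] [Module k V] {σ : Representation k (Matrix.SpecialLinearGroup (Fin 2) K) V}
variable {j : V →ₗ[k] (I27 → k)}

/-- `σ` is the representation on `J_0` -/
structure Em (ρ : Representation k (Matrix.SpecialLinearGroup (Fin 2) K) (I27 → k))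
    (σ : Representation k (Matrix.SpecialLinearGroup (Fin 2) K) V) (j : V →ₗ[k] (I27 → k)) : Prop where
  inj : Function.Injective j
  tr : ∀ x, tr1 (j x) = 0
  sur : ∀ y, tr1 y = 0 → ∃ x, j x = y
  eqv : ∀ g x, j (σ g x) = ρ g (j x)

/-- the context -/
structure Cx (ι : K →+* k) (p : ℕ) [Fact p.Prime] [CharP k p] [CharP K p] (a : ℕ)
    (ρ : Representation k (Matrix.SpecialLinearGroup (Fin 2) K) (I27 → k)) : Prop where
  act : Act ρ
  hp5 : 5 ≤ p
  card : Fintype.card K = p ^ a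
  seven : 7 ≤ Fintype.card K
  fix : ∀ y : I27 → k, (∀ g, ρ g y = y) → ∃ c : k, y = c • u0 k
  white : ∀ W : Submodule k (I27 → k), (∀ g, ∀ x ∈ W, ρ g x ∈ W) → (∀ x ∈ W, sh x = 0) → W = ⊥

theorem Cx.two (C : Cx ι p a ρ) : (2 : k) ≠ 0 := two_ne p (by have := C.hp5; omega)

theorem Cx.three (C : Cx ι p a ρ) : (3 : k) ≠ 0 := three_ne p (by have := C.hp5; omega)

theorem Cx.fix0 (C : Cx ι p a ρ) {y : I27 → k} (hy : tr1 y = 0) (h : ∀ g, ρ g y = y) : y = 0 := by
  obtain ⟨c, hc⟩ := C.fix y h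
  rw [hc, tr1_smul, tr1_u0] at hy
  rw [hc, (mul_eq_zero.1 hy).resolve_right C.three, zero_smul]

theorem Act.st {A : Type*} [Group A] {ρ : Representation k A (I27 → k)} (H : Act ρ) (g : A) (x y : I27 → k) :
    ρ g (R2.H1.F4.st x y) = R2.H1.F4.st (ρ g x) (ρ g y) := by
  unfold R2.H1.F4.st
  rw [map_add, map_smul, H.cr, H.u0, H.tf]

/-- the product on `V`, as a function -/
noncomputable def stF (E : Em ρ σ j) (h3 : (3 : k) ≠ 0) (x y : V) : V :=
  (E.sur _ (R2.H1.F4.tr1_st h3 (y := j y) (E.tr x))).choose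

theorem j_stF (E : Em ρ σ j) (h3 : (3 : k) ≠ 0) (x y : V) : j (stF E h3 x y) = R2.H1.F4.st (j x) (j y) :=
  (E.sur _ (R2.H1.F4.tr1_st h3 (y := j y) (E.tr x))).choose_spec

/-- the product on `V` -/
noncomputable def stV (E : Em ρ σ j) (h3 : (3 : k) ≠ 0) : V →ₗ[k] V →ₗ[k] V :=
  LinearMap.mk₂ k (stF E h3)
    (fun x x' y => E.inj (by rw [map_add, j_stF, j_stF, j_stF, map_add, R2.H1.F4.st_add_left]))
    (fun c x y => E.inj (by rw [map_smul, j_stF, j_stF, map_smul, R2.H1.F4.st_smul_left]))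
    (fun x y y' => E.inj (by rw [map_add, j_stF, j_stF, j_stF, map_add, R2.H1.F4.st_add_right]))
    (fun c x y => E.inj (by rw [map_smul, j_stF, j_stF, map_smul, R2.H1.F4.st_smul_right]))

theorem j_stV (E : Em ρ σ j) (h3 : (3 : k) ≠ 0) (x y : V) : j (stV E h3 x y) = R2.H1.F4.st (j x) (j y) := j_stF E h3 x y

theorem stV_comm (E : Em ρ σ j) (h3 : (3 : k) ≠ 0) (x y : V) : stV E h3 x y = stV E h3 y x := by
  apply E.inj
  rw [j_stV, j_stV, R2.H1.F4.st_comm]

theorem stV_eqv (E : Em ρ σ j) (H : Act ρ) (h3 : (3 : k) ≠ 0) (g : Matrix.SpecialLinearGroup (Fin 2) K) (x y : V) :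
    stV E h3 (σ g x) (σ g y) = σ g (stV E h3 x y) := by
  apply E.inj
  rw [j_stV, E.eqv, E.eqv, E.eqv, j_stV, H.st]

/-- the image in `J` of a submodule of `J_0` -/
theorem inv_map (E : Em ρ σ j) {X : Submodule k V} (hX : ∀ g, ∀ x ∈ X, σ g x ∈ X) :
    ∀ g, ∀ x ∈ X.map j, ρ g x ∈ X.map j := by
  rintro g _ ⟨x, hx, rfl⟩
  exact ⟨_, hX g x hx, E.eqv g x⟩

/-- white submodules -/
theorem Cx.white_bot (C : Cx ι p a ρ) (E : Em ρ σ j) {X : Submodule k V} (hX : ∀ g, ∀ x ∈ X, σ g x ∈ X)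
    (h : ∀ x ∈ X, sh (j x) = 0) : X = ⊥ := by
  have hw := C.white (X.map j) (inv_map E hX) (by
    rintro _ ⟨x, hx, rfl⟩
    exact h x hx)
  rw [eq_bot_iff]
  intro x hx
  have h1 : j x ∈ X.map j := ⟨x, hx, rfl⟩
  rw [hw, Submodule.mem_bot] at h1
  exact (Submodule.mem_bot k).2 (E.inj (by rw [h1, map_zero]))

theorem Cx.not_inSoc_zero (C : Cx ι p a ρ) (E : Em ρ σ j) : ¬ InSoc ι p σ 0 := by
  rintro ⟨X, hX, hV⟩
  obtain ⟨v, hv⟩ := IsV.bas ι p hV
  -- a vector of the trivial module is fixed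
  have hB : Bf k 0 = {0} := by
    ext m
    rw [mem_Bf, Finset.mem_singleton]
    constructor
    · exact fun h => Nat.le_zero.1 h.1
    · rintro rfl
      exact ⟨le_rfl, by rw [Nat.choose_self, Nat.cast_one]; exact one_ne_zero⟩
  have h0 : (0 : ℕ) ∈ Bf k 0 := by rw [hB]; exact Finset.mem_singleton_self 0
  have hfix : ∀ g, (subRep σ X hX) g (v 0) = v 0 := by
    intro g
    refine fix_of (V := X) (fun t => ?_) (fun b => ?_) ?_ g
    · rw [hv.u 0 h0 t]
      simp
    · rw [hv.h 0 h0 b]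
      simp
    · rw [hv.w 0 h0]
      simp
  have hv0 : v 0 ≠ 0 := hv.li.ne_zero (⟨0, h0⟩ : Bf k 0)
  apply hv0
  apply Subtype.ext
  apply E.inj
  rw [C.fix0 (E.tr (v 0)) fun g => by rw [← E.eqv]; exact congrArg (fun z : X => j (z : V)) (hfix g)]
  exact (map_zero j).symm

section Alg

variable [IsAlgClosed k] [FiniteDimensional k V]

/-- **rule (S)** -/
theorem Cx.ruleS (C : Cx ι p a ρ) (E : Em ρ σ j) {X : Submodule k V} (hX : ∀ g, ∀ x ∈ X, σ g x ∈ X) (hX0 : X ≠ ⊥) :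
    ∃ c, c ∈ cf (Sy.{u, v, w} ι p) (Sq (subRep σ X hX)) ∧ c ≠ 0 ∧ InSoc ι p σ c := by
  have h0 : (stV E C.three).compl₁₂ X.subtype X.subtype ≠ 0 := by
    intro h
    apply hX0
    refine C.white_bot E hX fun x hx => ?_
    refine R2.H1.F4.sh_of_sq C.two C.three (E.tr x) ?_
    have h1 := congrArg (fun f : X →ₗ[k] X →ₗ[k] V => j (f ⟨x, hx⟩ ⟨x, hx⟩)) h
    change j (stV E C.three x x) = j 0 at h1
    rwa [j_stV, map_zero] at h1
  obtain ⟨c, hc1, hc2⟩ := soc_of_sq ι p (σ := subRep σ X hX) (ρ := σ) ((stV E C.three).compl₁₂ X.subtype X.subtype)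
    (fun x y => stV_comm E C.three _ _) (fun g x y => stV_eqv E C.act C.three g _ _) h0
  refine ⟨c, hc1, ?_, hc2⟩
  rintro rfl
  exact C.not_inSoc_zero E hc2

/-- single digits -/
theorem Cx.sq_single (C : Cx ι p a ρ) (E : Em ρ σ j) {n i : ℕ} (hn : n < p) (hi : i < a) (h : InSoc ι p σ (n * p ^ i)) :
    ∃ c ∈ sqs p a i n, c ≠ 0 ∧ InSoc ι p σ c := by
  obtain ⟨X, hX, hV⟩ := h
  have hX0 : X ≠ ⊥ := by
    rw [← Submodule.nontrivial_iff_ne_bot]
    exact (IsV.irr ι p hV).1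
  obtain ⟨c, h1, h2, h3⟩ := C.ruleS E hX hX0
  rw [cf_sq_single ι p C.card hn hi hV] at h1
  exact ⟨c, h1, h2, h3⟩

/-- **rule (R11)** -/
theorem Cx.n11 (C : Cx ι p a ρ) (E : Em ρ σ j) {i l : ℕ} (hi : i < a) (hl : l < a) (hil : i ≠ l)
    (h : InSoc ι p σ (p ^ i + p ^ l)) :
    2 * p ^ i + 2 * p ^ l ∈ cf (Sy.{u, v, w} ι p) σ := by
  obtain ⟨X, hX, hV⟩ := h
  have hX0 : X ≠ ⊥ := by
    rw [← Submodule.nontrivial_iff_ne_bot]
    exact (IsV.irr ι p hV).1
  obtain ⟨c, h1, h2, h3⟩ := C.ruleS E hX hX0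
  rw [sq_11 ι p C.card (by have := C.hp5; omega) hil hi hl hV, Multiset.insert_eq_cons, Multiset.mem_cons,
    Multiset.mem_singleton] at h1
  rcases h1 with rfl | rfl
  · exact h3.mem_cf ι p
  · exact absurd rfl h2

end Alg

/-- tuples of submodules of type `n p ^ i` -/
theorem ts_of_isV (E : Em ρ σ j) {n i : ℕ} (hn : n < p) {X : Submodule k V} {hX : ∀ g, ∀ x ∈ X, σ g x ∈ X}
    (hV : IsV ι p (subRep σ X hX) (n * p ^ i)) :
    ∃ x : ℕ → V, TS ι p σ n i x ∧ TS ι p ρ n i (fun s => j (x s)) ∧ (∀ s, x s ∈ X) ∧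
      X = Submodule.span k (Set.range x) ∧ ∀ s ≤ n, x s ≠ 0 := by
  obtain ⟨v, hv⟩ := IsV.basS ι p hn hV
  have h1 : TS ι p σ n i (fun s => (v s : V)) := BasS.ts hv
  refine ⟨fun s => (v s : V), h1, ⟨fun s hs => ?_, fun s hs t => ?_, fun s hs b => ?_, fun s hs => ?_⟩,
    fun s => (v s).2, le_antisymm (fun y hy => ?_) ?_, fun s hs h => ?_⟩
  · show j (v s : V) = 0
    rw [h1.zero s hs, map_zero]
  · show ρ (u t) (j (v s : V)) = _
    rw [← E.eqv, h1.u s hs, map_sum]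
    exact Finset.sum_congr rfl fun _ _ => map_smul _ _ _
  · show ρ (Cfsg.Agent.H943.SL2Rel.h b) (j (v s : V)) = _
    rw [← E.eqv, h1.h s hs, map_smul]
  · show ρ Cfsg.Agent.H943.SL2Rel.w (j (v s : V)) = _
    rw [← E.eqv, h1.w s hs, map_smul]
  · have h2 : (⟨y, hy⟩ : X) ∈ Submodule.span k (Set.range fun s : Fin (n + 1) => v s) := hv.sp trivial
    have h3 := Submodule.mem_map_of_mem (f := X.subtype) h2
    rw [Submodule.map_span] at h3
    refine Submodule.span_mono ?_ h3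
    rintro _ ⟨_, ⟨s, rfl⟩, rfl⟩
    exact ⟨s, rfl⟩
  · rw [Submodule.span_le]
    rintro _ ⟨s, rfl⟩
    exact (v s).2
  · exact hv.li.ne_zero (⟨s, Nat.lt_succ_iff.2 hs⟩ : Fin (n + 1)) (Subtype.ext h)

end Cfsg.Agent.R2.F4L
end

-- part: R2/F4L/TupB
section
/-!
# Tuples and submodules (helper2, S5931)

* `TS.lin` : the homomorphism of a tuple; `TS.isV` : the span of a nonzero tuple is `V_{n p ^ i}`;
* `TS.schur` : tuples in an irreducible module are proportional;
* `ts4_orth` : the form on two tuples of type `(4, i)` is determined by the middle vectors;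
* `count_two` : two independent radical tuples.
-/

set_option autoImplicit false
set_option linter.unusedSectionVars false
set_option linter.unusedVariables false

namespace Cfsg.Agent.R2.F4L

open Cfsg.Agent.H943.SL2Rel Cfsg.Agent.H943.SL2Mod Cfsg.Agent.R2.H28.SL2 Cfsg.Agent.H943.RepAdd

universe u v w

variable {k : Type u} [Field k] [DecidableEq k] {K : Type w} [Field K] [Fintype K] [DecidableEq K] {ι : K →+* k}
variable {p : ℕ} [Fact p.Prime] [CharP k p] [CharP K p] {a : ℕ}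
variable {V : Type v} [AddCommGroup V] [Module k V] {σ : Representation k (Matrix.SpecialLinearGroup (Fin 2) K) V}
variable {n i : ℕ} {x y : ℕ → V}

/-- **the homomorphism of a tuple** -/
theorem TS.lin {M : Type*} [AddCommGroup M] [Module k M] {τ : Representation k (Matrix.SpecialLinearGroup (Fin 2) K) M}
    {v : ℕ → M} (hv : BasS ι p τ n i v) (hx : TS ι p σ n i x) :
    ∃ f : M →ₗ[k] V, (∀ s, f (v s) = x s) ∧ ∀ g m, f (τ g m) = σ g (f m) := by
  let B : Module.Basis (Fin (n + 1)) k M := Module.Basis.mk hv.li hv.sp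
  have hB : ∀ s : Fin (n + 1), B s = v s := fun s => Module.Basis.mk_apply _ _ _
  let f : M →ₗ[k] V := B.constr k fun s : Fin (n + 1) => x s
  have hf0 : ∀ s : Fin (n + 1), f (v s) = x s := fun s => by
    rw [← hB, Module.Basis.constr_basis]
  have hf : ∀ s, f (v s) = x s := by
    intro s
    by_cases hs : s ≤ n
    · exact hf0 ⟨s, by omega⟩
    · rw [hv.zero s (by omega), hx.zero s (by omega), map_zero]
  have ext : ∀ g, (∀ s ≤ n, f (τ g (v s)) = σ g (x s)) → ∀ m, f (τ g m) = σ g (f m) := by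
    intro g hg m
    have h1 : f ∘ₗ τ g = σ g ∘ₗ f := by
      refine B.ext fun s => ?_
      rw [LinearMap.comp_apply, LinearMap.comp_apply, hB, hf]
      exact hg s (by omega)
    exact LinearMap.congr_fun h1 m
  refine ⟨f, hf, ?_⟩
  refine induct (P := fun g => ∀ m, f (τ g m) = σ g (f m)) (fun t => ext _ fun s hs => ?_) (fun b => ext _ fun s hs => ?_)
    (ext _ fun s hs => ?_) (fun g g' hg hg' m => ?_)
  · rw [hv.u s hs, hx.u s hs, map_sum]
    exact Finset.sum_congr rfl fun j _ => by rw [map_smul, hf]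
  · rw [hv.h s hs, hx.h s hs, map_smul, hf]
  · rw [hv.w s hs, hx.w s hs, map_smul, hf]
  · rw [map_mul, map_mul, Module.End.mul_apply, Module.End.mul_apply, hg, hg']

theorem isV_RB {b : ℕ} (hb : b ≤ Fintype.card K - 1) : IsV ι p (RB ι p hb) b := ⟨hb, LinearEquiv.refl k _, fun _ _ => rfl⟩

/-- **the span of a tuple** -/
theorem TS.isV (hn : n < p) (hb : n * p ^ i ≤ Fintype.card K - 1) (hx : TS ι p σ n i x) (hx0 : x ≠ 0) :
    ∃ hX : ∀ g, ∀ y ∈ Submodule.span k (Set.range x), σ g y ∈ Submodule.span k (Set.range x),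
      IsV ι p (subRep σ (Submodule.span k (Set.range x)) hX) (n * p ^ i) := by
  have hV : IsV ι p (RB (k := k) ι p hb) (n * p ^ i) := isV_RB hb
  obtain ⟨v, hv⟩ := IsV.basS ι p hn hV
  obtain ⟨f, hf, he⟩ := hx.lin hv
  have hne : f ≠ 0 := by
    intro h0
    apply hx0
    funext s
    rw [← hf s, h0]
    rfl
  have hker : LinearMap.ker f = ⊥ := by
    rcases (IsV.irr ι p hV).2 (LinearMap.ker f) (fun g m hm => by
      rw [LinearMap.mem_ker] at hm ⊢
      rw [he, hm, map_zero]) with h1 | h1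
    · exact h1
    · exfalso
      exact hne (LinearMap.ker_eq_top.1 h1)
  have hr : LinearMap.range f = Submodule.span k (Set.range x) := by
    apply le_antisymm
    · rintro _ ⟨m, rfl⟩
      have h1 : m ∈ Submodule.span k (Set.range fun s : Fin (n + 1) => v s) := hv.sp trivial
      have h2 := Submodule.mem_map_of_mem (f := f) h1
      rw [Submodule.map_span] at h2
      refine Submodule.span_mono ?_ h2
      rintro _ ⟨_, ⟨s, rfl⟩, rfl⟩
      exact ⟨s, (hf s).symm⟩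
    · rw [Submodule.span_le]
      rintro _ ⟨s, rfl⟩
      exact ⟨v s, hf s⟩
  have hX : ∀ g, ∀ y ∈ Submodule.span k (Set.range x), σ g y ∈ Submodule.span k (Set.range x) := by
    rw [← hr]
    rintro g _ ⟨m, rfl⟩
    exact ⟨_, he g m⟩
  refine ⟨hX, ?_⟩
  let e : Vb (k := k) ι (n * p ^ i) ≃ₗ[k] Submodule.span k (Set.range x) :=
    (LinearEquiv.ofInjective f (LinearMap.ker_eq_bot.1 hker)).trans (LinearEquiv.ofEq _ _ hr)
  exact IsV.iso ι p e (fun g m => Subtype.ext (he g m)) hV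

/-- a nonzero tuple has no zero entries -/
theorem TS.zero_of (hn : n < p) (hb : n * p ^ i ≤ Fintype.card K - 1) (hx : TS ι p σ n i x) {s : ℕ} (hs : s ≤ n)
    (h0 : x s = 0) : x = 0 := by
  have hV : IsV ι p (RB (k := k) ι p hb) (n * p ^ i) := isV_RB hb
  obtain ⟨v, hv⟩ := IsV.basS ι p hn hV
  obtain ⟨f, hf, he⟩ := hx.lin hv
  have hv0 : v s ≠ 0 := hv.li.ne_zero (⟨s, Nat.lt_succ_iff.2 hs⟩ : Fin (n + 1))
  rcases (IsV.irr ι p hV).2 (LinearMap.ker f) (fun g m hm => by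
      rw [LinearMap.mem_ker] at hm ⊢
      rw [he, hm, map_zero]) with h1 | h1
  · exfalso
    have h2 : v s ∈ LinearMap.ker f := by rw [LinearMap.mem_ker, hf, h0]
    rw [h1, Submodule.mem_bot] at h2
    exact hv0 h2
  · funext s'
    rw [← hf s', LinearMap.ker_eq_top.1 h1]
    rfl

/-- **Schur** : two tuples in an irreducible module -/
theorem TS.schur (hn : n < p) (hx : TS ι p σ n i x) (hy : TS ι p σ n i y) {X : Submodule k V}
    {hX : ∀ g, ∀ x ∈ X, σ g x ∈ X} (hV : IsV ι p (subRep σ X hX) (n * p ^ i)) (hxX : ∀ s, x s ∈ X) (hyX : ∀ s, y s ∈ X)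
    (hx0 : x ≠ 0) : ∃ c : k, y = c • x := by
  have hb : n * p ^ i ≤ Fintype.card K - 1 := hV.choose
  obtain ⟨m, hm0, -, -, -, huniq⟩ := IsV.hw ι p hV
  obtain ⟨c, hc⟩ := huniq ⟨x n, hxX n⟩ (fun t => Subtype.ext (hx.u_top t))
  obtain ⟨d, hd⟩ := huniq ⟨y n, hyX n⟩ (fun t => Subtype.ext (hy.u_top t))
  have hc0 : c ≠ 0 := by
    rintro rfl
    rw [zero_smul] at hc
    exact hx0 (hx.zero_of hn hb le_rfl (congrArg Subtype.val hc))
  refine ⟨d * c⁻¹, ?_⟩
  have h1 : y n = (d * c⁻¹) • x n := by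
    have e1 : x n = c • (m : V) := congrArg Subtype.val hc
    have e2 : y n = d • (m : V) := congrArg Subtype.val hd
    rw [e2, e1, smul_smul, mul_assoc, inv_mul_cancel₀ hc0, mul_one]
  have h2 : y + (-(d * c⁻¹)) • x = 0 := by
    refine (hy.add (hx.smul _)).zero_of hn hb le_rfl ?_
    show y n + (-(d * c⁻¹)) • x n = 0
    rw [h1]
    module
  have h3 : y = (y + (-(d * c⁻¹)) • x) + (d * c⁻¹) • x := by module
  rw [h3, h2, zero_add]

end Cfsg.Agent.R2.F4L
end

-- part: R2/F4L/TupC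
section
/-!
# Multiplicities (helper2, S5931)

* `count_two` : two independent, isotropic and orthogonal copies of `V_b` : multiplicity at least 4;
* `ts4_orth` : the form on two tuples of type `(4, i)`;
* `Em.dul` : the duality; `Cx.hv_of` : `x_4 ^ # = 0` if the label of weight `8 p ^ i` is not a factor;
* `Cx.dead4` : the tuples of type `(4, i)`.
-/

set_option autoImplicit false
set_option linter.unusedSectionVars false
set_option linter.unusedVariables false

namespace Cfsg.Agent.R2.F4L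

open Cfsg.Lie
open Cfsg.Agent.ChevalleyStructure.E6Min.Tables Cfsg.Agent.ChevalleyStructure.E6Min.Basic
open Cfsg.Agent.H952.F4 (sh cr tf tr1 u0)
open Cfsg.Agent.H952.F4.Jord
open Cfsg.Agent.H943.SL2Rel Cfsg.Agent.H943.SL2Mod Cfsg.Agent.R2.H28.SL2 Cfsg.Agent.H943.RepAdd
open Cfsg.Agent.R2.GEO (tfB tfB_apply)

universe u v w

variable {k : Type u} [Field k] [DecidableEq k] {K : Type w} [Field K] [Fintype K] [DecidableEq K] {ι : K →+* k}
variable {p : ℕ} [Fact p.Prime] [CharP k p] [CharP K p] {a : ℕ}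

section Count

variable [IsAlgClosed k]
variable {V : Type v} [AddCommGroup V] [Module k V] [FiniteDimensional k V]
  {σ : Representation k (Matrix.SpecialLinearGroup (Fin 2) K) V}

theorem cf_le_of_inj {V' : Type v} [AddCommGroup V'] [Module k V'] [FiniteDimensional k V']
    {σ' : Representation k (Matrix.SpecialLinearGroup (Fin 2) K) V'} (f : V →ₗ[k] V') (hf : ∀ g x, f (σ g x) = σ' g (f x))
    (hi : Function.Injective f) : cf (Sy.{u, v, w} ι p) σ ≤ cf (Sy.{u, v, w} ι p) σ' := by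
  obtain ⟨hk, hr, h1, -⟩ := cf_exact (Sy.{u, v, w} ι p) σ σ' f hf
  have hsub : Subsingleton (LinearMap.ker f) := by
    rw [LinearMap.ker_eq_bot.2 hi]
    infer_instance
  rw [h1, cf_zero (Sy.{u, v, w} ι p) (subRep σ _ hk), zero_add]
  exact cf_sub_le _ _ _ _

theorem count_sup {b : ℕ} {X Y : Submodule k V} {hX : ∀ g, ∀ x ∈ X, σ g x ∈ X} {hY : ∀ g, ∀ x ∈ Y, σ g x ∈ Y}
    (hVX : IsV ι p (subRep σ X hX) b) (hVY : IsV ι p (subRep σ Y hY) b) (hne : ¬ Y ≤ X)
    (hW : ∀ g, ∀ x ∈ X ⊔ Y, σ g x ∈ X ⊔ Y) : 2 ≤ (cf (Sy.{u, v, w} ι p) (subRep σ (X ⊔ Y) hW)).count b := by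
  set τ := subRep σ (X ⊔ Y) hW with hτ
  let X' : Submodule k (X ⊔ Y : Submodule k V) := X.comap (X ⊔ Y : Submodule k V).subtype
  have hX' : ∀ g, ∀ x ∈ X', τ g x ∈ X' := fun g x hx => hX g _ hx
  have h1 := cf_add (Sy.{u, v, w} ι p) τ X' hX'
  have h2 : b ∈ cf (Sy.{u, v, w} ι p) (subRep τ X' hX') := by
    refine InSoc.mem_cf ι p (inSoc_of_hom ι p hVX
      ((Submodule.inclusion (le_sup_left : X ≤ X ⊔ Y)).codRestrict X' fun x => x.2) (fun g x => rfl) ?_)
    intro h0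
    obtain ⟨x, hx⟩ := @exists_ne X (IsV.irr ι p hVX).1 0
    apply hx
    have e := LinearMap.congr_fun h0 x
    exact Subtype.ext (congrArg (fun z : X' => ((z : (X ⊔ Y : Submodule k V)) : V)) e)
  have h3 : b ∈ cf (Sy.{u, v, w} ι p) (quotRep τ X' hX') := by
    refine InSoc.mem_cf ι p (inSoc_of_hom ι p hVY
      (X'.mkQ ∘ₗ Submodule.inclusion (le_sup_right : Y ≤ X ⊔ Y)) (fun g x => ?_) ?_)
    · rw [LinearMap.comp_apply, LinearMap.comp_apply, quotRep_mk]
      rfl
    · intro h0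
      apply hne
      intro y hy
      have e := LinearMap.congr_fun h0 ⟨y, hy⟩
      exact (Submodule.Quotient.mk_eq_zero X').1 e
  rw [h1, Multiset.count_add]
  have h4 := Multiset.one_le_count_iff_mem.2 h2
  have h5 := Multiset.one_le_count_iff_mem.2 h3
  omega

/-- **two independent, isotropic and orthogonal copies** -/
theorem count_two {P : V →ₗ[k] V →ₗ[k] k} (D : Dul σ σ P) {b : ℕ} {X Y : Submodule k V} {hX : ∀ g, ∀ x ∈ X, σ g x ∈ X}
    {hY : ∀ g, ∀ x ∈ Y, σ g x ∈ Y}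
    (hVX : IsV ι p (subRep σ X hX) b) (hVY : IsV ι p (subRep σ Y hY) b) (hne : ¬ Y ≤ X)
    (hXX : ∀ x ∈ X, ∀ y ∈ X, P x y = 0) (hXY : ∀ x ∈ X, ∀ y ∈ Y, P x y = 0) (hYX : ∀ x ∈ Y, ∀ y ∈ X, P x y = 0)
    (hYY : ∀ x ∈ Y, ∀ y ∈ Y, P x y = 0) : 4 ≤ (cf (Sy.{u, v, w} ι p) σ).count b := by
  have hW : ∀ g, ∀ x ∈ X ⊔ Y, σ g x ∈ X ⊔ Y := by
    intro g x hx
    obtain ⟨y, hy, z, hz, rfl⟩ := Submodule.mem_sup.1 hx
    rw [map_add]
    exact Submodule.add_mem_sup (hX g y hy) (hY g z hz)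
  have h1 := count_sup hVX hVY hne hW
  obtain ⟨B, D', -⟩ := D.sub hW
  have h2 := cf_dual ι p D'
  have h3 := cf_add (Sy.{u, v, w} ι p) σ (orth P (X ⊔ Y)) (D.orth_inv hW)
  have hle : X ⊔ Y ≤ orth P (X ⊔ Y) := by
    intro y hy x hx
    obtain ⟨x1, hx1, x2, hx2, rfl⟩ := Submodule.mem_sup.1 hx
    obtain ⟨y1, hy1, y2, hy2, rfl⟩ := Submodule.mem_sup.1 hy
    rw [map_add, map_add, LinearMap.add_apply, LinearMap.add_apply, hXX x1 hx1 y1 hy1, hXY x1 hx1 y2 hy2,
      hYX x2 hx2 y1 hy1, hYY x2 hx2 y2 hy2]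
    simp
  have h4 : cf (Sy.{u, v, w} ι p) (subRep σ (X ⊔ Y) hW) ≤
      cf (Sy.{u, v, w} ι p) (subRep σ (orth P (X ⊔ Y)) (D.orth_inv hW)) :=
    cf_le_of_inj (Submodule.inclusion hle) (fun _ _ => rfl) (Submodule.inclusion_injective hle)
  have h5 := Multiset.le_iff_count.1 h4 b
  rw [h3, Multiset.count_add, h2]
  omega

/-- **one isotropic copy** -/
theorem count_one {P : V →ₗ[k] V →ₗ[k] k} (D : Dul σ σ P) {b : ℕ} {X : Submodule k V} {hX : ∀ g, ∀ x ∈ X, σ g x ∈ X}
    (hVX : IsV ι p (subRep σ X hX) b) (hXX : ∀ x ∈ X, ∀ y ∈ X, P x y = 0) : 2 ≤ (cf (Sy.{u, v, w} ι p) σ).count b := by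
  obtain ⟨B, D', -⟩ := D.sub hX
  have h2 := cf_dual ι p D'
  have h3 := cf_add (Sy.{u, v, w} ι p) σ (orth P X) (D.orth_inv hX)
  have hle : X ≤ orth P X := fun y hy x hx => hXX x hx y hy
  have h4 : cf (Sy.{u, v, w} ι p) (subRep σ X hX) ≤
      cf (Sy.{u, v, w} ι p) (subRep σ (orth P X) (D.orth_inv hX)) :=
    cf_le_of_inj (Submodule.inclusion hle) (fun _ _ => rfl) (Submodule.inclusion_injective hle)
  have h5 := Multiset.le_iff_count.1 h4 b
  have h6 : (cf (Sy.{u, v, w} ι p) (subRep σ X hX)).count b = 1 := by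
    rw [cf_irr (Sy.{u, v, w} ι p) hVX, Multiset.count_singleton_self]
  rw [h3, Multiset.count_add, h2]
  omega

end Count

section Form

variable {ρ : Representation k (Matrix.SpecialLinearGroup (Fin 2) K) (I27 → k)} {i : ℕ} {x y : ℕ → I27 → k}

/-- the torus -/
theorem ts4_tf_off (H : Act ρ) (hQ : 11 ≤ Fintype.card K) (hx : TS ι p ρ 4 i x) (hy : TS ι p ρ 4 i y) {s t : ℕ}
    (hs : s ≤ 4) (ht : t ≤ 4) (hst : s + t ≠ 4) : tf (x s) (y t) = 0 := by
  obtain ⟨lam, hlam⟩ := exists_prim (k := k) ι i p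
  set α : k := ι lam ^ p ^ i with hα
  have hα0 : α ≠ 0 := pow_ne_zero _ ((map_ne_zero ι).2 lam.ne_zero)
  have h1 := H.tf (Cfsg.Agent.H943.SL2Rel.h lam) (x s) (y t)
  rw [hx.h' hs lam, hy.h' ht lam, tf_smul_left, tf_smul_right, ← hα] at h1
  have h2 : (α ^ (2 * ((s : ℤ) + t - 4)) - 1) * tf (x s) (y t) = 0 := by
    rw [sub_mul, one_mul, sub_eq_zero]
    refine Eq.trans ?_ h1
    rw [← mul_assoc, ← zpow_add₀ hα0]
    congr 2
    push_cast
    ring
  refine (mul_eq_zero.1 h2).resolve_left (sub_ne_zero.2 ?_)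
  intro h3
  have h4 : (Fintype.card K - 1 : ℕ) ∣ (2 * ((s : ℤ) + t - 4)).natAbs := by
    rw [hlam.zpow_eq_one_iff_dvd] at h3
    exact Int.natCast_dvd.1 h3
  have h5 := Nat.le_of_dvd (by omega) h4
  omega

/-- **the form on two tuples** -/
theorem ts4_orth (H : Act ρ) (hp5 : 5 ≤ p) (hQ : 11 ≤ Fintype.card K) (hx : TS ι p ρ 4 i x) (hy : TS ι p ρ 4 i y)
    (h0 : tf (x 2) (y 2) = 0) (s t : ℕ) : tf (x s) (y t) = 0 := by
  have h2 : (2 : k) ≠ 0 := two_ne p (by omega)
  have key : ∀ {x y : ℕ → I27 → k}, TS ι p ρ 4 i x → TS ι p ρ 4 i y → tf (x 2) (y 2) = 0 →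
      tf (x 1) (y 3) = 0 ∧ tf (x 0) (y 4) = 0 := by
    intro x y hx hy h0
    have e1 : tf (x 1) (y 3) = 0 := by
      have h3 : ∀ t : K, ∑ j ∈ Finset.range 6, (ι t ^ p ^ i) ^ j •
          (match j with
            | 1 => 2 * tf (x 1) (y 3) + 3 * tf (x 2) (y 2)
            | 2 => tf (x 1) (y 4) + 6 * tf (x 2) (y 3) + 3 * tf (x 3) (y 2)
            | 3 => 3 * tf (x 2) (y 4) + 6 * tf (x 3) (y 3) + tf (x 4) (y 2)
            | 4 => 3 * tf (x 3) (y 4) + 2 * tf (x 4) (y 3)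
            | 5 => tf (x 4) (y 4)
            | _ => 0 : k) = 0 := by
        intro t
        have h4 := H.tf (Cfsg.Agent.H943.SL2Rel.u t) (x 1) (y 2)
        rw [ts4_u1 hx, ts4_u2 hy] at h4
        simp only [tf_add_left, tf_add_right, tf_smul_left, tf_smul_right] at h4
        simp only [Finset.sum_range_succ, Finset.sum_range_zero, smul_eq_mul]
        linear_combination h4
      have h4 := poly0 ι (by omega) p i h3 1 (by norm_num)
      have h5 : 2 * tf (x 1) (y 3) + 3 * tf (x 2) (y 2) = 0 := h4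
      rw [h0, mul_zero, add_zero] at h5
      exact (mul_eq_zero.1 h5).resolve_left h2
    refine ⟨e1, ?_⟩
    have h3 : ∀ t : K, ∑ j ∈ Finset.range 6, (ι t ^ p ^ i) ^ j •
          (match j with
            | 1 => tf (x 0) (y 4) + 4 * tf (x 1) (y 3)
            | 2 => 4 * tf (x 1) (y 4) + 6 * tf (x 2) (y 3)
            | 3 => 6 * tf (x 2) (y 4) + 4 * tf (x 3) (y 3)
            | 4 => 4 * tf (x 3) (y 4) + tf (x 4) (y 3)
            | 5 => tf (x 4) (y 4)
            | _ => 0 : k) = 0 := by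
      intro t
      have h4 := H.tf (Cfsg.Agent.H943.SL2Rel.u t) (x 0) (y 3)
      rw [ts4_u0 hx, ts4_u3 hy] at h4
      simp only [tf_add_left, tf_add_right, tf_smul_left, tf_smul_right] at h4
      simp only [Finset.sum_range_succ, Finset.sum_range_zero, smul_eq_mul]
      linear_combination h4
    have h4 := poly0 ι (by omega) p i h3 1 (by norm_num)
    have h5 : tf (x 0) (y 4) + 4 * tf (x 1) (y 3) = 0 := h4
    rw [e1, mul_zero, add_zero] at h5
    exact h5
  obtain ⟨e13, e04⟩ := key hx hy h0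
  obtain ⟨e31, e40⟩ := key hy hx (by rw [tf_comm]; exact h0)
  by_cases hs : 4 < s
  · rw [hx.zero s hs, tf_zero_left]
  by_cases ht : 4 < t
  · rw [hy.zero t ht, tf_comm, tf_zero_left]
  by_cases hst : s + t = 4
  · have hs' : s = 0 ∨ s = 1 ∨ s = 2 ∨ s = 3 ∨ s = 4 := by omega
    rcases hs' with rfl | rfl | rfl | rfl | rfl
    · rw [show t = 4 by omega]; exact e04
    · rw [show t = 3 by omega]; exact e13
    · rw [show t = 2 by omega]; exact h0
    · rw [show t = 1 by omega, tf_comm]; exact e31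
    · rw [show t = 0 by omega, tf_comm]; exact e40
  · exact ts4_tf_off H hQ hx hy (by omega) (by omega) hst

end Form

end Cfsg.Agent.R2.F4L
end

-- part: R2/F4L/TupD
section
/-!
# Tuples in the Albert algebra (helper2, S5931)

* `Em.dul` : the duality; `Em.lift` : tuples lie in `J_0`;
* `Cx.hv_of` : `x_4 ^ # = 0` if the label of weight `8 p ^ i` is not a factor;
* `Cx.dead4` : the tuples of type `(4, i)`.
-/

set_option autoImplicit false
set_option linter.unusedSectionVars false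
set_option linter.unusedVariables false

namespace Cfsg.Agent.R2.F4L

open Cfsg.Lie
open Cfsg.Agent.ChevalleyStructure.E6Min.Tables Cfsg.Agent.ChevalleyStructure.E6Min.Basic
open Cfsg.Agent.H952.F4 (sh cr tf tr1 u0)
open Cfsg.Agent.H952.F4.Jord
open Cfsg.Agent.H952.F4.FixV (trL trL_apply)
open Cfsg.Agent.H943.SL2Rel Cfsg.Agent.H943.SL2Mod Cfsg.Agent.R2.H28.SL2 Cfsg.Agent.H943.RepAdd
open Cfsg.Agent.R2.GEO (tfB tfB_apply)

universe u v w

variable {k : Type u} [Field k] [DecidableEq k] {K : Type w} [Field K] [Fintype K] [DecidableEq K] {ι : K →+* k}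
variable {p : ℕ} [Fact p.Prime] [CharP k p] [CharP K p] {a : ℕ}

section Tup

variable {V : Type v} [AddCommGroup V] [Module k V] {σ : Representation k (Matrix.SpecialLinearGroup (Fin 2) K) V}
variable {n i : ℕ} {x y : ℕ → V}

/-- the image of a tuple -/
theorem TS.map {V' : Type*} [AddCommGroup V'] [Module k V'] {σ' : Representation k (Matrix.SpecialLinearGroup (Fin 2) K) V'}
    (hx : TS ι p σ n i x) (f : V →ₗ[k] V') (hf : ∀ g x, f (σ g x) = σ' g (f x)) :
    TS ι p σ' n i (fun s => f (x s)) where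
  zero := fun s hs => by rw [hx.zero s hs, map_zero]
  u := fun s hs t => by
    rw [← hf, hx.u s hs, map_sum]
    exact Finset.sum_congr rfl fun j _ => map_smul _ _ _
  h := fun s hs b => by rw [← hf, hx.h s hs, map_smul]
  w := fun s hs => by rw [← hf, hx.w s hs, map_smul]

/-- tuples pull back along injective maps -/
theorem TS.comap {V' : Type*} [AddCommGroup V'] [Module k V'] {σ' : Representation k (Matrix.SpecialLinearGroup (Fin 2) K) V'}
    (f : V →ₗ[k] V') (hf : ∀ g x, f (σ g x) = σ' g (f x)) (hi : Function.Injective f)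
    (hx : TS ι p σ' n i (fun s => f (x s))) : TS ι p σ n i x where
  zero := fun s hs => hi (by rw [map_zero]; exact hx.zero s hs)
  u := fun s hs t => hi (by
    rw [hf, map_sum]
    refine (hx.u s hs t).trans (Finset.sum_congr rfl fun j _ => (map_smul _ _ _).symm))
  h := fun s hs b => hi (by rw [hf, map_smul]; exact hx.h s hs b)
  w := fun s hs => hi (by rw [hf, map_smul]; exact hx.w s hs)

theorem p_le (K : Type w) [Field K] [Fintype K] (p : ℕ) [Fact p.Prime] [CharP K p] : p ≤ Fintype.card K := by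
  obtain ⟨n, hp, hn⟩ := FiniteField.card K p
  rw [hn]
  exact Nat.le_self_pow n.ne_zero p

/-- tuples in a trivial module -/
theorem TS.triv (hn : n < p) (hn1 : 1 ≤ n) (hb : n * p ^ i ≤ Fintype.card K - 1) (hx : TS ι p σ n i x)
    (ht : ∀ g v, σ g v = v) : x = 0 := by
  refine hx.zero_of hn hb (s := n) le_rfl ?_
  have hpK := p_le K p
  have h1 : ∀ t : K, ∑ j ∈ Finset.range (n + 1), (ι t ^ p ^ i) ^ j •
      (if j = 0 then (0 : V) else ((n.choose j : k)) • x j) = 0 := by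
    intro t
    have h2 := hx.u_bot t
    rw [ht, Finset.sum_range_succ', Nat.choose_zero_right, Nat.cast_one, pow_zero, mul_one, one_smul] at h2
    have h3 := right_eq_add.1 h2
    rw [Finset.sum_range_succ', if_pos rfl, smul_zero, add_zero]
    refine Eq.trans (Finset.sum_congr rfl fun j _ => ?_) h3
    rw [if_neg (Nat.succ_ne_zero j), smul_smul, mul_comm]
  have h2 := poly0 ι (by omega) p i h1 n (by omega)
  rw [if_neg (by omega), Nat.choose_self, Nat.cast_one, one_smul] at h2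
  exact h2

/-- the elements of the span of a tuple -/
theorem TS.mem_span (hx : TS ι p σ n i x) {m : V} (hm : m ∈ Submodule.span k (Set.range x)) :
    ∃ c : ℕ → k, m = ∑ s ∈ Finset.range (n + 1), c s • x s := by
  induction hm using Submodule.span_induction with
  | mem m hm =>
    obtain ⟨s, rfl⟩ := hm
    by_cases hs : s ≤ n
    · refine ⟨fun j => if j = s then 1 else 0, ?_⟩
      rw [Finset.sum_eq_single s]
      · show x s = (if s = s then (1 : k) else 0) • x s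
        rw [if_pos rfl, one_smul]
      · intro j _ hj
        show (if j = s then (1 : k) else 0) • x j = 0
        rw [if_neg hj, zero_smul]
      · intro h
        exact absurd (Finset.mem_range.2 (by omega)) h
    · exact ⟨0, by rw [hx.zero s (by omega)]; simp⟩
  | zero => exact ⟨0, by simp⟩
  | add m m' _ _ h h' =>
    obtain ⟨c, rfl⟩ := h
    obtain ⟨c', rfl⟩ := h'
    refine ⟨c + c', ?_⟩
    rw [← Finset.sum_add_distrib]
    exact Finset.sum_congr rfl fun s _ => (add_smul _ _ _).symm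
  | smul b m _ h =>
    obtain ⟨c, rfl⟩ := h
    refine ⟨b • c, ?_⟩
    rw [Finset.smul_sum]
    exact Finset.sum_congr rfl fun s _ => smul_smul _ _ _

end Tup

section Emb

variable {ρ : Representation k (Matrix.SpecialLinearGroup (Fin 2) K) (I27 → k)}
variable {V : Type v} [AddCommGroup V] [Module k V] {σ : Representation k (Matrix.SpecialLinearGroup (Fin 2) K) V}
variable {j : V →ₗ[k] (I27 → k)} {n i : ℕ}

/-- the form on `V` -/
noncomputable def Pj (j : V →ₗ[k] (I27 → k)) : V →ₗ[k] V →ₗ[k] k := (tfB k).compl₁₂ j j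

theorem Pj_apply (x y : V) : Pj j x y = tf (j x) (j y) := rfl

/-- **duality** -/
theorem Em.dul (E : Em ρ σ j) (H : Act ρ) (h3 : (3 : k) ≠ 0) : Dul σ σ (Pj j) := by
  have key : ∀ x : V, (∀ y, tf (j x) (j y) = 0) → x = 0 := by
    intro x hx
    apply E.inj
    rw [map_zero]
    refine tf_nondeg fun y => ?_
    have h1 : tr1 (y + (-(tr1 y * 3⁻¹)) • u0 k) = 0 := by
      rw [tr1_add, tr1_smul, tr1_u0]
      field_simp
      ring
    obtain ⟨z, hz⟩ := E.sur _ h1
    have h2 := hx z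
    rw [hz, tf_add_right, tf_smul_right, tf_comm (j x) (u0 k), tf_u0, E.tr, mul_zero, add_zero] at h2
    exact h2
  exact ⟨fun g x y => by rw [Pj_apply, Pj_apply, E.eqv, E.eqv, H.tf], key,
    fun y hy => key y fun x => by rw [tf_comm]; exact hy x⟩

/-- tuples of positive type have trace zero -/
theorem ts_tr (H : Act ρ) (hn : n < p) (hn1 : 1 ≤ n) (hb : n * p ^ i ≤ Fintype.card K - 1) {y : ℕ → I27 → k}
    (hy : TS ι p ρ n i y) (s : ℕ) : tr1 (y s) = 0 := by
  have h1 : TS ι p (1 : Representation k (Matrix.SpecialLinearGroup (Fin 2) K) k) n i (fun s => trL k (y s)) :=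
    hy.map (trL k) (fun g x => by
      rw [trL_apply, trL_apply, H.tr]
      rfl)
  have h2 := h1.triv hn hn1 hb (fun g v => rfl)
  have h3 := congrFun h2 s
  rw [trL_apply] at h3
  exact h3

/-- **tuples lie in `J_0`** -/
theorem Em.lift (E : Em ρ σ j) (H : Act ρ) (hn : n < p) (hn1 : 1 ≤ n) (hb : n * p ^ i ≤ Fintype.card K - 1)
    {y : ℕ → I27 → k} (hy : TS ι p ρ n i y) : ∃ x : ℕ → V, TS ι p σ n i x ∧ ∀ s, j (x s) = y s := by
  have h1 : ∀ s, ∃ x, j x = y s := fun s => E.sur _ (ts_tr H hn hn1 hb hy s)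
  choose x hx using h1
  refine ⟨x, TS.comap (σ' := ρ) j E.eqv E.inj ?_, hx⟩
  have : (fun s => j (x s)) = y := funext hx
  rw [this]
  exact hy

theorem Em.push (E : Em ρ σ j) {x : ℕ → V} (hx : TS ι p σ n i x) : TS ι p ρ n i (fun s => j (x s)) := hx.map j E.eqv

section Alg

variable [IsAlgClosed k] [FiniteDimensional k V]

/-- **highest weight vectors in `J_0`** -/
theorem Cx.hw0 (C : Cx ι p a ρ) (E : Em ρ σ j) {m : I27 → k} (hu : ∀ t, ρ (u t) m = m) {c : ℕ}
    (hh : ∀ b : Kˣ, ρ (h b) m = ι b ^ c • m) (hc : c < Fintype.card K) (hc0 : c ≠ 0) (hc1 : c ≠ Fintype.card K - 1)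
    (hcf : c ∉ cf (Sy.{u, v, w} ι p) σ) : m = 0 := by
  by_contra hm
  have htr : tr1 m = 0 := by
    obtain ⟨lam, hlam⟩ := exists_prim (k := k) ι 0 p
    rw [pow_zero, pow_one] at hlam
    have h1 := C.act.tr (Cfsg.Agent.H943.SL2Rel.h lam) m
    rw [hh, tr1_smul] at h1
    have h2 : (ι lam ^ c - 1) * tr1 m = 0 := by linear_combination h1
    refine (mul_eq_zero.1 h2).resolve_left (sub_ne_zero.2 fun h3 => ?_)
    have h4 := Nat.le_of_dvd (by omega) ((hlam.pow_eq_one_iff_dvd c).1 h3)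
    omega
  obtain ⟨v, rfl⟩ := E.sur m htr
  have hv : v ≠ 0 := by
    rintro rfl
    exact hm (map_zero j)
  obtain ⟨b, hb, hb'⟩ := hw_mem_cf.{u, v, w} (c := c) (ρ := σ) ι p hv (fun t => E.inj (by rw [E.eqv, hu])) (fun b => E.inj (by
    rw [E.eqv, hh, map_smul]))
  have h1 : b < Fintype.card K := by
    rw [C.card]
    exact cf_lt ι p C.card σ b hb
  rw [label_eq ι h1 hc hc0 hc1 hb'] at hb
  exact hcf hb

/-- `x_4 ^ # = 0` -/
theorem Cx.hv_of (C : Cx ι p a ρ) (E : Em ρ σ j) {c : ℕ} (hw8 : ∀ b : Kˣ, ι b ^ (8 * p ^ i) = ι b ^ c)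
    (hc : c < Fintype.card K) (hc0 : c ≠ 0) (hc1 : c ≠ Fintype.card K - 1)
    (hcf : c ∉ cf (Sy.{u, v, w} ι p) σ) {y : ℕ → I27 → k} (hy : TS ι p ρ 4 i y) : sh (y 4) = 0 := by
  refine C.hw0 E (fun t => ?_) (c := c) (fun b => ?_) hc hc0 hc1 hcf
  · rw [C.act.sh, hy.u_top]
  · rw [C.act.sh, hy.h 4 le_rfl, sh_smul, ← hw8]
    congr 1
    ring

theorem Cx.hQ (C : Cx ι p a ρ) (h : p ≠ 5 ∨ 2 ≤ a) (h' : p ≠ 7 ∨ 2 ≤ a) : 11 ≤ Fintype.card K := by
  have hp5 := C.hp5
  have hp : p.Prime := Fact.out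
  rw [C.card]
  have ha : 1 ≤ a := by
    have := C.seven
    rw [C.card] at this
    by_contra h0
    rw [show a = 0 by omega, pow_zero] at this
    omega
  by_cases ha2 : 2 ≤ a
  · calc 11 ≤ 5 ^ 2 := by norm_num
      _ ≤ p ^ 2 := Nat.pow_le_pow_left hp5 2
      _ ≤ p ^ a := Nat.pow_le_pow_right hp.pos ha2
  · have h5 : p ≠ 5 := h.resolve_right ha2
    have h7 : p ≠ 7 := h'.resolve_right ha2
    have h6 : p ≠ 6 := by rintro rfl; revert hp; norm_num
    have h8 : p ≠ 8 := by rintro rfl; revert hp; norm_num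
    have h9 : p ≠ 9 := by rintro rfl; revert hp; norm_num
    have h10 : p ≠ 10 := by rintro rfl; revert hp; norm_num
    calc 11 ≤ p := by omega
      _ = p ^ 1 := (pow_one p).symm
      _ ≤ p ^ a := Nat.pow_le_pow_right hp.pos ha

/-- the hypotheses of `F4Hyp` -/
theorem Cx.f4 (C : Cx ι p a ρ) (hQ : 11 ≤ Fintype.card K) (hv : ∀ y, TS ι p ρ 4 i y → sh (y 4) = 0) : F4Hyp ι p ρ i :=
  ⟨C.act, C.hp5, hQ, C.fix, hv⟩

theorem Cx.lt_card (C : Cx ι p a ρ) (hn : n < p) (hi : i < a) : n * p ^ i ≤ Fintype.card K - 1 := by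
  have := single_lt p hn hi
  rw [C.card]
  omega

/-- the white tuples -/
theorem Cx.ts_white (C : Cx ι p a ρ) (hn : n < p) (hi : i < a) {y : ℕ → I27 → k} (hy : TS ι p ρ n i y)
    (hs : ∀ c : ℕ → k, sh (∑ s ∈ Finset.range (n + 1), c s • y s) = 0) : y = 0 := by
  by_contra h0
  obtain ⟨hX, -⟩ := hy.isV hn (C.lt_card hn hi) h0
  have h1 := C.white _ hX (fun m hm => by
    obtain ⟨c, rfl⟩ := hy.mem_span hm
    exact hs c)
  apply h0
  funext s
  have h2 : y s ∈ Submodule.span k (Set.range y) := Submodule.subset_span ⟨s, rfl⟩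
  rw [h1, Submodule.mem_bot] at h2
  exact h2

/-- **the tuples of type `(4, i)`** -/
theorem Cx.dead4 (C : Cx ι p a ρ) (E : Em ρ σ j) (hQ : 11 ≤ Fintype.card K) (hi : i < a)
    (hv : ∀ y, TS ι p ρ 4 i y → sh (y 4) = 0) (hc : (cf (Sy.{u, v, w} ι p) σ).count (4 * p ^ i) ≤ 3)
    (h : InSoc ι p σ (4 * p ^ i)) :
    ∃ z : ℕ → I27 → k, TS ι p ρ 4 i z ∧ tf (z 2) (z 2) ≠ 0 ∧ ∀ y : ℕ → I27 → k, TS ι p ρ 4 i y → ∃ c : k, y = c • z := by
  have hp5 := C.hp5
  have hF := C.f4 hQ hv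
  have hb := C.lt_card (n := 4) (i := i) (by omega) hi
  obtain ⟨X, hX, hV⟩ := h
  obtain ⟨x, hx, hxJ, hxX, hspan, hne⟩ := ts_of_isV E (by omega : 4 < p) hV
  refine hF.dead ?_ ?_ hxJ (fun h0 => hne 0 (by norm_num) (E.inj (by rw [map_zero]; exact congrFun h0 0)))
  · intro y hy hs
    refine C.ts_white (by omega) hi hy fun c => ?_
    simp only [Finset.sum_range_succ, Finset.sum_range_zero, zero_add]
    exact hs _ _ _ _ _
  · intro y z hy hz hry hrz hy0
    by_contra hne'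
    obtain ⟨y', hy', ey⟩ := E.lift C.act (by omega) (by norm_num) hb hy
    obtain ⟨z', hz', ez⟩ := E.lift C.act (by omega) (by norm_num) hb hz
    have hy0' : y' ≠ 0 := by
      rintro rfl
      apply hy0
      funext s
      rw [← ey s]
      exact map_zero j
    have hz0' : z' ≠ 0 := by
      rintro rfl
      apply hne'
      refine ⟨0, funext fun s => ?_⟩
      rw [← ez s, zero_smul]
      exact map_zero j
    obtain ⟨hY, hVY⟩ := hy'.isV (by omega) hb hy0'
    obtain ⟨hZ, hVZ⟩ := hz'.isV (by omega) hb hz0'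
    have hle : ¬ Submodule.span k (Set.range z') ≤ Submodule.span k (Set.range y') := by
      intro hle
      obtain ⟨c, hc⟩ := hy'.schur (by omega) hz' hVY (fun s => Submodule.subset_span ⟨s, rfl⟩)
        (fun s => hle (Submodule.subset_span ⟨s, rfl⟩)) hy0'
      apply hne'
      refine ⟨c, funext fun s => ?_⟩
      rw [← ez s, hc]
      show j (c • y' s) = c • y s
      rw [map_smul, ey s]
    have orth : ∀ {y z : ℕ → I27 → k} {y' z' : ℕ → V}, TS ι p ρ 4 i y → TS ι p ρ 4 i z → (∀ s, j (y' s) = y s) →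
        (∀ s, j (z' s) = z s) → RadT ι p ρ i y → ∀ m ∈ Submodule.span k (Set.range y'),
        ∀ m' ∈ Submodule.span k (Set.range z'), Pj j m m' = 0 := by
      intro y z y' z' hy hz ey ez hr m hm m' hm'
      have h1 := ts4_orth C.act C.hp5 hQ hy hz (hr z hz)
      induction hm using Submodule.span_induction with
      | mem m hm =>
        obtain ⟨s, rfl⟩ := hm
        induction hm' using Submodule.span_induction with
        | mem m' hm' =>
          obtain ⟨t, rfl⟩ := hm'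
          rw [Pj_apply, ey, ez]
          exact h1 s t
        | zero => rw [map_zero]
        | add a b _ _ ha hb => rw [map_add, ha, hb, add_zero]
        | smul c a _ ha => rw [map_smul, ha, smul_zero]
      | zero => rw [map_zero, LinearMap.zero_apply]
      | add a b _ _ ha hb => rw [map_add, LinearMap.add_apply, ha, hb, add_zero]
      | smul c a _ ha => rw [map_smul, LinearMap.smul_apply, ha, smul_zero]
    have h4 := count_two (E.dul C.act C.three) hVY hVZ hle (orth hy hy ey ey hry) (orth hy hz ey ez hry)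
      (orth hz hy ez ey hrz) (orth hz hz ez ez hrz)
    omega

end Alg

end Emb

end Cfsg.Agent.R2.F4L
end
end

-- part: R2/F4L/Bot
section
prune_inst 0x120444030620200001c001000000465c80005000043080008840d0a0c0126422041466116b00412008a10c44838006811100000420000000a000400411a008000881000004003000a008e008884000000000000000000000000000000010004000000000
set_option linter.all false
open scoped Cfsg.Agent.FastGrp

/-!
# Construction of tuples (helper2, S5931)

* `ts_of_bot` : tuples from the lowest weight vector.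
-/

set_option autoImplicit false
set_option linter.unusedSectionVars false
set_option linter.unusedVariables false

namespace Cfsg.Agent.R2.F4L

open Cfsg.Agent.H943.SL2Rel Cfsg.Agent.H943.SL2Mod Cfsg.Agent.R2.H28.SL2 Cfsg.Agent.H943.RepAdd

universe u v w

variable {k : Type u} [Field k] [DecidableEq k] {K : Type w} [Field K] [Fintype K] [DecidableEq K] {ι : K →+* k}
variable {p : ℕ} [Fact p.Prime] [CharP k p] [CharP K p] {a : ℕ}
variable {V : Type v} [AddCommGroup V] [Module k V] {ρ : Representation k (Matrix.SpecialLinearGroup (Fin 2) K) V}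
variable {n i : ℕ} {z : ℕ → V}

theorem choose_ne' (k : Type u) [Field k] {p : ℕ} [Fact p.Prime] [CharP k p] {n m : ℕ} (hn : n < p) (hm : m ≤ n) :
    (n.choose m : k) ≠ 0 := by
  intro h
  have h1 : p ∣ n.choose m := (CharP.cast_eq_zero_iff k p _).1 h
  have h2 : p ∣ n.factorial := by
    rw [← Nat.choose_mul_factorial_mul_factorial hm, mul_assoc]
    exact h1.mul_right _
  have h3 := ((Fact.out : p.Prime).dvd_factorial).1 h2
  omega

theorem iota_add (i : ℕ) (r t : K) : ι (r + t) ^ p ^ i = ι r ^ p ^ i + ι t ^ p ^ i := by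
  rw [map_add, add_pow_char_pow]

/-- the binomial expansion with vector coefficients -/
theorem binom_vec (A τ : k) (z : ℕ → V) (n : ℕ) :
    ∑ m ∈ Finset.range (n + 1), ((n.choose m : k) * (A + τ) ^ m) • z m =
      ∑ s ∈ Finset.range (n + 1), A ^ s • (n.choose s : k) •
        ∑ j ∈ Finset.range (n - s + 1), (((n - s).choose j : k) * τ ^ j) • z (s + j) := by
  have h1 : ∀ m ∈ Finset.range (n + 1), ((n.choose m : k) * (A + τ) ^ m) • z m =
      ∑ s ∈ Finset.range (n + 1), (A ^ s * τ ^ (m - s) * (m.choose s : k) * (n.choose m : k)) • z m := by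
    intro m hm
    rw [Finset.mem_range] at hm
    rw [add_pow, Finset.mul_sum, Finset.sum_smul]
    have hsub : Finset.range (m + 1) ⊆ Finset.range (n + 1) := Finset.range_mono (by omega)
    rw [← Finset.sum_subset hsub (f := fun s => (A ^ s * τ ^ (m - s) * (m.choose s : k) * (n.choose m : k)) • z m)]
    · exact Finset.sum_congr rfl fun s _ => by congr 1; ring
    · intro s _ hs
      rw [Finset.mem_range] at hs
      show (A ^ s * τ ^ (m - s) * (m.choose s : k) * (n.choose m : k)) • z m = 0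
      rw [Nat.choose_eq_zero_of_lt (by omega)]
      simp
  rw [Finset.sum_congr rfl h1, Finset.sum_comm]
  refine Finset.sum_congr rfl fun s hs => ?_
  rw [Finset.mem_range] at hs
  rw [Finset.smul_sum, Finset.smul_sum]
  have h2 : Finset.range (n + 1) = Finset.range (s + (n - s + 1)) := by
    congr 1
    omega
  rw [h2, Finset.sum_range_add]
  rw [Finset.sum_eq_zero (s := Finset.range s), zero_add]
  · refine Finset.sum_congr rfl fun j hj => ?_
    rw [Finset.mem_range] at hj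
    have h3 : ((s + j).choose s : k) * (n.choose (s + j) : k) = (n.choose s : k) * ((n - s).choose j : k) := by
      have h4 := Nat.choose_mul (n := n) (k := s + j) (s := s) (Nat.le_add_right s j)
      rw [Nat.add_sub_cancel_left] at h4
      rw [← Nat.cast_mul, ← Nat.cast_mul, mul_comm, h4]
    rw [smul_smul, smul_smul, Nat.add_sub_cancel_left]
    congr 1
    calc A ^ s * τ ^ j * ((s + j).choose s : k) * (n.choose (s + j) : k)
        = A ^ s * τ ^ j * (((s + j).choose s : k) * (n.choose (s + j) : k)) := by ring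
      _ = A ^ s * (n.choose s : k) * (((n - s).choose j : k) * τ ^ j) := by rw [h3]; ring
  · intro m hm
    rw [Finset.mem_range] at hm
    rw [Nat.choose_eq_zero_of_lt hm]
    simp

/-- **tuples from the lowest weight vector** -/
theorem ts_of_bot (hn : n < p) (hz : ∀ s, n < s → z s = 0)
    (hu : ∀ t, ρ (u t) (z 0) = ∑ m ∈ Finset.range (n + 1), ((n.choose m : k) * (ι t ^ p ^ i) ^ m) • z m)
    (hh : ∀ b : Kˣ, ρ (h b) (z 0) = (((ι b ^ p ^ i)⁻¹) ^ n) • z 0)
    (hw : ∀ s ≤ n, ρ w (z s) = (-1 : k) ^ s • z (n - s)) : TS ι p ρ n i z := by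
  have hpK := p_le K p
  refine ⟨hz, fun s hs t => ?_, fun s hs b => ?_, hw⟩
  · have h1 : ∀ r : K, ∑ s ∈ Finset.range (n + 1), (ι r ^ p ^ i) ^ s • ((n.choose s : k) • ρ (u t) (z s) -
        (n.choose s : k) • ∑ j ∈ Finset.range (n - s + 1), (((n - s).choose j : k) * (ι t ^ p ^ i) ^ j) • z (s + j)) = 0 := by
      intro r
      have h2 : ρ (Cfsg.Agent.H943.SL2Rel.u t) (ρ (Cfsg.Agent.H943.SL2Rel.u r) (z 0)) = ρ (Cfsg.Agent.H943.SL2Rel.u (r + t)) (z 0) := by
        rw [add_comm, u_add, map_mul, Module.End.mul_apply]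
      rw [hu r, hu (r + t), iota_add, binom_vec, map_sum] at h2
      simp only [smul_sub, Finset.sum_sub_distrib]
      rw [sub_eq_zero, ← h2]
      exact Finset.sum_congr rfl fun s _ => by rw [map_smul, smul_smul, mul_comm]
    have h2 := poly0 ι (by omega) p i h1 s (by omega)
    rw [← smul_sub] at h2
    exact sub_eq_zero.1 ((smul_eq_zero.1 h2).resolve_left (choose_ne' k hn hs))
  · have hb0 : ι (b : K) ^ p ^ i ≠ 0 := pow_ne_zero _ ((map_ne_zero ι).2 b.ne_zero)
    have h1 : ∀ r : K, ∑ s ∈ Finset.range (n + 1), (ι r ^ p ^ i) ^ s • ((n.choose s : k) • ρ (Cfsg.Agent.H943.SL2Rel.h b) (z s) -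
        ((n.choose s : k) * ((ι b ^ p ^ i) ^ s * ((ι b ^ p ^ i)⁻¹) ^ (n - s))) • z s) = 0 := by
      intro r
      have h2 : ρ (Cfsg.Agent.H943.SL2Rel.h b) (ρ (Cfsg.Agent.H943.SL2Rel.u r) (z 0)) =
          ρ (Cfsg.Agent.H943.SL2Rel.u ((b : K) ^ 2 * r)) (ρ (Cfsg.Agent.H943.SL2Rel.h b) (z 0)) := by
        rw [← Module.End.mul_apply, ← Module.End.mul_apply, ← map_mul, ← map_mul, h_u]
      rw [hh, map_smul, hu, hu, map_sum, Finset.smul_sum] at h2
      simp only [smul_sub, Finset.sum_sub_distrib]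
      rw [sub_eq_zero]
      refine Eq.trans (Finset.sum_congr rfl fun s _ => ?_) (h2.trans (Finset.sum_congr rfl fun s hs => ?_))
      · rw [map_smul, smul_smul, mul_comm]
      · rw [Finset.mem_range] at hs
        rw [smul_smul, smul_smul]
        congr 1
        rw [map_mul, map_pow, mul_pow, ← pow_mul, ← pow_mul, mul_pow, ← pow_mul]
        have h3 : ((ι b ^ p ^ i)⁻¹) ^ n * ι b ^ (2 * p ^ i * s) = (ι b ^ p ^ i) ^ s * ((ι b ^ p ^ i)⁻¹) ^ (n - s) := by
          have e1 : ((ι (b : K) ^ p ^ i)⁻¹) ^ n = ((ι b ^ p ^ i)⁻¹) ^ s * ((ι b ^ p ^ i)⁻¹) ^ (n - s) := by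
            rw [← pow_add]
            congr 1
            omega
          have e2 : ι (b : K) ^ (2 * p ^ i * s) = (ι b ^ p ^ i) ^ s * (ι b ^ p ^ i) ^ s := by
            rw [← pow_add, ← pow_mul]
            congr 1
            ring
          have e3 : ((ι (b : K) ^ p ^ i)⁻¹) ^ s * (ι b ^ p ^ i) ^ s = 1 := by
            rw [← mul_pow, inv_mul_cancel₀ hb0, one_pow]
          rw [e1, e2]
          calc ((ι (b : K) ^ p ^ i)⁻¹) ^ s * ((ι b ^ p ^ i)⁻¹) ^ (n - s) * ((ι b ^ p ^ i) ^ s * (ι b ^ p ^ i) ^ s)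
              = (((ι (b : K) ^ p ^ i)⁻¹) ^ s * (ι b ^ p ^ i) ^ s) * ((ι b ^ p ^ i) ^ s * ((ι b ^ p ^ i)⁻¹) ^ (n - s)) := by ring
            _ = _ := by rw [e3, one_mul]
        rw [← h3]
        ring
    have h2 := poly0 ι (by omega) p i h1 s (by omega)
    rw [mul_smul, ← smul_sub] at h2
    exact sub_eq_zero.1 ((smul_eq_zero.1 h2).resolve_left (choose_ne' k hn hs))

end Cfsg.Agent.R2.F4L
end

-- part: R2/H27/F4Th/Exc
section
prune_inst 0x120444030620200001c0512300000210000040000400800d8c40d0e084330622941604102301c02004eac800800006000100010402800000a00040000010000008112029148a10020008e000080000000000000000000000000000000051004000000000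
set_option linter.all false
open scoped Cfsg.Agent.FastGrp

/-!
# S5931, theta types: the exceptional cases (helper27)

`core7`, `core11` : `N(Y, Y, X) = 0` for `J₀ = X ⊥ Y` by the weights of a torus element and the identities of the Albert algebra.
-/

set_option autoImplicit false
set_option linter.unusedSectionVars false

namespace Cfsg.Agent.R2.H27.F4Th

open Cfsg.Lie
open Cfsg.Agent.ChevalleyStructure.E6Min.Tables Cfsg.Agent.ChevalleyStructure.E6Min.Basic
open Cfsg.Agent.H952.F4 (sh cr tf tr1 u0)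
open Cfsg.Agent.H952.F4.Jord
open Cfsg.Agent.R2.F4L Cfsg.Agent.R2.H1.F4

universe u

section

variable {k : Type u} [Field k] {V : Type*} [AddCommGroup V] [Module k V]

theorem bil_zero (f : V →ₗ[k] V →ₗ[k] k) {S T : Set V} (h : ∀ s ∈ S, ∀ t ∈ T, f s t = 0) {x y : V}
    (hx : x ∈ Submodule.span k S) (hy : y ∈ Submodule.span k T) : f x y = 0 := by
  have h1 : ∀ s ∈ S, f s y = 0 := fun s hs => by
    have h2 : Submodule.span k T ≤ LinearMap.ker (f s) := Submodule.span_le.2 fun t ht => LinearMap.mem_ker.2 (h s hs t ht)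
    exact LinearMap.mem_ker.1 (h2 hy)
  have h2 : Submodule.span k S ≤ LinearMap.ker (f.flip y) := Submodule.span_le.2 fun s hs => LinearMap.mem_ker.2 (h1 s hs)
  exact LinearMap.mem_ker.1 (h2 hx)

end

variable {k : Type u} [Field k]

/-- the form `N(·, ·, z)` -/
noncomputable def nz (z : I27 → k) : (I27 → k) →ₗ[k] (I27 → k) →ₗ[k] k :=
  LinearMap.mk₂ k (fun x y => tf (st x y) z) (fun x x' y => by rw [st_add_left, tf_add_left])
    (fun c x y => by rw [st_smul_left, tf_smul_left, smul_eq_mul]) (fun x y y' => by rw [st_add_right, tf_add_left])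
    (fun c x y => by rw [st_smul_right, tf_smul_left, smul_eq_mul])

theorem nz_apply (x y z : I27 → k) : nz z x y = tf (st x y) z := rfl

theorem nz_comm (x y z : I27 → k) : nz z x y = nz z y x := by rw [nz_apply, nz_apply, st_comm]

variable {A : Type*} [Group A] {ρ : Representation k A (I27 → k)}

theorem act_st (H : Act ρ) (g : A) (x y : I27 → k) : ρ g (st x y) = st (ρ g x) (ρ g y) := by
  unfold st
  rw [map_add, map_smul, H.cr, H.u0, H.tf]

theorem nz_inv (H : Act ρ) (g : A) (x y z : I27 → k) : nz (ρ g z) (ρ g x) (ρ g y) = nz z x y := by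
  rw [nz_apply, nz_apply, ← act_st H, H.tf]

theorem nz_inv' (H : Act ρ) (g : A) (x y z : I27 → k) : nz (ρ g z) x y = nz z (ρ g⁻¹ x) (ρ g⁻¹ y) := by
  have h : ∀ v, ρ g (ρ g⁻¹ v) = v := fun v => by
    rw [← Module.End.mul_apply, ← map_mul, mul_inv_cancel, map_one, Module.End.one_apply]
  have h1 := nz_inv H g (ρ g⁻¹ x) (ρ g⁻¹ y) z
  rw [h, h] at h1
  exact h1

/-- the third argument -/
theorem ext_X (H : Act ρ) {U U' X : Submodule k (I27 → k)} (hU : ∀ g, ∀ x ∈ U, ρ g x ∈ U) (hU' : ∀ g, ∀ x ∈ U', ρ g x ∈ U')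
    (hXs : ∀ g, ∀ x ∈ X, ρ g x ∈ X) (hX : ∀ Z ≤ X, (∀ g, ∀ x ∈ Z, ρ g x ∈ Z) → Z = ⊥ ∨ Z = X) {xl : I27 → k} (hxl : xl ∈ X)
    (hxl0 : xl ≠ 0) (h : ∀ x ∈ U, ∀ y ∈ U', nz xl x y = 0) : ∀ z ∈ X, ∀ x ∈ U, ∀ y ∈ U', nz z x y = 0 := by
  let Z : Submodule k (I27 → k) :=
    { carrier := {z | z ∈ X ∧ ∀ x ∈ U, ∀ y ∈ U', nz z x y = 0}
      add_mem' := fun {z z'} hz hz' => ⟨X.add_mem hz.1 hz'.1, fun x hx y hy => by
        have h1 := hz.2 x hx y hy
        have h2 := hz'.2 x hx y hy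
        rw [nz_apply] at h1 h2 ⊢
        rw [tf_add_right, h1, h2, add_zero]⟩
      zero_mem' := ⟨X.zero_mem, fun x hx y hy => by
        have h1 := tf_smul_right (0 : k) (st x y) 0
        rw [zero_smul, zero_mul] at h1
        exact h1⟩
      smul_mem' := fun c z hz => ⟨X.smul_mem c hz.1, fun x hx y hy => by
        have h1 := hz.2 x hx y hy
        rw [nz_apply] at h1 ⊢
        rw [tf_smul_right, h1, mul_zero]⟩ }
  have hZX : Z ≤ X := fun z hz => hz.1
  have hZs : ∀ g, ∀ x ∈ Z, ρ g x ∈ Z := fun g z hz => ⟨hXs g z hz.1, fun x hx y hy => by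
    rw [nz_inv' H]
    exact hz.2 _ (hU _ x hx) _ (hU' _ y hy)⟩
  have hmem : xl ∈ Z := ⟨hxl, h⟩
  rcases hX Z hZX hZs with h1 | h1
  · rw [h1, Submodule.mem_bot] at hmem
    exact absurd hmem hxl0
  · intro z hz
    rw [← h1] at hz
    exact hz.2

/-- weights -/
def Wg (ρ : Representation k A (I27 → k)) (g : A) (α : k) (w : ℤ) (v : I27 → k) : Prop := ρ g v = α ^ w • v

theorem nz_wt (H : Act ρ) {g : A} {α : k} {N : ℕ} (hα : IsPrimitiveRoot α N) (hα0 : α ≠ 0) {x y z : I27 → k} {w₁ w₂ w₃ : ℤ}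
    (h1 : Wg ρ g α w₁ x) (h2 : Wg ρ g α w₂ y) (h3 : Wg ρ g α w₃ z) (h0 : w₁ + w₂ + w₃ ≠ 0) (hl : w₁ + w₂ + w₃ < N)
    (hl' : -(w₁ + w₂ + w₃) < N) : nz z x y = 0 := by
  have h4 := nz_inv H g x y z
  unfold Wg at h1 h2 h3
  rw [h1, h2, h3, nz_apply, nz_apply, st_smul_left, st_smul_right, tf_smul_left, tf_smul_left, tf_smul_right] at h4
  have h5 : α ^ (w₁ + w₂ + w₃) ≠ 1 := by
    intro h
    have h6 := (hα.zpow_eq_one_iff_dvd _).1 h
    have h7 := Int.eq_zero_of_abs_lt_dvd h6 (by rw [abs_lt]; constructor <;> omega)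
    exact h0 h7
  rw [nz_apply]
  have h6 : (α ^ (w₁ + w₂ + w₃) - 1) * tf (st x y) z = 0 := by
    rw [zpow_add₀ hα0, zpow_add₀ hα0]
    linear_combination h4
  exact (mul_eq_zero.1 h6).resolve_left (sub_ne_zero.2 h5)

theorem tf_wt (H : Act ρ) {g : A} {α : k} {N : ℕ} (hα : IsPrimitiveRoot α N) (hα0 : α ≠ 0) {x y : I27 → k} {w₁ w₂ : ℤ}
    (h1 : Wg ρ g α w₁ x) (h2 : Wg ρ g α w₂ y) (h0 : w₁ + w₂ ≠ 0) (hl : w₁ + w₂ < N)
    (hl' : -(w₁ + w₂) < N) : tf x y = 0 := by
  have h4 := H.tf g x y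
  unfold Wg at h1 h2
  rw [h1, h2, tf_smul_left, tf_smul_right] at h4
  have h5 : α ^ (w₁ + w₂) ≠ 1 := by
    intro h
    have h6 := (hα.zpow_eq_one_iff_dvd _).1 h
    have h7 := Int.eq_zero_of_abs_lt_dvd h6 (by rw [abs_lt]; constructor <;> omega)
    exact h0 h7
  have h6 : (α ^ (w₁ + w₂) - 1) * tf x y = 0 := by
    rw [zpow_add₀ hα0]
    linear_combination h4
  exact (mul_eq_zero.1 h6).resolve_left (sub_ne_zero.2 h5)

/-- the situation: `J₀ = X ⊥ Y`, `aa` a string of length five in `Y`, `xl` a vector of weight `-w0` in `X` -/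
structure Sit (ρ : Representation k A (I27 → k)) (g : A) (α : k) (N : ℕ) (w0 : ℤ) (S : ℤ → Prop)
    (X Y : Submodule k (I27 → k)) (xl : I27 → k) (aa : ℕ → I27 → k) : Prop where
  act : Act ρ
  two : (2 : k) ≠ 0
  three : (3 : k) ≠ 0
  prim : IsPrimitiveRoot α N
  ne : α ≠ 0
  big : 48 ≤ N
  trX : ∀ x ∈ X, tr1 x = 0
  trY : ∀ y ∈ Y, tr1 y = 0
  orth : ∀ x ∈ X, ∀ y ∈ Y, tf x y = 0
  memX : ∀ v, tr1 v = 0 → (∀ y ∈ Y, tf v y = 0) → v ∈ X
  memY : ∀ v, tr1 v = 0 → (∀ x ∈ X, tf v x = 0) → v ∈ Y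
  sX : ∀ g, ∀ x ∈ X, ρ g x ∈ X
  sY : ∀ g, ∀ x ∈ Y, ρ g x ∈ Y
  irX : ∀ Z ≤ X, (∀ g, ∀ x ∈ Z, ρ g x ∈ Z) → Z = ⊥ ∨ Z = X
  mxl : xl ∈ X
  nxl : xl ≠ 0
  wxl : Wg ρ g α (-w0) xl
  sA : ∀ g, ∀ x ∈ Submodule.span k (Set.range aa), ρ g x ∈ Submodule.span k (Set.range aa)
  a0 : ∀ s, 4 < s → aa s = 0
  aY : ∀ s, aa s ∈ Y
  wa : ∀ s : ℕ, s ≤ 4 → Wg ρ g α (2 * (s : ℤ) - 4) (aa s)
  spY : Y ≤ Submodule.span k {v | v ∈ Y ∧ ∃ w, S w ∧ Wg ρ g α w v}
  bd : ∀ w, S w → -8 ≤ w ∧ w ≤ 8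

variable {g : A} {α : k} {N : ℕ} {w0 : ℤ} {S : ℤ → Prop} {X Y : Submodule k (I27 → k)} {xl : I27 → k} {aa : ℕ → I27 → k}

theorem Sit.sp (T : Sit ρ g α N w0 S X Y xl aa) {x : I27 → k} (h : ∀ y, y ∈ Y → ∀ w, S w → Wg ρ g α w y → ∀ x', x' ∈ Y →
    ∀ w', S w' → Wg ρ g α w' x' → nz x y x' = 0) : ∀ y ∈ Y, ∀ y' ∈ Y, nz x y y' = 0 := by
  intro y hy y' hy'
  refine bil_zero (nz x) ?_ (T.spY hy) (T.spY hy')
  rintro s ⟨hs, w, hw, h1⟩ t ⟨ht, w', hw', h2⟩
  exact h s hs w hw h1 t ht w' hw' h2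

theorem Sit.aaA (_ : Sit ρ g α N w0 S X Y xl aa) (s : ℕ) : aa s ∈ Submodule.span k (Set.range aa) :=
  Submodule.subset_span ⟨s, rfl⟩

/-- `N(A, A, X) = 0` -/
theorem Sit.AAX (T : Sit ρ g α N w0 S X Y xl aa) (h8 : 8 < w0) (h16 : w0 ≤ 16) :
    ∀ z ∈ X, ∀ x ∈ Submodule.span k (Set.range aa), ∀ y ∈ Submodule.span k (Set.range aa), nz z x y = 0 := by
  have hN := T.big
  refine ext_X T.act T.sA T.sA T.sX T.irX T.mxl T.nxl fun x hx y hy => bil_zero (nz xl) ?_ hx hy
  rintro _ ⟨s, rfl⟩ _ ⟨t, rfl⟩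
  by_cases hs : s ≤ 4
  · by_cases ht : t ≤ 4
    · exact nz_wt T.act T.prim T.ne (T.wa s hs) (T.wa t ht) T.wxl (by omega) (by omega) (by omega)
    · rw [T.a0 t (by omega), map_zero]
  · rw [T.a0 s (by omega), map_zero, LinearMap.zero_apply]

/-- `A * A ≤ Y` -/
theorem Sit.AAY (T : Sit ρ g α N w0 S X Y xl aa) (h8 : 8 < w0) (h16 : w0 ≤ 16) (s t : ℕ) : st (aa s) (aa t) ∈ Y :=
  T.memY _ (tr1_st T.three (T.trY _ (T.aY s))) fun x hx => T.AAX h8 h16 x hx _ (T.aaA s) _ (T.aaA t)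

theorem Sit.aa44 (T : Sit ρ g α N w0 S X Y xl aa) : tf (aa 4) (aa 4) = 0 := by
  have hN := T.big
  have h := T.wa 4 le_rfl
  have e : (2 * ((4 : ℕ) : ℤ) - 4) = 4 := by norm_num
  rw [e] at h
  exact tf_wt T.act T.prim T.ne h h (by norm_num) (by omega) (by omega)

theorem Sit.cube (T : Sit ρ g α N w0 S X Y xl aa) : st (aa 4) (st (aa 4) (aa 4)) = 0 := by
  rw [st_cube T.two T.three (T.trY _ (T.aY 4)), T.aa44, mul_zero, zero_smul]

/-- **the case `p = 11`** -/
theorem Sit.core11 (T : Sit ρ g α N 16 S X Y xl aa)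
    (one8 : ∀ y ∈ Y, Wg ρ g α 8 y → ∃ c : k, y = c • st (aa 4) (aa 4)) : ∀ z ∈ X, ∀ x ∈ Y, ∀ y ∈ Y, nz z x y = 0 := by
  have hN := T.big
  refine ext_X T.act T.sY T.sY T.sX T.irX T.mxl T.nxl (T.sp fun y hy w hw h1 y' hy' w' hw' h2 => ?_)
  have b1 := T.bd w hw
  have b2 := T.bd w' hw'
  by_cases h : w + w' + -16 = 0
  · obtain rfl : w = 8 := by omega
    obtain rfl : w' = 8 := by omega
    obtain ⟨c, rfl⟩ := one8 y hy h1
    obtain ⟨c', rfl⟩ := one8 y' hy' h2
    have tx := T.trX _ T.mxl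
    have ta := T.trY _ (T.aY 4)
    have t8 : tr1 (st (aa 4) (aa 4)) = 0 := tr1_st T.three ta
    have hm8 : st (aa 4) (aa 4) ∈ Y := T.AAY (by norm_num) (by norm_num) 4 4
    have h3 := four T.two T.three ta ta t8 tx
    rw [T.aa44, T.cube] at h3
    have e1 : tf (aa 4) xl = 0 := by rw [tf_comm]; exact T.orth _ T.mxl _ (T.aY 4)
    have e2 : tf (st (aa 4) (aa 4)) xl = 0 := by rw [tf_comm]; exact T.orth _ T.mxl _ hm8
    have e3 : ∀ v : I27 → k, tf 0 v = 0 := fun v => by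
      have := tf_smul_left (0 : k) 0 v
      rwa [zero_smul, zero_mul] at this
    have e4 : ∀ v : I27 → k, tf v 0 = 0 := fun v => by rw [tf_comm, e3]
    rw [e1, e2, e3, e4] at h3
    have h4 : tf (st (aa 4) (aa 4)) (st (st (aa 4) (aa 4)) xl) = 0 := by linear_combination h3
    have h5 : nz xl (st (aa 4) (aa 4)) (st (aa 4) (aa 4)) = 0 := by
      rw [nz_apply, tf_st_rot t8 tx]
      exact h4
    rw [map_smul, map_smul, LinearMap.smul_apply, h5, smul_zero, smul_zero]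
  · exact nz_wt T.act T.prim T.ne h1 h2 T.wxl h (by omega) (by omega)

theorem tf_rot3 {x y z : I27 → k} (hx : tr1 x = 0) (hy : tr1 y = 0) (hz : tr1 z = 0) : tf (st x z) y = nz z x y := by
  rw [nz_apply, tf_st_rot hx hy, st_comm z y, tf_st_rot hx hz]

/-- `N(A, Y, X) = 0` -/
theorem Sit.AYX (T : Sit ρ g α N 12 S X Y xl aa)
    (one8 : ∀ y ∈ Y, Wg ρ g α 8 y → ∃ c : k, y = c • st (aa 4) (aa 4)) :
    ∀ z ∈ X, ∀ x ∈ Submodule.span k (Set.range aa), ∀ y ∈ Y, nz z x y = 0 := by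
  have hN := T.big
  refine ext_X T.act T.sA T.sY T.sX T.irX T.mxl T.nxl fun x hx y hy => bil_zero (nz xl) ?_ hx (T.spY hy)
  rintro _ ⟨s, rfl⟩ y ⟨hy, w, hw, h1⟩
  have b1 := T.bd w hw
  by_cases hs : s ≤ 4
  · by_cases h : 2 * (s : ℤ) - 4 + w + -12 = 0
    · obtain rfl : s = 4 := by omega
      obtain rfl : w = 8 := by omega
      obtain ⟨c, rfl⟩ := one8 y hy h1
      have h2 := tf_smul_left (0 : k) 0 xl
      rw [zero_smul, zero_mul] at h2
      rw [map_smul, nz_apply, T.cube, h2, smul_zero]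
    · exact nz_wt T.act T.prim T.ne (T.wa s hs) h1 T.wxl h (by omega) (by omega)
  · rw [T.a0 s (by omega), map_zero, LinearMap.zero_apply]

/-- `N(A * A, Y, X) = 0` -/
theorem Sit.A2YX (T : Sit ρ g α N 12 S X Y xl aa)
    (one8 : ∀ y ∈ Y, Wg ρ g α 8 y → ∃ c : k, y = c • st (aa 4) (aa 4)) (s t : ℕ) {y z : I27 → k} (hy : y ∈ Y) (hz : z ∈ X) :
    nz z (st (aa s) (aa t)) y = 0 := by
  have ts := T.trY _ (T.aY s)
  have tt := T.trY _ (T.aY t)
  have ty := T.trY _ hy
  have tz := T.trX _ hz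
  have mY : ∀ s, st (aa s) y ∈ Y := fun s =>
    T.memY _ (tr1_st T.three (T.trY _ (T.aY s))) fun x hx => T.AYX one8 x hx _ (T.aaA s) _ hy
  have mX : ∀ s, st (aa s) z ∈ X := fun s =>
    T.memX _ (tr1_st T.three (T.trY _ (T.aY s))) fun y' hy' => by
      rw [tf_rot3 (T.trY _ (T.aY s)) (T.trY _ hy') tz]
      exact T.AYX one8 z hz _ (T.aaA s) _ hy'
  have h := four T.two T.three ts tt ty tz
  have e1 : tf y z = 0 := by rw [tf_comm]; exact T.orth _ hz _ hy
  have e2 : tf (aa t) z = 0 := by rw [tf_comm]; exact T.orth _ hz _ (T.aY t)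
  have e3 : tf (aa s) z = 0 := by rw [tf_comm]; exact T.orth _ hz _ (T.aY s)
  have e4 : tf (st (aa s) y) (st (aa t) z) = 0 := by rw [tf_comm]; exact T.orth _ (mX t) _ (mY s)
  have e5 : tf (st (aa s) z) (st (aa t) y) = 0 := T.orth _ (mX s) _ (mY t)
  rw [e1, e2, e3, e4, e5] at h
  rw [nz_apply, tf_st_rot (tr1_st T.three ts) tz]
  linear_combination h

/-- **the case `p = 7`** -/
theorem Sit.core7 (T : Sit ρ g α N 12 S X Y xl aa)
    (one8 : ∀ y ∈ Y, Wg ρ g α 8 y → ∃ c : k, y = c • st (aa 4) (aa 4)) (ev : ∀ w, S w → w % 2 = 0)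
    (one6 : ∀ y ∈ Y, Wg ρ g α 6 y → ∃ c : k, y = c • st (aa 3) (aa 4)) : ∀ z ∈ X, ∀ x ∈ Y, ∀ y ∈ Y, nz z x y = 0 := by
  have hN := T.big
  refine ext_X T.act T.sY T.sY T.sX T.irX T.mxl T.nxl (T.sp fun y hy w hw h1 y' hy' w' hw' h2 => ?_)
  have b1 := T.bd w hw
  have b2 := T.bd w' hw'
  have v1 := ev w hw
  have v2 := ev w' hw'
  by_cases h : w + w' + -12 = 0
  · have h3 : w = 8 ∨ w' = 8 ∨ w = 6 := by omega
    rcases h3 with rfl | rfl | rfl
    · obtain ⟨c, rfl⟩ := one8 y hy h1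
      rw [map_smul, LinearMap.smul_apply, T.A2YX one8 4 4 hy' T.mxl, smul_zero]
    · obtain ⟨c, rfl⟩ := one8 y' hy' h2
      rw [nz_comm, map_smul, LinearMap.smul_apply, T.A2YX one8 4 4 hy T.mxl, smul_zero]
    · obtain ⟨c, rfl⟩ := one6 y hy h1
      rw [map_smul, LinearMap.smul_apply, T.A2YX one8 3 4 hy' T.mxl, smul_zero]
  · exact nz_wt T.act T.prim T.ne h1 h2 T.wxl h (by omega) (by omega)

end Cfsg.Agent.R2.H27.F4Th
end

-- part: R2/F4L/Form
section
prune_inst 0x10000000000000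
set_option linter.all false
open scoped Cfsg.Agent.FastGrp

/-!
# Invariant forms on tuples (helper2, S5931)

* `ts_form` : the values of an invariant form on two tuples of type `(n, i)`;
* `ts_of_wt` : Weyl tuples are tuples for `n < p`.
-/

set_option autoImplicit false
set_option linter.unusedSectionVars false
set_option linter.unusedVariables false

namespace Cfsg.Agent.R2.F4L

open Cfsg.Agent.H943.SL2Rel Cfsg.Agent.H943.SL2Mod Cfsg.Agent.R2.H28.SL2 Cfsg.Agent.H943.RepAdd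

universe u v w

variable {k : Type u} [Field k] [DecidableEq k] {K : Type w} [Field K] [Fintype K] [DecidableEq K] {ι : K →+* k}
variable {p : ℕ} [Fact p.Prime] [CharP k p] [CharP K p] {a : ℕ}
variable {V : Type*} [AddCommGroup V] [Module k V] {σ : Representation k (Matrix.SpecialLinearGroup (Fin 2) K) V}
variable {V' : Type*} [AddCommGroup V'] [Module k V'] {σ' : Representation k (Matrix.SpecialLinearGroup (Fin 2) K) V'}
variable {n i : ℕ} {z : ℕ → V} {y : ℕ → V'} {P : V →ₗ[k] V' →ₗ[k] k}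

theorem ts_form0 (hP : ∀ g x y, P (σ g x) (σ' g y) = P x y) (hn : n < p) (hz : TS ι p σ n i z) (hy : TS ι p σ' n i y)
    {m : ℕ} (hm1 : 1 ≤ m) (hm : m ≤ n) : P (z n) (y m) = 0 := by
  have hpK := p_le K p
  have h1 : ∀ t : K, ∑ m ∈ Finset.range (n + 1), (ι t ^ p ^ i) ^ m •
      (if m = 0 then 0 else (n.choose m : k) * P (z n) (y m)) = 0 := by
    intro t
    have h2 := hP (u t) (z n) (y 0)
    rw [hz.u_top, hy.u_bot, map_sum, Finset.sum_range_succ'] at h2
    simp only [map_smul, Nat.choose_zero_right, Nat.cast_one, pow_zero, mul_one, one_smul] at h2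
    have h3 := add_eq_right.1 h2
    rw [Finset.sum_range_succ']
    simp only [Nat.succ_ne_zero, if_false, if_true, smul_zero, add_zero]
    rw [← h3]
    refine Finset.sum_congr rfl fun m _ => ?_
    simp only [smul_eq_mul]
    ring
  have h2 := poly0 ι (by omega) p i h1 m (by omega)
  rw [if_neg (by omega)] at h2
  exact (mul_eq_zero.1 h2).resolve_left (choose_ne' k hn hm)

theorem ts_form1 (hP : ∀ g x y, P (σ g x) (σ' g y) = P x y) (hn : n < p) (hz : TS ι p σ n i z) (hy : TS ι p σ' n i y)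
    {m : ℕ} (hm : m < n) : P (z 0) (y m) = 0 := by
  have h1 := hP w (z 0) (y m)
  rw [hz.w 0 (Nat.zero_le _), hy.w m hm.le, pow_zero, one_smul, Nat.sub_zero, map_smul,
    ts_form0 hP hn hz hy (by omega) (by omega), smul_zero] at h1
  exact h1.symm

/-- **the form** -/
theorem ts_form (hP : ∀ g x y, P (σ g x) (σ' g y) = P x y) (hn : n < p) (hz : TS ι p σ n i z) (hy : TS ι p σ' n i y)
    {s m : ℕ} (hs : s ≤ n) (hm : m ≤ n) :
    P (z s) (y m) = if s + m = n then (-1) ^ s * (n.choose s : k)⁻¹ * P (z 0) (y n) else 0 := by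
  have hpK := p_le K p
  have h1 : ∀ r t : K, P (σ (u r) (z 0)) (σ' (u t) (y 0)) = (ι t ^ p ^ i - ι r ^ p ^ i) ^ n * P (z 0) (y n) := by
    intro r t
    have h2 := hP (u r) (z 0) (σ' (u (t - r)) (y 0))
    rw [← Module.End.mul_apply, ← map_mul, ← u_add, add_sub_cancel] at h2
    rw [h2, hy.u_bot, map_sum, Finset.sum_range_succ, Finset.sum_eq_zero, zero_add]
    · rw [map_smul, Nat.choose_self, Nat.cast_one, one_mul, map_sub, sub_pow_char_pow]
      rfl
    · intro m hm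
      rw [Finset.mem_range] at hm
      rw [map_smul, ts_form1 hP hn hz hy hm, smul_zero]
  have h2 : ∀ r : K, ∀ m < n + 1, (n.choose m : k) * P (σ (u r) (z 0)) (y m) -
      ((n.choose m : k) * (-(ι r ^ p ^ i)) ^ (n - m)) * P (z 0) (y n) = 0 := by
    intro r
    refine poly0 ι (by omega) p i (a := fun m => (n.choose m : k) * P (σ (u r) (z 0)) (y m) -
      ((n.choose m : k) * (-(ι r ^ p ^ i)) ^ (n - m)) * P (z 0) (y n)) fun t => ?_
    have h3 := h1 r t
    rw [hy.u_bot, map_sum, sub_eq_add_neg, add_pow, Finset.sum_mul] at h3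
    simp only [smul_sub, Finset.sum_sub_distrib]
    rw [sub_eq_zero]
    refine Eq.trans (Finset.sum_congr rfl fun m _ => ?_) (h3.trans (Finset.sum_congr rfl fun m _ => ?_))
    · rw [map_smul, smul_eq_mul, smul_eq_mul]
      ring
    · rw [smul_eq_mul]
      ring
  have h3 : ∀ m ≤ n, ∀ s ≤ n, (n.choose s : k) * P (z s) (y m) =
      if s = n - m then (-1) ^ (n - m) * P (z 0) (y n) else 0 := by
    intro m hm s hs
    have h4 : ∀ r : K, ∑ s ∈ Finset.range (n + 1), (ι r ^ p ^ i) ^ s • ((n.choose s : k) * P (z s) (y m) -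
        if s = n - m then (-1) ^ (n - m) * P (z 0) (y n) else 0) = 0 := by
      intro r
      have h5 := h2 r m (by omega)
      rw [mul_assoc, ← mul_sub] at h5
      have h6 := (mul_eq_zero.1 h5).resolve_left (choose_ne' k hn hm)
      rw [hz.u_bot, map_sum, LinearMap.sum_apply] at h6
      simp only [smul_sub, Finset.sum_sub_distrib]
      refine Eq.trans ?_ h6
      congr 1
      · refine Finset.sum_congr rfl fun s _ => ?_
        rw [map_smul, LinearMap.smul_apply, smul_eq_mul, smul_eq_mul]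
        ring
      · rw [Finset.sum_eq_single (n - m)]
        · rw [if_pos rfl, smul_eq_mul, neg_pow]
          ring
        · intro s _ hs
          rw [if_neg hs, smul_zero]
        · intro h
          exact absurd (Finset.mem_range.2 (by omega)) h
    exact sub_eq_zero.1 (poly0 ι (by omega) p i h4 s (by omega))
  have h4 := h3 m hm s hs
  have h5 := choose_ne' k hn hs
  by_cases h : s + m = n
  · rw [if_pos (by omega)] at h4
    rw [if_pos h]
    have h6 : n - m = s := by omega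
    rw [h6] at h4
    field_simp
    linear_combination h4
  · rw [if_neg (by omega)] at h4
    rw [if_neg h]
    exact (mul_eq_zero.1 h4).resolve_left h5

end Cfsg.Agent.R2.F4L
end

-- part: R2/F4L/TwoD
section
prune_inst 0x1204440306202000004051030000461c80005920000080098840d0e044374220940606012b00c12808e90045838006811100110420000000a003400011b00a0808052021340a3042e008f800080000000000000000000000000000000051004000000000
set_option linter.all false
open scoped Cfsg.Agent.FastGrp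

/-!
# Two digits (helper2, S5931)

* `poly2` : coefficients of polynomials in `τ^(p^i), τ^(p^j)`;
* `bp_form` : the value of an invariant form on two bases of `V_{2 p^i + 2 p^j}`.
-/

set_option autoImplicit false
set_option linter.unusedSectionVars false
set_option linter.unusedVariables false

namespace Cfsg.Agent.R2.F4L

open Cfsg.Agent.H943.SL2Rel Cfsg.Agent.H943.SL2Mod Cfsg.Agent.R2.H28.SL2 Cfsg.Agent.H943.RepAdd

universe u v w

theorem pair_inj {p : ℕ} (hp : 0 < p) {i j s s' r r' : ℕ} (hij : i ≠ j) (hs : s < p) (hs' : s' < p) (hr : r < p)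
    (hr' : r' < p) (h : s * p ^ i + s' * p ^ j = r * p ^ i + r' * p ^ j) : s = r ∧ s' = r' := by
  have key : ∀ {i j s s' r r' : ℕ}, i < j → s < p → r < p → s * p ^ i + s' * p ^ j = r * p ^ i + r' * p ^ j →
      s = r ∧ s' = r' := by
    intro i j s s' r r' hij hs hr h
    have hpj : 0 < p ^ j := Nat.pow_pos hp
    have hpi : 0 < p ^ i := Nat.pow_pos hp
    have hlt : ∀ s < p, s * p ^ i < p ^ j := by
      intro s hs
      calc s * p ^ i < p * p ^ i := Nat.mul_lt_mul_of_pos_right hs hpi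
        _ = p ^ (i + 1) := by rw [pow_succ, mul_comm]
        _ ≤ p ^ j := Nat.pow_le_pow_right hp hij
    have h1 : (s * p ^ i + s' * p ^ j) / p ^ j = s' := by
      rw [Nat.add_mul_div_right _ _ hpj, Nat.div_eq_of_lt (hlt s hs), zero_add]
    have h2 : (r * p ^ i + r' * p ^ j) / p ^ j = r' := by
      rw [Nat.add_mul_div_right _ _ hpj, Nat.div_eq_of_lt (hlt r hr), zero_add]
    have h3 : s' = r' := by rw [← h1, ← h2, h]
    subst h3
    exact ⟨Nat.eq_of_mul_eq_mul_right hpi (Nat.add_right_cancel h), rfl⟩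
  rcases Nat.lt_or_gt_of_ne hij with h1 | h1
  · exact key h1 hs hr h
  · have := key h1 hs' hr' (by rw [add_comm, h, add_comm])
    exact ⟨this.2, this.1⟩

variable {k : Type u} [Field k] [DecidableEq k] {K : Type w} [Field K] [Fintype K] [DecidableEq K] {ι : K →+* k}
variable {p : ℕ} [Fact p.Prime] [CharP k p] [CharP K p] {a : ℕ}
variable {V : Type*} [AddCommGroup V] [Module k V] {σ : Representation k (Matrix.SpecialLinearGroup (Fin 2) K) V}
variable {V' : Type*} [AddCommGroup V'] [Module k V'] {σ' : Representation k (Matrix.SpecialLinearGroup (Fin 2) K) V'}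

/-- **polynomials in two Frobenius powers** -/
theorem poly2 (hF : Fintype.card K = p ^ a) {i j : ℕ} (hij : i ≠ j) (hi : i < a) (hj : j < a) {N M : ℕ} (hN : N ≤ p)
    (hM : M ≤ p) {c : ℕ → ℕ → V} (h : ∀ t : K, ∑ s ∈ Finset.range N, ∑ s' ∈ Finset.range M,
      ((ι t ^ p ^ i) ^ s * (ι t ^ p ^ j) ^ s') • c s s' = 0) : ∀ s < N, ∀ s' < M, c s s' = 0 := by
  have hp : p.Prime := Fact.out
  let A : ℕ → V := fun e => ∑ s ∈ Finset.range N, ∑ s' ∈ Finset.range M, if s * p ^ i + s' * p ^ j = e then c s s' else 0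
  have h1 : ∀ t : K, ∑ e ∈ Finset.range (p ^ a), (ι t ^ p ^ 0) ^ e • A e = 0 := by
    intro t
    rw [← h t]
    show ∑ e ∈ Finset.range (p ^ a), (ι t ^ p ^ 0) ^ e • (∑ s ∈ Finset.range N, ∑ s' ∈ Finset.range M,
      if s * p ^ i + s' * p ^ j = e then c s s' else 0) = _
    simp only [Finset.smul_sum]
    rw [Finset.sum_comm]
    refine Finset.sum_congr rfl fun s hs => ?_
    rw [Finset.sum_comm]
    refine Finset.sum_congr rfl fun s' hs' => ?_
    rw [Finset.mem_range] at hs hs'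
    rw [Finset.sum_eq_single (s * p ^ i + s' * p ^ j)]
    · rw [if_pos rfl, pow_zero, pow_one, pow_add, ← pow_mul, ← pow_mul, mul_comm (p ^ i), mul_comm (p ^ j)]
    · intro e _ he
      rw [if_neg (Ne.symm he), smul_zero]
    · intro he
      exact absurd (Finset.mem_range.2 (pair_lt p (by omega) (by omega) hij hi hj)) he
  intro s hs s' hs'
  have h2 := poly0 ι (N := p ^ a) hF.ge p 0 h1 (s * p ^ i + s' * p ^ j) (pair_lt p (by omega) (by omega) hij hi hj)
  rw [← h2]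
  show _ = ∑ r ∈ Finset.range N, ∑ r' ∈ Finset.range M, if r * p ^ i + r' * p ^ j = s * p ^ i + s' * p ^ j then c r r' else 0
  rw [Finset.sum_eq_single s, Finset.sum_eq_single s', if_pos rfl]
  · intro r' hr' hne
    rw [Finset.mem_range] at hr'
    rw [if_neg]
    intro h3
    exact hne (pair_inj hp.pos hij (by omega) (by omega) (by omega) (by omega) h3).2
  · intro h3
    exact absurd (Finset.mem_range.2 hs') h3
  · intro r hr hne
    rw [Finset.mem_range] at hr
    refine Finset.sum_eq_zero fun r' hr' => ?_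
    rw [Finset.mem_range] at hr'
    rw [if_neg]
    intro h3
    exact hne (pair_inj hp.pos hij (by omega) (by omega) (by omega) (by omega) h3).1
  · intro h3
    exact absurd (Finset.mem_range.2 hs) h3

variable {i j : ℕ} {x : ℕ → ℕ → V} {y : ℕ → ℕ → V'} {P : V →ₗ[k] V' →ₗ[k] k}

/-- two-digit tuples -/
structure TP (ι : K →+* k) (p : ℕ) (σ : Representation k (Matrix.SpecialLinearGroup (Fin 2) K) V) (i j : ℕ) (x : ℕ → ℕ → V) :
    Prop where
  u : ∀ t, σ (u t) (x 0 0) = ∑ s ∈ Finset.range 3, ∑ s' ∈ Finset.range 3,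
    (((2 : ℕ).choose s : k) * ((2 : ℕ).choose s' : k) * ((ι t ^ p ^ i) ^ s * (ι t ^ p ^ j) ^ s')) • x s s'
  top : ∀ t, σ (Cfsg.Agent.H943.SL2Rel.u t) (x 2 2) = x 2 2
  w : ∀ s ≤ 2, ∀ s' ≤ 2, σ w (x s s') = ((-1 : k) ^ s * (-1 : k) ^ s') • x (2 - s) (2 - s')

theorem BasP.tp {X : Submodule k V} {hX : ∀ g, ∀ x ∈ X, σ g x ∈ X} {v : ℕ → ℕ → X}
    (hv : BasP ι p (subRep σ X hX) 2 i 2 j v) : TP ι p σ i j (fun s s' => (v s s' : V)) where
  u := fun t => by
    have h1 := congrArg (Subtype.val) (hv.u 0 (by norm_num) 0 (by norm_num) t)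
    refine Eq.trans h1 ?_
    simp only [Finset.sum_range_succ, Finset.sum_range_zero, zero_add, Submodule.coe_add, Submodule.coe_smul, Nat.sub_zero]
    module
  top := fun t => by
    have h1 := congrArg (Subtype.val) (hv.u 2 (by norm_num) 2 (by norm_num) t)
    refine Eq.trans h1 ?_
    simp only [_root_.tsub_self, _root_.zero_add, _root_.Finset.range_one, _root_.Finset.sum_singleton, _root_.Nat.choose_self, _root_.Nat.cast_one, _root_.pow_zero, _root_.mul_one, _root_.add_zero, _root_.one_smul]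
  w := fun s hs s' hs' => congrArg (Subtype.val) (hv.w s hs s' hs')

/-- the form, first part -/
theorem tp_form0 (hF : Fintype.card K = p ^ a) (hp3 : 3 ≤ p) (hij : i ≠ j) (hi : i < a) (hj : j < a)
    (hP : ∀ g x y, P (σ g x) (σ' g y) = P x y) (hx : TP ι p σ i j x) (hy : TP ι p σ' i j y) {s s' : ℕ} (hs : s ≤ 2)
    (hs' : s' ≤ 2) (h : s ≠ 0 ∨ s' ≠ 0) : P (x 2 2) (y s s') = 0 := by
  have h1 : ∀ t : K, ∑ s ∈ Finset.range 3, ∑ s' ∈ Finset.range 3, ((ι t ^ p ^ i) ^ s * (ι t ^ p ^ j) ^ s') •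
      (if s = 0 ∧ s' = 0 then 0 else ((2 : ℕ).choose s : k) * ((2 : ℕ).choose s' : k) * P (x 2 2) (y s s')) = 0 := by
    intro t
    have h2 := hP (u t) (x 2 2) (y 0 0)
    rw [hx.top, hy.u] at h2
    simp only [Finset.sum_range_succ, Finset.sum_range_zero, zero_add, map_add, map_smul, smul_eq_mul, Nat.choose] at h2 ⊢
    norm_num only [_root_.pow_zero, _root_.mul_one, _root_.one_mul, _root_.pow_one, _root_.and_self, _root_.ite_true, _root_.MulZeroClass.mul_zero, _root_.and_false, _root_.ite_false, _root_.zero_add, _root_.and_true] at h2 ⊢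
    linear_combination h2
  have h2 := poly2 hF hij hi hj (by omega) (by omega) h1 s (by omega) s' (by omega)
  rw [if_neg (by (clear * - s s' h; tauto))] at h2
  refine (mul_eq_zero.1 h2).resolve_left (mul_ne_zero ?_ ?_)
  · exact choose_ne' k (by omega : 2 < p) hs
  · exact choose_ne' k (by omega : 2 < p) hs'

theorem tp_form1 (hF : Fintype.card K = p ^ a) (hp3 : 3 ≤ p) (hij : i ≠ j) (hi : i < a) (hj : j < a)
    (hP : ∀ g x y, P (σ g x) (σ' g y) = P x y) (hx : TP ι p σ i j x) (hy : TP ι p σ' i j y) {s s' : ℕ} (hs : s ≤ 2)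
    (hs' : s' ≤ 2) (h : s ≠ 2 ∨ s' ≠ 2) : P (x 0 0) (y s s') = 0 := by
  have h1 := hP w (x 0 0) (y s s')
  rw [hx.w 0 (by norm_num) 0 (by norm_num), hy.w s hs s' hs', map_smul, map_smul, LinearMap.smul_apply,
    tp_form0 hF hp3 hij hi hj hP hx hy (by omega) (by omega) (by omega), smul_zero, smul_zero] at h1
  exact h1.symm

theorem tp_form2 (hF : Fintype.card K = p ^ a) (hp3 : 3 ≤ p) (hij : i ≠ j) (hi : i < a) (hj : j < a)
    (hP : ∀ g x y, P (σ g x) (σ' g y) = P x y) (hx : TP ι p σ i j x) (hy : TP ι p σ' i j y) :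
    P (x 2 2) (y 0 0) = P (x 0 0) (y 2 2) := by
  have h1 := hP w (x 0 0) (y 2 2)
  rw [hx.w 0 (by norm_num) 0 (by norm_num), hy.w 2 le_rfl 2 le_rfl, map_smul, map_smul, LinearMap.smul_apply] at h1
  norm_num at h1
  exact h1

/-- the middle value -/
theorem tp_form11 (hF : Fintype.card K = p ^ a) (hp3 : 3 ≤ p) (hij : i ≠ j) (hi : i < a) (hj : j < a)
    (hP : ∀ g x y, P (σ g x) (σ' g y) = P x y) (hx : TP ι p σ i j x) (hy : TP ι p σ' i j y) :
    P (x 0 0) (y 2 2) = 4 * P (x 1 1) (y 1 1) := by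
  have h4 : (4 : k) ≠ 0 := by
    have := two_ne (k := k) p (by omega)
    rw [show (4 : k) = 2 * 2 by norm_num]
    exact mul_ne_zero this this
  have h1 : ∀ r t : K, P (σ (u r) (x 0 0)) (σ' (u t) (y 0 0)) =
      ((ι t ^ p ^ i - ι r ^ p ^ i) ^ 2 * (ι t ^ p ^ j - ι r ^ p ^ j) ^ 2) * P (x 0 0) (y 2 2) := by
    intro r t
    have h2 := hP (u r) (x 0 0) (σ' (u (t - r)) (y 0 0))
    rw [← Module.End.mul_apply, ← map_mul, ← u_add, add_sub_cancel] at h2
    rw [h2, hy.u]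
    simp only [Finset.sum_range_succ, Finset.sum_range_zero, zero_add, map_add, map_smul, smul_eq_mul]
    have e : ∀ s ≤ 2, ∀ s' ≤ 2, (s ≠ 2 ∨ s' ≠ 2) → P (x 0 0) (y s s') = 0 := fun s hs s' hs' h =>
      tp_form1 hF hp3 hij hi hj hP hx hy hs hs' h
    rw [e 0 (by norm_num) 0 (by norm_num) (by norm_num), e 0 (by norm_num) 1 (by norm_num) (by norm_num),
      e 0 (by norm_num) 2 (by norm_num) (by norm_num), e 1 (by norm_num) 0 (by norm_num) (by norm_num),
      e 1 (by norm_num) 1 (by norm_num) (by norm_num), e 1 (by norm_num) 2 (by norm_num) (by norm_num),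
      e 2 (by norm_num) 0 (by norm_num) (by norm_num), e 2 (by norm_num) 1 (by norm_num) (by norm_num)]
    rw [map_sub, sub_pow_char_pow, sub_pow_char_pow, Nat.choose_self]
    ring
  have h2 : ∀ r : K, 4 * P (σ (u r) (x 0 0)) (y 1 1) - (4 * (ι r ^ p ^ i) * (ι r ^ p ^ j)) * P (x 0 0) (y 2 2) = 0 := by
    intro r
    have h3 := poly2 (ι := ι) hF hij hi hj (N := 3) (M := 3) (by omega) (by omega)
      (c := fun s s' => ((2 : ℕ).choose s : k) * ((2 : ℕ).choose s' : k) * P (σ (u r) (x 0 0)) (y s s') -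
        (((2 : ℕ).choose s : k) * ((2 : ℕ).choose s' : k) * ((-(ι r ^ p ^ i)) ^ (2 - s) * (-(ι r ^ p ^ j)) ^ (2 - s'))) *
          P (x 0 0) (y 2 2)) (fun t => by
        have h4 := h1 r t
        rw [hy.u] at h4
        simp only [Finset.sum_range_succ, Finset.sum_range_zero, zero_add, map_add, map_smul, smul_eq_mul, Nat.choose] at h4 ⊢
        norm_num only [_root_.pow_zero, _root_.mul_one, _root_.one_mul, _root_.pow_one, _root_.Even.neg_pow, _root_.mul_neg, _root_.neg_mul, _root_.sub_neg_eq_add, _root_.neg_neg] at h4 ⊢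
        linear_combination h4) 1 (by norm_num) 1 (by norm_num)
    simp only [Nat.choose_one_right] at h3
    norm_num only [_root_.pow_one, _root_.mul_neg, _root_.neg_mul, _root_.neg_neg] at h3
    linear_combination h3
  have h3 := poly2 (ι := ι) hF hij hi hj (N := 3) (M := 3) (by omega) (by omega)
    (c := fun s s' => 4 * (((2 : ℕ).choose s : k) * ((2 : ℕ).choose s' : k) * P (x s s') (y 1 1)) -
      if s = 1 ∧ s' = 1 then 4 * P (x 0 0) (y 2 2) else 0) (fun r => by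
      have h4 := h2 r
      rw [hx.u] at h4
      simp only [Finset.sum_range_succ, Finset.sum_range_zero, zero_add, map_add, map_smul, smul_eq_mul, Nat.choose,
        LinearMap.add_apply, LinearMap.smul_apply] at h4 ⊢
      norm_num only [_root_.pow_zero, _root_.mul_one, _root_.one_mul, _root_.pow_one, _root_.and_self, _root_.ite_false, _root_.sub_zero, _root_.and_true, _root_.and_false, _root_.ite_true] at h4 ⊢
      linear_combination h4) 1 (by norm_num) 1 (by norm_num)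
  simp only [Nat.choose_one_right, and_self, if_true] at h3
  have h5 : (4 : k) * (P (x 0 0) (y 2 2) - 4 * P (x 1 1) (y 1 1)) = 0 := by
    push_cast at h3
    linear_combination -h3
  exact sub_eq_zero.1 ((mul_eq_zero.1 h5).resolve_left h4)

end Cfsg.Agent.R2.F4L
end

-- part: R2/F4P/Th/Def
section
prune_inst 0x10000000000000
set_option linter.all false
open scoped Cfsg.Agent.FastGrp

/-!
# S5931, `p = 3` : definitions (helper20)

* `polyF`, `polyE` : polynomial identities over a finite subfield, with arbitrary exponents;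
* `TP` : two-digit tuples : equivariant maps `V_{n p ^ i} ⊗ V_{m p ^ j} → V` in coordinates; `BasP.tp`;
* `TS.twist`, `TP.twist` : Frobenius twist of `ι`;
* `yy` : the vector `Σ C(2,a) C(2,b) σ^a τ^b y_ab`;
* `Cx3` : the context over `k`, `p = 3`.
-/

set_option autoImplicit false
set_option linter.unusedSectionVars false

namespace Cfsg.Agent.R2.F4P.Th

open Cfsg.Lie
open Cfsg.Agent.ChevalleyStructure.E6Min.Tables Cfsg.Agent.ChevalleyStructure.E6Min.Basic
open Cfsg.Agent.H952.F4 (sh cr tf tr1 u0)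
open Cfsg.Agent.H952.F4.Jord
open Cfsg.Agent.H943.SL2Rel Cfsg.Agent.H943.SL2Mod Cfsg.Agent.R2.H28.SL2 Cfsg.Agent.H943.RepAdd
open Cfsg.Agent.R2.F4L

universe u v w

variable {k : Type u} [Field k] [DecidableEq k] {K : Type w} [Field K] [Fintype K] [DecidableEq K] {ι : K →+* k}
variable {p : ℕ} [Fact p.Prime] [CharP k p] [CharP K p]

/-- **polynomial identities with arbitrary exponents** -/
theorem polyF {V : Type*} [AddCommGroup V] [Module k V] (p : ℕ) [Fact p.Prime] [CharP k p] [CharP K p]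
    {α : Type*} (S : Finset α) (e : α → ℕ) (c : α → V) (he : ∀ x ∈ S, e x < Fintype.card K)
    (h0 : ∀ t : K, ∑ x ∈ S, (ι t ^ e x) • c x = 0) (m : ℕ) : ∑ x ∈ S with e x = m, c x = 0 := by
  classical
  rcases lt_or_ge m (Fintype.card K) with hm | hm
  · refine poly0 ι le_rfl p 0 (a := fun j => ∑ x ∈ S with e x = j, c x) (fun t => ?_) m hm
    rw [pow_zero, pow_one, ← h0 t,
      ← Finset.sum_fiberwise_of_maps_to (s := S) (t := Finset.range (Fintype.card K)) (g := e)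
      (fun x hx => Finset.mem_range.2 (he x hx))]
    refine Finset.sum_congr rfl fun j _ => ?_
    rw [Finset.smul_sum]
    refine Finset.sum_congr rfl fun x hx => ?_
    rw [(Finset.mem_filter.1 hx).2]
  · rw [Finset.filter_false_of_mem (fun x hx => by have := he x hx; omega), Finset.sum_empty]

/-- **polynomial identities with distinct exponents** -/
theorem polyE {V : Type*} [AddCommGroup V] [Module k V] (p : ℕ) [Fact p.Prime] [CharP k p] [CharP K p]
    {α : Type*} (S : Finset α) (e : α → ℕ) (c : α → V) (he : ∀ x ∈ S, e x < Fintype.card K)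
    (hinj : ∀ x ∈ S, ∀ y ∈ S, e x = e y → x = y)
    (h0 : ∀ t : K, ∑ x ∈ S, (ι t ^ e x) • c x = 0) : ∀ x ∈ S, c x = 0 := by
  classical
  intro x hx
  have h1 := polyF p S e c he h0 (e x)
  have h2 : ∑ y ∈ S with e y = e x, c y = c x := by
    have hmem : x ∈ S.filter (fun y => e y = e x) := Finset.mem_filter.2 ⟨hx, rfl⟩
    refine Finset.sum_eq_single_of_mem x hmem ?_
    intro y hy hyx
    exact absurd (hinj y (Finset.mem_filter.1 hy).1 x hx (Finset.mem_filter.1 hy).2) hyx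
  rw [← h2, h1]

/-- two-digit tuples -/
structure TP (ι : K →+* k) (p : ℕ) {V : Type*} [AddCommGroup V] [Module k V]
    (ρ : Representation k (Matrix.SpecialLinearGroup (Fin 2) K) V) (n i m j : ℕ) (v : ℕ → ℕ → V) : Prop where
  zero : ∀ s s', n < s ∨ m < s' → v s s' = 0
  u : ∀ s ≤ n, ∀ s' ≤ m, ∀ t, ρ (u t) (v s s') =
    ∑ l ∈ Finset.range (n - s + 1), ∑ l' ∈ Finset.range (m - s' + 1),
      ((((n - s).choose l : k) * (ι t ^ p ^ i) ^ l) * (((m - s').choose l' : k) * (ι t ^ p ^ j) ^ l')) • v (s + l) (s' + l')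
  h : ∀ s ≤ n, ∀ s' ≤ m, ∀ a : Kˣ, ρ (h a) (v s s') = (((ι a ^ p ^ i) ^ s * ((ι a ^ p ^ i)⁻¹) ^ (n - s)) *
    ((ι a ^ p ^ j) ^ s' * ((ι a ^ p ^ j)⁻¹) ^ (m - s'))) • v s s'
  w : ∀ s ≤ n, ∀ s' ≤ m, ρ w (v s s') = ((-1 : k) ^ s * (-1 : k) ^ s') • v (n - s) (m - s')

section

variable {V : Type*} [AddCommGroup V] [Module k V] {ρ : Representation k (Matrix.SpecialLinearGroup (Fin 2) K) V}
variable {n m i j : ℕ} {x y : ℕ → ℕ → V}

/-- the tuple of a submodule -/
theorem BasP.tp {W : Submodule k V} {hW : ∀ g, ∀ x ∈ W, ρ g x ∈ W} {v : ℕ → ℕ → W}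
    (hv : BasP ι p (subRep ρ W hW) n i m j v) : TP ι p ρ n i m j (fun s s' => (v s s' : V)) where
  zero := fun s s' hs => by rw [hv.zero s s' hs]; rfl
  u := fun s hs s' hs' t => by
    have := congrArg Subtype.val (hv.u s hs s' hs' t)
    rw [Submodule.coe_sum] at this
    refine Eq.trans this ?_
    refine Finset.sum_congr rfl fun l _ => ?_
    rw [Submodule.coe_sum]
    rfl
  h := fun s hs s' hs' a => congrArg Subtype.val (hv.h s hs s' hs' a)
  w := fun s hs s' hs' => congrArg Subtype.val (hv.w s hs s' hs')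

theorem TP.smul (c : k) (hx : TP ι p ρ n i m j x) : TP ι p ρ n i m j (c • x) where
  zero := fun s s' hs => by
    show c • x s s' = 0
    rw [hx.zero s s' hs, smul_zero]
  u := fun s hs s' hs' t => by
    show ρ (Cfsg.Agent.H943.SL2Rel.u t) (c • x s s') = _
    rw [map_smul, hx.u s hs s' hs', Finset.smul_sum]
    refine Finset.sum_congr rfl fun l _ => ?_
    rw [Finset.smul_sum]
    exact Finset.sum_congr rfl fun l' _ => smul_comm _ _ _
  h := fun s hs s' hs' a => by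
    show ρ (Cfsg.Agent.H943.SL2Rel.h a) (c • x s s') = _
    rw [map_smul, hx.h s hs s' hs']
    exact smul_comm _ _ _
  w := fun s hs s' hs' => by
    show ρ Cfsg.Agent.H943.SL2Rel.w (c • x s s') = _
    rw [map_smul, hx.w s hs s' hs']
    exact smul_comm _ _ _

theorem TP.add (hx : TP ι p ρ n i m j x) (hy : TP ι p ρ n i m j y) : TP ι p ρ n i m j (x + y) where
  zero := fun s s' hs => by
    show x s s' + y s s' = 0
    rw [hx.zero s s' hs, hy.zero s s' hs, add_zero]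
  u := fun s hs s' hs' t => by
    show ρ (Cfsg.Agent.H943.SL2Rel.u t) (x s s' + y s s') = _
    rw [map_add, hx.u s hs s' hs', hy.u s hs s' hs', ← Finset.sum_add_distrib]
    refine Finset.sum_congr rfl fun l _ => ?_
    rw [← Finset.sum_add_distrib]
    exact Finset.sum_congr rfl fun l' _ => (smul_add _ _ _).symm
  h := fun s hs s' hs' a => by
    show ρ (Cfsg.Agent.H943.SL2Rel.h a) (x s s' + y s s') = _
    rw [map_add, hx.h s hs s' hs', hy.h s hs s' hs']
    exact (smul_add _ _ _).symm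
  w := fun s hs s' hs' => by
    show ρ Cfsg.Agent.H943.SL2Rel.w (x s s' + y s s') = _
    rw [map_add, hx.w s hs s' hs', hy.w s hs s' hs']
    exact (smul_add _ _ _).symm

/-- exchange of the two digits -/
theorem TP.swap (hx : TP ι p ρ n i m j x) : TP ι p ρ m j n i (fun s s' => x s' s) where
  zero := fun s s' hs => hx.zero s' s hs.symm
  u := fun s hs s' hs' t => by
    show ρ (Cfsg.Agent.H943.SL2Rel.u t) (x s' s) = _
    rw [hx.u s' hs' s hs t, Finset.sum_comm]
    refine Finset.sum_congr rfl fun l _ => Finset.sum_congr rfl fun l' _ => ?_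
    rw [mul_comm]
  h := fun s hs s' hs' a => by
    show ρ (Cfsg.Agent.H943.SL2Rel.h a) (x s' s) = _
    rw [hx.h s' hs' s hs a, mul_comm]
  w := fun s hs s' hs' => by
    show ρ Cfsg.Agent.H943.SL2Rel.w (x s' s) = _
    rw [hx.w s' hs' s hs, mul_comm]

/-- images of tuples -/
theorem TP.map {V' : Type*} [AddCommGroup V'] [Module k V'] {σ' : Representation k (Matrix.SpecialLinearGroup (Fin 2) K) V'}
    (f : V →ₗ[k] V') (hf : ∀ g v, f (ρ g v) = σ' g (f v)) (hx : TP ι p ρ n i m j x) :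
    TP ι p σ' n i m j (fun s s' => f (x s s')) where
  zero := fun s s' hs => by rw [hx.zero s s' hs, map_zero]
  u := fun s hs s' hs' t => by
    rw [← hf, hx.u s hs s' hs', map_sum]
    refine Finset.sum_congr rfl fun l _ => ?_
    rw [map_sum]
    exact Finset.sum_congr rfl fun l' _ => map_smul _ _ _
  h := fun s hs s' hs' a => by rw [← hf, hx.h s hs s' hs', map_smul]
  w := fun s hs s' hs' => by rw [← hf, hx.w s hs s' hs', map_smul]

/-- the last vector is fixed -/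
theorem TP.top (hx : TP ι p ρ n i m j x) (t : K) : ρ (Cfsg.Agent.H943.SL2Rel.u t) (x n m) = x n m := by
  rw [hx.u n le_rfl m le_rfl t]
  simp

end

/-- the Frobenius twist -/
noncomputable def twi (ι : K →+* k) (p : ℕ) [Fact p.Prime] [CharP k p] (i : ℕ) : K →+* k := (iterateFrobenius k p i).comp ι

theorem twi_apply (i : ℕ) (t : K) : twi ι p i t = ι t ^ p ^ i := by
  rw [twi, RingHom.comp_apply, iterateFrobenius_def]

theorem pow_mod {a : ℕ} (hF : Fintype.card K = p ^ a) (n : ℕ) (t : K) : ι t ^ p ^ n = ι t ^ p ^ (n % a) := by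
  have h1 : ∀ m : ℕ, t ^ (p ^ a) ^ m = t := by
    intro m
    rw [← hF]
    exact FiniteField.pow_card_pow m t
  conv_lhs => rw [← Nat.div_add_mod n a, pow_add, pow_mul, pow_mul p a, ← map_pow, h1]

section

variable {V : Type*} [AddCommGroup V] [Module k V] {ρ : Representation k (Matrix.SpecialLinearGroup (Fin 2) K) V}
variable {n m i j : ℕ}

theorem TP.twist {x : ℕ → ℕ → V} {a : ℕ} (hF : Fintype.card K = p ^ a) {l i' j' : ℕ} (hi : (l + i') % a = i % a)
    (hj : (l + j') % a = j % a) (hx : TP ι p ρ n i m j x) : TP (twi ι p l) p ρ n i' m j' x := by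
  have e1 : ∀ t, twi ι p l t ^ p ^ i' = ι t ^ p ^ i := fun t => by
    rw [twi_apply, ← pow_mul, ← pow_add, pow_mod hF (l + i'), hi, ← pow_mod hF]
  have e2 : ∀ t, twi ι p l t ^ p ^ j' = ι t ^ p ^ j := fun t => by
    rw [twi_apply, ← pow_mul, ← pow_add, pow_mod hF (l + j'), hj, ← pow_mod hF]
  refine ⟨hx.zero, fun s hs s' hs' t => ?_, fun s hs s' hs' b => ?_, hx.w⟩
  · rw [e1, e2]
    exact hx.u s hs s' hs' t
  · rw [e1, e2]
    exact hx.h s hs s' hs' b

theorem TS_twist {x : ℕ → V} {a : ℕ} (hF : Fintype.card K = p ^ a) {l i' : ℕ} (hi : (l + i') % a = i % a)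
    (hx : TS ι p ρ n i x) : TS (twi ι p l) p ρ n i' x := by
  have e1 : ∀ t, twi ι p l t ^ p ^ i' = ι t ^ p ^ i := fun t => by
    rw [twi_apply, ← pow_mul, ← pow_add, pow_mod hF (l + i'), hi, ← pow_mod hF]
  refine ⟨hx.zero, fun s hs t => ?_, fun s hs b => ?_, hx.w⟩
  · rw [e1]
    exact hx.u s hs t
  · rw [e1]
    exact hx.h s hs b

end

/-- the vectors `v(σ) ⊗ v(τ)` -/
def yy (y : ℕ → ℕ → I27 → k) (σ τ : k) : I27 → k :=
  y 0 0 + (2 * σ) • y 1 0 + (σ ^ 2) • y 2 0 + τ • ((2 : k) • y 0 1 + (4 * σ) • y 1 1 + (2 * σ ^ 2) • y 2 1) +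
    (τ ^ 2) • (y 0 2 + (2 * σ) • y 1 2 + (σ ^ 2) • y 2 2)

/-- the context, `p = 3` -/
structure Cx3 (K : Type w) [Field K] [Fintype K] [DecidableEq K] {k : Type u} [Field k] (a : ℕ)
    (ρ : Representation k (Matrix.SpecialLinearGroup (Fin 2) K) (I27 → k)) : Prop where
  act : Act ρ
  ha : 2 ≤ a
  card : Fintype.card K = 3 ^ a
  neg : ρ (-1) = 1
  fix : ∀ y : I27 → k, (∀ g, ρ g y = y) → ∃ c : k, y = c • u0 k
  fixm : ∀ y : I27 → k, (∀ g, ∃ c : k, ρ g y = y + c • u0 k) → ∃ c : k, y = c • u0 k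
  white : ∀ W : Submodule k (I27 → k), (∀ g, ∀ x ∈ W, ρ g x ∈ W) → (∀ x ∈ W, sh x = 0) → W = ⊥

end Cfsg.Agent.R2.F4P.Th

private theorem dce_fc5e5b53bf24 : _root_.True := by
  try have : _root_.True := by simp only [_root_.Cfsg.Agent.R2.F4P.Th.twi.eq_1]
  exact _root_.True.intro
end

-- part: R2/F4P/Th/SkD
section
prune_inst 0x400030000000000000102000042080000400000008000080040e0401040209404020121004000082000448300048101000100000000000000400011800800080000210000000020086000000000000000000000000000000000000000000000000000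
set_option linter.all false
open scoped Cfsg.Agent.FastGrp

-- part: R2/F4P/Th/SkA
section
/-!
# S5931, `p = 3`, the skeleton : nondegenerate submodules (helper17)

* `rank_orth`, `nd_or`, `nd_inf`, `iso_le` : nondegenerate and isotropic submodules;
* `dvd_of_nd` : dimensions of modules all of whose irreducible submodules are nondegenerate;
* `irr_or` : irreducible submodules of a sum.
-/

set_option autoImplicit false
set_option linter.unusedSectionVars false
set_option linter.unusedVariables false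

namespace Cfsg.Agent.R2.F4P.Th

open Cfsg.Agent.H943.SL2Rel Cfsg.Agent.H943.SL2Mod Cfsg.Agent.R2.H28.SL2 Cfsg.Agent.H943.RepAdd
open Cfsg.Agent.R2.F4L

universe u v w

section Lin

variable {k : Type u} [Field k] {G : Type w} [Group G]
variable {V : Type v} [AddCommGroup V] [Module k V] [FiniteDimensional k V] {σ : Representation k G V}
  {P : V →ₗ[k] V →ₗ[k] k}

/-- nondegenerate subspaces -/
def Nd (P : V →ₗ[k] V →ₗ[k] k) (W : Submodule k V) : Prop := W ⊓ orth P W = ⊥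

theorem rank_orth (D : Dul σ σ P) {W : Submodule k V} (hW : ∀ g, ∀ x ∈ W, σ g x ∈ W) :
    Module.finrank k W + Module.finrank k (orth P W) = Module.finrank k V := by
  obtain ⟨B, D', -⟩ := D.sub hW
  have h1 := D'.finrank_eq
  have h2 := Submodule.finrank_quotient_add_finrank (orth P W)
  omega

theorem nd_compl (D : Dul σ σ P) {W : Submodule k V} (hW : ∀ g, ∀ x ∈ W, σ g x ∈ W) (hn : Nd P W) :
    IsCompl W (orth P W) := by
  rw [isCompl_iff, disjoint_iff, codisjoint_iff]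
  refine ⟨hn, ?_⟩
  apply Submodule.eq_top_of_finrank_eq
  have h1 := Submodule.finrank_sup_add_finrank_inf_eq W (orth P W)
  have hn' : W ⊓ orth P W = ⊥ := hn
  rw [hn', finrank_bot, add_zero] at h1
  rw [h1, rank_orth D hW]

theorem orth_orth_eq (D : Dul σ σ P) (hP : ∀ x y, P x y = P y x) (W : Submodule k V) : orth P (orth P W) = W := by
  ext x
  constructor
  · intro hx
    refine D.orth_orth W x fun y hy => ?_
    rw [hP]
    exact hx y hy
  · intro hx y hy
    rw [hP]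
    exact hy x hx

theorem nd_orth (D : Dul σ σ P) (hP : ∀ x y, P x y = P y x) {W : Submodule k V} (hn : Nd P W) : Nd P (orth P W) := by
  unfold Nd
  rw [orth_orth_eq D hP, inf_comm]
  exact hn

theorem orth_mono {X W : Submodule k V} (h : X ≤ W) : orth P W ≤ orth P X := fun y hy x hx => hy x (h hx)

/-- the orthogonal complement in a nondegenerate subspace -/
theorem nd_inf (D : Dul σ σ P) {X W : Submodule k V} (hX : ∀ g, ∀ x ∈ X, σ g x ∈ X) (hXn : Nd P X) (hWn : Nd P W)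
    (hle : X ≤ W) (hP : ∀ x y, P x y = P y x) :
    Nd P (W ⊓ orth P X) ∧ Module.finrank k X + Module.finrank k (W ⊓ orth P X : Submodule k V) = Module.finrank k W := by
  have hc := nd_compl D hX hXn
  have hdec : ∀ w ∈ W, ∃ x ∈ X, ∃ z ∈ W ⊓ orth P X, x + z = w := by
    intro w hw
    have h1 : w ∈ X ⊔ orth P X := by
      rw [hc.sup_eq_top]
      trivial
    obtain ⟨x, hx, z, hz, e⟩ := Submodule.mem_sup.1 h1
    refine ⟨x, hx, z, ⟨?_, hz⟩, e⟩
    have h2 : z = w - x := by rw [← e]; abel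
    rw [h2]
    exact W.sub_mem hw (hle hx)
  constructor
  · unfold Nd
    rw [eq_bot_iff]
    rintro z ⟨⟨hz1, hz2⟩, hz3⟩
    have h1 : z ∈ W ⊓ orth P W := by
      refine ⟨hz1, fun w hw => ?_⟩
      obtain ⟨x, hx, z', hz', rfl⟩ := hdec w hw
      rw [map_add, LinearMap.add_apply, hz2 x hx, hz3 z' hz', add_zero]
    have h2 : W ⊓ orth P W = ⊥ := hWn
    rwa [h2] at h1
  · have h1 : X ⊔ (W ⊓ orth P X) = W := by
      apply le_antisymm
      · exact sup_le hle inf_le_left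
      · intro w hw
        obtain ⟨x, hx, z, hz, rfl⟩ := hdec w hw
        exact Submodule.add_mem_sup hx hz
    have h2 : X ⊓ (W ⊓ orth P X) = ⊥ := by
      rw [eq_bot_iff]
      rintro x ⟨hx1, -, hx2⟩
      have h3 : x ∈ X ⊓ orth P X := ⟨hx1, hx2⟩
      have h4 : X ⊓ orth P X = ⊥ := hXn
      rwa [h4] at h3
    have h3 := Submodule.finrank_sup_add_finrank_inf_eq X (W ⊓ orth P X)
    rw [h1, h2, finrank_bot, add_zero] at h3
    exact h3.symm

/-- isotropic subspaces of nondegenerate ones -/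
theorem iso_le (D : Dul σ σ P) {X W : Submodule k V} (hX : ∀ g, ∀ x ∈ X, σ g x ∈ X) (hW : ∀ g, ∀ x ∈ W, σ g x ∈ W)
    (hWn : Nd P W) (hle : X ≤ W) (hi : X ≤ orth P X) : 2 * Module.finrank k X ≤ Module.finrank k W := by
  have h1 : X ⊔ orth P W ≤ orth P X := sup_le hi (orth_mono hle)
  have h2 : X ⊓ orth P W = ⊥ := by
    rw [eq_bot_iff]
    rintro x ⟨hx1, hx2⟩
    have h3 : x ∈ W ⊓ orth P W := ⟨hle hx1, hx2⟩
    have h4 : W ⊓ orth P W = ⊥ := hWn
    rwa [h4] at h3
  have h3 := Submodule.finrank_sup_add_finrank_inf_eq X (orth P W)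
  rw [h2, finrank_bot, add_zero] at h3
  have h4 := Submodule.finrank_mono h1
  have h5 := rank_orth D hX
  have h6 := rank_orth D hW
  omega

theorem nd_top (D : Dul σ σ P) : Nd P (⊤ : Submodule k V) := by
  unfold Nd
  rw [eq_bot_iff]
  rintro x ⟨-, hx⟩
  exact (Submodule.mem_bot k).2 (D.right x fun y => hx y trivial)

theorem inf_inv {X W : Submodule k V} (hX : ∀ g, ∀ x ∈ X, σ g x ∈ X) (hW : ∀ g, ∀ x ∈ W, σ g x ∈ W) :
    ∀ g, ∀ x ∈ X ⊓ W, σ g x ∈ X ⊓ W := fun g x hx => ⟨hX g x hx.1, hW g x hx.2⟩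

theorem sup_inv {X W : Submodule k V} (hX : ∀ g, ∀ x ∈ X, σ g x ∈ X) (hW : ∀ g, ∀ x ∈ W, σ g x ∈ W) :
    ∀ g, ∀ x ∈ X ⊔ W, σ g x ∈ X ⊔ W := by
  intro g x hx
  obtain ⟨y, hy, z, hz, rfl⟩ := Submodule.mem_sup.1 hx
  rw [map_add]
  exact Submodule.add_mem_sup (hX g y hy) (hW g z hz)

end Lin

variable {k : Type u} [Field k] [DecidableEq k] {K : Type w} [Field K] [Fintype K] [DecidableEq K] {ι : K →+* k}
variable {p : ℕ} [Fact p.Prime] [CharP k p] [CharP K p]
variable {V : Type v} [AddCommGroup V] [Module k V] [FiniteDimensional k V]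
  {σ : Representation k (Matrix.SpecialLinearGroup (Fin 2) K) V} {P : V →ₗ[k] V →ₗ[k] k}

/-- irreducible submodules are isotropic or nondegenerate -/
theorem nd_or [IsAlgClosed k] (D : Dul σ σ P) {X : Submodule k V} {hX : ∀ g, ∀ x ∈ X, σ g x ∈ X} {b : ℕ}
    (hV : IsV ι p (subRep σ X hX) b) : Nd P X ∨ X ≤ orth P X := IsV.inf_or_le ι p hV (D.orth_inv hX)

/-- two irreducible submodules are equal or independent -/
theorem irr_or [IsAlgClosed k] {X Y : Submodule k V} {hX : ∀ g, ∀ x ∈ X, σ g x ∈ X} {hY : ∀ g, ∀ x ∈ Y, σ g x ∈ Y} {b c : ℕ}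
    (hVX : IsV ι p (subRep σ X hX) b) (hVY : IsV ι p (subRep σ Y hY) c) : X ⊓ Y = ⊥ ∨ X = Y := by
  rcases IsV.inf_or_le ι p hVX hY with h | h
  · exact Or.inl h
  · rcases IsV.inf_or_le ι p hVY hX with h' | h'
    · left
      rw [inf_comm]
      exact h'
    · right
      exact le_antisymm h h'

theorem IsV.ne_bot {X : Submodule k V} {hX : ∀ g, ∀ x ∈ X, σ g x ∈ X} {b : ℕ}
    (hVX : IsV ι p (subRep σ X hX) b) : X ≠ ⊥ := Submodule.nontrivial_iff_ne_bot.1 (IsV.irr ι p hVX).1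

theorem IsV.pos {X : Submodule k V} {hX : ∀ g, ∀ x ∈ X, σ g x ∈ X} {b : ℕ}
    (hVX : IsV ι p (subRep σ X hX) b) : 0 < Module.finrank k X := by
  rw [Nat.pos_iff_ne_zero, Ne, Submodule.finrank_eq_zero]
  exact IsV.ne_bot hVX

/-- irreducible submodules of a sum of two irreducible ones -/
theorem irr_sup [IsAlgClosed k] {X Y Z : Submodule k V} {hX : ∀ g, ∀ x ∈ X, σ g x ∈ X} {hY : ∀ g, ∀ x ∈ Y, σ g x ∈ Y}
    {hZ : ∀ g, ∀ x ∈ Z, σ g x ∈ Z} {b c d : ℕ}
    (hVX : IsV ι p (subRep σ X hX) b) (hVY : IsV ι p (subRep σ Y hY) c) (hVZ : IsV ι p (subRep σ Z hZ) d)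
    (hle : Z ≤ X ⊔ Y) : Module.finrank k Z = Module.finrank k X ∨ Module.finrank k Z = Module.finrank k Y := by
  rcases irr_or hVX hVY with h0 | h0
  swap
  · subst h0
    rw [sup_idem] at hle
    rcases irr_or hVX hVZ with h1 | h1
    · rw [inf_eq_right.2 hle] at h1
      exact absurd h1 (IsV.ne_bot hVZ)
    · left
      rw [h1]
  have hXY := Submodule.finrank_sup_add_finrank_inf_eq X Y
  rw [h0, finrank_bot, add_zero] at hXY
  rcases irr_or hVZ hVY with h1 | h1
  · left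
    have hZY := Submodule.finrank_sup_add_finrank_inf_eq Z Y
    rw [h1, finrank_bot, add_zero] at hZY
    rcases IsV.inf_or_le ι p hVX (sup_inv hZ hY) with h2 | h2
    · exfalso
      have h3 := Submodule.finrank_sup_add_finrank_inf_eq X (Z ⊔ Y)
      rw [h2, finrank_bot, add_zero] at h3
      have h4 : Module.finrank k (X ⊔ (Z ⊔ Y) : Submodule k V) ≤ Module.finrank k (X ⊔ Y : Submodule k V) :=
        Submodule.finrank_mono (sup_le le_sup_left (sup_le hle le_sup_right))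
      have h5 := IsV.pos hVZ
      omega
    · have h3 : Module.finrank k (X ⊔ Y : Submodule k V) ≤ Module.finrank k (Z ⊔ Y : Submodule k V) :=
        Submodule.finrank_mono (sup_le h2 le_sup_right)
      have h4 : Module.finrank k (Z ⊔ Y : Submodule k V) ≤ Module.finrank k (X ⊔ Y : Submodule k V) :=
        Submodule.finrank_mono (sup_le hle le_sup_right)
      omega
  · right
    rw [h1]

/-- **dimensions of nondegenerate submodules** -/
theorem dvd_of_nd [IsAlgClosed k] (D : Dul σ σ P) (hP : ∀ x y, P x y = P y x) (m : ℕ) (U : Submodule k V)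
    (h : ∀ (X : Submodule k V) (hX : ∀ g, ∀ x ∈ X, σ g x ∈ X) (b : ℕ), X ≤ U → IsV ι p (subRep σ X hX) b →
      Nd P X ∧ m ∣ Module.finrank k X) (n : ℕ) : ∀ (W : Submodule k V) (hW : ∀ g, ∀ x ∈ W, σ g x ∈ W), W ≤ U →
      Module.finrank k W ≤ n → Nd P W → m ∣ Module.finrank k W := by
  induction n with
  | zero =>
    intro W hW _ hn _
    have h1 : Module.finrank k W = 0 := by omega
    rw [h1]
    exact dvd_zero m
  | succ n ih =>
    intro W hW hWU hn hWn
    by_cases h0 : W = ⊥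
    · rw [h0, finrank_bot]
      exact dvd_zero m
    obtain ⟨b, hb1, -⟩ := exists_inSoc_sub ι p hW h0
    obtain ⟨X', hX', hV'⟩ := hb1
    obtain ⟨hX, e, he⟩ := eqv_map (subRep σ W hW) σ W.subtype (fun _ _ => rfl) W.injective_subtype X' hX'
    have hV := IsV.iso ι p e he hV'
    have hle : X'.map W.subtype ≤ W := Submodule.map_subtype_le _ _
    obtain ⟨hXn, hd⟩ := h _ hX b (hle.trans hWU) hV
    obtain ⟨h1, h2⟩ := nd_inf D hX hXn hWn hle hP
    have h3 := IsV.pos hV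
    have h4 := ih _ (inf_inv hW (D.orth_inv hX)) (inf_le_left.trans hWU) (by omega) h1
    rw [← h2]
    exact (Nat.dvd_add_right hd).2 h4

/-- an irreducible submodule of a nonzero submodule -/
theorem exists_irr [IsAlgClosed k] {W : Submodule k V} (hW : ∀ g, ∀ x ∈ W, σ g x ∈ W) (h0 : W ≠ ⊥) :
    ∃ (X : Submodule k V) (hX : ∀ g, ∀ x ∈ X, σ g x ∈ X) (b : ℕ), X ≤ W ∧ IsV ι p (subRep σ X hX) b := by
  obtain ⟨b, hb1, -⟩ := exists_inSoc_sub ι p hW h0
  obtain ⟨X', hX', hV'⟩ := hb1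
  obtain ⟨hX, e, he⟩ := eqv_map (subRep σ W hW) σ W.subtype (fun _ _ => rfl) W.injective_subtype X' hX'
  exact ⟨_, hX, b, Submodule.map_subtype_le _ _, IsV.iso ι p e he hV'⟩

end Cfsg.Agent.R2.F4P.Th
end

-- part: R2/F4P/Th/SkL
section
/-!
# S5931, `p = 3`, the skeleton : labels (helper17)

* `card3` : the labels of dimensions 1, 2, 3, 4, 6, 9, 12;
* `card_ev` : even labels of dimension at most 25;
* `hb3` : the exceptional labels have dimension 4;
* `IsV.ev` : labels of modules with `σ (-1) = 1` are even.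
-/

set_option autoImplicit false
set_option linter.unusedSectionVars false
set_option linter.unusedVariables false

namespace Cfsg.Agent.R2.F4P.Th

open Cfsg.Agent.H943.SL2Rel Cfsg.Agent.H943.SL2Mod Cfsg.Agent.R2.H28.SL2 Cfsg.Agent.H943.RepAdd
open Cfsg.Agent.R2.F4L

universe u v w

section Card

variable (k : Type*) [Field k] [DecidableEq k] [CharP k 3]

theorem card_fac (b : ℕ) : ∃ r s, (Bf k b).card = 2 ^ r * 3 ^ s ∧ b % 2 = r % 2 := by
  induction b using Nat.strong_induction_on with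
  | _ b ih =>
    rcases Nat.eq_zero_or_pos b with rfl | hb
    · exact ⟨0, 0, by rw [card_Bf_zero]; norm_num, rfl⟩
    obtain ⟨r, s, h1, h2⟩ := ih (b / 3) (Nat.div_lt_self hb (by norm_num))
    have h3 := card_Bf_low k 3 b
    rw [h1] at h3
    have h4 := Nat.mod_lt b (show 0 < 3 by norm_num)
    have h5 : b % 3 = 0 ∨ b % 3 = 1 ∨ b % 3 = 2 := by (clear * -; omega)
    rcases h5 with h5 | h5 | h5
    · refine ⟨r, s, ?_, by (clear * - h2 h5; solve | lia | omega)⟩
      rw [h3, h5]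
      ring
    · refine ⟨r + 1, s, ?_, by (clear * - h2 h5; solve | lia | omega)⟩
      rw [h3, h5]
      ring
    · refine ⟨r, s + 1, ?_, by (clear * - h2 h5; solve | lia | omega)⟩
      rw [h3, h5]
      ring

theorem card_pos (b : ℕ) : 0 < (Bf k b).card := by
  rcases Nat.eq_zero_or_pos b with h | h
  · rw [h, card_Bf_zero]
    omega
  · have := card_Bf_pos (k := k) h
    omega

theorem card3 (b : ℕ) : ((Bf k b).card = 1 → b = 0) ∧ ((Bf k b).card = 2 → ∃ l, b = 3 ^ l) ∧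
    ((Bf k b).card = 3 → ∃ l, b = 2 * 3 ^ l) ∧ ((Bf k b).card = 4 → ∃ i j, i < j ∧ b = 3 ^ i + 3 ^ j) ∧
    ((Bf k b).card = 6 → ∃ i j, i ≠ j ∧ b = 3 ^ i + 2 * 3 ^ j) ∧
    ((Bf k b).card = 9 → ∃ i j, i < j ∧ b = 2 * 3 ^ i + 2 * 3 ^ j) ∧
    ((Bf k b).card = 12 → ∃ i j l, i < j ∧ l ≠ i ∧ l ≠ j ∧ b = 3 ^ i + 3 ^ j + 2 * 3 ^ l) := by
  induction b using Nat.strong_induction_on with
  | _ b ih =>
    rcases Nat.eq_zero_or_pos b with rfl | hb
    · rw [card_Bf_zero]
      refine ⟨fun _ => rfl, fun h => ?_, fun h => ?_, fun h => ?_, fun h => ?_, fun h => ?_, fun h => ?_⟩ <;> (clear * - h; omega)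
    obtain ⟨k1, k2, k3, k4, k6, k9, k12⟩ := ih (b / 3) (Nat.div_lt_self hb (by norm_num))
    have h1 := card_Bf_low k 3 b
    have h3 := Nat.div_add_mod b 3
    have hpos := card_pos k (b / 3)
    obtain ⟨b', hb'⟩ : ∃ b', b' = b / 3 := ⟨_, rfl⟩
    obtain ⟨d, hd⟩ : ∃ d, d = (Bf k (b / 3)).card := ⟨_, rfl⟩
    rw [← hd] at h1 hpos k1 k2 k3 k4 k6 k9 k12
    rw [← hb'] at h3 k1 k2 k3 k4 k6 k9 k12
    rw [h1]
    have h4 := Nat.mod_lt b (show 0 < 3 by norm_num)
    have h5 : b % 3 = 0 ∨ b % 3 = 1 ∨ b % 3 = 2 := by omega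
    rcases h5 with h5 | h5 | h5
    · rw [h5] at h3 ⊢
      rw [zero_add, one_mul]
      refine ⟨fun h => ?_, fun h => ?_, fun h => ?_, fun h => ?_, fun h => ?_, fun h => ?_, fun h => ?_⟩
      · have := k1 h
        omega
      · obtain ⟨l, e⟩ := k2 h
        exact ⟨l + 1, by rw [← h3, e]; ring⟩
      · obtain ⟨l, e⟩ := k3 h
        exact ⟨l + 1, by rw [← h3, e]; ring⟩
      · obtain ⟨i, j, hij, e⟩ := k4 h
        exact ⟨i + 1, j + 1, by omega, by rw [← h3, e]; ring⟩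
      · obtain ⟨i, j, hij, e⟩ := k6 h
        exact ⟨i + 1, j + 1, by omega, by rw [← h3, e]; ring⟩
      · obtain ⟨i, j, hij, e⟩ := k9 h
        exact ⟨i + 1, j + 1, by omega, by rw [← h3, e]; ring⟩
      · obtain ⟨i, j, l, h6, h7, h8, e⟩ := k12 h
        exact ⟨i + 1, j + 1, l + 1, by omega, by omega, by omega, by rw [← h3, e]; ring⟩
    · rw [h5] at h3 ⊢
      refine ⟨fun h => ?_, fun h => ?_, fun h => ?_, fun h => ?_, fun h => ?_, fun h => ?_, fun h => ?_⟩
      · omega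
      · have e := k1 (by omega)
        exact ⟨0, by rw [← h3, e]; norm_num⟩
      · omega
      · obtain ⟨l, e⟩ := k2 (by omega)
        exact ⟨0, l + 1, by omega, by rw [← h3, e]; ring⟩
      · obtain ⟨l, e⟩ := k3 (by omega)
        exact ⟨0, l + 1, by omega, by rw [← h3, e]; ring⟩
      · omega
      · obtain ⟨i, j, hij, e⟩ := k6 (by omega)
        exact ⟨0, i + 1, j + 1, by omega, by omega, by omega, by rw [← h3, e]; ring⟩
    · rw [h5] at h3 ⊢
      refine ⟨fun h => ?_, fun h => ?_, fun h => ?_, fun h => ?_, fun h => ?_, fun h => ?_, fun h => ?_⟩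
      · omega
      · omega
      · have e := k1 (by omega)
        exact ⟨0, by rw [← h3, e]; norm_num⟩
      · omega
      · obtain ⟨l, e⟩ := k2 (by omega)
        exact ⟨l + 1, 0, by omega, by rw [← h3, e]; ring⟩
      · obtain ⟨l, e⟩ := k3 (by omega)
        exact ⟨0, l + 1, by omega, by rw [← h3, e]; ring⟩
      · obtain ⟨i, j, hij, e⟩ := k4 (by omega)
        exact ⟨i + 1, j + 1, 0, by omega, by omega, by omega, by rw [← h3, e]; ring⟩

/-- even labels of small dimension -/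
theorem card_ev {b : ℕ} (hb : b % 2 = 0) (hd : (Bf k b).card ≤ 25) : (Bf k b).card = 1 ∨ (Bf k b).card = 3 ∨
    (Bf k b).card = 4 ∨ (Bf k b).card = 9 ∨ (Bf k b).card = 12 ∨ (Bf k b).card = 16 := by
  obtain ⟨r, s, h1, h2⟩ := card_fac k b
  have h3 : 0 < 2 ^ r := Nat.pow_pos (by norm_num)
  have h3' : 0 < 3 ^ s := Nat.pow_pos (by norm_num)
  have hr : r < 5 := by
    by_contra hc
    have h4 : 2 ^ 5 ≤ 2 ^ r := Nat.pow_le_pow_right (by norm_num) (by omega)
    have h5 : 2 ^ r * 1 ≤ 2 ^ r * 3 ^ s := Nat.mul_le_mul_left _ h3'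
    omega
  have hs : s < 3 := by
    by_contra hc
    have h4 : 3 ^ 3 ≤ 3 ^ s := Nat.pow_le_pow_right (by norm_num) (by omega)
    have h5 : 1 * 3 ^ s ≤ 2 ^ r * 3 ^ s := Nat.mul_le_mul_right _ h3
    omega
  rw [h1] at hd ⊢
  clear h1 h3 h3'
  interval_cases r <;> interval_cases s <;> (clear * - hb h2 hd; omega)

theorem card_pow (i : ℕ) : (Bf k (3 ^ i)).card = 2 := by
  induction i with
  | zero =>
    have h := card_Bf_mul k 3 0 (r := 1) (by norm_num)
    rw [card_Bf_zero] at h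
    exact h
  | succ i ih =>
    have h := card_Bf_mul k 3 (3 ^ i) (r := 0) (by norm_num)
    rw [ih] at h
    rw [pow_succ, mul_comm]
    simpa using h

theorem card_pair (i : ℕ) : ∀ j, i ≠ j → (Bf k (3 ^ i + 3 ^ j)).card = 4 := by
  induction i with
  | zero =>
    intro j hj
    obtain ⟨j', rfl⟩ : ∃ j', j = j' + 1 := ⟨j - 1, by omega⟩
    have h := card_Bf_mul k 3 (3 ^ j') (r := 1) (by norm_num)
    rw [card_pow] at h
    rw [pow_zero, pow_succ, show 1 + 3 ^ j' * 3 = 3 * 3 ^ j' + 1 by ring, h]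
  | succ i ih =>
    intro j hj
    rcases Nat.eq_zero_or_pos j with rfl | hj0
    · have h := card_Bf_mul k 3 (3 ^ i) (r := 1) (by norm_num)
      rw [card_pow] at h
      rw [pow_zero, pow_succ, show 3 ^ i * 3 + 1 = 3 * 3 ^ i + 1 by ring, h]
    · obtain ⟨j', rfl⟩ : ∃ j', j = j' + 1 := ⟨j - 1, by omega⟩
      have h := card_Bf_mul k 3 (3 ^ i + 3 ^ j') (r := 0) (by norm_num)
      rw [ih j' (by omega)] at h
      rw [pow_succ, pow_succ, show 3 ^ i * 3 + 3 ^ j' * 3 = 3 * (3 ^ i + 3 ^ j') + 0 by ring, h]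

/-- **the exceptional labels have dimension 4** -/
theorem hb3 {a b : ℕ} (ha : 2 ≤ a) (hb' : b < 3 ^ a) (h4 : (Bf k b).card ≠ 4) : hb 3 a b = 0 := by
  unfold hb
  rw [Finset.card_eq_zero, Finset.filter_eq_empty_iff]
  intro i hi hE
  rw [Finset.mem_range] at hi
  rcases exc_odd Nat.prime_three (by norm_num) hi hb' hE with h1 | h1
  · omega
  · apply h4
    rw [h1.2, show 3 - 2 = 1 by norm_num, one_mul]
    exact card_pair k i _ (succ_mod_ne ha hi)

end Card

variable {k : Type u} [Field k] [DecidableEq k] {K : Type w} [Field K] [Fintype K] [DecidableEq K] {ι : K →+* k}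
variable {p : ℕ} [Fact p.Prime] [CharP k p] [CharP K p]
variable {V : Type v} [AddCommGroup V] [Module k V]
  {σ : Representation k (Matrix.SpecialLinearGroup (Fin 2) K) V}

theorem h_neg_one : (Cfsg.Agent.H943.SL2Rel.h (-1 : Kˣ) : Matrix.SpecialLinearGroup (Fin 2) K) = -1 := by
  ext i j
  (revert i j; simp only [Cfsg.Agent.H943.SL2Rel.h, _root_.Fin.forall_fin_succ, _root_.Units.val_neg, _root_.Units.val_one, _root_.inv_neg, _root_.inv_one, _root_.Matrix.of_apply, _root_.Matrix.cons_val', _root_.Matrix.cons_val_fin_one, _root_.Matrix.SpecialLinearGroup.coe_neg, _root_.Matrix.SpecialLinearGroup.coe_one, _root_.Matrix.neg_apply, Fin.isValue, _root_.Matrix.cons_val_zero, _root_.Matrix.cons_val_succ, _root_.IsEmpty.forall_iff, _root_.and_true, _root_.Matrix.one_apply_eq, Nat.reduceAdd, _root_.Fin.succ_zero_eq_one, _root_.ne_eq, _root_.zero_ne_one, _root_.not_false_eq_true, _root_.Matrix.one_apply_ne, _root_.neg_zero, _root_.and_self,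 _root_.Fin.succ_ne_zero, _root_.neg_inj, _root_.true_and])

/-- **parity** -/
theorem IsV.ev (hp2 : p ≠ 2) {b : ℕ} (hV : IsV ι p σ b) (hneg : ∀ x, σ (-1) x = x) : b % 2 = 0 := by
  obtain ⟨m, hm0, -, hmh, -⟩ := IsV.hw ι p hV
  have h1 := hmh (-1)
  rw [h_neg_one, hneg] at h1
  by_contra hb
  have h2 : ι ((-1 : Kˣ) : K) ^ b = -1 := by
    rw [Units.val_neg, Units.val_one, map_neg, map_one]
    exact Odd.neg_one_pow (Nat.odd_iff.2 (by omega))
  rw [h2, neg_one_smul] at h1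
  have h3 : (2 : k) • m = 0 := by
    rw [two_smul]
    nth_rewrite 1 [h1]
    exact neg_add_cancel m
  exact hm0 ((smul_eq_zero.1 h3).resolve_left (two_ne p hp2))

end Cfsg.Agent.R2.F4P.Th
end

-- part: R2/F4P/Th/SkB
section
/-!
# S5931, `p = 3`, the skeleton : the module `J_0 / k` (helper17)

* `Vk`, `sV`, `PV`, `dulV`, `finrank_Vk` : the 25-dimensional module;
* `ext_zero` : `Ext¹(V_b, k) = 0` for the labels of dimension `≠ 4`; `lift_V` : lifting of submodules to `J_0`;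
* `no_one`, `no_three` : there are no irreducible submodules of dimension 1, 3.
-/

set_option autoImplicit false
set_option linter.unusedSectionVars false
set_option linter.unusedVariables false

namespace Cfsg.Agent.R2.F4P.Th

open Cfsg.Lie
open Cfsg.Agent.ChevalleyStructure.E6Min.Tables Cfsg.Agent.ChevalleyStructure.E6Min.Basic
open Cfsg.Agent.H952.F4 (sh cr tf tr1 u0)
open Cfsg.Agent.H952.F4.Jord
open Cfsg.Agent.H952.F4.FixV (trL trL_apply W0 mem_W0 finrank_W0 exists_tr1_one)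
open Cfsg.Agent.H943.SL2Rel Cfsg.Agent.H943.SL2Mod Cfsg.Agent.R2.H28.SL2 Cfsg.Agent.H943.RepAdd
open Cfsg.Agent.R2.F4L
open Cfsg.Agent.R2.GEO (tfB tfB_apply)

universe u v w

section Quo

variable {k : Type u} [Field k] {G : Type w} [Group G] {ρ : Representation k G (I27 → k)}

/-- the scalars -/
abbrev Lk (k : Type u) [Field k] : Submodule k (W0 k) := (Submodule.span k {u0 k}).comap (W0 k).subtype

/-- the 25-dimensional space -/
abbrev Vk (k : Type u) [Field k] : Type u := W0 k ⧸ Lk k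

theorem mem_Lk {x : W0 k} : x ∈ Lk k ↔ ∃ c : k, (x : I27 → k) = c • u0 k := by
  rw [Submodule.mem_comap, Submodule.mem_span_singleton]
  constructor
  · rintro ⟨c, h⟩
    exact ⟨c, h.symm⟩
  · rintro ⟨c, h⟩
    exact ⟨c, h.symm⟩

theorem W0_inv (H : Act ρ) : ∀ g, ∀ x ∈ W0 k, ρ g x ∈ W0 k := fun g x hx => by
  rw [mem_W0] at hx ⊢
  rw [H.tr, hx]

/-- the representation on `J_0` -/
noncomputable abbrev s0 (H : Act ρ) : Representation k G (W0 k) := subRep ρ (W0 k) (W0_inv H)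

theorem Lk_inv (H : Act ρ) : ∀ g, ∀ x ∈ Lk k, s0 H g x ∈ Lk k := fun g x hx => by
  obtain ⟨c, hc⟩ := mem_Lk.1 hx
  refine mem_Lk.2 ⟨c, ?_⟩
  show ρ g (x : I27 → k) = c • u0 k
  rw [hc, map_smul, H.u0]

/-- the representation on `J_0 / k` -/
noncomputable abbrev sV (H : Act ρ) : Representation k G (Vk k) := quotRep (s0 H) (Lk k) (Lk_inv H)

theorem u0_tf {x : I27 → k} (hx : x ∈ W0 k) (c : k) : tf (c • u0 k) x = 0 := by
  rw [tf_smul_left, tf_u0, (mem_W0 _).1 hx, mul_zero]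

/-- the form on `J_0 / k` -/
noncomputable def PV (k : Type u) [Field k] : Vk k →ₗ[k] Vk k →ₗ[k] k :=
  (Lk k).liftQ ((Lk k).liftQ ((tfB k).compl₁₂ (W0 k).subtype (W0 k).subtype) (by
    intro x hx
    obtain ⟨c, hc⟩ := mem_Lk.1 hx
    rw [LinearMap.mem_ker]
    refine LinearMap.ext fun y => ?_
    show tf (x : I27 → k) (y : I27 → k) = 0
    rw [hc]
    exact u0_tf y.2 c)).flip (by
    intro x hx
    obtain ⟨c, hc⟩ := mem_Lk.1 hx
    rw [LinearMap.mem_ker]
    refine LinearMap.ext fun y => ?_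
    obtain ⟨y, rfl⟩ := (Lk k).mkQ_surjective y
    show tf (y : I27 → k) (x : I27 → k) = 0
    rw [hc, tf_comm]
    exact u0_tf y.2 c)

theorem PV_mk (x y : W0 k) : PV k ((Lk k).mkQ x) ((Lk k).mkQ y) = tf (x : I27 → k) (y : I27 → k) := by
  rw [tf_comm]
  rfl

theorem PV_symm (x y : Vk k) : PV k x y = PV k y x := by
  obtain ⟨x, rfl⟩ := (Lk k).mkQ_surjective x
  obtain ⟨y, rfl⟩ := (Lk k).mkQ_surjective y
  rw [PV_mk, PV_mk, tf_comm]

theorem eq_u0_of {x : I27 → k} (hx : ∀ y ∈ W0 k, tf x y = 0) : ∃ c : k, x = c • u0 k := by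
  obtain ⟨e, he⟩ := exists_tr1_one (F := k)
  refine ⟨tf x e, ?_⟩
  rw [← sub_eq_zero]
  refine tf_nondeg fun y => ?_
  have h1 : y + (-tr1 y) • e ∈ W0 k := by
    rw [mem_W0, tr1_add, tr1_smul, he]
    ring
  have h2 := hx _ h1
  rw [tf_add_right, tf_smul_right] at h2
  have h3 : tf (x - tf x e • u0 k) y = tf x y - tf x e * tr1 y := by
    rw [sub_eq_add_neg, ← neg_smul, tf_add_left, tf_smul_left, tf_u0]
    ring
  rw [h3]
  linear_combination h2

theorem dulV (H : Act ρ) : (Dul ((sV H :)) (sV H) (PV k) :) := by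
  have key : ∀ x : Vk k, (∀ y, PV k x y = 0) → x = 0 := by
    intro x hx
    obtain ⟨x, rfl⟩ := (Lk k).mkQ_surjective x
    rw [Submodule.mkQ_apply, Submodule.Quotient.mk_eq_zero, mem_Lk]
    refine eq_u0_of fun y hy => ?_
    have := hx ((Lk k).mkQ ⟨y, hy⟩)
    rwa [PV_mk] at this
  refine ⟨fun g x y => ?_, key, fun y hy => key y fun x => by rw [PV_symm]; exact hy x⟩
  obtain ⟨x, rfl⟩ := (Lk k).mkQ_surjective x
  obtain ⟨y, rfl⟩ := (Lk k).mkQ_surjective y
  rw [quotRep_mk, quotRep_mk, PV_mk, PV_mk]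
  exact H.tf g _ _

theorem finrank_Vk [CharP k 3] : Module.finrank k (Vk k) = 25 := by
  have h1 := Submodule.finrank_quotient_add_finrank (Lk k)
  rw [finrank_W0] at h1
  have h3 : (3 : k) = 0 := by
    have := CharP.cast_eq_zero k 3
    exact_mod_cast this
  have hu : u0 k ∈ W0 k := by
    rw [mem_W0, tr1_u0, h3]
  have h2 : Lk k = Submodule.span k {(⟨u0 k, hu⟩ : W0 k)} := by
    ext x
    rw [mem_Lk, Submodule.mem_span_singleton]
    constructor
    · rintro ⟨c, h⟩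
      exact ⟨c, Subtype.ext h.symm⟩
    · rintro ⟨c, rfl⟩
      exact ⟨c, rfl⟩
  have h4 : Module.finrank k (Lk k) = 1 := by
    rw [h2]
    refine finrank_span_singleton fun h0 => ?_
    exact u0_ne (congrArg Subtype.val h0)
  change Module.finrank k (W0 k ⧸ Lk k) = 25
  omega

end Quo

variable {k : Type u} [Field k] [DecidableEq k] {K : Type w} [Field K] [Fintype K] [DecidableEq K] {ι : K →+* k}

section Ext

variable {p : ℕ} [Fact p.Prime] [CharP k p] [CharP K p] [IsAlgClosed k] {a : ℕ}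

/-- extensions by the trivial module -/
theorem ext_zero (ι : K →+* k) (hF : Fintype.card K = p ^ a) {b : ℕ} (hb' : b < p ^ a) (h : hb p a b = 0) :
    Ext0 (Sy.{u, v, w} ι p) b 0 := by
  refine ext0_symm ι p (ext0_of_Hs ι p hF {b} (fun d hd => ?_) (fun z hz => ?_) ?_)
  · rw [Multiset.mem_singleton.1 hd]
    exact hb'
  · have h0 : chB k 0 z = 1 := by
      have := chB_small k p (n := 0) (Nat.Prime.pos Fact.out) z
      rw [this]
      simp [chi]
    rw [cs_singleton, h0, one_mul]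
  · unfold Hs
    rw [Multiset.map_singleton, Multiset.sum_singleton, h]

end Ext

variable [CharP k 3] [CharP K 3] [IsAlgClosed k] {a : ℕ}
variable {ρ : Representation k (Matrix.SpecialLinearGroup (Fin 2) K) (I27 → k)}

/-- trivial modules -/
theorem IsV.triv {V : Type v} [AddCommGroup V] [Module k V]
    {σ : Representation k (Matrix.SpecialLinearGroup (Fin 2) K) V} (h : IsV ι 3 σ 0) (g : Matrix.SpecialLinearGroup (Fin 2) K)
    (x : V) : σ g x = x := by
  have h0 : IsV ι 3 σ (0 * 3 ^ 0) := by rw [zero_mul]; exact h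
  obtain ⟨v, hv⟩ := IsV.basS ι 3 (by norm_num) h0
  have hx : x ∈ Submodule.span k (Set.range fun s : Fin (0 + 1) => v s) := hv.sp trivial
  have hf : ∀ g, σ g (v 0) = v 0 := by
    refine fix_of (fun t => ?_) (fun b => ?_) ?_
    · have := hv.u 0 le_rfl t
      rw [this]
      simp
    · have := hv.h 0 le_rfl b
      rw [this]
      simp
    · have := hv.w 0 le_rfl
      rw [this]
      simp
  induction hx using Submodule.span_induction with
  | mem x hx =>
    obtain ⟨s, rfl⟩ := hx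
    have : (s : ℕ) = 0 := by omega
    show σ g (v s) = v s
    rw [this]
    exact hf g
  | zero => rw [map_zero]
  | add x y _ _ hx hy => rw [map_add, hx, hy]
  | smul c x _ hx => rw [map_smul, hx]

/-- the labels -/
theorem Cx3.lt (C : Cx3 K a ρ) {V : Type v} [AddCommGroup V] [Module k V]
    {σ : Representation k (Matrix.SpecialLinearGroup (Fin 2) K) V} {b : ℕ} (h : IsV ι 3 σ b) : b < 3 ^ a :=
  label_lt ι 3 C.card h

theorem Cx3.negV (C : Cx3 K a ρ) (x : Vk k) : sV C.act (-1) x = x := by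
  obtain ⟨x, rfl⟩ := (Lk k).mkQ_surjective x
  rw [quotRep_mk]
  congr 1
  apply Subtype.ext
  show ρ (-1) (x : I27 → k) = x
  rw [C.neg]
  rfl

/-- labels of the submodules are even -/
theorem Cx3.ev (C : Cx3 K a ρ) {X : Submodule k (Vk k)} {hX : ∀ g, ∀ x ∈ X, sV C.act g x ∈ X} {b : ℕ}
    (h : IsV ι 3 ((subRep ((sV C.act :)) X hX :)) b) : b % 2 = 0 :=
  (IsV.ev (by norm_num) h fun x => Subtype.ext (C.negV x) :)

/-- **lifting** -/
theorem Cx3.lift (C : Cx3 K a ρ) {X : Submodule k (Vk k)} {hX : ∀ g, ∀ x ∈ X, sV C.act g x ∈ X} {b : ℕ}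
    (h : IsV ι 3 ((subRep ((sV C.act :)) X hX :)) b) (h4 : (Bf k b).card ≠ 4) :
    ∃ (Y : Submodule k (W0 k)) (hY : ∀ g, ∀ x ∈ Y, s0 C.act g x ∈ Y), (IsV (V := Y) ι 3 ((subRep (s0 C.act) Y hY :)) b :) ∧
      Y.map (Lk k).mkQ = X ∧ Y ⊓ Lk k = ⊥ := by
  refine lift0 (S := Sy.{u, u, w} ι 3) (Lk k) (Lk_inv C.act) (fun b' hb' => ?_) X hX h
  have h1 : b' = 0 := by
    have h2 := (finrank_cf.{u, u, w} ι 3 _ (Lk k) ((subRep (s0 C.act) (Lk k) (Lk_inv C.act) :)) le_rfl :)
    have h3 : Module.finrank k (Lk k) ≤ 1 := by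
      have h4 := Submodule.finrank_quotient_add_finrank (Lk k)
      have h5 : Module.finrank k (W0 k ⧸ Lk k) = 25 := finrank_Vk
      rw [finrank_W0] at h4
      omega
    obtain ⟨s, hs⟩ := Multiset.exists_cons_of_mem hb'
    rw [hs, Multiset.map_cons, Multiset.sum_cons] at h2
    by_contra h0
    have h5 := card_Bf_pos (k := k) (Nat.pos_of_ne_zero h0)
    omega
  rw [h1]
  exact (ext_zero ι C.card ((C.lt h :)) (hb3 k C.ha (C.lt h) h4) :)

/-- the image in `J` -/
theorem Cx3.up (C : Cx3 K a ρ) {Y : Submodule k (W0 k)} {hY : ∀ g, ∀ x ∈ Y, s0 C.act g x ∈ Y} {b : ℕ}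
    (h : (IsV (V := Y) ι 3 ((subRep (s0 C.act) Y hY :)) b :)) : ∃ hY' : ∀ g, ∀ x ∈ Y.map (W0 k).subtype, ρ g x ∈ Y.map (W0 k).subtype,
      IsV ι 3 (subRep ρ (Y.map (W0 k).subtype) hY') b := by
  obtain ⟨hY', e, he⟩ := eqv_map (s0 C.act) ρ (W0 k).subtype (fun _ _ => rfl) (W0 k).injective_subtype Y hY
  exact ⟨hY', (IsV.iso ι 3 (e :) he h :)⟩

/-- **no one-dimensional submodules** -/
theorem Cx3.no_one (C : Cx3 K a ρ) {X : Submodule k (Vk k)} {hX : ∀ g, ∀ x ∈ X, sV C.act g x ∈ X}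
    (h : IsV ι 3 ((subRep ((sV C.act :)) X hX :)) 0) : False := by
  apply IsV.ne_bot h
  rw [eq_bot_iff]
  intro x hx
  obtain ⟨y, rfl⟩ := (Lk k).mkQ_surjective x
  rw [Submodule.mem_bot, Submodule.mkQ_apply, Submodule.Quotient.mk_eq_zero, mem_Lk]
  refine C.fixm _ fun g => ?_
  have h1 := (congrArg Subtype.val ((IsV.triv h g ⟨_, hx⟩ :)) :)
  have h2 : (Lk k).mkQ (s0 C.act g y) = (Lk k).mkQ y := h1
  have h3 : s0 C.act g y - y ∈ Lk k := (Submodule.Quotient.eq _).1 h2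
  obtain ⟨c, hc⟩ := mem_Lk.1 h3
  have h4 : ρ g (y : I27 → k) - y = c • u0 k := hc
  refine ⟨c, ?_⟩
  rw [← h4]
  abel

theorem Cx3.digit (C : Cx3 K a ρ) {c i b : ℕ} (hc : 1 ≤ c) (hb : c * 3 ^ i ≤ b) (hlt : b < 3 ^ a) : i < a := by
  by_contra h
  have h1 : 3 ^ a ≤ 3 ^ i := Nat.pow_le_pow_right (by norm_num) (by omega)
  have h2 : 1 * 3 ^ i ≤ c * 3 ^ i := Nat.mul_le_mul_right _ hc
  omega

/-- **no three-dimensional submodules** -/
theorem Cx3.no_three (C : Cx3 K a ρ) (no3 : ∀ i, i < a → ∀ x, TS ι 3 ρ 2 i x → x = 0)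
    {X : Submodule k (Vk k)} {hX : ∀ g, ∀ x ∈ X, sV C.act g x ∈ X} {b : ℕ}
    (h : IsV ι 3 ((subRep ((sV C.act :)) X hX :)) b) (h3 : (Bf k b).card = 3) : False := by
  obtain ⟨l, hl⟩ := (card3 k b).2.2.1 h3
  have hla : l < a := (C.digit (c := 2) (by norm_num) hl.symm.le ((C.lt h :)) :)
  obtain ⟨Y, hY, hVY, -, -⟩ := C.lift h (by omega)
  obtain ⟨hY', hVY'⟩ := C.up hVY
  rw [hl] at hVY'
  obtain ⟨v, hv⟩ := IsV.basS ι 3 (by norm_num) hVY'
  have h1 := no3 l hla _ (BasS.ts hv)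
  have h2 : v 0 ≠ 0 := hv.li.ne_zero (0 : Fin 3)
  exact h2 (Subtype.ext (congrFun h1 0))

end Cfsg.Agent.R2.F4P.Th
end

-- part: R2/F4P/Th/SkT
section
/-!
# S5931, `p = 3`, the skeleton : two-digit tuples (helper17)

* `TP.lin` : the homomorphism of a tuple; `TP.isV` : the span of a nonzero tuple; `TP.zero_of`, `TP.schur`, `TP.comap`;
* `isV_le_W0` : irreducible submodules of `J` lie in `J_0`; `TP.vk` : tuples in `J_0 / k`.
-/

set_option autoImplicit false
set_option linter.unusedSectionVars false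
set_option linter.unusedVariables false

namespace Cfsg.Agent.R2.F4P.Th

open Cfsg.Lie
open Cfsg.Agent.ChevalleyStructure.E6Min.Tables Cfsg.Agent.ChevalleyStructure.E6Min.Basic
open Cfsg.Agent.H952.F4 (sh cr tf tr1 u0)
open Cfsg.Agent.H952.F4.Jord
open Cfsg.Agent.H952.F4.FixV (trL trL_apply W0 mem_W0 finrank_W0 exists_tr1_one)
open Cfsg.Agent.H943.SL2Rel Cfsg.Agent.H943.SL2Mod Cfsg.Agent.R2.H28.SL2 Cfsg.Agent.H943.RepAdd
open Cfsg.Agent.R2.F4L

universe u v w

variable {k : Type u} [Field k] [DecidableEq k] {K : Type w} [Field K] [Fintype K] [DecidableEq K] {ι : K →+* k}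
variable {p : ℕ} [Fact p.Prime] [CharP k p] [CharP K p] {a : ℕ}

section Tup

variable {V : Type v} [AddCommGroup V] [Module k V] {σ : Representation k (Matrix.SpecialLinearGroup (Fin 2) K) V}
variable {n i m j : ℕ} {x y : ℕ → ℕ → V}

/-- the span of a tuple -/
def Sp {V : Type*} [AddCommGroup V] [Module k V] (x : ℕ → ℕ → V) : Submodule k V :=
  Submodule.span k (Set.range fun s : ℕ × ℕ => x s.1 s.2)

theorem mem_Sp (x : ℕ → ℕ → V) (s s' : ℕ) : x s s' ∈ Sp (k := k) x := Submodule.subset_span ⟨(s, s'), rfl⟩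

theorem Sp_le {x : ℕ → ℕ → V} {X : Submodule k V} (h : ∀ s s', x s s' ∈ X) : Sp x ≤ X := by
  refine Submodule.span_le.2 ?_
  rintro _ ⟨s, rfl⟩
  exact h _ _

/-- **the homomorphism of a tuple** -/
theorem TP.lin {M : Type*} [AddCommGroup M] [Module k M] {τ : Representation k (Matrix.SpecialLinearGroup (Fin 2) K) M}
    {v : ℕ → ℕ → M} (hv : BasP ι p τ n i m j v) (hx : TP ι p σ n i m j x) :
    ∃ f : M →ₗ[k] V, (∀ s s', f (v s s') = x s s') ∧ ∀ g z, f (τ g z) = σ g (f z) := by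
  let B : Module.Basis (Fin (n + 1) × Fin (m + 1)) k M := Module.Basis.mk hv.li hv.sp
  have hB : ∀ s : Fin (n + 1) × Fin (m + 1), B s = v s.1 s.2 := fun s => Module.Basis.mk_apply _ _ _
  let f : M →ₗ[k] V := B.constr k fun s : Fin (n + 1) × Fin (m + 1) => x s.1 s.2
  have hf0 : ∀ s : Fin (n + 1) × Fin (m + 1), f (v s.1 s.2) = x s.1 s.2 := fun s => by
    rw [← hB, Module.Basis.constr_basis]
  have hf : ∀ s s', f (v s s') = x s s' := by
    intro s s'
    by_cases hs : s ≤ n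
    · by_cases hs' : s' ≤ m
      · exact hf0 (⟨s, by omega⟩, ⟨s', by omega⟩)
      · rw [hv.zero s s' (Or.inr (by omega)), hx.zero s s' (Or.inr (by omega)), map_zero]
    · rw [hv.zero s s' (Or.inl (by omega)), hx.zero s s' (Or.inl (by omega)), map_zero]
  have ext : ∀ g, (∀ s ≤ n, ∀ s' ≤ m, f (τ g (v s s')) = σ g (x s s')) → ∀ z, f (τ g z) = σ g (f z) := by
    intro g hg z
    have h1 : f ∘ₗ τ g = σ g ∘ₗ f := by
      refine B.ext fun s => ?_
      rw [LinearMap.comp_apply, LinearMap.comp_apply, hB, hf]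
      exact hg s.1 (by omega) s.2 (by omega)
    exact LinearMap.congr_fun h1 z
  refine ⟨f, hf, ?_⟩
  refine induct (P := fun g => ∀ z, f (τ g z) = σ g (f z)) (fun t => ext _ fun s hs s' hs' => ?_)
    (fun b => ext _ fun s hs s' hs' => ?_) (ext _ fun s hs s' hs' => ?_) (fun g g' hg hg' z => ?_)
  · rw [hv.u s hs s' hs', hx.u s hs s' hs', map_sum]
    refine Finset.sum_congr rfl fun l _ => ?_
    rw [map_sum]
    exact Finset.sum_congr rfl fun l' _ => by rw [map_smul, hf]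
  · rw [hv.h s hs s' hs', hx.h s hs s' hs', map_smul, hf]
  · rw [hv.w s hs s' hs', hx.w s hs s' hs', map_smul, hf]
  · rw [map_mul, map_mul, Module.End.mul_apply, Module.End.mul_apply, hg, hg']

/-- the admissible tuples -/
structure Adm (p a n i m j : ℕ) : Prop where
  n : n < p
  m : m < p
  ij : i ≠ j
  i : i < a
  j : j < a

theorem Adm.le (hF : Fintype.card K = p ^ a) (A : Adm p a n i m j) : n * p ^ i + m * p ^ j ≤ Fintype.card K - 1 := by
  have := pair_lt p A.n A.m A.ij A.i A.j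
  omega

variable [IsAlgClosed k]

/-- the model -/
theorem Adm.bas (ι : K →+* k) (hF : Fintype.card K = p ^ a) (A : Adm p a n i m j) :
    ∃ v : ℕ → ℕ → Vb (k := k) ι (n * p ^ i + m * p ^ j), BasP ι p (RB ι p (A.le hF)) n i m j v :=
  IsV.basP ι p hF A.n A.m A.ij A.i A.j (isV_RB (A.le hF))

theorem TP.inj (hF : Fintype.card K = p ^ a) (A : Adm p a n i m j) (hx : TP ι p σ n i m j x) (hx0 : x ≠ 0) :
    ∃ (v : ℕ → ℕ → Vb (k := k) ι (n * p ^ i + m * p ^ j)) (f : Vb (k := k) ι (n * p ^ i + m * p ^ j) →ₗ[k] V),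
      BasP ι p (RB ι p (A.le hF)) n i m j v ∧ (∀ s s', f (v s s') = x s s') ∧
      (∀ g z, f (RB ι p (A.le hF) g z) = σ g (f z)) ∧ LinearMap.ker f = ⊥ := by
  obtain ⟨v, hv⟩ := A.bas ι hF
  obtain ⟨f, hf, he⟩ := TP.lin hv hx
  refine ⟨v, f, hv, hf, he, ?_⟩
  rcases (IsV.irr ι p (isV_RB (k := k) (ι := ι) (p := p) (A.le hF))).2 (LinearMap.ker f) (fun g m hm => by
    rw [LinearMap.mem_ker] at hm ⊢
    rw [he, hm, map_zero]) with h1 | h1
  · exact h1
  · exfalso
    apply hx0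
    funext s s'
    rw [← hf s s', LinearMap.ker_eq_top.1 h1]
    rfl

/-- **the span of a tuple** -/
theorem TP.isV (hF : Fintype.card K = p ^ a) (A : Adm p a n i m j) (hx : TP ι p σ n i m j x) (hx0 : x ≠ 0) :
    ∃ hX : ∀ g, ∀ y ∈ Sp (k := k) x, σ g y ∈ Sp (k := k) x, IsV ι p (subRep σ (Sp x) hX) (n * p ^ i + m * p ^ j) := by
  obtain ⟨v, f, hv, hf, he, hker⟩ := hx.inj hF A hx0
  have hr : LinearMap.range f = Sp x := by
    apply le_antisymm
    · rintro _ ⟨z, rfl⟩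
      have h1 : z ∈ Submodule.span k (Set.range fun s : Fin (n + 1) × Fin (m + 1) => v s.1 s.2) := hv.sp trivial
      have h2 := Submodule.mem_map_of_mem (f := f) h1
      rw [Submodule.map_span] at h2
      refine Submodule.span_mono ?_ h2
      rintro _ ⟨_, ⟨s, rfl⟩, rfl⟩
      exact ⟨((s.1 : ℕ), (s.2 : ℕ)), (hf _ _).symm⟩
    · refine Sp_le fun s s' => ⟨v s s', hf s s'⟩
  have hX : ∀ g, ∀ y ∈ Sp (k := k) x, σ g y ∈ Sp (k := k) x := by
    rw [← hr]
    rintro g _ ⟨z, rfl⟩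
    exact ⟨_, he g z⟩
  refine ⟨hX, ?_⟩
  let e : Vb (k := k) ι (n * p ^ i + m * p ^ j) ≃ₗ[k] Sp (k := k) x :=
    (LinearEquiv.ofInjective f (LinearMap.ker_eq_bot.1 hker)).trans (LinearEquiv.ofEq _ _ hr)
  exact IsV.iso ι p e (fun g z => Subtype.ext (he g z)) (isV_RB (A.le hF))

/-- a nonzero tuple has no zero entries -/
theorem TP.zero_of (hF : Fintype.card K = p ^ a) (A : Adm p a n i m j) (hx : TP ι p σ n i m j x) {s s' : ℕ} (hs : s ≤ n)
    (hs' : s' ≤ m) (h0 : x s s' = 0) : x = 0 := by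
  by_contra hx0
  obtain ⟨v, f, hv, hf, he, hker⟩ := hx.inj hF A hx0
  have hv0 : v s s' ≠ 0 := hv.li.ne_zero ((⟨s, Nat.lt_succ_iff.2 hs⟩, ⟨s', Nat.lt_succ_iff.2 hs'⟩) : Fin (n + 1) × Fin (m + 1))
  have h2 : v s s' ∈ LinearMap.ker f := by rw [LinearMap.mem_ker, hf, h0]
  rw [hker, Submodule.mem_bot] at h2
  exact hv0 h2

/-- **Schur** : two tuples in an irreducible module -/
theorem TP.schur (hF : Fintype.card K = p ^ a) (A : Adm p a n i m j) (hx : TP ι p σ n i m j x) (hy : TP ι p σ n i m j y)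
    {X : Submodule k V} {hX : ∀ g, ∀ x ∈ X, σ g x ∈ X} {b : ℕ} (hV : IsV ι p (subRep σ X hX) b)
    (hxX : ∀ s s', x s s' ∈ X) (hyX : ∀ s s', y s s' ∈ X) (hx0 : x ≠ 0) : ∃ c : k, y = c • x := by
  obtain ⟨z, hz0, -, -, -, huniq⟩ := IsV.hw ι p hV
  obtain ⟨c, hc⟩ := huniq ⟨x n m, hxX n m⟩ (fun t => Subtype.ext (hx.top t))
  obtain ⟨d, hd⟩ := huniq ⟨y n m, hyX n m⟩ (fun t => Subtype.ext (hy.top t))
  have hc0 : c ≠ 0 := by
    rintro rfl
    rw [zero_smul] at hc
    exact hx0 (hx.zero_of hF A le_rfl le_rfl (congrArg Subtype.val hc))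
  refine ⟨d * c⁻¹, ?_⟩
  have h1 : y n m = (d * c⁻¹) • x n m := by
    have e1 : x n m = c • (z : V) := congrArg Subtype.val hc
    have e2 : y n m = d • (z : V) := congrArg Subtype.val hd
    rw [e2, e1, smul_smul, mul_assoc, inv_mul_cancel₀ hc0, mul_one]
  have h2 : y + (-(d * c⁻¹)) • x = 0 := by
    refine (hy.add (hx.smul _)).zero_of hF A (s := n) (s' := m) le_rfl le_rfl ?_
    show y n m + (-(d * c⁻¹)) • x n m = 0
    rw [h1]
    module
  have h3 : y = (y + (-(d * c⁻¹)) • x) + (d * c⁻¹) • x := by module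
  rw [h3, h2, zero_add]

end Tup

/-- tuples pull back along injective maps -/
theorem TP.comap {V : Type*} [AddCommGroup V] [Module k V] {V' : Type*} [AddCommGroup V'] [Module k V']
    {σ : Representation k (Matrix.SpecialLinearGroup (Fin 2) K) V} {σ' : Representation k (Matrix.SpecialLinearGroup (Fin 2) K) V'}
    {n i m j : ℕ} {x : ℕ → ℕ → V} (f : V →ₗ[k] V') (hf : ∀ g x, f (σ g x) = σ' g (f x)) (hi : Function.Injective f)
    (hx : TP ι p σ' n i m j (fun s s' => f (x s s'))) : TP ι p σ n i m j x where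
  zero := fun s s' hs => hi (by rw [map_zero]; exact hx.zero s s' hs)
  u := fun s hs s' hs' t => hi (by
    rw [hf, map_sum]
    refine (hx.u s hs s' hs' t).trans (Finset.sum_congr rfl fun l _ => ?_)
    rw [map_sum]
    exact Finset.sum_congr rfl fun l' _ => (map_smul _ _ _).symm)
  h := fun s hs s' hs' b => hi (by rw [hf, map_smul]; exact hx.h s hs s' hs' b)
  w := fun s hs s' hs' => hi (by rw [hf, map_smul]; exact hx.w s hs s' hs')

section Ctx

variable [CharP k 3] [CharP K 3] [IsAlgClosed k]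
variable {ρ : Representation k (Matrix.SpecialLinearGroup (Fin 2) K) (I27 → k)}

/-- irreducible submodules of `J` lie in `J_0` -/
theorem Cx3.le_W0 (C : Cx3 K a ρ) {X : Submodule k (I27 → k)} {hX : ∀ g, ∀ x ∈ X, ρ g x ∈ X} {b : ℕ}
    (h : IsV ι 3 (subRep ρ X hX) b) (hb : b ≠ 0) : X ≤ W0 k := by
  rcases IsV.inf_or_le ι 3 h (W0_inv C.act) with h1 | h1
  · exfalso
    have h2 := Submodule.finrank_sup_add_finrank_inf_eq X (W0 k)
    rw [h1, finrank_bot, add_zero, finrank_W0] at h2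
    have h3 := Submodule.finrank_le (X ⊔ W0 k)
    have h4 := IsV.finrank ι h
    have h5 := card_Bf_pos (k := k) (Nat.pos_of_ne_zero hb)
    have h6 : Module.finrank k (I27 → k) = 27 := by
      rw [Module.finrank_fintype_fun_eq_card]
      rfl
    omega
  · exact h1

/-- tuples lie in `J_0` -/
theorem Cx3.tp_W0 (C : Cx3 K a ρ) {n i m j : ℕ} (A : Adm 3 a n i m j) (hn : n ≠ 0) {x : ℕ → ℕ → I27 → k}
    (hx : TP ι 3 ρ n i m j x) (s s' : ℕ) : x s s' ∈ W0 k := by
  by_cases hx0 : x = 0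
  · rw [hx0]
    exact (W0 k).zero_mem
  · obtain ⟨hX, hV⟩ := hx.isV C.card A hx0
    refine C.le_W0 hV ?_ (mem_Sp x s s')
    have h1 : 0 < 3 ^ i := Nat.pow_pos (by norm_num)
    have h2 : 1 * 3 ^ i ≤ n * 3 ^ i := Nat.mul_le_mul_right _ (by omega)
    omega

/-- the tuple in `J_0` -/
theorem Cx3.tp0 (C : Cx3 K a ρ) {n i m j : ℕ} {x : ℕ → ℕ → I27 → k} (hx : TP ι 3 ρ n i m j x)
    (h0 : ∀ s s', x s s' ∈ W0 k) : TP ι 3 (s0 C.act) n i m j (fun s s' => (⟨x s s', h0 s s'⟩ : W0 k)) :=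
  TP.comap (V := W0 k) (W0 k).subtype (fun _ _ => rfl) (W0 k).injective_subtype hx

/-- the tuple in `J_0 / k` -/
theorem Cx3.tpV (C : Cx3 K a ρ) {n i m j : ℕ} {x : ℕ → ℕ → I27 → k} (hx : TP ι 3 ρ n i m j x)
    (h0 : ∀ s s', x s s' ∈ W0 k) : (TP ι 3 ((sV C.act :)) n i m j (fun s s' => (Lk k).mkQ (⟨x s s', h0 s s'⟩ : W0 k)) :) :=
  (TP.map (V := W0 k) ((Lk k).mkQ :) (fun _ _ => rfl) (C.tp0 hx h0) : _)

end Ctx

end Cfsg.Agent.R2.F4P.Th
end

-- part: R2/F4P/Th/SkN
section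
/-!
# S5931, `p = 3`, the skeleton : the nine-dimensional submodules (helper17)

* `Cx3.dims` : the dimensions of the irreducible submodules of `J_0 / k`;
* `Cx3.nine_uniq` : at most one irreducible submodule of dimension 9; `n9` : the tuples of type `(2, i; 2, j)`.
-/

set_option autoImplicit false
set_option linter.unusedSectionVars false
set_option linter.unusedVariables false

namespace Cfsg.Agent.R2.F4P.Th

open Cfsg.Lie
open Cfsg.Agent.ChevalleyStructure.E6Min.Tables Cfsg.Agent.ChevalleyStructure.E6Min.Basic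
open Cfsg.Agent.H952.F4 (sh cr tf tr1 u0)
open Cfsg.Agent.H952.F4.Jord
open Cfsg.Agent.H952.F4.FixV (trL trL_apply W0 mem_W0 finrank_W0 exists_tr1_one)
open Cfsg.Agent.H943.SL2Rel Cfsg.Agent.H943.SL2Mod Cfsg.Agent.R2.H28.SL2 Cfsg.Agent.H943.RepAdd
open Cfsg.Agent.R2.F4L

universe u v w

variable {k : Type u} [Field k] [DecidableEq k] {K : Type w} [Field K] [Fintype K] [DecidableEq K] {ι : K →+* k}
variable {a : ℕ} [CharP k 3] [CharP K 3] [IsAlgClosed k]
variable {ρ : Representation k (Matrix.SpecialLinearGroup (Fin 2) K) (I27 → k)}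

/-- **the dimensions of the irreducible submodules** -/
theorem Cx3.dims (C : Cx3 K a ρ) (no3 : ∀ i, i < a → ∀ x, TS ι 3 ρ 2 i x → x = 0)
    {X : Submodule k (Vk k)} {hX : ∀ g, ∀ x ∈ X, sV C.act g x ∈ X} {b : ℕ}
    (h : IsV ι 3 ((subRep ((sV C.act :)) X hX :)) b) : Module.finrank k X = (Bf k b).card ∧
      ((Bf k b).card = 4 ∨ (Bf k b).card = 9 ∨ (Bf k b).card = 12 ∨ (Bf k b).card = 16) := by
  have h1 := (IsV.finrank ι h :)
  have h2 := Submodule.finrank_le X
  have h3 : Module.finrank k (Vk k) = 25 := finrank_Vk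
  refine ⟨h1, ?_⟩
  rcases card_ev k (C.ev h) (by omega) with h4 | h4 | h4 | h4 | h4 | h4
  · exfalso
    have h5 := (card3 k b).1 h4
    subst h5
    exact C.no_one h
  · exact (C.no_three no3 h h4).elim
  · exact Or.inl h4
  · exact Or.inr (Or.inl h4)
  · exact Or.inr (Or.inr (Or.inl h4))
  · exact Or.inr (Or.inr (Or.inr h4))

/-- **at most one irreducible submodule of dimension 9** -/
theorem Cx3.nine_uniq (C : Cx3 K a ρ) (no3 : ∀ i, i < a → ∀ x, TS ι 3 ρ 2 i x → x = 0)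
    {X Y : Submodule k (Vk k)} {hX : ∀ g, ∀ x ∈ X, sV C.act g x ∈ X} {hY : ∀ g, ∀ x ∈ Y, sV C.act g x ∈ Y} {b c : ℕ}
    (hVX : IsV ι 3 ((subRep ((sV C.act :)) X hX :)) b) (hVY : IsV ι 3 (subRep (sV C.act) Y hY) c)
    (hb : (Bf k b).card = 9) (hc : (Bf k c).card = 9) : X = Y := by
  rcases irr_or hVX hVY with h0 | h0
  swap
  · exact h0
  exfalso
  have D := dulV C.act
  have hP := PV_symm (k := k)
  have h25 : Module.finrank k (Vk k) = 25 := finrank_Vk
  have hdX := (C.dims no3 hVX).1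
  have hdY := (C.dims no3 hVY).1
  have hS := (Submodule.finrank_sup_add_finrank_inf_eq (X :) Y :)
  rw [h0, finrank_bot, add_zero] at hS
  have hSi := sup_inv hX hY
  have hO := rank_orth D hSi
  have hOi := D.orth_inv hSi
  -- the sum is nondegenerate
  have hnd : Nd (PV k) (X ⊔ Y) := by
    by_contra hnd
    obtain ⟨Z, hZ, d, hle, hVZ⟩ := exists_irr (ι := ι) (p := 3) (inf_inv hSi hOi) hnd
    have h1 := irr_sup hVX hVY hVZ (hle.trans inf_le_left)
    have h2 := Submodule.finrank_mono (hle.trans inf_le_right)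
    omega
  have hnd' := nd_orth D hP hnd
  have hne : orth ((PV k :)) (X ⊔ Y) ≠ ⊥ := by
    intro h
    rw [h, finrank_bot] at hO
    omega
  obtain ⟨Z, hZ, d, hle, hVZ⟩ := exists_irr (ι := ι) (p := 3) (hOi :) hne
  obtain ⟨hdZ, hcZ⟩ := C.dims no3 hVZ
  have h2 := Submodule.finrank_mono hle
  have h3 : Nd (PV k) Z := by
    rcases nd_or D hVZ with h | h
    · exact h
    · exfalso
      have := iso_le D hZ hOi hnd' hle h
      omega
  obtain ⟨h4, h5⟩ := nd_inf D hZ h3 hnd' hle hP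
  have h6 : (orth ((PV k :)) (X ⊔ Y) :) ⊓ orth (PV k) Z ≠ ⊥ := by
    intro h
    rw [h, finrank_bot] at h5
    omega
  obtain ⟨Z', hZ', d', hle', hVZ'⟩ := exists_irr (ι := ι) (p := 3) ((inf_inv (hOi :) (D.orth_inv hZ) :)) h6
  obtain ⟨hdZ', hcZ'⟩ := C.dims no3 hVZ'
  have h7 := Submodule.finrank_mono hle'
  omega

theorem card22 {i j : ℕ} (hij : i ≠ j) {a : ℕ} (hi : i < a) (hj : j < a) (k : Type*) [Field k] [DecidableEq k] [CharP k 3] :
    (Bf k (2 * 3 ^ i + 2 * 3 ^ j)).card = 9 := by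
  have key : ∀ i d, (Bf k (2 * 3 ^ i + 2 * 3 ^ (i + d + 1))).card = 9 := by
    intro i d
    have h1 : ∀ l, (Bf k (2 * 3 ^ l)).card = 3 := by
      intro l
      induction l with
      | zero =>
        have h := card_Bf_mul k 3 0 (r := 2) (by norm_num)
        rw [card_Bf_zero] at h
        exact h
      | succ l ih =>
        have h := card_Bf_mul k 3 (2 * 3 ^ l) (r := 0) (by norm_num)
        rw [ih] at h
        rw [pow_succ, show 2 * (3 ^ l * 3) = 3 * (2 * 3 ^ l) + 0 by ring, h]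
    induction i with
    | zero =>
      have h := card_Bf_mul k 3 (2 * 3 ^ d) (r := 2) (by norm_num)
      rw [h1] at h
      rw [pow_zero, show 0 + d + 1 = d + 1 by ring, pow_succ, show 2 * 1 + 2 * (3 ^ d * 3) = 3 * (2 * 3 ^ d) + 2 by ring, h]
    | succ i ih =>
      have h := card_Bf_mul k 3 (2 * 3 ^ i + 2 * 3 ^ (i + d + 1)) (r := 0) (by norm_num)
      rw [ih] at h
      rw [show i + 1 + d + 1 = (i + d + 1) + 1 by ring, pow_succ, pow_succ 3 (i + d + 1),
        show 2 * (3 ^ i * 3) + 2 * (3 ^ (i + d + 1) * 3) = 3 * (2 * 3 ^ i + 2 * 3 ^ (i + d + 1)) + 0 by ring, h]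
  rcases Nat.lt_or_gt_of_ne hij with h | h
  · obtain ⟨d, rfl⟩ : ∃ d, j = i + d + 1 := ⟨j - i - 1, by omega⟩
    exact key i d
  · obtain ⟨d, rfl⟩ : ∃ d, i = j + d + 1 := ⟨i - j - 1, by omega⟩
    rw [add_comm]
    exact key j d

/-- **the tuples of type `(2, i; 2, j)`** -/
theorem n9 (C : Cx3 K a ρ) (no3 : ∀ i, i < a → ∀ x, TS ι 3 ρ 2 i x → x = 0) {i j : ℕ} (hi : i < a) (hj : j < a)
    (hij : i ≠ j) {y z : ℕ → ℕ → I27 → k} (hy : TP ι 3 ρ 2 i 2 j y) (hz : TP ι 3 ρ 2 i 2 j z) (hy0 : y ≠ 0) :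
    ∃ c : k, z = c • y := by
  have A : Adm 3 a 2 i 2 j := ⟨by norm_num, by norm_num, hij, hi, hj⟩
  by_cases hz0 : z = 0
  · exact ⟨0, by rw [hz0, zero_smul]⟩
  have hyW := C.tp_W0 A (by norm_num) hy
  have hzW := C.tp_W0 A (by norm_num) hz
  have hyV := C.tpV hy hyW
  have hzV := C.tpV hz hzW
  -- a tuple with values in the scalars vanishes
  have key : ∀ {x : ℕ → ℕ → I27 → k} (hx : TP ι 3 ρ 2 i 2 j x) (hxW : ∀ s s', x s s' ∈ W0 k),
      (fun s s' => (Lk k).mkQ (⟨x s s', hxW s s'⟩ : W0 k)) = 0 → x = 0 := by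
    intro x hx hxW h0
    by_contra hx0
    obtain ⟨hX, hV⟩ := hx.isV C.card A hx0
    have h1 : Sp x ≤ Submodule.span k {u0 k} := Sp_le fun s s' => by
      have h2 := congrFun (congrFun h0 s) s'
      have h3 : (Lk k).mkQ (⟨x s s', hxW s s'⟩ : W0 k) = 0 := h2
      rw [Submodule.mkQ_apply, Submodule.Quotient.mk_eq_zero] at h3
      exact h3
    have h2 := Submodule.finrank_mono h1
    have h3 := IsV.finrank ι hV
    rw [card22 hij hi hj, h3.symm.symm] at h3
    have h4 : Module.finrank k (Submodule.span k {u0 k}) ≤ 1 := by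
      have := finrank_span_le_card (R := k) ({u0 k} : Set (I27 → k))
      simpa using this
    have h5 := IsV.finrank ι hV
    rw [card22 hij hi hj] at h5
    omega
  have hyV0 : (fun s s' => (Lk k).mkQ (⟨y s s', hyW s s'⟩ : W0 k)) ≠ 0 := fun h => hy0 (key hy hyW h)
  have hzV0 : (fun s s' => (Lk k).mkQ (⟨z s s', hzW s s'⟩ : W0 k)) ≠ 0 := fun h => hz0 (key hz hzW h)
  obtain ⟨hX, hVX⟩ := hyV.isV C.card A hyV0
  obtain ⟨hZ, hVZ⟩ := hzV.isV C.card A hzV0
  have heq := C.nine_uniq no3 hVX hVZ (card22 hij hi hj k) (card22 hij hi hj k)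
  obtain ⟨c, hc⟩ := hyV.schur C.card A hzV hVX (fun s s' => mem_Sp _ s s') (fun s s' => by
    rw [heq]
    exact mem_Sp (fun s s' => (Lk k).mkQ (⟨z s s', hzW s s'⟩ : W0 k)) s s') hyV0
  refine ⟨c, ?_⟩
  have h1 : TP ι 3 ρ 2 i 2 j (z + (-c) • y) := hz.add (hy.smul _)
  have h2 := key h1 (C.tp_W0 A (by norm_num) h1) (by
    funext s s'
    have h3 := congrFun (congrFun hc s) s'
    have h4 : (Lk k).mkQ (⟨z s s', hzW s s'⟩ : W0 k) = c • (Lk k).mkQ (⟨y s s', hyW s s'⟩ : W0 k) := h3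
    have h5 : (⟨(z + (-c) • y) s s', C.tp_W0 A (by norm_num) h1 s s'⟩ : W0 k) =
        (⟨z s s', hzW s s'⟩ : W0 k) + (-c) • (⟨y s s', hyW s s'⟩ : W0 k) := Subtype.ext rfl
    show (Lk k).mkQ (⟨(z + (-c) • y) s s', C.tp_W0 A (by norm_num) h1 s s'⟩ : W0 k) = 0
    rw [h5, map_add, map_smul, h4]
    module)
  have h3 : z = (z + (-c) • y) + c • y := by module
  rw [h3, h2, zero_add]

end Cfsg.Agent.R2.F4P.Th
end

-- part: R2/F4P/Th/SkC
section
/-!
# S5931, `p = 3`, the skeleton : dimensions 16 and 12 (helper17)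

* `d3` : nondegenerate invariant subspaces of `J_0` have dimension divisible by 3;
* `Cx3.no_sixteen` : no irreducible submodules of dimension 16; `Cx3.nd_twelve` : those of dimension 12 are nondegenerate.
-/

set_option autoImplicit false
set_option linter.unusedSectionVars false
set_option linter.unusedVariables false

namespace Cfsg.Agent.R2.F4P.Th

open Cfsg.Lie
open Cfsg.Agent.ChevalleyStructure.E6Min.Tables Cfsg.Agent.ChevalleyStructure.E6Min.Basic
open Cfsg.Agent.H952.F4 (sh cr tf tr1 u0)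
open Cfsg.Agent.H952.F4.Jord
open Cfsg.Agent.H952.F4.FixV (trL trL_apply W0 mem_W0 finrank_W0 exists_tr1_one)
open Cfsg.Agent.H943.SL2Rel Cfsg.Agent.H943.SL2Mod Cfsg.Agent.R2.H28.SL2 Cfsg.Agent.H943.RepAdd
open Cfsg.Agent.R2.F4L
open Cfsg.Agent.R2.GEO (tfB tfB_apply crB crB_apply)

universe u v w

/-- **nondegenerate invariant subspaces of `J_0`** -/
theorem d3 {k : Type u} [Field k] [CharP k 3] {G : Type w} [Group G] {ρ : Representation k G (I27 → k)} (H : Act ρ)
    (fix : ∀ y : I27 → k, (∀ g, ρ g y = y) → ∃ c : k, y = c • u0 k) {X : Submodule k (I27 → k)}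
    (hX : ∀ g, ∀ x ∈ X, ρ g x ∈ X) (h0 : X ≤ W0 k) (hnd : ∀ x ∈ X, (∀ y ∈ X, tf x y = 0) → x = 0) :
    ((Module.finrank k X : ℕ) : k) = 0 := by
  let B : X →ₗ[k] Module.Dual k X := (tfB k).compl₁₂ X.subtype X.subtype
  have hBa : ∀ x y : X, B x y = tf (x : I27 → k) (y : I27 → k) := fun _ _ => rfl
  have hBi : Function.Injective B := by
    rw [← LinearMap.ker_eq_bot, LinearMap.ker_eq_bot']
    intro x hx
    refine Subtype.ext (hnd x x.2 fun y hy => ?_)
    exact LinearMap.congr_fun hx ⟨y, hy⟩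
  have hBs : Function.Surjective B :=
    (LinearMap.injective_iff_surjective_of_finrank_eq_finrank (by exact Subspace.dual_finrank_eq.symm)).1 hBi
  let e : X ≃ₗ[k] Module.Dual k X := LinearEquiv.ofBijective B ⟨hBi, hBs⟩
  have he : ∀ x, e x = B x := fun _ => rfl
  let T : (I27 → k) →ₗ[k] X →ₗ[k] Module.Dual k X :=
    ((crB k).compl₂ X.subtype).compr₂ ((tfB k).compl₂ X.subtype)
  have hT : ∀ z (x y : X), T z x y = tf (cr z (x : I27 → k)) (y : I27 → k) := fun _ _ _ => rfl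
  let A : (I27 → k) →ₗ[k] X →ₗ[k] X := T.compr₂ (e.symm : Module.Dual k X →ₗ[k] X)
  have hA : ∀ z (x y : X), tf ((A z x : X) : I27 → k) (y : I27 → k) = tf (cr z (x : I27 → k)) (y : I27 → k) := by
    intro z x y
    rw [← hBa, ← he]
    show e (e.symm (T z x)) y = _
    rw [e.apply_symm_apply, hT]
  let l : (I27 → k) →ₗ[k] k := (LinearMap.trace k X) ∘ₗ A
  have hl : ∀ z, l z = LinearMap.trace k X (A z) := fun _ => rfl
  have hinv : ∀ g z, l (ρ g z) = l z := by
    intro g z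
    have h1 : A (ρ g z) = subRep ρ X hX g * A z * subRep ρ X hX g⁻¹ := by
      refine LinearMap.ext fun x => ?_
      apply hBi
      refine LinearMap.ext fun y => ?_
      rw [hBa, hBa, hA]
      show _ = tf (ρ g ((A z (subRep ρ X hX g⁻¹ x) : X) : I27 → k)) (y : I27 → k)
      have e1 : ∀ v : I27 → k, ρ g (ρ g⁻¹ v) = v := fun v => by
        rw [← Module.End.mul_apply, ← map_mul, mul_inv_cancel, map_one, Module.End.one_apply]
      have e2 : tf (ρ g ((A z (subRep ρ X hX g⁻¹ x) : X) : I27 → k)) (y : I27 → k) =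
          tf ((A z (subRep ρ X hX g⁻¹ x) : X) : I27 → k) (ρ g⁻¹ (y : I27 → k)) := by
        rw [← H.tf g _ (ρ g⁻¹ (y : I27 → k)), e1]
      rw [e2]
      have e3 := hA z (subRep ρ X hX g⁻¹ x) ⟨ρ g⁻¹ (y : I27 → k), hX _ _ y.2⟩
      have e4 : tf ((A z (subRep ρ X hX g⁻¹ x) : X) : I27 → k) (ρ g⁻¹ (y : I27 → k)) =
        tf (cr z (ρ g⁻¹ (x : I27 → k))) (ρ g⁻¹ (y : I27 → k)) := e3
      rw [e4, ← H.tf g (cr z (ρ g⁻¹ (x : I27 → k))) (ρ g⁻¹ (y : I27 → k)), H.cr, e1, e1]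
    rw [hl, hl, h1, LinearMap.trace_mul_comm, ← mul_assoc, ← map_mul, inv_mul_cancel, map_one, one_mul]
  have DJ : Dul ρ ρ (tfB k) := ⟨fun g x y => H.tf g x y, fun x hx => tf_nondeg hx, fun y hy => tf_nondeg fun x => by
    rw [tf_comm]
    exact hy x⟩
  obtain ⟨y, hy⟩ := DJ.surj l
  obtain ⟨c, hc⟩ := fix y fun g => by
    rw [← sub_eq_zero]
    refine DJ.right _ fun x => ?_
    rw [map_sub, DJ.inv', hy, hy, hinv, sub_self]
  have h1 : l (u0 k) = 0 := by
    have h3 : (3 : k) = 0 := by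
      have := CharP.cast_eq_zero k 3
      exact_mod_cast this
    rw [← hy, hc, map_smul, tfB_apply, tf_u0, tr1_u0, h3, smul_zero]
  have h2 : A (u0 k) = (-1 : k) • LinearMap.id := by
    refine LinearMap.ext fun x => ?_
    apply hBi
    refine LinearMap.ext fun z => ?_
    rw [hBa, hA, cr_u0, (mem_W0 _).1 (h0 x.2), zero_smul, zero_sub, hBa]
    show _ = tf ((-1 : k) • (x : I27 → k)) (z : I27 → k)
    rw [neg_one_smul]
  rw [hl, h2, map_smul, LinearMap.trace_id, neg_one_smul, neg_eq_zero] at h1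
  exact h1

variable {k : Type u} [Field k] [DecidableEq k] {K : Type w} [Field K] [Fintype K] [DecidableEq K] {ι : K →+* k}
variable {a : ℕ} [CharP k 3] [CharP K 3] [IsAlgClosed k]
variable {ρ : Representation k (Matrix.SpecialLinearGroup (Fin 2) K) (I27 → k)}

/-- nondegenerate irreducible submodules -/
theorem Cx3.nd_dvd (C : Cx3 K a ρ) {X : Submodule k (Vk k)} {hX : ∀ g, ∀ x ∈ X, sV C.act g x ∈ X} {b : ℕ}
    (h : IsV ι 3 ((subRep ((sV C.act :)) X hX :)) b) (h4 : (Bf k b).card ≠ 4) (hn : Nd (PV k) X) : 3 ∣ (Bf k b).card := by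
  obtain ⟨Y, hY, hVY, hYX, hYL⟩ := C.lift h h4
  obtain ⟨hY', hVY'⟩ := C.up hVY
  have h1 := d3 C.act C.fix hY' (by
    rintro _ ⟨y, -, rfl⟩
    exact y.2) (by
    rintro _ ⟨y, hy, rfl⟩ h0
    have h1 : (Lk k).mkQ y ∈ X ⊓ (orth ((PV k :)) X :) := by
      refine ⟨by rw [← hYX]; exact ⟨y, hy, rfl⟩, fun x hx => ?_⟩
      rw [← hYX] at hx
      obtain ⟨z, hz, rfl⟩ := hx
      rw [PV_mk, tf_comm]
      exact h0 _ ⟨z, hz, rfl⟩
    have h2 : X ⊓ orth (PV k) X = ⊥ := hn
    rw [h2, Submodule.mem_bot] at h1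
    have h3 : y ∈ Y ⊓ Lk k := ⟨hy, (Submodule.Quotient.mk_eq_zero _).1 h1⟩
    rw [hYL, Submodule.mem_bot] at h3
    rw [h3]
    rfl)
  rw [IsV.finrank ι hVY', CharP.cast_eq_zero_iff k 3] at h1
  exact h1

/-- **no irreducible submodules of dimension 16** -/
theorem Cx3.no_sixteen (C : Cx3 K a ρ) {X : Submodule k (Vk k)} {hX : ∀ g, ∀ x ∈ X, sV C.act g x ∈ X} {b : ℕ}
    (h : IsV ι 3 ((subRep ((sV C.act :)) X hX :)) b) (h16 : (Bf k b).card = 16) : False := by
  rcases nd_or (dulV C.act) h with hn | hn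
  · have h1 := C.nd_dvd h (by omega) hn
    omega
  · have h1 := iso_le (W := ⊤) (dulV C.act) hX (fun _ _ _ => Submodule.mem_top) (nd_top (dulV C.act)) le_top hn
    rw [IsV.finrank ι h, finrank_top] at h1
    have h2 : Module.finrank k (Vk k) = 25 := finrank_Vk
    omega

/-- a submodule with a one-dimensional quotient -/
theorem no_succ {V : Type v} [AddCommGroup V] [Module k V] [FiniteDimensional k V]
    {σ : Representation k (Matrix.SpecialLinearGroup (Fin 2) K) V} (hF : Fintype.card K = 3 ^ a) (ha : 2 ≤ a)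
    (hfix : ∀ x, (∀ g, σ g x = x) → x = 0) {X E : Submodule k V} {hX : ∀ g, ∀ x ∈ X, σ g x ∈ X} {b : ℕ}
    (h : IsV ι 3 (subRep σ X hX) b) (h4 : (Bf k b).card ≠ 4) (hE : ∀ g, ∀ x ∈ E, σ g x ∈ E)
    (hle : X ≤ E) (hd : Module.finrank k E = Module.finrank k X + 1) : False := by
  set! τ := subRep σ E hE with hτ
  let W : Submodule k E := X.comap E.subtype
  have hW : ∀ g, ∀ x ∈ W, τ g x ∈ W := fun g x hx => hX g _ hx
  have e1 := cf_add (Sy.{u, v, w} ι 3) τ W hW
  have hVW : IsV ι 3 (subRep τ W hW) b := by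
    refine IsV.iso ι 3 (Submodule.comapSubtypeEquivOfLe hle).symm (fun g x => ?_) h
    exact Subtype.ext (Subtype.ext rfl)
  rw [cf_irr (Sy.{u, v, w} ι 3) hVW] at e1
  have h1 := Submodule.finrank_quotient_add_finrank W
  have h2 : Module.finrank k W = Module.finrank k X := (Submodule.comapSubtypeEquivOfLe hle).finrank_eq
  have h3 := finrank_cf.{u, v, w} ι 3 _ (E ⧸ W) (quotRep τ W hW) le_rfl
  have h5 : Module.finrank k (E ⧸ W) = 1 := by omega
  rw [h5] at h3
  have h6 : cf (Sy.{u, v, w} ι 3) (quotRep τ W hW) = {0} := by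
    rcases Multiset.empty_or_exists_mem (cf (Sy.{u, v, w} ι 3) (quotRep τ W hW)) with h6 | ⟨c, hc⟩
    · rw [h6] at h3
      simp at h3
    · obtain ⟨s, hs⟩ := Multiset.exists_cons_of_mem hc
      rw [hs, Multiset.map_cons, Multiset.sum_cons] at h3
      have h7 := card_pos k c
      have h8 : (Bf k c).card = 1 := by omega
      have h9 : s = 0 := by
        rcases Multiset.empty_or_exists_mem s with h9 | ⟨d, hd⟩
        · exact h9
        · obtain ⟨t, ht⟩ := Multiset.exists_cons_of_mem hd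
          rw [ht, Multiset.map_cons, Multiset.sum_cons] at h3
          have h10 := card_pos k d
          omega
      rw [hs, h9, (card3 k c).1 h8]
      rfl
  rw [h6] at e1
  have h7 := pressure_cf ι 3 hF τ
  have hb0 : hb 3 a b = 0 := hb3 k ha (label_lt ι 3 hF h) h4
  have h00 : hb 3 a 0 = 0 := hb3 k ha (Nat.pow_pos (by norm_num)) (by rw [card_Bf_zero]; norm_num)
  have h8 : Hs 3 a ({b} + {0} : Multiset ℕ) = 0 := by
    rw [Hs_add]
    unfold Hs
    rw [Multiset.map_singleton, Multiset.sum_singleton, Multiset.map_singleton, Multiset.sum_singleton, hb0, h00]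
  rw [e1, h8, add_zero, Multiset.count_add, Multiset.count_singleton_self, fx_eq_bot] at h7
  · omega
  · intro x hx
    exact Subtype.ext (hfix x fun g => congrArg Subtype.val (hx g))

/-- no fixed vectors -/
theorem Cx3.fixV (C : Cx3 K a ρ) (x : Vk k) (hx : ∀ g, sV C.act g x = x) : x = 0 := by
  obtain ⟨y, rfl⟩ := (Lk k).mkQ_surjective x
  rw [Submodule.mkQ_apply, Submodule.Quotient.mk_eq_zero, mem_Lk]
  refine C.fixm _ fun g => ?_
  have h2 : (Lk k).mkQ (s0 C.act g y) = (Lk k).mkQ y := hx g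
  have h3 : s0 C.act g y - y ∈ Lk k := (Submodule.Quotient.eq _).1 h2
  obtain ⟨c, hc⟩ := mem_Lk.1 h3
  have h4 : ρ g (y : I27 → k) - y = c • u0 k := hc
  refine ⟨c, ?_⟩
  rw [← h4]
  abel

/-- **irreducible submodules of dimension 12 are nondegenerate** -/
theorem Cx3.nd_twelve (C : Cx3 K a ρ) {X : Submodule k (Vk k)} {hX : ∀ g, ∀ x ∈ X, sV C.act g x ∈ X} {b : ℕ}
    (h : IsV ι 3 ((subRep ((sV C.act :)) X hX :)) b) (h12 : (Bf k b).card = 12) : Nd (PV k) X := by
  rcases nd_or (dulV C.act) h with hn | hn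
  · exact hn
  · exfalso
    have h1 := rank_orth (dulV C.act) hX
    have h2 : Module.finrank k (Vk k) = 25 := finrank_Vk
    have h3 := (IsV.finrank ι h :)
    exact no_succ C.card C.ha C.fixV h (by omega) ((dulV C.act).orth_inv hX) hn (by omega)

end Cfsg.Agent.R2.F4P.Th
end

-- part: R2/F4P/Th/SkD
section
/-!
# S5931, `p = 3`, the skeleton : trilinear forms on `V_{3^i + 3^j}` (helper17)

* `dig_inj`, `poly2` : two-digit polynomial identities;
* `tri11` : invariant symmetric trilinear forms on `V_{3^i + 3^j}` vanish.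
-/

set_option autoImplicit false
set_option linter.unusedSectionVars false
set_option linter.unusedVariables false

namespace Cfsg.Agent.R2.F4P.Th

open Cfsg.Lie
open Cfsg.Agent.H943.SL2Rel Cfsg.Agent.H943.SL2Mod Cfsg.Agent.R2.H28.SL2 Cfsg.Agent.H943.RepAdd
open Cfsg.Agent.R2.F4L

universe u v w

theorem dig_inj {p i j A B A' B' : ℕ} (hp : 0 < p) (hA : A < p) (hA' : A' < p) (hB : B < p) (hB' : B' < p) (hij : i ≠ j)
    (h : A * p ^ i + B * p ^ j = A' * p ^ i + B' * p ^ j) : A = A' ∧ B = B' := by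
  have key : ∀ {i d A B A' B' : ℕ}, A < p → A' < p → A * p ^ i + B * p ^ (i + d + 1) = A' * p ^ i + B' * p ^ (i + d + 1) →
      A = A' ∧ B = B' := by
    intro i d A B A' B' hA hA' h
    have hpi : 0 < p ^ i := Nat.pow_pos hp
    have h1 : p ^ i * (A + p * (B * p ^ d)) = p ^ i * (A' + p * (B' * p ^ d)) := by
      have e1 : p ^ i * (A + p * (B * p ^ d)) = A * p ^ i + B * p ^ (i + d + 1) := by ring
      have e2 : p ^ i * (A' + p * (B' * p ^ d)) = A' * p ^ i + B' * p ^ (i + d + 1) := by ring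
      rw [e1, e2, h]
    have h2 := Nat.eq_of_mul_eq_mul_left hpi h1
    have h3 : A = A' := by
      have := congrArg (· % p) h2
      simp only [Nat.add_mul_mod_self_left, Nat.mod_eq_of_lt hA, Nat.mod_eq_of_lt hA'] at this
      exact this
    subst h3
    refine ⟨rfl, ?_⟩
    have h4 := Nat.eq_of_mul_eq_mul_left hp (Nat.add_left_cancel h2)
    exact Nat.eq_of_mul_eq_mul_right (Nat.pow_pos hp) h4
  rcases Nat.lt_or_gt_of_ne hij with h' | h'
  · obtain ⟨d, rfl⟩ : ∃ d, j = i + d + 1 := ⟨j - i - 1, by omega⟩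
    exact key hA hA' h
  · obtain ⟨d, rfl⟩ : ∃ d, i = j + d + 1 := ⟨i - j - 1, by omega⟩
    have := key (i := j) (d := d) hB hB' (by omega : B * p ^ j + A * p ^ (j + d + 1) = B' * p ^ j + A' * p ^ (j + d + 1))
    exact ⟨this.2, this.1⟩

variable {k : Type u} [Field k] [DecidableEq k] {K : Type w} [Field K] [Fintype K] [DecidableEq K] {ι : K →+* k}
variable {p : ℕ} [Fact p.Prime] [CharP k p] [CharP K p] {a : ℕ}

/-- **two-digit polynomial identities** -/
theorem poly2 {V : Type*} [AddCommGroup V] [Module k V] (ι : K →+* k) (hF : Fintype.card K = p ^ a) {n i m j : ℕ}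
    (A : Adm p a n i m j) (c : ℕ → ℕ → V) (h0 : ∀ t : K, ∑ l ∈ Finset.range (n + 1), ∑ l' ∈ Finset.range (m + 1),
      ((ι t ^ p ^ i) ^ l * (ι t ^ p ^ j) ^ l') • c l l' = 0) : ∀ l ≤ n, ∀ l' ≤ m, c l l' = 0 := by
  have hp : p.Prime := Fact.out
  have h := polyE (ι := ι) p (Finset.range (n + 1) ×ˢ Finset.range (m + 1)) (fun x => x.1 * p ^ i + x.2 * p ^ j)
    (fun x => c x.1 x.2) (fun x hx => by
      rw [Finset.mem_product, Finset.mem_range, Finset.mem_range] at hx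
      rw [hF]
      have hn := A.n
      have hm := A.m
      exact pair_lt p (by omega) (by omega) A.ij A.i A.j) (fun x hx y hy hxy => by
      rw [Finset.mem_product, Finset.mem_range, Finset.mem_range] at hx hy
      have hn := A.n
      have hm := A.m
      have := dig_inj hp.pos (by omega) (by omega) (by omega) (by omega) A.ij hxy
      exact Prod.ext this.1 this.2) (fun t => by
      rw [Finset.sum_product, ← h0 t]
      refine Finset.sum_congr rfl fun l _ => Finset.sum_congr rfl fun l' _ => ?_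
      show (ι t ^ (l * p ^ i + l' * p ^ j)) • c l l' = _
      rw [pow_add, ← pow_mul, ← pow_mul, mul_comm l, mul_comm l'])
  intro l hl l' hl'
  exact h (l, l') (Finset.mem_product.2 ⟨Finset.mem_range.2 (by omega), Finset.mem_range.2 (by omega)⟩)

section Bas

variable {V : Type*} [AddCommGroup V] [Module k V] {σ : Representation k (Matrix.SpecialLinearGroup (Fin 2) K) V}
  {n i m j : ℕ} {v : ℕ → ℕ → V}

theorem BasP.toTP (hv : BasP ι p σ n i m j v) : TP ι p σ n i m j v := ⟨hv.zero, hv.u, hv.h, hv.w⟩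

theorem BasP.ext0 {V' : Type*} [AddCommGroup V'] [Module k V'] (hv : BasP ι p σ n i m j v) {f : V →ₗ[k] V'}
    (h : ∀ s ≤ n, ∀ s' ≤ m, f (v s s') = 0) : f = 0 := by
  have h1 : (⊤ : Submodule k V) ≤ LinearMap.ker f := by
    refine hv.sp.trans (Submodule.span_le.2 ?_)
    rintro _ ⟨s, rfl⟩
    exact h _ (by omega) _ (by omega)
  exact LinearMap.ker_eq_top.1 (top_le_iff.1 h1)

theorem TP.e00 {x : ℕ → ℕ → V} (hx : TP ι p σ 1 i 1 j x) (t : K) : σ (Cfsg.Agent.H943.SL2Rel.u t) (x 0 0) =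
    x 0 0 + (ι t ^ p ^ i) • x 1 0 + (ι t ^ p ^ j) • x 0 1 + (ι t ^ p ^ i * ι t ^ p ^ j) • x 1 1 := by
  rw [hx.u 0 (by norm_num) 0 (by norm_num) t]
  simp only [Nat.sub_zero, Finset.sum_range_succ, Finset.sum_range_zero, zero_add, Nat.choose_zero_right, Nat.choose_self,
    Nat.cast_one, pow_zero, pow_one, one_mul, mul_one, one_smul]
  abel

end Bas

section Tri

variable {V : Type v} [AddCommGroup V] [Module k V] {σ : Representation k (Matrix.SpecialLinearGroup (Fin 2) K) V}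
  {i j : ℕ} {v : ℕ → ℕ → V}

/-- **invariant symmetric trilinear forms** -/
theorem tri11 (hp2 : 2 < p) (hF : Fintype.card K = p ^ a) (A : Adm p a 2 i 2 j) (hv : BasP ι p σ 1 i 1 j v)
    (F : V →ₗ[k] V →ₗ[k] V →ₗ[k] k) (s1 : ∀ x y z, F x y z = F y x z) (s2 : ∀ x y z, F x y z = F x z y)
    (inv : ∀ g x y z, F (σ g x) (σ g y) (σ g z) = F x y z) : F = 0 := by
  have h2 : (2 : k) ≠ 0 := two_ne p (by omega)
  have hx : TP ι p σ 1 i 1 j v := BasP.toTP hv
  have hp : p.Prime := Fact.out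
  -- transport
  have tr : ∀ g x y, (∀ z, F x y z = 0) → ∀ z, F (σ g x) (σ g y) z = 0 := by
    intro g x y h z
    have e1 : z = σ g (σ g⁻¹ z) := by
      rw [← Module.End.mul_apply, ← map_mul, mul_inv_cancel, map_one, Module.End.one_apply]
    rw [e1, inv, h]
  -- the highest weight vector
  have a1 : ∀ l ≤ 2, ∀ l' ≤ 2, (fun l l' => match l, l' with
      | 1, 0 => F (v 1 1) (v 1 1) (v 1 0)
      | 0, 1 => F (v 1 1) (v 1 1) (v 0 1)
      | 1, 1 => F (v 1 1) (v 1 1) (v 1 1)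
      | _, _ => 0 : ℕ → ℕ → k) l l' = 0 := by
    refine poly2 ι hF A _ fun t => ?_
    have e1 := inv (Cfsg.Agent.H943.SL2Rel.u t) (v 1 1) (v 1 1) (v 0 0)
    rw [hx.top, hx.e00] at e1
    simp only [map_add, map_smul, smul_eq_mul] at e1
    simp only [Finset.sum_range_succ, Finset.sum_range_zero, smul_eq_mul, pow_zero, pow_one]
    linear_combination e1
  have b10 : F (v 1 1) (v 1 1) (v 1 0) = 0 := a1 1 (by norm_num) 0 (by norm_num)
  have b01 : F (v 1 1) (v 1 1) (v 0 1) = 0 := a1 0 (by norm_num) 1 (by norm_num)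
  have b11 : F (v 1 1) (v 1 1) (v 1 1) = 0 := a1 1 (by norm_num) 1 (by norm_num)
  have b00 : F (v 1 1) (v 1 1) (v 0 0) = 0 := by
    obtain ⟨lam, hlam⟩ := exists_prim (k := k) ι 0 p
    rw [pow_zero, pow_one] at hlam
    have hl0 : ι (lam : K) ≠ 0 := (map_ne_zero ι).2 lam.ne_zero
    have e1 := inv (Cfsg.Agent.H943.SL2Rel.h lam) (v 1 1) (v 1 1) (v 0 0)
    rw [hx.h 1 le_rfl 1 le_rfl, hx.h 0 (by norm_num) 0 (by norm_num)] at e1
    simp only [map_smul, LinearMap.smul_apply, smul_eq_mul, Nat.sub_self, Nat.sub_zero, pow_zero, pow_one, mul_one, one_mul] at e1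
    have e2 : (ι lam ^ (p ^ i + p ^ j) - 1) * F (v 1 1) (v 1 1) (v 0 0) = 0 := by
      have e3 : ι (lam : K) ^ p ^ i ≠ 0 := pow_ne_zero _ hl0
      have e4 : ι (lam : K) ^ p ^ j ≠ 0 := pow_ne_zero _ hl0
      rw [pow_add]
      field_simp at e1
      linear_combination e1
    refine (mul_eq_zero.1 e2).resolve_left (sub_ne_zero.2 fun h3 => ?_)
    have h4 : 0 < p ^ i := Nat.pow_pos hp.pos
    have h5 : 0 < p ^ j := Nat.pow_pos hp.pos
    have h6 := Nat.le_of_dvd (by omega) ((hlam.pow_eq_one_iff_dvd _).1 h3)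
    have h7 := A.le hF
    omega
  have c11 : ∀ z, F (v 1 1) (v 1 1) z = 0 := by
    have : F (v 1 1) (v 1 1) = 0 := BasP.ext0 hv fun s hs s' hs' => by
      interval_cases s <;> interval_cases s'
      · exact b00
      · exact b01
      · exact b10
      · exact b11
    intro z
    rw [this]
    rfl
  have c00 : ∀ z, F (v 0 0) (v 0 0) z = 0 := by
    have e1 := tr Cfsg.Agent.H943.SL2Rel.w _ _ c11
    rw [hx.w 1 le_rfl 1 le_rfl] at e1
    simpa only [_root_.pow_one, _root_.mul_neg, _root_.mul_one, _root_.neg_neg, _root_.tsub_self, _root_.one_smul] using e1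
  -- the quadratic relations
  have q : ∀ z, ∀ l ≤ 2, ∀ l' ≤ 2, (fun l l' => match l, l' with
      | 0, 0 => F (v 0 0) (v 0 0) z
      | 1, 0 => 2 * F (v 0 0) (v 1 0) z
      | 0, 1 => 2 * F (v 0 0) (v 0 1) z
      | 1, 1 => 2 * F (v 0 0) (v 1 1) z + 2 * F (v 1 0) (v 0 1) z
      | 2, 0 => F (v 1 0) (v 1 0) z
      | 0, 2 => F (v 0 1) (v 0 1) z
      | 2, 1 => 2 * F (v 1 0) (v 1 1) z
      | 1, 2 => 2 * F (v 0 1) (v 1 1) z
      | 2, 2 => F (v 1 1) (v 1 1) z
      | _, _ => 0 : ℕ → ℕ → k) l l' = 0 := by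
    intro z
    refine poly2 ι hF A _ fun t => ?_
    have e1 := tr (Cfsg.Agent.H943.SL2Rel.u t) _ _ c00 z
    rw [hx.e00] at e1
    simp only [map_add, map_smul, LinearMap.add_apply, LinearMap.smul_apply, smul_eq_mul] at e1
    rw [s1 (v 1 0) (v 0 0), s1 (v 0 1) (v 0 0), s1 (v 1 1) (v 0 0), s1 (v 0 1) (v 1 0), s1 (v 1 1) (v 1 0),
      s1 (v 1 1) (v 0 1)] at e1
    simp only [Finset.sum_range_succ, Finset.sum_range_zero, smul_eq_mul, pow_zero, pow_one]
    linear_combination e1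
  have can : ∀ {x : k}, 2 * x = 0 → x = 0 := fun h => (mul_eq_zero.1 h).resolve_left h2
  have d10 : ∀ z, F (v 0 0) (v 1 0) z = 0 := fun z => can (q z 1 (by norm_num) 0 (by norm_num))
  have d01 : ∀ z, F (v 0 0) (v 0 1) z = 0 := fun z => can (q z 0 (by norm_num) 1 (by norm_num))
  have d11 : ∀ z, F (v 0 0) (v 1 1) z + F (v 1 0) (v 0 1) z = 0 := fun z => can (by
    have : 2 * F (v 0 0) (v 1 1) z + 2 * F (v 1 0) (v 0 1) z = 0 := q z 1 (by norm_num) 1 (by norm_num)
    linear_combination this)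
  have e1010 : ∀ z, F (v 1 0) (v 1 0) z = 0 := fun z => q z 2 (by norm_num) 0 (by norm_num)
  have e0101 : ∀ z, F (v 0 1) (v 0 1) z = 0 := fun z => q z 0 (by norm_num) 2 (by norm_num)
  have e1011 : ∀ z, F (v 1 0) (v 1 1) z = 0 := fun z => can (q z 2 (by norm_num) 1 (by norm_num))
  have e0111 : ∀ z, F (v 0 1) (v 1 1) z = 0 := fun z => can (q z 1 (by norm_num) 2 (by norm_num))
  have g1 : F (v 0 0) (v 1 1) = 0 := BasP.ext0 hv fun s hs s' hs' => by
    interval_cases s <;> interval_cases s'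
    · rw [s2, c00]
    · rw [s2, d01]
    · rw [s2, d10]
    · rw [s1, s2, c11]
  have e0011 : ∀ z, F (v 0 0) (v 1 1) z = 0 := fun z => by rw [g1]; rfl
  have e1001 : ∀ z, F (v 1 0) (v 0 1) z = 0 := fun z => by
    have := d11 z
    rwa [e0011, zero_add] at this
  have fin : ∀ s ≤ 1, ∀ s' ≤ 1, ∀ t ≤ 1, ∀ t' ≤ 1, ∀ z, F (v s s') (v t t') z = 0 := by
    intro s hs s' hs' t ht t' ht' z
    interval_cases s <;> interval_cases s' <;> interval_cases t <;> interval_cases t' <;>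
      [(exact c00 z); (exact d01 z); (exact d10 z); (exact e0011 z); ((rw [s1]; (exact d01 z))); (exact e0101 z); ((rw [s1]; (exact e1001 z)));
       (exact e0111 z); ((rw [s1]; (exact d10 z))); (exact e1001 z); (exact e1010 z); (exact e1011 z); ((rw [s1]; (exact e0011 z)));
       ((rw [s1]; (exact e0111 z))); ((rw [s1]; (exact e1011 z))); (exact c11 z)]
  refine BasP.ext0 (V' := V →ₗ[k] V →ₗ[k] k) hv fun s hs s' hs' => ?_
  refine BasP.ext0 (V' := V →ₗ[k] k) hv fun t ht t' ht' => ?_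
  refine LinearMap.ext fun z => ?_
  exact fin s hs s' hs' t ht t' ht' z

end Tri

end Cfsg.Agent.R2.F4P.Th
end

private theorem dce_e71b06549952 : _root_.True := by
  try have : _root_.True := by simp only [_root_.Cfsg.Agent.R2.H28.SL2.chi.eq_1]
  exact _root_.True.intro
end

-- part: R2/F4N/Rat
section
prune_inst 0x120444000620000001c05003000044580000000000308008804090c040024022001066114000012001080440038002811000000420000000a00040001180080008012001040a000020000000880000000000000000000000000000000010004000000000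
set_option linter.all false
open scoped Cfsg.Agent.FastGrp

/-!
# Descent of submodules of `J` (lead, S5931)
-/

set_option autoImplicit false
set_option linter.unusedSectionVars false

namespace Cfsg.Agent.R2.F4N

open Cfsg Cfsg.Lie Module Matrix
open Cfsg.Agent.ChevalleyStructure.E6Min.Basic
open Cfsg.Agent.H952.F4 Cfsg.Agent.H952.F4.Jord
open Cfsg.Agent.H952.F4.FixV (W0 mem_W0 finrank_W0 u0_ne_zero tr1_eq)
open Cfsg.Agent.R2.H9.E6
open Cfsg.Agent.GpExc.Field (emb)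
open Cfsg.Agent.R2.H28.SL2 Cfsg.Agent.H943.RepAdd
open Cfsg.Agent.R2.F4M

universe u v w

section coef

variable {k : Type u} [Field k] {K : Type w} [Field K] [Fintype K] (κ : K →+* k)

omit [Fintype K] in
theorem coef_key {α : Type*} (S : Finset α) (e : α → ℕ) (c : α → k) {Q : ℕ} (he : ∀ x ∈ S, e x < Q) (t : K) :
    ∑ x ∈ S, c x * κ t ^ e x = ∑ j ∈ Finset.range Q, (∑ x ∈ S with e x = j, c x) * κ t ^ j := by
  rw [← Finset.sum_fiberwise_of_maps_to (s := S) (t := Finset.range Q) (g := e) (fun x hx => Finset.mem_range.2 (he x hx))]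
  refine Finset.sum_congr rfl fun j _ => ?_
  rw [Finset.sum_mul]
  refine Finset.sum_congr rfl fun x hx => ?_
  rw [(Finset.mem_filter.1 hx).2]

theorem coef_gen {α β : Type*} (S : Finset α) (T : Finset β) (e : α → ℕ) (e' : β → ℕ)
    (c : α → k) (d : β → k) (he : ∀ x ∈ S, e x < Fintype.card K) (he' : ∀ x ∈ T, e' x < Fintype.card K)
    (h : ∀ t : K, ∑ x ∈ S, c x * κ t ^ e x = ∑ x ∈ T, d x * κ t ^ e' x) (m : ℕ) :
    ∑ x ∈ S with e x = m, c x = ∑ x ∈ T with e' x = m, d x := by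
  rcases lt_or_ge m (Fintype.card K) with hm | hm
  · refine coef_eq κ le_rfl (a := fun j => ∑ x ∈ S with e x = j, c x) (b := fun j => ∑ x ∈ T with e' x = j, d x) ?_ m hm
    intro t
    have h1 := h t
    rw [coef_key κ S e c he t, coef_key κ T e' d he' t] at h1
    exact h1
  · rw [Finset.filter_false_of_mem (fun x hx => ?_), Finset.filter_false_of_mem (fun x hx => ?_)]
    · simp
    · have := he' x hx
      omega
    · have := he x hx
      omega

end coef

section sm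

variable {k : Type u} [Field k] (s : k →+* k)

/-- the semilinear map of `J` -/
def sm (x : I27 → k) : I27 → k := fun i => s (x i)

theorem sm_add (x y : I27 → k) : sm s (x + y) = sm s x + sm s y := by
  funext i
  exact map_add s _ _

theorem sm_smul (c : k) (x : I27 → k) : sm s (c • x) = s c • sm s x := by
  funext i
  exact map_mul s _ _

theorem sm_zero : sm s 0 = 0 := by
  funext i
  exact map_zero s

theorem sm_sum {α : Type*} (S : Finset α) (x : α → I27 → k) : sm s (∑ j ∈ S, x j) = ∑ j ∈ S, sm s (x j) := by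
  classical
  induction S using Finset.induction_on with
  | empty => simp [sm_zero]
  | insert a S ha ih => rw [Finset.sum_insert ha, Finset.sum_insert ha, sm_add, ih]

theorem sm_inj {x y : I27 → k} (h : sm s x = sm s y) : x = y := by
  funext i
  exact s.injective (congrFun h i)

theorem tr1_sm (x : I27 → k) : tr1 (sm s x) = s (tr1 x) := by
  rw [tr1_eq, tr1_eq, map_add, map_add]
  rfl

variable {F : Type u} [Field F] (f : F →+* k) (hs : ∀ c, s (f c) = f c)

include hs in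
theorem sm_Jr (g : ↥(chevF4.group F)) (x : I27 → k) : sm s (Jr k (emb hF4 f g) x) = Jr k (emb hF4 f g) (sm s x) := by
  rw [Jr_apply, Jr_apply, JMod.map_isJ f isJ_rJ isJ_rJ g]
  funext i
  simp only [sm, Matrix.mulVec, dotProduct, Matrix.map_apply, map_sum, map_mul, hs]

/-- the image of a submodule -/
def smS (hsur : Function.Surjective s) (X : Submodule k (I27 → k)) : Submodule k (I27 → k) where
  carrier := {v | ∃ x ∈ X, sm s x = v}
  add_mem' := by
    rintro _ _ ⟨x, hx, rfl⟩ ⟨y, hy, rfl⟩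
    exact ⟨x + y, X.add_mem hx hy, sm_add s x y⟩
  zero_mem' := ⟨0, X.zero_mem, sm_zero s⟩
  smul_mem' := by
    rintro c _ ⟨x, hx, rfl⟩
    obtain ⟨d, rfl⟩ := hsur c
    exact ⟨d • x, X.smul_mem d hx, sm_smul s d x⟩

theorem mem_smS {hsur : Function.Surjective s} {X : Submodule k (I27 → k)} {v : I27 → k} :
    v ∈ smS s hsur X ↔ ∃ x ∈ X, sm s x = v := Iff.rfl

theorem finrank_smS (hsur : Function.Surjective s) (X : Submodule k (I27 → k)) :
    finrank k (smS s hsur X) = finrank k X := by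
  let j : X ≃+ smS s hsur X :=
    { toFun := fun x => ⟨sm s x, x, x.2, rfl⟩
      invFun := fun v => ⟨Classical.choose v.2, (Classical.choose_spec v.2).1⟩
      left_inv := fun x => Subtype.ext (sm_inj s (Classical.choose_spec (⟨x, x.2, rfl⟩ : ∃ y ∈ X, sm s y = sm s x)).2)
      right_inv := fun v => Subtype.ext (Classical.choose_spec v.2).2
      map_add' := fun x y => Subtype.ext (sm_add s x y) }
  have h1 : Module.rank k X = Module.rank k (smS s hsur X) :=
    rank_eq_of_equiv_equiv (fun c => s c) j ⟨s.injective, hsur⟩ (fun c x => Subtype.ext (sm_smul s c x))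
  unfold finrank
  rw [h1]

end sm

section cfg

variable {F : Type u} [Field F] [Fintype F] {K : Type v} [Field K] [Fintype K] {p a b : ℕ}
variable {H : Subgroup ↥(chevF4.group F)} {φ : ProjectiveSpecialLinearGroup (Fin 2) K →* ↥(chevF4.group F)}
variable {k : Type u} [Field k] (f : F →+* k)

/-- irreducible stable submodules -/
structure Ir (f : F →+* k) (φ : ProjectiveSpecialLinearGroup (Fin 2) K →* ↥(chevF4.group F)) (X : Submodule k (I27 → k)) :
    Prop where
  le : X ≤ W0 k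
  st : ∀ g, ∀ x ∈ X, Rk f φ g x ∈ X
  ne : X ≠ ⊥
  ir : ∀ Y ≤ X, (∀ g, ∀ x ∈ Y, Rk f φ g x ∈ Y) → Y = ⊥ ∨ Y = X

/-- the only irreducible submodule of its dimension -/
structure Uq (f : F →+* k) (φ : ProjectiveSpecialLinearGroup (Fin 2) K →* ↥(chevF4.group F)) (X : Submodule k (I27 → k)) : Prop
    extends Ir f φ X where
  uq : ∀ Y, Ir f φ Y → finrank k Y = finrank k X → Y = X

variable {f}

theorem Ir.smS {s : k →+* k} (hs : ∀ c, s (f c) = f c) (hsur : Function.Surjective s) {X : Submodule k (I27 → k)}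
    (h : Ir f φ X) : Ir f φ (smS s hsur X) where
  le := by
    rintro _ ⟨x, hx, rfl⟩
    rw [mem_W0, tr1_sm, (mem_W0 x).1 (h.le hx), map_zero]
  st := by
    rintro g _ ⟨x, hx, rfl⟩
    exact ⟨_, h.st g x hx, sm_Jr s f hs _ x⟩
  ne := by
    intro h0
    obtain ⟨x, hx, hx0⟩ := Submodule.exists_mem_ne_zero_of_ne_bot h.ne
    have h1 : sm s x ∈ Cfsg.Agent.R2.F4N.smS s hsur X := ⟨x, hx, rfl⟩
    rw [h0, Submodule.mem_bot, ← sm_zero s] at h1
    exact hx0 (sm_inj s h1)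
  ir := by
    intro Y hY hYs
    let Z : Submodule k (I27 → k) :=
      { carrier := {x | sm s x ∈ Y}
        add_mem' := fun {x y} hx hy => by
          show sm s (x + y) ∈ Y
          rw [sm_add]
          exact Y.add_mem hx hy
        zero_mem' := by
          show sm s 0 ∈ Y
          rw [sm_zero]
          exact Y.zero_mem
        smul_mem' := fun c x hx => by
          show sm s (c • x) ∈ Y
          rw [sm_smul]
          exact Y.smul_mem _ hx }
    have hZX : Z ≤ X := by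
      intro x hx
      obtain ⟨y, hy, hxy⟩ := hY hx
      rw [← sm_inj s hxy]
      exact hy
    rcases h.ir Z hZX (fun g x hx => by
      show sm s (Rk f φ g x) ∈ Y
      have := hYs g _ hx
      rw [Rk_apply, ← sm_Jr s f hs] at this
      exact this) with h1 | h1
    · left
      rw [eq_bot_iff]
      intro y hy
      obtain ⟨x, _, rfl⟩ := hY hy
      have h2 : x ∈ Z := hy
      rw [h1, Submodule.mem_bot] at h2
      rw [h2, sm_zero]
      exact Submodule.zero_mem _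
    · right
      refine le_antisymm hY ?_
      rintro _ ⟨x, hx, rfl⟩
      rw [← h1] at hx
      exact hx

theorem Uq.sm_mem {s : k →+* k} (hs : ∀ c, s (f c) = f c) (hsur : Function.Surjective s) {X : Submodule k (I27 → k)}
    (h : Uq f φ X) {x : I27 → k} (hx : x ∈ X) : sm s x ∈ X := by
  have h1 := h.uq _ (h.toIr.smS hs hsur) (finrank_smS s hsur X)
  rw [← h1]
  exact ⟨x, hx, rfl⟩

theorem Ir.map (hc : Cfg p a b H φ) {X : Submodule k (I27 → k)} (h : Ir f φ X) {g : ↥(chevF4.group F)} (hg : g ∈ H) :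
    Ir f φ (X.map (Jr k (emb hF4 f g))) where
  le := by
    rintro _ ⟨x, hx, rfl⟩
    rw [mem_W0, Jr_tr]
    exact (mem_W0 x).1 (h.le hx)
  st := by
    rintro r _ ⟨x, hx, rfl⟩
    obtain ⟨t, ht⟩ := hc.max.norm g⁻¹ (inv_mem hg) (φ (pq r)) ⟨_, rfl⟩
    obtain ⟨t, rfl⟩ := pq_surjective t
    refine ⟨_, h.st t x hx, ?_⟩
    rw [Rk_apply, Rk_apply, ← Jr_mul, ← Jr_mul, ← map_mul, ← map_mul, ht]
    congr 3
    group
  ne := by
    intro h0
    obtain ⟨x, hx, hx0⟩ := Submodule.exists_mem_ne_zero_of_ne_bot h.ne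
    have h1 : Jr k (emb hF4 f g) x ∈ X.map (Jr k (emb hF4 f g)) := ⟨x, hx, rfl⟩
    rw [h0, Submodule.mem_bot, ← map_zero (Jr k (emb hF4 f g))] at h1
    exact hx0 (Jr_inj _ h1)
  ir := by
    intro Y hY hYs
    have hst : ∀ r, ∀ x ∈ Y.comap (Jr k (emb hF4 f g)), Rk f φ r x ∈ Y.comap (Jr k (emb hF4 f g)) := by
      intro r x hx
      obtain ⟨t, ht⟩ := hc.max.norm g hg (φ (pq r)) ⟨_, rfl⟩
      obtain ⟨t, rfl⟩ := pq_surjective t
      have h2 := hYs t _ hx
      rw [Rk_apply, ← Jr_mul, ← map_mul, ht] at h2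
      show Jr k (emb hF4 f g) (Rk f φ r x) ∈ Y
      rw [Rk_apply, ← Jr_mul, ← map_mul]
      rwa [show g * φ (pq r) * g⁻¹ * g = g * φ (pq r) by group] at h2
    have hle : Y.comap (Jr k (emb hF4 f g)) ≤ X := by
      intro x hx
      obtain ⟨y, hy, hxy⟩ := hY hx
      rw [← Jr_inj _ hxy]
      exact hy
    rcases h.ir _ hle hst with h1 | h1
    · left
      rw [eq_bot_iff]
      intro y hy
      obtain ⟨x, _, rfl⟩ := hY hy
      have h2 : x ∈ Y.comap (Jr k (emb hF4 f g)) := hy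
      rw [h1, Submodule.mem_bot] at h2
      rw [h2, map_zero]
      exact Submodule.zero_mem _
    · right
      refine le_antisymm hY ?_
      rintro _ ⟨x, hx, rfl⟩
      have hx' : x ∈ X := hx
      rw [← h1] at hx'
      exact hx'

theorem Uq.mem (hc : Cfg p a b H φ) {X : Submodule k (I27 → k)} (h : Uq f φ X) {g : ↥(chevF4.group F)} (hg : g ∈ H)
    {x : I27 → k} (hx : x ∈ X) : Jr k (emb hF4 f g) x ∈ X := by
  have h1 := h.uq _ (h.toIr.map hc hg) (Submodule.equivMapOfInjective _ (Jr_inj _) X).symm.finrank_eq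
  rw [← h1]
  exact ⟨x, hx, rfl⟩

/-- the rational points of a submodule -/
def dn (f : F →+* k) (X : Submodule k (I27 → k)) : Submodule F (I27 → F) where
  carrier := {x | (fun i => f (x i)) ∈ X}
  add_mem' := by
    intro x y hx hy
    show (fun i => f ((x + y) i)) ∈ X
    have := X.add_mem hx hy
    convert this using 1
    funext i
    exact map_add f _ _
  zero_mem' := by
    show (fun i => f ((0 : I27 → F) i)) ∈ X
    convert X.zero_mem using 1
    funext i
    exact map_zero f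
  smul_mem' := by
    intro c x hx
    show (fun i => f ((c • x) i)) ∈ X
    have := X.smul_mem (f c) hx
    convert this using 1
    funext i
    exact map_mul f _ _

theorem mem_dn {X : Submodule k (I27 → k)} {x : I27 → F} : x ∈ dn f X ↔ (fun i => f (x i)) ∈ X := Iff.rfl

theorem Uq.hst (hc : Cfg p a b H φ) {X : Submodule k (I27 → k)} (h : Uq f φ X) : Hst H (dn f X) := by
  intro g hg x hx
  rw [mem_dn, ← Jr_map]
  exact h.mem hc hg hx

end cfg

section fld

variable {F : Type u} [Field F] [Fintype F] {k : Type v} [Field k] (f : F →+* k)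

theorem exists_of_pow {c : k} (hc : c ^ Fintype.card F = c) : ∃ d, f d = c := by
  classical
  by_contra hcon
  push Not at hcon
  have hq : 1 < Fintype.card F := Fintype.one_lt_card
  let P : Polynomial k := Polynomial.X ^ Fintype.card F - Polynomial.X
  have hP : P.natDegree = Fintype.card F := FiniteField.X_pow_card_sub_X_natDegree_eq k hq
  have hP0 : P ≠ 0 := FiniteField.X_pow_card_sub_X_ne_zero k hq
  have h1 : insert c (Finset.univ.image f) ⊆ P.roots.toFinset := by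
    intro x hx
    rw [Multiset.mem_toFinset, Polynomial.mem_roots hP0]
    show P.eval x = 0
    rw [Polynomial.eval_sub, Polynomial.eval_pow, Polynomial.eval_X, sub_eq_zero]
    rcases Finset.mem_insert.1 hx with rfl | hx
    · exact hc
    · obtain ⟨d, _, rfl⟩ := Finset.mem_image.1 hx
      rw [← map_pow, FiniteField.pow_card]
  have h2 := (Finset.card_le_card h1).trans (Multiset.toFinset_card_le _)
  have h3 := (Polynomial.card_roots' P)
  rw [Finset.card_insert_of_notMem, Finset.card_image_of_injective _ f.injective, Finset.card_univ] at h2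
  · omega
  · intro h
    obtain ⟨d, _, hd⟩ := Finset.mem_image.1 h
    exact hcon d hd

/-- a homomorphism with values in the image -/
theorem exists_lift {K : Type w} [Field K] (κ : K →+* k) (h : ∀ t, ∃ d, f d = κ t) : ∃ κ' : K →+* F, f.comp κ' = κ := by
  choose g hg using h
  refine ⟨{ toFun := g, map_one' := f.injective (by rw [hg, map_one, map_one]),
            map_mul' := fun x y => f.injective (by rw [hg, map_mul, map_mul, hg, hg]),
            map_zero' := f.injective (by rw [hg, map_zero, map_zero]),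
            map_add' := fun x y => f.injective (by rw [hg, map_add, map_add, hg, hg]) }, ?_⟩
  ext t
  exact hg t

end fld

theorem Str.smul {k : Type u} [Field k] {K : Type w} [Field K] {W : Type v} [AddCommGroup W] [Module k W]
    {κ : K →+* k} {ρ : Representation k (SpecialLinearGroup (Fin 2) K) W} {n : ℕ} {x : ℕ → W} (h : Str κ ρ n x) (ν : k) :
    Str κ ρ n (fun s => ν • x s) where
  u s hs t := by
    rw [map_smul, h.u s hs, Finset.smul_sum]
    refine Finset.sum_congr rfl fun j _ => ?_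
    rw [smul_comm]
  h s hs a := by rw [map_smul, h.h s hs, smul_comm]
  w s hs := by rw [map_smul, h.w s hs, smul_comm]

section cfg

variable {F : Type u} [Field F] [Fintype F] {K : Type v} [Field K] [Fintype K] {p a b : ℕ}
variable {H : Subgroup ↥(chevF4.group F)} {φ : ProjectiveSpecialLinearGroup (Fin 2) K →* ↥(chevF4.group F)}
variable {k : Type u} [Field k] {f : F →+* k}

/-- the representation over `F` -/
noncomputable def RF (φ : ProjectiveSpecialLinearGroup (Fin 2) K →* ↥(chevF4.group F)) :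
    Representation F (SpecialLinearGroup (Fin 2) K) (I27 → F) := MonoidHom.comp (Jr F) (φ.comp pq)

theorem RF_apply (g : SpecialLinearGroup (Fin 2) K) (x : I27 → F) : RF φ g x = Jr F (φ (pq g)) x := rfl

theorem up_inj {x y : I27 → F} (h : (fun i => f (x i)) = fun i => f (y i)) : x = y := by
  funext i
  exact f.injective (congrFun h i)

theorem up_RF (g : SpecialLinearGroup (Fin 2) K) (x : I27 → F) :
    (fun i => f (RF φ g x i)) = Rk f φ g (fun i => f (x i)) := (Rk_map f φ g x).symm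

theorem up_smul (c : F) (x : I27 → F) : (fun i => f ((c • x) i)) = f c • fun i => f (x i) := by
  funext i
  exact map_mul f _ _

theorem up_sum {α : Type*} (S : Finset α) (x : α → I27 → F) :
    (fun i => f ((∑ j ∈ S, x j) i)) = ∑ j ∈ S, fun i => f (x j i) := by
  funext i
  rw [Finset.sum_apply, Finset.sum_apply, map_sum]

/-- a standard basis with rational vectors -/
theorem Str.down {κ' : K →+* F} {n : ℕ} {x : ℕ → I27 → k} (h : Str (f.comp κ') (Rk f φ) n x)
    {x' : ℕ → I27 → F} (hx : ∀ s ≤ n, (fun i => f (x' s i)) = x s) : Str κ' (RF φ) n x' where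
  u s hs t := by
    apply up_inj (f := f)
    rw [up_RF, hx s hs, h.u s hs t, up_sum]
    refine Finset.sum_congr rfl fun j hj => ?_
    rw [up_smul, hx (s + j) (by have := Finset.mem_range.1 hj; omega), map_mul, map_natCast, map_pow]
    rfl
  h s hs a := by
    apply up_inj (f := f)
    rw [up_RF, hx s hs, h.h s hs a, up_smul, hx s hs, map_mul, map_pow, map_pow, map_inv₀]
    rfl
  w s hs := by
    apply up_inj (f := f)
    rw [up_RF, hx s hs, h.w s hs, up_smul, hx (n - s) (by omega), map_pow, map_neg, map_one]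

theorem Uq.rat (hc : Cfg p a b H φ) [IsAlgClosed k] {X : Submodule k (I27 → k)} (h : Uq f φ X) {n : ℕ} (hn : 1 ≤ n)
    (hnp : n < p) {κ : K →+* k} {x : ℕ → I27 → k} (hx : ∀ s ≤ n, x s ∈ X) (hx0 : ∀ s ≤ n, x s ≠ 0)
    (hS : Str κ (Rk f φ) n x) (htop : ∀ v ∈ X, (∀ t, Rk f φ (Cfsg.Agent.H943.SL2Rel.u t) v = v) → ∃ c : k, v = c • x n) :
    ∃ κ' : K →+* F, f.comp κ' = κ ∧ ∃ (x' : ℕ → I27 → F) (ν : k), ν ≠ 0 ∧
      (∀ s ≤ n, (fun i => f (x' s i)) = ν • x s) ∧ Str κ' (RF φ) n x' := by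
  classical
  have hp : Fact p.Prime := ⟨hc.prime⟩
  have hcF := hc.charF
  have hk : CharP k p := charP_of_injective_ringHom f.injective p
  have hcard := hc.cardF
  have hq : 1 < Fintype.card F := Fintype.one_lt_card
  let s : k →+* k := iterateFrobenius k p b
  have hs1 : ∀ c, s c = c ^ Fintype.card F := fun c => by rw [hcard]; exact iterateFrobenius_def p b c
  have hs : ∀ c, s (f c) = f c := fun c => by rw [hs1, ← map_pow, FiniteField.pow_card]
  have hsur : Function.Surjective s := fun c => by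
    obtain ⟨z, hz⟩ := IsAlgClosed.exists_pow_nat_eq c (n := Fintype.card F) (by omega)
    exact ⟨z, by rw [hs1, hz]⟩
  have hRk : ∀ g v, sm s (Rk f φ g v) = Rk f φ g (sm s v) := fun g v => sm_Jr s f hs _ v
  -- normalization
  obtain ⟨μ, hμ⟩ := htop _ (h.sm_mem hs hsur (hx n le_rfl)) fun t => by rw [← hRk, hS.top]
  have hμ0 : μ ≠ 0 := by
    rintro rfl
    rw [zero_smul, ← sm_zero s] at hμ
    exact hx0 n le_rfl (sm_inj s hμ)
  obtain ⟨ν, hν⟩ := IsAlgClosed.exists_pow_nat_eq μ⁻¹ (n := Fintype.card F - 1) (by omega)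
  have hν0 : ν ≠ 0 := by
    rintro rfl
    rw [zero_pow (by omega)] at hν
    exact hμ0 (inv_eq_zero.1 hν.symm)
  have hν1 : s ν * μ = ν := by
    rw [hs1, show Fintype.card F = Fintype.card F - 1 + 1 by omega, pow_succ, hν]
    field_simp
  set y : ℕ → I27 → k := fun s => ν • x s with hy
  have hSy : Str κ (Rk f φ) n y := hS.smul ν
  have hyn : sm s (y n) = y n := by
    rw [hy]
    show sm s (ν • x n) = ν • x n
    rw [sm_smul, hμ, smul_smul, hν1]
  have hy0 : sm s (y 0) = y 0 := by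
    apply Jr_inj (emb hF4 f (φ (pq Cfsg.Agent.H943.SL2Rel.w)))
    have h1 : Rk f φ Cfsg.Agent.H943.SL2Rel.w (y 0) = y n := by
      rw [hSy.w 0 (Nat.zero_le _), pow_zero, one_smul, Nat.sub_zero]
    change Rk f φ Cfsg.Agent.H943.SL2Rel.w (sm s (y 0)) = Rk f φ Cfsg.Agent.H943.SL2Rel.w (y 0)
    rw [← hRk, h1, hyn]
  -- the Frobenius on K
  have haK := hc.cardK
  have hpow : ∀ t : K, t ^ (p ^ b) = t ^ (p ^ (b % a)) := by
    intro t
    conv_lhs => rw [← Nat.div_add_mod b a, pow_add, pow_mul p a, pow_mul, ← haK, FiniteField.pow_card_pow]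
  have hsκ : ∀ t : K, s (κ t) = κ t ^ (p ^ (b % a)) := by
    intro t
    rw [hs1, hcard, ← map_pow, hpow, map_pow]
  have hlt : b % a < a := Nat.mod_lt _ hc.ha
  have hkey : ∀ (t : K) (i : I27), ∑ j ∈ Finset.range (n + 1), ((n.choose j : k) * y j i) * κ t ^ j =
      ∑ j ∈ Finset.range (n + 1), ((n.choose j : k) * s (y j i)) * κ t ^ (j * p ^ (b % a)) := by
    intro t i
    have h1 : sm s (Rk f φ (Cfsg.Agent.H943.SL2Rel.u t) (y 0)) = Rk f φ (Cfsg.Agent.H943.SL2Rel.u t) (y 0) := by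
      rw [hRk, hy0]
    rw [hSy.u 0 (Nat.zero_le _) t, sm_sum] at h1
    have h2 := congrFun h1 i
    rw [Finset.sum_apply, Finset.sum_apply] at h2
    rw [Nat.sub_zero] at h2
    refine (Eq.trans ?_ h2.symm).trans ?_
    · refine Finset.sum_congr rfl fun j _ => ?_
      rw [Pi.smul_apply, smul_eq_mul, zero_add]
      ring
    · refine Finset.sum_congr rfl fun j _ => ?_
      rw [sm_smul, Pi.smul_apply, smul_eq_mul, zero_add, map_mul, map_natCast, map_pow, hsκ, ← pow_mul,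
        mul_comm (p ^ (b % a)) j]
      show _ * s (y j i) = _
      ring
  have hb1 : ∀ j ∈ Finset.range (n + 1), j < Fintype.card K := by
    intro j hj
    have h1 := Finset.mem_range.1 hj
    rw [haK]
    calc j ≤ n := by omega
      _ < p := hnp
      _ = p ^ 1 := (pow_one p).symm
      _ ≤ p ^ a := Nat.pow_le_pow_right hc.prime.pos hc.ha
  have hb2 : ∀ j ∈ Finset.range (n + 1), j * p ^ (b % a) < Fintype.card K := by
    intro j hj
    have h1 := Finset.mem_range.1 hj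
    rw [haK]
    calc j * p ^ (b % a) < p * p ^ (b % a) := Nat.mul_lt_mul_of_pos_right (by omega) (Nat.pow_pos hc.prime.pos)
      _ = p ^ (b % a + 1) := by rw [pow_succ, mul_comm]
      _ ≤ p ^ a := Nat.pow_le_pow_right hc.prime.pos hlt
  have hcoef : ∀ (i : I27) (m : ℕ), ∑ j ∈ Finset.range (n + 1) with j = m, ((n.choose j : k) * y j i) =
      ∑ j ∈ Finset.range (n + 1) with j * p ^ (b % a) = m, ((n.choose j : k) * s (y j i)) := fun i m =>
    coef_gen κ _ _ (fun j => j) (fun j => j * p ^ (b % a)) _ _ hb1 hb2 (fun t => hkey t i) m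
  have hchoose : ∀ j ≤ n, (n.choose j : k) ≠ 0 := fun j hj => choose_ne hnp hj
  have hyne : ∀ j ≤ n, y j ≠ 0 := fun j hj => smul_ne_zero hν0 (hx0 j hj)
  have he : b % a = 0 := by
    by_contra he
    apply hyne 1 hn
    funext i
    have h1 := hcoef i 1
    rw [Finset.sum_filter, Finset.sum_ite_eq' (Finset.range (n + 1)) 1, if_pos (Finset.mem_range.2 (by omega)),
      Finset.filter_false_of_mem, Finset.sum_empty] at h1
    · exact (mul_eq_zero.1 h1).resolve_left (hchoose 1 hn)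
    · intro j _ hj
      have h2 : p ^ (b % a) = 1 := Nat.dvd_one.1 ⟨j, by rw [mul_comm]; exact hj.symm⟩
      have h3 : 1 < p ^ (b % a) := Nat.one_lt_pow he hc.prime.one_lt
      omega
  have hfix : ∀ j ≤ n, ∀ i, s (y j i) = y j i := by
    intro j hj i
    have h1 := hcoef i j
    simp only [he, pow_zero, mul_one] at h1
    rw [Finset.sum_filter, Finset.sum_ite_eq' (Finset.range (n + 1)) j, if_pos (Finset.mem_range.2 (by omega)),
      Finset.sum_filter, Finset.sum_ite_eq' (Finset.range (n + 1)) j, if_pos (Finset.mem_range.2 (by omega))] at h1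
    exact (mul_left_cancel₀ (hchoose j hj) h1).symm
  have hκ : ∀ t, ∃ d, f d = κ t := fun t => exists_of_pow f (by
    rw [← hs1, hsκ, he, pow_zero, pow_one])
  obtain ⟨κ', hκ'⟩ := exists_lift f κ hκ
  have hex : ∀ j, ∃ z : I27 → F, j ≤ n → (fun i => f (z i)) = y j := by
    intro j
    by_cases hj : j ≤ n
    · have h1 : ∀ i, ∃ d, f d = y j i := fun i => exists_of_pow f (by rw [← hs1, hfix j hj])
      choose z hz using h1
      exact ⟨z, fun _ => funext hz⟩
    · exact ⟨0, fun hj' => absurd hj' hj⟩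
  choose x' hx' using hex
  refine ⟨κ', hκ', x', ν, hν0, fun s hs => hx' s hs, ?_⟩
  rw [← hκ'] at hSy
  exact hSy.down fun s hs => hx' s hs

end cfg

end Cfsg.Agent.R2.F4N

private theorem dce_e3002a477e66 : _root_.True := by
  try have : _root_.True := by simp only [_root_.Cfsg.Agent.R2.F4N.sm.eq_1]
  exact _root_.True.intro
end

-- part: R2/F4L/Sub6
section
prune_inst 0x120444030620000001c0510300024658000049000000800e984090e0c016402a041406116300212009080444038006811000010421000000a000400011a0080008112001050a000020080008080000000000000000000000000000000010004000000000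
set_option linter.all false
open scoped Cfsg.Agent.FastGrp

/-!
# SUB6 (helper2, S5931)

* `Us f φ X` : `X` is the only non-isotropic irreducible submodule of its dimension; `Us.mem`, `Us.sm_mem` : stability;
* `rat_of` : rational bases; `kc_of` : the pointwise stabilizer.
-/

set_option autoImplicit false
set_option linter.unusedSectionVars false
set_option linter.unusedVariables false

namespace Cfsg.Agent.R2.F4L

open Cfsg Cfsg.Lie Module Matrix
open Cfsg.Agent.ChevalleyStructure.E6Min.Basic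
open Cfsg.Agent.H952.F4 Cfsg.Agent.H952.F4.Jord
open Cfsg.Agent.H952.F4.FixV (W0 mem_W0 finrank_W0 u0_ne_zero tr1_eq)
open Cfsg.Agent.R2.H9.E6
open Cfsg.Agent.GpExc.Field (emb)
open Cfsg.Agent.R2.H28.SL2 Cfsg.Agent.H943.RepAdd
open Cfsg.Agent.R2.F4M Cfsg.Agent.R2.F4N

universe u v w

variable {F : Type u} [Field F] [Fintype F] {K : Type v} [Field K] [Fintype K] {p a b : ℕ}
variable {H : Subgroup ↥(chevF4.group F)} {φ : ProjectiveSpecialLinearGroup (Fin 2) K →* ↥(chevF4.group F)}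
variable {k : Type u} [Field k] {f : F →+* k}

/-- the only non-isotropic irreducible submodule of its dimension -/
structure Us (f : F →+* k) (φ : ProjectiveSpecialLinearGroup (Fin 2) K →* ↥(chevF4.group F)) (X : Submodule k (I27 → k)) : Prop
    extends Ir f φ X where
  ns : ∃ x ∈ X, ∃ y ∈ X, tf x y ≠ 0
  us : ∀ Y, Ir f φ Y → finrank k Y = finrank k X → (∃ x ∈ Y, ∃ y ∈ Y, tf x y ≠ 0) → Y = X

theorem Us.sm_mem {X : Submodule k (I27 → k)} (h : Us f φ X) (s : k →+* k) (hs : ∀ c, s (f c) = f c)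
    (hsur : Function.Surjective s) : ∀ x ∈ X, sm s x ∈ X := by
  intro x hx
  obtain ⟨y, hy, z, hz, hyz⟩ := h.ns
  have h1 := h.us _ (h.toIr.smS hs hsur) (finrank_smS s hsur X) ⟨sm s y, ⟨y, hy, rfl⟩, sm s z, ⟨z, hz, rfl⟩, by
    have e : tf (sm s y) (sm s z) = s (tf y z) := map_tf s y z
    rw [e]
    exact (map_ne_zero s).2 hyz⟩
  rw [← h1]
  exact ⟨x, hx, rfl⟩

theorem Us.mem (hc : Cfg p a b H φ) {X : Submodule k (I27 → k)} (h : Us f φ X) {g : ↥(chevF4.group F)} (hg : g ∈ H)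
    {x : I27 → k} (hx : x ∈ X) : Jr k (emb hF4 f g) x ∈ X := by
  obtain ⟨y, hy, z, hz, hyz⟩ := h.ns
  have h1 := h.us _ (h.toIr.map hc hg) (Submodule.equivMapOfInjective _ (Jr_inj _) X).symm.finrank_eq
    ⟨_, ⟨y, hy, rfl⟩, _, ⟨z, hz, rfl⟩, by
      rw [Jr_tf]
      exact hyz⟩
  rw [← h1]
  exact ⟨x, hx, rfl⟩

/-- **the pointwise stabilizer** -/
theorem kc_of (hc : Cfg p a b H φ) (h3 : (3 : F) ≠ 0) {B : Submodule k (I27 → k)}
    (hB : ∀ g ∈ H, ∀ x ∈ B, Jr k (emb hF4 f g) x ∈ B) {v : I27 → F} (hv : v ∈ dn f B)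
    {s : ProjectiveSpecialLinearGroup (Fin 2) K} (hs : Jr F (φ s) v ≠ v) {g : ↥(chevF4.group F)}
    (hg : ∀ x ∈ B, Jr k (emb hF4 f g) x = x) : g = 1 := by
  have hg' : ∀ x ∈ dn f B, Jr F g x = x := by
    intro x hx
    apply up_inj (f := f)
    rw [← Jr_map]
    exact hg _ hx
  by_cases hW : W0 F ≤ dn f B
  · apply Jr_faithful
    intro x
    rw [Jr_one]
    have h1 : x + (-(tr1 x * 3⁻¹)) • u0 F ∈ W0 F := by
      rw [mem_W0, tr1_add, tr1_smul, tr1_u0]
      field_simp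
      ring
    have h2 := hg' _ (hW h1)
    rw [map_add, map_smul, Jr_u0] at h2
    exact add_right_cancel h2
  · refine hc.kc (U := dn f B) ?_ ⟨fun hU => ?_, hW⟩ ⟨s, v, hv, hs⟩ hg'
    · intro h hh x hx
      rw [mem_dn, ← Jr_map]
      exact hB h hh _ hx
    · obtain ⟨c, rfl⟩ := Submodule.mem_span_singleton.1 (hU hv)
      apply hs
      rw [map_smul, Jr_u0]

/-- **descent** (the proof of `F4N.Uq.rat`) -/
theorem rat_of (hc : Cfg p a b H φ) [IsAlgClosed k] {X : Submodule k (I27 → k)}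
    (h : ∀ s : k →+* k, (∀ c, s (f c) = f c) → Function.Surjective s → ∀ x ∈ X, sm s x ∈ X) {n : ℕ} (hn : 1 ≤ n)
    (hnp : n < p) {κ : K →+* k} {x : ℕ → I27 → k} (hx : ∀ s ≤ n, x s ∈ X) (hx0 : ∀ s ≤ n, x s ≠ 0)
    (hS : Str κ (Rk f φ) n x) (htop : ∀ v ∈ X, (∀ t, Rk f φ (Cfsg.Agent.H943.SL2Rel.u t) v = v) → ∃ c : k, v = c • x n) :
    ∃ κ' : K →+* F, f.comp κ' = κ ∧ ∃ (x' : ℕ → I27 → F) (ν : k), ν ≠ 0 ∧
      (∀ s ≤ n, (fun i => f (x' s i)) = ν • x s) ∧ Str κ' (RF φ) n x' := by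
  classical
  have hp : Fact p.Prime := ⟨hc.prime⟩
  have hcF := hc.charF
  have hk : CharP k p := charP_of_injective_ringHom f.injective p
  have hcard := hc.cardF
  have hq : 1 < Fintype.card F := Fintype.one_lt_card
  let s : k →+* k := iterateFrobenius k p b
  have hs1 : ∀ c, s c = c ^ Fintype.card F := fun c => by rw [hcard]; exact iterateFrobenius_def p b c
  have hs : ∀ c, s (f c) = f c := fun c => by rw [hs1, ← map_pow, FiniteField.pow_card]
  have hsur : Function.Surjective s := fun c => by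
    obtain ⟨z, hz⟩ := IsAlgClosed.exists_pow_nat_eq c (n := Fintype.card F) (by omega)
    exact ⟨z, by rw [hs1, hz]⟩
  have hRk : ∀ g v, sm s (Rk f φ g v) = Rk f φ g (sm s v) := fun g v => sm_Jr s f hs _ v
  -- normalization
  obtain ⟨μ, hμ⟩ := htop _ (h s hs hsur _ (hx n le_rfl)) fun t => by rw [← hRk, hS.top]
  have hμ0 : μ ≠ 0 := by
    rintro rfl
    rw [zero_smul, ← sm_zero s] at hμ
    exact hx0 n le_rfl (sm_inj s hμ)
  obtain ⟨ν, hν⟩ := IsAlgClosed.exists_pow_nat_eq μ⁻¹ (n := Fintype.card F - 1) (by omega)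
  have hν0 : ν ≠ 0 := by
    rintro rfl
    rw [zero_pow (by omega)] at hν
    exact hμ0 (inv_eq_zero.1 hν.symm)
  have hν1 : s ν * μ = ν := by
    rw [hs1, show Fintype.card F = Fintype.card F - 1 + 1 by omega, pow_succ, hν]
    field_simp
  set y : ℕ → I27 → k := fun s => ν • x s with hy
  have hSy : Str κ (Rk f φ) n y := hS.smul ν
  have hyn : sm s (y n) = y n := by
    rw [hy]
    show sm s (ν • x n) = ν • x n
    rw [sm_smul, hμ, smul_smul, hν1]
  have hy0 : sm s (y 0) = y 0 := by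
    apply Jr_inj (emb hF4 f (φ (pq Cfsg.Agent.H943.SL2Rel.w)))
    have h1 : Rk f φ Cfsg.Agent.H943.SL2Rel.w (y 0) = y n := by
      rw [hSy.w 0 (Nat.zero_le _), pow_zero, one_smul, Nat.sub_zero]
    change Rk f φ Cfsg.Agent.H943.SL2Rel.w (sm s (y 0)) = Rk f φ Cfsg.Agent.H943.SL2Rel.w (y 0)
    rw [← hRk, h1, hyn]
  -- the Frobenius on K
  have haK := hc.cardK
  have hpow : ∀ t : K, t ^ (p ^ b) = t ^ (p ^ (b % a)) := by
    intro t
    conv_lhs => rw [← Nat.div_add_mod b a, pow_add, pow_mul p a, pow_mul, ← haK, FiniteField.pow_card_pow]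
  have hsκ : ∀ t : K, s (κ t) = κ t ^ (p ^ (b % a)) := by
    intro t
    rw [hs1, hcard, ← map_pow, hpow, map_pow]
  have hlt : b % a < a := Nat.mod_lt _ hc.ha
  have hkey : ∀ (t : K) (i : I27), ∑ j ∈ Finset.range (n + 1), ((n.choose j : k) * y j i) * κ t ^ j =
      ∑ j ∈ Finset.range (n + 1), ((n.choose j : k) * s (y j i)) * κ t ^ (j * p ^ (b % a)) := by
    intro t i
    have h1 : sm s (Rk f φ (Cfsg.Agent.H943.SL2Rel.u t) (y 0)) = Rk f φ (Cfsg.Agent.H943.SL2Rel.u t) (y 0) := by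
      rw [hRk, hy0]
    rw [hSy.u 0 (Nat.zero_le _) t, sm_sum] at h1
    have h2 := congrFun h1 i
    rw [Finset.sum_apply, Finset.sum_apply] at h2
    rw [Nat.sub_zero] at h2
    refine (Eq.trans ?_ h2.symm).trans ?_
    · refine Finset.sum_congr rfl fun j _ => ?_
      rw [Pi.smul_apply, smul_eq_mul, zero_add]
      ring
    · refine Finset.sum_congr rfl fun j _ => ?_
      rw [sm_smul, Pi.smul_apply, smul_eq_mul, zero_add, map_mul, map_natCast, map_pow, hsκ, ← pow_mul,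
        mul_comm (p ^ (b % a)) j]
      show _ * s (y j i) = _
      ring
  have hb1 : ∀ j ∈ Finset.range (n + 1), j < Fintype.card K := by
    intro j hj
    have h1 := Finset.mem_range.1 hj
    rw [haK]
    calc j ≤ n := by omega
      _ < p := hnp
      _ = p ^ 1 := (pow_one p).symm
      _ ≤ p ^ a := Nat.pow_le_pow_right hc.prime.pos hc.ha
  have hb2 : ∀ j ∈ Finset.range (n + 1), j * p ^ (b % a) < Fintype.card K := by
    intro j hj
    have h1 := Finset.mem_range.1 hj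
    rw [haK]
    calc j * p ^ (b % a) < p * p ^ (b % a) := Nat.mul_lt_mul_of_pos_right (by omega) (Nat.pow_pos hc.prime.pos)
      _ = p ^ (b % a + 1) := by rw [pow_succ, mul_comm]
      _ ≤ p ^ a := Nat.pow_le_pow_right hc.prime.pos hlt
  have hcoef : ∀ (i : I27) (m : ℕ), ∑ j ∈ Finset.range (n + 1) with j = m, ((n.choose j : k) * y j i) =
      ∑ j ∈ Finset.range (n + 1) with j * p ^ (b % a) = m, ((n.choose j : k) * s (y j i)) := fun i m =>
    coef_gen κ _ _ (fun j => j) (fun j => j * p ^ (b % a)) _ _ hb1 hb2 (fun t => hkey t i) m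
  have hchoose : ∀ j ≤ n, (n.choose j : k) ≠ 0 := fun j hj => choose_ne hnp hj
  have hyne : ∀ j ≤ n, y j ≠ 0 := fun j hj => smul_ne_zero hν0 (hx0 j hj)
  have he : b % a = 0 := by
    by_contra he
    apply hyne 1 hn
    funext i
    have h1 := hcoef i 1
    rw [Finset.sum_filter, Finset.sum_ite_eq' (Finset.range (n + 1)) 1, if_pos (Finset.mem_range.2 (by omega)),
      Finset.filter_false_of_mem, Finset.sum_empty] at h1
    · exact (mul_eq_zero.1 h1).resolve_left (hchoose 1 hn)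
    · intro j _ hj
      have h2 : p ^ (b % a) = 1 := Nat.dvd_one.1 ⟨j, by rw [mul_comm]; exact hj.symm⟩
      have h3 : 1 < p ^ (b % a) := Nat.one_lt_pow he hc.prime.one_lt
      omega
  have hfix : ∀ j ≤ n, ∀ i, s (y j i) = y j i := by
    intro j hj i
    have h1 := hcoef i j
    simp only [he, pow_zero, mul_one] at h1
    rw [Finset.sum_filter, Finset.sum_ite_eq' (Finset.range (n + 1)) j, if_pos (Finset.mem_range.2 (by omega)),
      Finset.sum_filter, Finset.sum_ite_eq' (Finset.range (n + 1)) j, if_pos (Finset.mem_range.2 (by omega))] at h1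
    exact (mul_left_cancel₀ (hchoose j hj) h1).symm
  have hκ : ∀ t, ∃ d, f d = κ t := fun t => exists_of_pow f (by
    rw [← hs1, hsκ, he, pow_zero, pow_one])
  obtain ⟨κ', hκ'⟩ := exists_lift f κ hκ
  have hex : ∀ j, ∃ z : I27 → F, j ≤ n → (fun i => f (z i)) = y j := by
    intro j
    by_cases hj : j ≤ n
    · have h1 : ∀ i, ∃ d, f d = y j i := fun i => exists_of_pow f (by rw [← hs1, hfix j hj])
      choose z hz using h1
      exact ⟨z, fun _ => funext hz⟩
    · exact ⟨0, fun hj' => absurd hj' hj⟩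
  choose x' hx' using hex
  refine ⟨κ', hκ', x', ν, hν0, fun s hs => hx' s hs, ?_⟩
  rw [← hκ'] at hSy
  exact hSy.down fun s hs => hx' s hs


end Cfsg.Agent.R2.F4L
end

-- part: R2/F4N/Uqs
section
prune_inst 0x120440030620200001c001230002465c800040200430800e1c4090e0c416462a941666116700212009290c440388068100000104010000000000400411b0080008112029158ad0010008e000800000000000000000000000000000000010004000000000
set_option linter.all false
open scoped Cfsg.Agent.FastGrp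

/-!
# From labels to standard bases and uniqueness (lead, S5931)
-/

set_option autoImplicit false
set_option linter.unusedSectionVars false

namespace Cfsg.Agent.R2.F4N

open Cfsg Cfsg.Lie Module Matrix
open Cfsg.Agent.ChevalleyStructure.E6Min.Basic
open Cfsg.Agent.H952.F4 Cfsg.Agent.H952.F4.Jord
open Cfsg.Agent.H952.F4.FixV (W0 mem_W0 finrank_W0 u0_ne_zero tr1_eq)
open Cfsg.Agent.R2.H9.E6
open Cfsg.Agent.GpExc.Field (emb)
open Cfsg.Agent.R2.H28.SL2 Cfsg.Agent.H943.RepAdd Cfsg.Agent.H943.SL2Mod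
open Cfsg.Agent.R2.F4M

universe u v w

variable {F : Type u} [Field F] {K : Type v} [Field K] {k : Type u} [Field k] {f : F →+* k}
variable {φ : ProjectiveSpecialLinearGroup (Fin 2) K →* ↥(chevF4.group F)}

/-- standard bases of submodules -/
structure Sb (κ : K →+* k) (f : F →+* k) (φ : ProjectiveSpecialLinearGroup (Fin 2) K →* ↥(chevF4.group F))
    (X : Submodule k (I27 → k)) (n : ℕ) (x : ℕ → I27 → k) : Prop where
  str : Str κ (Rk f φ) n x
  li : LinearIndependent k (fun s : Fin (n + 1) => x s)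
  sp : X = Submodule.span k (Set.range fun s : Fin (n + 1) => x s)
  top : ∀ v ∈ X, (∀ t, Rk f φ (Cfsg.Agent.H943.SL2Rel.u t) v = v) → ∃ c : k, v = c • x n

section

variable {κ : K →+* k} {X : Submodule k (I27 → k)} {n : ℕ} {x : ℕ → I27 → k} (h : Sb κ f φ X n x)

include h

theorem Sb.mem {s : ℕ} (hs : s ≤ n) : x s ∈ X := by
  rw [h.sp]
  exact Submodule.subset_span ⟨⟨s, Nat.lt_succ_iff.2 hs⟩, rfl⟩

theorem Sb.ne {s : ℕ} (hs : s ≤ n) : x s ≠ 0 := h.li.ne_zero ⟨s, Nat.lt_succ_iff.2 hs⟩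

theorem Sb.finrank : finrank k X = n + 1 := by
  rw [h.sp, finrank_span_eq_card h.li, Fintype.card_fin]

end

variable [Fintype K] [DecidableEq k] [DecidableEq K] (ι : K →+* k) (p : ℕ) [Fact p.Prime] [CharP k p] [CharP K p]

/-- the inclusion of a submodule of `J₀` -/
def jn (X : Submodule k ↥(W0 k)) : X →ₗ[k] (I27 → k) := (W0 k).subtype.comp X.subtype

theorem jn_inj (X : Submodule k ↥(W0 k)) : Function.Injective (jn X) := fun _ _ h => Subtype.ext (Subtype.ext h)

theorem jn_rep {X : Submodule k ↥(W0 k)} (hX : ∀ g, ∀ x ∈ X, R0 f φ g x ∈ X) (g : _root_.Matrix.SpecialLinearGroup (Fin 2) K) (x : X) :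
    jn X (subRep (R0 f φ) X hX g x) = Rk f φ g (jn X x) := rfl

theorem mem_map_iff {X : Submodule k ↥(W0 k)} {v : I27 → k} : v ∈ X.map (W0 k).subtype ↔ ∃ x : X, jn X x = v := by
  constructor
  · rintro ⟨w, hw, rfl⟩
    exact ⟨⟨w, hw⟩, rfl⟩
  · rintro ⟨w, rfl⟩
    exact ⟨w, w.2, rfl⟩

/-- **standard bases** -/
theorem exists_sb {X : Submodule k ↥(W0 k)} {hX : ∀ g, ∀ x ∈ X, R0 f φ g x ∈ X} {n r : ℕ}
    (h : IsV (V := ↥X) ι p ((subRep (R0 f φ) X hX :)) (n * p ^ r)) (hn : n < p) :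
    ∃ x, Sb ((iterateFrobenius k p r).comp ι) f φ (X.map (W0 k).subtype) n x := by
  obtain ⟨v, hv⟩ := h.basS ι p hn
  obtain ⟨m, hm0, hmu, -, -, hm⟩ := h.hw
  have hκ : ∀ t, ((iterateFrobenius k p r).comp ι) t = ι t ^ p ^ r := fun t => iterateFrobenius_def p r (ι t)
  refine ⟨fun s => jn X (v s), ⟨fun s hs t => ?_, fun s hs a => ?_, fun s hs => ?_⟩, ?_, ?_, ?_⟩
  · rw [← jn_rep hX, hv.u s hs t, map_sum]
    refine Finset.sum_congr rfl fun j _ => ?_
    rw [map_smul, hκ]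
  · rw [← jn_rep hX, hv.h s hs a, map_smul, hκ]
  · rw [← jn_rep hX, hv.w s hs, map_smul]
  · exact (hv.li.map' (jn X) (LinearMap.ker_eq_bot_of_injective (jn_inj X)) :)
  · have h1 := congrArg (Submodule.map (jn X)) (top_le_iff.1 hv.sp)
    rw [Submodule.map_span, ← Set.range_comp] at h1
    rw [show (fun s : Fin (n + 1) => jn X (v s)) = (jn X) ∘ (fun s : Fin (n + 1) => v s) from rfl, h1]
    ext w
    rw [mem_map_iff, Submodule.mem_map]
    constructor
    · rintro ⟨x, hx⟩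
      exact ⟨x, Submodule.mem_top, hx⟩
    · rintro ⟨x, -, hx⟩
      exact ⟨x, hx⟩
  · intro w hw hfix
    obtain ⟨w, rfl⟩ := mem_map_iff.1 hw
    obtain ⟨c, hc⟩ := hm w fun t => jn_inj X (by rw [jn_rep, hfix])
    obtain ⟨d, hd⟩ := hm (v n) fun t => by
      rw [hv.u n le_rfl t, Nat.sub_self]
      simp
    have hd0 : d ≠ 0 := by
      rintro rfl
      rw [zero_smul] at hd
      exact hv.li.ne_zero ⟨n, Nat.lt_succ_self n⟩ hd
    refine ⟨c / d, ?_⟩
    rw [hc, hd, ← map_smul, smul_smul, div_mul_cancel₀ _ hd0]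

variable [IsAlgClosed k]

theorem ir_map {X : Submodule k ↥(W0 k)} {hX : ∀ g, ∀ x ∈ X, R0 f φ g x ∈ X} {b : ℕ}
    (h : IsV (V := ↥X) ι p ((subRep (R0 f φ) X hX :)) b) : Ir f φ (X.map (W0 k).subtype) where
  le := by
    rintro _ ⟨x, -, rfl⟩
    exact x.2
  st := by
    intro g w hw
    obtain ⟨w, rfl⟩ := mem_map_iff.1 hw
    rw [← jn_rep hX]
    exact mem_map_iff.2 ⟨_, rfl⟩
  ne := by
    intro h0
    obtain ⟨x, hx⟩ := @exists_ne X h.irr.1 0
    apply hx
    have h1 : jn X x ∈ X.map (W0 k).subtype := mem_map_iff.2 ⟨x, rfl⟩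
    rw [h0, Submodule.mem_bot] at h1
    exact jn_inj X (by rw [h1, map_zero])
  ir := by
    intro Y hY hYs
    rcases h.irr.2 (Y.comap (jn X)) (fun g x hx => by
      show jn X (subRep (R0 f φ) X hX g x) ∈ Y
      rw [jn_rep]
      exact hYs g _ hx) with h1 | h1
    · left
      rw [eq_bot_iff]
      intro y hy
      obtain ⟨x, rfl⟩ := mem_map_iff.1 (hY hy)
      have h2 : x ∈ Y.comap (jn X) := hy
      rw [h1, Submodule.mem_bot] at h2
      rw [h2, map_zero]
      exact Submodule.zero_mem _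
    · right
      refine le_antisymm hY ?_
      intro w hw
      obtain ⟨x, rfl⟩ := mem_map_iff.1 hw
      have h2 : x ∈ Y.comap (jn X) := by rw [h1]; trivial
      exact h2

theorem Ir.exists_isV {Z : Submodule k (I27 → k)} (h : Ir f φ Z) : ∃ (X : Submodule k ↥(W0 k))
    (hX : ∀ g, ∀ x ∈ X, R0 f φ g x ∈ X) (b : ℕ), IsV (V := ↥X) ι p ((subRep (R0 f φ) X hX :)) b ∧ X.map (W0 k).subtype = Z := by
  have hX : ∀ g, ∀ x ∈ Z.comap (W0 k).subtype, R0 f φ g x ∈ Z.comap (W0 k).subtype := fun g x hx => h.st g _ hx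
  have hmap : (Z.comap (W0 k).subtype).map (W0 k).subtype = Z := by
    rw [Submodule.map_comap_subtype]
    exact inf_eq_right.2 h.le
  have hirr : Irrd (V := ↥(Z.comap (W0 k).subtype)) ((subRep (R0 f φ) (Z.comap (W0 k).subtype) hX :)) := by
    refine ⟨?_, fun W hW => ?_⟩
    · obtain ⟨z, hz, hz0⟩ := Submodule.exists_mem_ne_zero_of_ne_bot h.ne
      refine ⟨⟨⟨⟨z, h.le hz⟩, hz⟩, 0, fun h1 => hz0 ?_⟩⟩
      exact congrArg (jn _) h1
    · rcases h.ir (W.map (jn _)) (by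
        rintro _ ⟨x, -, rfl⟩
        exact x.2) (by
        rintro g _ ⟨x, hx, rfl⟩
        rw [← jn_rep hX]
        exact ⟨_, hW g x hx, rfl⟩) with h1 | h1
      · left
        rw [eq_bot_iff]
        intro x hx
        have h2 : jn _ x ∈ W.map (jn _) := ⟨x, hx, rfl⟩
        rw [h1, Submodule.mem_bot] at h2
        exact (Submodule.mem_bot k).2 (jn_inj _ (by rw [h2, map_zero]))
      · right
        rw [eq_top_iff]
        intro x _
        have h2 : jn _ x ∈ W.map (jn (Z.comap (W0 k).subtype)) := by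
          rw [h1]
          exact x.2
        obtain ⟨y, hy, hxy⟩ := h2
        rw [← jn_inj _ hxy]
        exact hy
  obtain ⟨b, hb⟩ := (Sy.{u, u, v} ι p).ex _ hirr
  exact ⟨_, hX, b, hb, hmap⟩

/-- submodules with the same label of multiplicity one coincide -/
theorem eq_of_count {V : Type u} [AddCommGroup V] [Module k V] [FiniteDimensional k V]
    {ρ : Representation k (_root_.Matrix.SpecialLinearGroup (Fin 2) K) V} {X Y : Submodule k V} {hX : ∀ g, ∀ x ∈ X, ρ g x ∈ X}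
    {hY : ∀ g, ∀ x ∈ Y, ρ g x ∈ Y} {b : ℕ} (h1 : IsV ι p (subRep ρ X hX) b) (h2 : IsV ι p (subRep ρ Y hY) b)
    (hc : (cf (Sy.{u, u, v} ι p) ρ).count b = 1) : X = Y := by
  rcases h1.inf_or_le ι p hY with h3 | h3
  · exfalso
    have h4 : InSoc ι p (quotRep ρ X hX) b := by
      refine inSoc_of_hom ι p h2 (X.mkQ.comp Y.subtype) (fun g x => rfl) ?_
      intro h0
      obtain ⟨y, hy⟩ := @exists_ne Y h2.irr.1 0
      apply hy
      have h5 : X.mkQ (y : V) = 0 := LinearMap.congr_fun h0 y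
      rw [Submodule.mkQ_apply, Submodule.Quotient.mk_eq_zero] at h5
      have h6 : (y : V) ∈ X ⊓ Y := ⟨h5, y.2⟩
      rw [h3, Submodule.mem_bot] at h6
      exact Subtype.ext h6
    have h7 := InSoc.mem_cf ι p h4
    have h8 := cf_add (Sy.{u, u, v} ι p) ρ X hX
    rw [h8, cf_irr (Sy.{u, u, v} ι p) h1, Multiset.count_add, Multiset.count_singleton_self] at hc
    have h9 := Multiset.count_pos.2 h7
    omega
  · refine Submodule.eq_of_le_of_finrank_eq h3 ?_
    rw [h1.finrank, h2.finrank]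

/-- **uniqueness** -/
theorem uq_map {X : Submodule k ↥(W0 k)} {hX : ∀ g, ∀ x ∈ X, R0 f φ g x ∈ X} {b : ℕ}
    (h : IsV (V := ↥X) ι p ((subRep (R0 f φ) X hX :)) b) (hc : (cf (Sy.{u, u, v} ι p) (R0 f φ)).count b = 1)
    (hd : ∀ c ∈ cf (Sy.{u, u, v} ι p) (R0 f φ), (Bf k c).card = (Bf k b).card → c = b) :
    Uq f φ (X.map (W0 k).subtype) where
  toIr := ir_map ι p h
  uq := by
    intro Z hZ hfin
    obtain ⟨Y, hY, c, hcY, rfl⟩ := hZ.exists_isV ι p
    have h1 : c ∈ cf (Sy.{u, u, v} ι p) (R0 f φ) := InSoc.mem_cf ι p ⟨Y, hY, hcY⟩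
    have h2 : ∀ X : Submodule k ↥(W0 k), Module.finrank k (X.map (W0 k).subtype) = Module.finrank k X := fun X =>
      (Submodule.equivMapOfInjective _ (W0 k).injective_subtype X).symm.finrank_eq
    rw [h2, h2, h.finrank, hcY.finrank] at hfin
    obtain rfl := hd c h1 hfin
    rw [eq_of_count ι p hcY h hc]

end Cfsg.Agent.R2.F4N
end

-- part: R2/H27/F4Th/Fin
section
prune_inst 0x10000000000000
set_option linter.all false
open scoped Cfsg.Agent.FastGrp

/-!
# S5931, theta types: the final reduction (helper27)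

`th_fin` : an involution `-1` on `X`, `+1` on `X^⊥` gives a contradiction.
-/

set_option autoImplicit false
set_option linter.unusedSectionVars false

namespace Cfsg.Agent.R2.H27.F4Th

open Cfsg Cfsg.Lie Module Matrix
open Cfsg.Agent.ChevalleyStructure.E6Min.Basic
open Cfsg.Agent.H952.F4 (sh cr tf tr1 u0 hF4)
open Cfsg.Agent.H952.F4.Jord
open Cfsg.Agent.H952.F4.FixV (W0 mem_W0 finrank_W0)
open Cfsg.Agent.R2.H28.SL2 Cfsg.Agent.H943.RepAdd Cfsg.Agent.H943.SL2Mod
open Cfsg.Agent.R2.F4M Cfsg.Agent.R2.F4N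
open Cfsg.Agent.R2.F4T (SD Nd Iso)
open Cfsg.Agent.R2.H1.F4 (st Fr exists_fr sv sv_tf sv_tr no_grade)

universe u v w

variable {F : Type u} [Field F] [Fintype F] {K : Type v} [Field K] [Fintype K] [DecidableEq K] {p a b : ℕ}
variable {H : Subgroup ↥(chevF4.group F)} {φ : ProjectiveSpecialLinearGroup (Fin 2) K →* ↥(chevF4.group F)}
variable {k : Type u} [Field k] [DecidableEq k] {f : F →+* k} {ι : K →+* k} [Fact p.Prime] [CharP k p] [CharP K p]

theorem sd_R0 (h3 : (3 : k) ≠ 0) : SD (R0 f φ) (tf0 k) :=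
  ⟨R0_dul f φ h3, fun x y => by rw [tf0_apply, tf0_apply, tf_comm]⟩

theorem sur_of_pow [IsAlgClosed k] {s : k →+* k} (hs : ∀ c, s c = c ^ Fintype.card F) : Function.Surjective s := by
  intro c
  obtain ⟨r, hr⟩ := IsAlgClosed.exists_pow_nat_eq c (n := Fintype.card F) Fintype.card_pos
  exact ⟨r, by rw [hs, hr]⟩

variable [IsAlgClosed k]

theorem th_fin (hc : Cfg p a b H φ) (h2 : (2 : k) ≠ 0) (h3 : (3 : k) ≠ 0) {X : Submodule k ↥(W0 k)}
    {hX : ∀ g, ∀ x ∈ X, R0 f φ g x ∈ X} {c : ℕ} (hV : IsV (V := ↥X) ι p (subRep (R0 f φ) X hX) c) (hnd : Nd (tf0 k) X)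
    (hcount : (cf (Sy.{u, u, v} ι p) (R0 f φ)).count c = 1)
    (hd : ∀ c' ∈ cf (Sy.{u, u, v} ι p) (R0 f φ), (Bf k c').card = (Bf k c).card → c' = c)
    (n1 : ∀ x ∈ orth (tf0 k) X, ∀ y ∈ orth (tf0 k) X, ∀ z ∈ X, tf (st (x : I27 → k) y) z = 0)
    (n2 : ∀ x ∈ X, ∀ y ∈ X, ∀ z ∈ X, tf (st (x : I27 → k) y) z = 0) : False := by
  have S := sd_R0 (f := f) (φ := φ) h3
  have U := uq_map ι p hV hcount hd
  obtain ⟨s, hfr, hs⟩ := exists_fr f
  have hsur := sur_of_pow hs
  have hcm := S.compl hX hnd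
  have sQ : ∀ x ∈ X.map (W0 k).subtype, sv s x ∈ X.map (W0 k).subtype := fun x hx => U.sm_mem hfr.fix hsur hx
  have sQ' : ∀ x ∈ X.map (W0 k).subtype, ∃ y ∈ X.map (W0 k).subtype, sv s y = x := by
    intro x hx
    have h4 : smS s hsur (X.map (W0 k).subtype) = X.map (W0 k).subtype :=
      U.uq _ (U.toIr.smS hfr.fix hsur) (finrank_smS s hsur _)
    rw [← h4] at hx
    obtain ⟨y, hy, e⟩ := (mem_smS s).1 hx
    exact ⟨y, hy, e⟩
  have ho : ∀ x ∈ (orth (tf0 k) X).map (W0 k).subtype, ∀ y ∈ X.map (W0 k).subtype, tf x y = 0 := by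
    rintro _ ⟨x, hx, rfl⟩ _ ⟨y, hy, rfl⟩
    have h5 := hx y hy
    rw [tf0_apply, tf_comm] at h5
    exact h5
  have hbot := no_grade (P := (orth (tf0 k) X).map (W0 k).subtype) (Q := X.map (W0 k).subtype) hc hfr h2 h3
    (by rintro _ ⟨x, hx, rfl⟩; exact (mem_W0 _).1 x.2) (by rintro _ ⟨x, hx, rfl⟩; exact (mem_W0 _).1 x.2)
    (fun v hv => by
      have h5 : (⟨v, (mem_W0 v).2 hv⟩ : ↥(W0 k)) ∈ X ⊔ orth (tf0 k) X := by
        rw [codisjoint_iff.1 hcm.codisjoint]; trivial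
      obtain ⟨x, hx, y, hy, e⟩ := Submodule.mem_sup.1 h5
      refine ⟨y, ⟨y, hy, rfl⟩, x, ⟨x, hx, rfl⟩, ?_⟩
      have h6 := congrArg Subtype.val e
      rw [← show ((x + y : ↥(W0 k)) : I27 → k) = v from h6, Submodule.coe_add, add_comm]) ho
    (by rintro _ ⟨x, hx, rfl⟩ _ ⟨y, hy, rfl⟩ _ ⟨z, hz, rfl⟩; exact n1 x hx y hy z hz)
    (by rintro _ ⟨x, hx, rfl⟩ _ ⟨y, hy, rfl⟩ _ ⟨z, hz, rfl⟩; exact n2 x hx y hy z hz)
    (by
      rintro g _ ⟨x, hx, rfl⟩
      exact ⟨R0 f φ g x, S.orth_inv hX g x hx, rfl⟩)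
    (by
      rintro g _ ⟨x, hx, rfl⟩
      exact ⟨R0 f φ g x, hX g x hx, rfl⟩)
    (by
      rintro _ ⟨x, hx, rfl⟩
      have h5 : tr1 (sv s (x : I27 → k)) = 0 := by rw [sv_tr, (mem_W0 _).1 x.2, map_zero]
      refine ⟨⟨sv s x, (mem_W0 _).2 h5⟩, fun z hz => ?_, rfl⟩
      obtain ⟨z', hz', e⟩ := sQ' z ⟨z, hz, rfl⟩
      rw [tf0_apply]
      show tf (z : I27 → k) (sv s x) = 0
      rw [← show sv s z' = (z : I27 → k) from e, sv_tf, tf_comm, ho x ⟨x, hx, rfl⟩ z' hz', map_zero])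
    sQ
  exact U.ne hbot

end Cfsg.Agent.R2.H27.F4Th
end
end
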