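import Cfsg.Agent.R2.H27.F4Th.Exc_m3
import Cfsg.Agent.R2.F4L.N22
import Cfsg.Agent.R2.H27.F4Th.SqY_m3
import Cfsg.Agent.R2.H28.SL2.Bas_m3
import Cfsg.Agent.R2.F4P.Id_m3
import Cfsg.Agent.Prune
set_option linter.all false

section
prune_inst 0x7f00000000000000000000000000000000000000000000000000000000000000000000000000000000000000000000000000000000000000000000000000000000000000000000000000000000000000003fffffffffffffffffffffffffffbeffbdffffffff

section
prune_inst 0xffffffffffffffdfff7e7fafdffffdffbb3fffe6fffdcbffebefff1bffdbb9cded6fad8feab3fe9ff7ea9410f87b53fffffeffeb6ffc7ffffdfff41ffbffeffdf7b51951df8cb40fbc0fff03f07f8e7f000000000000000000000000000041004200000000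

-- part: R2/F4L/Two
section
prune_inst 0x500000000000000000000000000400006000200002009002000000004008000000028000000001001000000000000000000000000000000000201000000000000000000000000000000000000000000000000000000000000000
set_option linter.all false
open scoped Cfsg.Agent.FastGrp

/-!
# The submodules `V_{2 p ^ i}` (helper2, S5931)

* `sq2` : the tuple of type `(4, i)` of the squares of a tuple of type `(2, i)`;
* `Cx.c_ne` : `c ≠ 0` where `cr (x 0) (x 2) - 2 sh (x 1) = c u0`;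
* `Cx.pair2` : tuples of types `(2, i)`, `(2, l)`, `i ≠ l`; `Cx.uniq2` : tuples of type `(2, i)` are proportional.
-/

set_option autoImplicit false
set_option linter.unusedSectionVars false
set_option linter.unusedVariables false

namespace Cfsg.Agent.R2.F4L

open Cfsg.Lie
open Cfsg.Agent.ChevalleyStructure.E6Min.Tables Cfsg.Agent.ChevalleyStructure.E6Min.Basic
open Cfsg.Agent.H952.F4 (sh cr tf tr1 u0)
open Cfsg.Agent.H952.F4.Jord
open Cfsg.Agent.H943.SL2Rel Cfsg.Agent.H943.SL2Mod Cfsg.Agent.R2.H28.SL2 Cfsg.Agent.H943.RepAdd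
open Cfsg.Agent.R2.GEO (tfB tfB_apply)

universe u v w

variable {k : Type u} [Field k] [DecidableEq k] {K : Type w} [Field K] [Fintype K] [DecidableEq K] {ι : K →+* k}
variable {p : ℕ} [Fact p.Prime] [CharP k p] [CharP K p] {a : ℕ}
variable {ρ : Representation k (Matrix.SpecialLinearGroup (Fin 2) K) (I27 → k)} {i : ℕ}

/-- the tuple of the squares -/
noncomputable def sq2 (x : ℕ → I27 → k) : ℕ → I27 → k := fun s => match s with
  | 0 => sh (x 0)
  | 1 => (2 : k)⁻¹ • cr (x 0) (x 1)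
  | 2 => (6 : k)⁻¹ • ((4 : k) • sh (x 1) + cr (x 0) (x 2))
  | 3 => (2 : k)⁻¹ • cr (x 1) (x 2)
  | 4 => sh (x 2)
  | _ => 0

theorem six_ne (p : ℕ) [Fact p.Prime] [CharP k p] (hp5 : 5 ≤ p) : (6 : k) ≠ 0 := by
  rw [show (6 : k) = 2 * 3 by norm_num]
  exact mul_ne_zero (two_ne p (by omega)) (three_ne p (by omega))

theorem ts_sq2 (H : Act ρ) (hp5 : 5 ≤ p) {x : ℕ → I27 → k} (hx : TS ι p ρ 2 i x) : TS ι p ρ 4 i (sq2 x) := by
  have h2 : (2 : k) ≠ 0 := two_ne p (by omega)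
  have h6 : (6 : k) ≠ 0 := six_ne p hp5
  refine ts_of_bot (by omega) (fun s hs => ?_) (fun t => ?_) (fun b => ?_) (fun s hs => ?_)
  · match s with
    | 0 | 1 | 2 | 3 | 4 => omega
    | s + 5 => rfl
  · show ρ (u t) (sh (x 0)) = _
    rw [H.sh, ts2_u0 hx]
    simp only [Finset.sum_range_succ, Finset.sum_range_zero, zero_add]
    show _ = (((4 : ℕ).choose 0 : k) * (ι t ^ p ^ i) ^ 0) • sh (x 0) + (((4 : ℕ).choose 1 : k) * (ι t ^ p ^ i) ^ 1) •
      (2 : k)⁻¹ • cr (x 0) (x 1) + (((4 : ℕ).choose 2 : k) * (ι t ^ p ^ i) ^ 2) •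
      (6 : k)⁻¹ • ((4 : k) • sh (x 1) + cr (x 0) (x 2)) + (((4 : ℕ).choose 3 : k) * (ι t ^ p ^ i) ^ 3) •
      (2 : k)⁻¹ • cr (x 1) (x 2) + (((4 : ℕ).choose 4 : k) * (ι t ^ p ^ i) ^ 4) • sh (x 2)
    rw [show (4 : ℕ).choose 0 = 1 by decide, show (4 : ℕ).choose 1 = 4 by decide, show (4 : ℕ).choose 2 = 6 by decide,
      show (4 : ℕ).choose 3 = 4 by decide, show (4 : ℕ).choose 4 = 1 by decide]
    push_cast
    rw [sh_add3]
    simp only [sh_smul, cr_smul_left, cr_smul_right, smul_smul, smul_add]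
    match_scalars <;> field_simp <;> ring
  · show ρ (h b) (sh (x 0)) = ((ι b ^ p ^ i)⁻¹) ^ 4 • sh (x 0)
    rw [H.sh, ts2_h0 hx, sh_smul]
    congr 1
    ring
  · have e01 := ts2_w0 hx
    have e11 := ts2_w1 hx
    have e21 := ts2_w2 hx
    have hs' : s = 0 ∨ s = 1 ∨ s = 2 ∨ s = 3 ∨ s = 4 := by omega
    rcases hs' with rfl | rfl | rfl | rfl | rfl
    · show ρ w (sh (x 0)) = (-1 : k) ^ 0 • sh (x 2)
      rw [H.sh, e01, pow_zero, one_smul]
    · show ρ w ((2 : k)⁻¹ • cr (x 0) (x 1)) = (-1 : k) ^ 1 • (2 : k)⁻¹ • cr (x 1) (x 2)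
      rw [map_smul, H.cr, e01, e11, cr_neg_right, cr_comm]
      module
    · show ρ w ((6 : k)⁻¹ • ((4 : k) • sh (x 1) + cr (x 0) (x 2))) = (-1 : k) ^ 2 • (6 : k)⁻¹ • ((4 : k) • sh (x 1) + cr (x 0) (x 2))
      rw [map_smul, map_add, map_smul, H.cr, H.sh, e01, e11, e21, cr_comm, show -x 1 = (-1 : k) • x 1 by rw [neg_one_smul], sh_smul]
      module
    · show ρ w ((2 : k)⁻¹ • cr (x 1) (x 2)) = (-1 : k) ^ 3 • (2 : k)⁻¹ • cr (x 0) (x 1)
      rw [map_smul, H.cr, e21, e11, cr_neg_left, cr_comm]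
      module
    · show ρ w (sh (x 2)) = (-1 : k) ^ 4 • sh (x 0)
      rw [H.sh, e21]
      module

/-- the idempotent -/
theorem two_y (H : Act ρ) (hp5 : 5 ≤ p) (hQ : 7 ≤ Fintype.card K)
    (hfix : ∀ y : I27 → k, (∀ g, ρ g y = y) → ∃ c : k, y = c • u0 k) {x : ℕ → I27 → k} (hx : TS ι p ρ 2 i x) {c : k}
    (hc : cr (x 0) (x 2) - (2 : k) • sh (x 1) = c • u0 k) (hc0 : c ≠ 0) :
    ∃ y ∈ Submodule.span k (Set.range (sq2 x)), tr1 y = 0 ∧ R2.H1.F4.st y y = (4 / 3 * c) • y ∧ tf y y = 8 / 3 * c ^ 2 := by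
  have h2 : (2 : k) ≠ 0 := two_ne p (by omega)
  have h3 : (3 : k) ≠ 0 := three_ne p (by omega)
  have h6 : (6 : k) ≠ 0 := six_ne p hp5
  obtain ⟨c0', M⟩ := three_MH H (by omega) hQ hfix hx
  have ht : (2 : k) ^ 2 ≠ 1 := by
    intro h
    apply h3
    linear_combination h
  -- the constant of `MH`
  have hw := M.w
  have e0 : (1 : k) • sh (x 0 + x 2) + (-1 : k) • sh (x 0 - x 2) + (-4 : k) • sh (x 1) = (2 * c) • u0 k := by
    rw [mul_smul, ← hc, sub_eq_add_neg (x 0) (x 2), sh_add, sh_add, show -x 2 = (-1 : k) • x 2 by rw [neg_one_smul],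
      sh_smul, cr_smul_right]
    module
  have hcc : c0' = 2 * c := by
    have h4 : (c0' - 2 * c) • u0 k = 0 := by rw [sub_smul, ← hw, ← e0, sub_self]
    exact sub_eq_zero.1 ((smul_eq_zero.1 h4).resolve_right u0_ne)
  subst hcc
  obtain ⟨htr, -⟩ := M.tr h2 h2 ht (mul_ne_zero h2 hc0)
  rw [one_mul] at htr
  have R := M.rel h2 h2 ht
  set q := sh (x 0 + x 2) with hq
  have hqv : q = sq2 x 0 + (2 : k) • sq2 x 2 + sq2 x 4 + (2 / 3 * c) • u0 k := by
    show q = sh (x 0) + (2 : k) • (6 : k)⁻¹ • ((4 : k) • sh (x 1) + cr (x 0) (x 2)) + sh (x 2) + (2 / 3 * c) • u0 k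
    rw [mul_smul, ← hc, hq, sh_add]
    match_scalars <;> field_simp <;> ring
  have hTq : tf q q = 4 * c ^ 2 := by
    have h4 := tr1_sh q
    rw [R.s1, tr1_zero, htr] at h4
    linear_combination h4
  have hcrq : cr q q = 0 := by rw [cr_self, R.s1, smul_zero]
  refine ⟨q + (-(2 / 3 * c)) • u0 k, ?_, ?_, ?_, ?_⟩
  · have : q + (-(2 / 3 * c)) • u0 k = sq2 x 0 + (2 : k) • sq2 x 2 + sq2 x 4 := by
      rw [hqv]
      module
    rw [this]
    exact Submodule.add_mem _ (Submodule.add_mem _ (Submodule.subset_span ⟨0, rfl⟩)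
      (Submodule.smul_mem _ _ (Submodule.subset_span ⟨2, rfl⟩))) (Submodule.subset_span ⟨4, rfl⟩)
  · rw [tr1_add, tr1_smul, tr1_u0, htr]
    field_simp
    ring
  · have hT : tf (q + (-(2 / 3 * c)) • u0 k) (q + (-(2 / 3 * c)) • u0 k) = 8 / 3 * c ^ 2 := by
      simp only [tf_add_left, tf_add_right, tf_smul_left, tf_smul_right]
      rw [tf_u0, tf_comm q (u0 k), tf_u0, tf_u0, tr1_u0, hTq, htr]
      field_simp
      ring
    unfold R2.H1.F4.st
    rw [hT]
    simp only [cr_add_left, cr_add_right, cr_smul_left, cr_smul_right]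
    rw [hcrq, cr_comm q (u0 k), cr_u0, cr_self, sh_u0, htr]
    match_scalars <;> field_simp <;> ring
  · simp only [tf_add_left, tf_add_right, tf_smul_left, tf_smul_right]
    rw [tf_u0, tf_comm q (u0 k), tf_u0, tf_u0, tr1_u0, hTq, htr]
    field_simp
    ring

section Alg

variable {V : Type v} [AddCommGroup V] [Module k V] {σ : Representation k (Matrix.SpecialLinearGroup (Fin 2) K) V}
variable {j : V →ₗ[k] (I27 → k)}
variable [IsAlgClosed k] [FiniteDimensional k V]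

/-- the constant -/
theorem Cx.exists_c (C : Cx ι p a ρ) {x : ℕ → I27 → k} (hx : TS ι p ρ 2 i x) :
    ∃ c : k, cr (x 0) (x 2) - (2 : k) • sh (x 1) = c • u0 k := C.fix _ (three_w0 C.act hx)

/-- **`c ≠ 0`** -/
theorem Cx.c_ne (C : Cx ι p a ρ) (hi : i < a) {x : ℕ → I27 → k} (hx : TS ι p ρ 2 i x) (hx0 : x ≠ 0) {c : k}
    (hc : cr (x 0) (x 2) - (2 : k) • sh (x 1) = c • u0 k) : c ≠ 0 := by
  rintro rfl
  have hp5 := C.hp5
  have h2 := C.two
  have h3 := C.three
  have h6 : (6 : k) ≠ 0 := six_ne p hp5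
  obtain ⟨c0', M⟩ := three_MH C.act (by omega) C.seven C.fix hx
  have ht : (2 : k) ^ 2 ≠ 1 := by
    intro h
    apply h3
    linear_combination h
  have hw := M.w
  have e0 : (1 : k) • sh (x 0 + x 2) + (-1 : k) • sh (x 0 - x 2) + (-4 : k) • sh (x 1) = (2 : k) • (0 : k) • u0 k := by
    rw [← hc, sub_eq_add_neg (x 0) (x 2), sh_add, sh_add, show -x 2 = (-1 : k) • x 2 by rw [neg_one_smul],
      sh_smul, cr_smul_right]
    module
  rw [zero_smul, smul_zero] at e0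
  rw [e0] at hw
  have hcc : c0' = 0 := (smul_eq_zero.1 hw.symm).resolve_right u0_ne
  subst hcc
  have hwh := M.white h2 h2 ht
  -- the tuple of the squares is white
  have hsq := ts_sq2 C.act hp5 hx
  have hz : sq2 x = 0 := by
    refine C.ts_white (by omega) hi hsq fun b => ?_
    have h4 : cr (x 0) (x 2) = (2 : k) • sh (x 1) := by
      rw [zero_smul] at hc
      exact sub_eq_zero.1 hc
    have e : ∑ s ∈ Finset.range (4 + 1), b s • sq2 x s =
        ((b 0 + b 4) / 4) • sh (x 0 + x 2) + ((b 0 + b 4) / 4) • sh (x 0 - x 2) + (b 2) • sh (x 1) +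
        ((b 1 - b 3) / 2) • ((2 : k)⁻¹ • cr (x 0 - x 2) (x 1)) + ((b 1 + b 3) / 2) • ((2 : k)⁻¹ • cr (x 0 + x 2) (x 1)) +
        ((b 0 - b 4) / 2) • ((2 : k)⁻¹ • cr (x 0 + x 2) (x 0 - x 2)) := by
      simp only [Finset.sum_range_succ, Finset.sum_range_zero, zero_add]
      show b 0 • sh (x 0) + b 1 • (2 : k)⁻¹ • cr (x 0) (x 1) + b 2 • (6 : k)⁻¹ • ((4 : k) • sh (x 1) + cr (x 0) (x 2)) +
        b 3 • (2 : k)⁻¹ • cr (x 1) (x 2) + b 4 • sh (x 2) = _
      rw [sub_eq_add_neg (x 0) (x 2), show -x 2 = (-1 : k) • x 2 by rw [neg_one_smul], sh_add, sh_add, sh_smul]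
      simp only [cr_add_left, cr_add_right, cr_smul_left, cr_smul_right, cr_self]
      rw [h4, cr_comm (x 2) (x 1), cr_comm (x 2) (x 0), h4, cr_comm (x 0) (x 1)]
      have h4' : (4 : k) ≠ 0 := by
        rw [show (4 : k) = 2 * 2 by norm_num]
        exact mul_ne_zero h2 h2
      match_scalars <;> field_simp <;> ring
    rw [e]
    exact hwh _ _ _ _ _ _
  have z0 : sh (x 0) = 0 := congrFun hz 0
  have z1 : cr (x 0) (x 1) = 0 := (smul_eq_zero.1 (congrFun hz 1 : (2 : k)⁻¹ • cr (x 0) (x 1) = 0)).resolve_left (inv_ne_zero h2)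
  have z2 : (4 : k) • sh (x 1) + cr (x 0) (x 2) = 0 :=
    (smul_eq_zero.1 (congrFun hz 2 : (6 : k)⁻¹ • ((4 : k) • sh (x 1) + cr (x 0) (x 2)) = 0)).resolve_left (inv_ne_zero h6)
  have z3 : cr (x 1) (x 2) = 0 := (smul_eq_zero.1 (congrFun hz 3 : (2 : k)⁻¹ • cr (x 1) (x 2) = 0)).resolve_left (inv_ne_zero h2)
  have z4 : sh (x 2) = 0 := congrFun hz 4
  have h4 : cr (x 0) (x 2) = (2 : k) • sh (x 1) := by
    rw [zero_smul] at hc
    exact sub_eq_zero.1 hc
  have z5 : sh (x 1) = 0 := by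
    rw [h4] at z2
    refine (smul_eq_zero.1 (?_ : (6 : k) • sh (x 1) = 0)).resolve_left h6
    rw [← z2]
    module
  refine hx0 (C.ts_white (by omega) hi hx fun b => ?_)
  simp only [Finset.sum_range_succ, Finset.sum_range_zero, zero_add]
  rw [sh_add3]
  simp only [sh_smul, cr_smul_left, cr_smul_right, z0, z1, z3, z4, z5, h4]
  simp

/-- orthogonality in `J` -/
theorem Cx.orth (C : Cx ι p a ρ) (E : Em ρ σ j) {n m i l : ℕ} (hn : n < p) (hm : m < p) (hn1 : 1 ≤ n) (hm1 : 1 ≤ m)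
    (hi : i < a) (hl : l < a) (hne : n * p ^ i ≠ m * p ^ l) {x y : ℕ → I27 → k} (hx : TS ι p ρ n i x) (hy : TS ι p ρ m l y) :
    ∀ v ∈ Submodule.span k (Set.range x), ∀ w ∈ Submodule.span k (Set.range y), tf v w = 0 := by
  obtain ⟨x', hx', ex⟩ := E.lift C.act hn hn1 (C.lt_card hn hi) hx
  obtain ⟨y', hy', ey⟩ := E.lift C.act hm hm1 (C.lt_card hm hl) hy
  have key : ∀ s t, tf (x s) (y t) = 0 := by
    intro s t
    by_cases hx0 : x' = 0
    · rw [← ex s, hx0]
      show tf (j 0) (y t) = 0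
      rw [map_zero, tf_zero_left]
    by_cases hy0 : y' = 0
    · rw [← ey t, hy0]
      show tf (x s) (j 0) = 0
      rw [map_zero, tf_comm, tf_zero_left]
    obtain ⟨hX, hVX⟩ := hx'.isV hn (C.lt_card hn hi) hx0
    obtain ⟨hY, hVY⟩ := hy'.isV hm (C.lt_card hm hl) hy0
    rw [← ex, ← ey, ← Pj_apply]
    exact orth_ne (E.dul C.act C.three) hne hVX hVY _ (Submodule.subset_span ⟨s, rfl⟩) _ (Submodule.subset_span ⟨t, rfl⟩)
  intro v hv w hw
  induction hv using Submodule.span_induction with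
  | mem v hv =>
    obtain ⟨s, rfl⟩ := hv
    induction hw using Submodule.span_induction with
    | mem w hw =>
      obtain ⟨t, rfl⟩ := hw
      exact key s t
    | zero => rw [tf_comm, tf_zero_left]
    | add a b _ _ ha hb => rw [tf_add_right, ha, hb, add_zero]
    | smul c a _ ha => rw [tf_smul_right, ha, mul_zero]
  | zero => rw [tf_zero_left]
  | add a b _ _ ha hb => rw [tf_add_left, ha, hb, add_zero]
  | smul c a _ ha => rw [tf_smul_left, ha, mul_zero]

/-- products in `J` -/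
theorem Cx.prod0 (C : Cx ι p a ρ) (E : Em ρ σ j) {n m i l : ℕ} (hn : n < p) (hm : m < p) (hn1 : 1 ≤ n) (hm1 : 1 ≤ m)
    (hi : i < a) (hl : l < a) (hil : i ≠ l) (hno : ¬ InSoc ι p σ (n * p ^ i + m * p ^ l)) {x y : ℕ → I27 → k}
    (hx : TS ι p ρ n i x) (hy : TS ι p ρ m l y) :
    ∀ v ∈ Submodule.span k (Set.range x), ∀ w ∈ Submodule.span k (Set.range y), R2.H1.F4.st v w = 0 := by
  obtain ⟨x', hx', ex⟩ := E.lift C.act hn hn1 (C.lt_card hn hi) hx
  obtain ⟨y', hy', ey⟩ := E.lift C.act hm hm1 (C.lt_card hm hl) hy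
  have st0 : ∀ y : I27 → k, R2.H1.F4.st 0 y = 0 := fun y => by
    have := R2.H1.F4.st_smul_left (0 : k) 0 y
    rwa [zero_smul, zero_smul] at this
  have key : ∀ s t, R2.H1.F4.st (x s) (y t) = 0 := by
    intro s t
    by_cases hx0 : x' = 0
    · rw [← ex s, hx0]
      show R2.H1.F4.st (j 0) (y t) = 0
      rw [map_zero, st0]
    by_cases hy0 : y' = 0
    · rw [← ey t, hy0]
      show R2.H1.F4.st (x s) (j 0) = 0
      rw [map_zero, R2.H1.F4.st_comm, st0]
    obtain ⟨hX, hVX⟩ := hx'.isV hn (C.lt_card hn hi) hx0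
    obtain ⟨hY, hVY⟩ := hy'.isV hm (C.lt_card hm hl) hy0
    have h1 := tens_zero C.card (fun r _ => digit_disj p hn hm hil r) hVX hVY hno (β := stV E C.three)
      (fun g x y => stV_eqv E C.act C.three g x y) (Submodule.subset_span (Set.mem_range_self s) : x' s ∈ _)
      (Submodule.subset_span (Set.mem_range_self t) : y' t ∈ _)
    rw [← ex, ← ey, ← j_stV E C.three, h1, map_zero]
  intro v hv w hw
  induction hv using Submodule.span_induction with
  | mem v hv =>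
    obtain ⟨s, rfl⟩ := hv
    induction hw using Submodule.span_induction with
    | mem w hw =>
      obtain ⟨t, rfl⟩ := hw
      exact key s t
    | zero => rw [R2.H1.F4.st_comm, st0]
    | add a b _ _ ha hb => rw [R2.H1.F4.st_add_right, ha, hb, add_zero]
    | smul c a _ ha => rw [R2.H1.F4.st_smul_right, ha, smul_zero]
  | zero => rw [st0]
  | add a b _ _ ha hb => rw [R2.H1.F4.st_add_left, ha, hb, add_zero]
  | smul c a _ ha => rw [R2.H1.F4.st_smul_left, ha, smul_zero]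

theorem Cx.inSoc_of (C : Cx ι p a ρ) (E : Em ρ σ j) {n i : ℕ} (hn : n < p) (hn1 : 1 ≤ n) (hi : i < a) {x : ℕ → I27 → k}
    (hx : TS ι p ρ n i x) (hx0 : x ≠ 0) : InSoc ι p σ (n * p ^ i) := by
  obtain ⟨x', hx', ex⟩ := E.lift C.act hn hn1 (C.lt_card hn hi) hx
  obtain ⟨hX, hVX⟩ := hx'.isV hn (C.lt_card hn hi) (by
    rintro rfl
    apply hx0
    funext s
    rw [← ex s]
    exact map_zero j)
  exact ⟨_, hX, hVX⟩

theorem card_Bf_single' {n : ℕ} (hn : n < p) (C : Cx ι p a ρ) (hi : i < a) : (Bf k (n * p ^ i)).card = n + 1 := by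
  have hV : IsV ι p (RB (k := k) ι p (C.lt_card hn hi)) (n * p ^ i) := isV_RB _
  rw [← hV.dim_single ι C.card hn]
  obtain ⟨-, -, -, -, -, -, h5, -⟩ := IsV.hw2 ι p hV
  exact h5.symm

/-- **two positions** -/
theorem Cx.pair2 (C : Cx ι p a ρ) (E : Em ρ σ j) (h26 : Module.finrank k V = 26) {i l : ℕ} (hi : i < a) (hl : l < a)
    (hil : i ≠ l) {x y : ℕ → I27 → k} (hx : TS ι p ρ 2 i x) (hx0 : x ≠ 0) (hy : TS ι p ρ 2 l y) (hy0 : y ≠ 0) : False := by
  have hp5 := C.hp5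
  have h3 := C.three
  obtain ⟨c, hc⟩ := C.exists_c hx
  obtain ⟨d, hd⟩ := C.exists_c hy
  have hc0 := C.c_ne hi hx hx0 hc
  have hd0 := C.c_ne hl hy hy0 hd
  obtain ⟨v, hv, hv0, hvv, hTv⟩ := two_y C.act hp5 C.seven C.fix hx hc hc0
  obtain ⟨w, hw, hw0, hww, hTw⟩ := two_y C.act hp5 C.seven C.fix hy hd hd0
  have h2i := (C.inSoc_of E (by omega) (by norm_num) hi hx hx0).mem_cf
  have hno := C.big44 h26 hil hi hl h2i (by rw [card_Bf_single' (by omega) C hi]; norm_num) (by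
    rw [card_Bf_single' (by omega) C hi]; norm_num)
  have hne : 4 * p ^ i ≠ 4 * p ^ l := fun h => hil (Nat.pow_right_injective (by omega : 2 ≤ p) (by
    exact Nat.eq_of_mul_eq_mul_left (by norm_num) h))
  have o := C.orth E (by omega) (by omega) (by norm_num) (by norm_num) hi hl hne (ts_sq2 C.act hp5 hx) (ts_sq2 C.act hp5 hy) v hv w hw
  have q := C.prod0 E (by omega) (by omega) (by norm_num) (by norm_num) hi hl hil hno (ts_sq2 C.act hp5 hx)
    (ts_sq2 C.act hp5 hy) v hv w hw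
  have e4 := R2.H1.F4.four C.two C.three hv0 hv0 hw0 hw0
  rw [q, hvv, hww, tf_smul_left, tf_smul_right, o, tf_zero_left, hTv, hTw] at e4
  have h1 : (8 / 3 * c ^ 2) * (8 / 3 * d ^ 2) = 0 := by
    have h23 : (2 / 3 : k) ≠ 0 := div_ne_zero C.two h3
    have : (2 / 3 : k) * ((8 / 3 * c ^ 2) * (8 / 3 * d ^ 2)) = 0 := by linear_combination -e4
    exact (mul_eq_zero.1 this).resolve_left h23
  have h8 : (8 / 3 : k) ≠ 0 := by
    refine div_ne_zero ?_ h3
    rw [show (8 : k) = 2 ^ 3 by norm_num]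
    exact pow_ne_zero _ C.two
  rcases mul_eq_zero.1 h1 with h | h
  · exact (mul_ne_zero h8 (pow_ne_zero 2 hc0)) h
  · exact (mul_ne_zero h8 (pow_ne_zero 2 hd0)) h

/-- the quadratic form -/
theorem Cx.form2 (C : Cx ι p a ρ) (hi : i < a) {x : ℕ → I27 → k} (hx : TS ι p ρ 2 i x) (hx0 : x ≠ 0) :
    tf (x 1) (x 1) - tf (x 0) (x 2) ≠ 0 := by
  obtain ⟨c, hc⟩ := C.exists_c hx
  have hc0 := C.c_ne hi hx hx0 hc
  have hp5 := C.hp5
  have htr := ts_tr C.act (by omega : 2 < p) (by norm_num) (C.lt_card (by omega) hi) hx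
  have h1 := congrArg tr1 hc
  rw [sub_eq_add_neg, ← neg_smul, tr1_add, tr1_smul, tr1_smul, tr1_cr, tr1_u0, htr, htr] at h1
  have h2 := tr1_sh (x 1)
  rw [htr] at h2
  intro h
  have h3 : 3 * c = 0 := by linear_combination h - h1 - h2
  exact hc0 ((mul_eq_zero.1 h3).resolve_left C.three)

/-- **uniqueness** -/
theorem Cx.uniq2 (C : Cx ι p a ρ) (hi : i < a) {x y : ℕ → I27 → k} (hx : TS ι p ρ 2 i x) (hx0 : x ≠ 0)
    (hy : TS ι p ρ 2 i y) : ∃ c : k, y = c • x := by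
  have h2 := C.two
  -- a root of the form on `y + e x`
  set A := tf (x 1) (x 1) - tf (x 0) (x 2) with hA
  have hA0 : A ≠ 0 := C.form2 hi hx hx0
  set B := 2 * tf (x 1) (y 1) - tf (x 0) (y 2) - tf (y 0) (x 2) with hB
  set D := tf (y 1) (y 1) - tf (y 0) (y 2) with hD
  obtain ⟨s, hs⟩ := IsAlgClosed.exists_pow_nat_eq (B ^ 2 - 4 * A * D) (n := 2) (by norm_num)
  set e : k := (-B + s) / (2 * A) with he
  have hroot : A * e ^ 2 + B * e + D = 0 := by
    have h1 : 4 * A * (A * e ^ 2 + B * e + D) = 0 := by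
      have h3 : 2 * A * e = -B + s := by
        rw [he]
        field_simp
      calc 4 * A * (A * e ^ 2 + B * e + D) = (2 * A * e) ^ 2 + 2 * B * (2 * A * e) + 4 * A * D := by ring
        _ = 0 := by rw [h3]; linear_combination hs
    have h4 : (4 : k) ≠ 0 := by
      rw [show (4 : k) = 2 * 2 by norm_num]
      exact mul_ne_zero h2 h2
    exact (mul_eq_zero.1 h1).resolve_left (mul_ne_zero h4 hA0)
  by_contra hne
  have hz : y + e • x ≠ 0 := by
    intro h
    apply hne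
    refine ⟨-e, ?_⟩
    rw [neg_smul]
    exact eq_neg_of_add_eq_zero_left h
  refine C.form2 hi (hy.add (hx.smul e)) hz ?_
  show tf (y 1 + e • x 1) (y 1 + e • x 1) - tf (y 0 + e • x 0) (y 2 + e • x 2) = 0
  simp only [tf_add_left, tf_add_right, tf_smul_left, tf_smul_right]
  rw [tf_comm (y 1) (x 1)]
  rw [← hroot, hA, hB, hD]
  ring

end Alg

end Cfsg.Agent.R2.F4L
end

-- part: R2/F4L/SubC
section
prune_inst 0x40000000000000000000000000040600000000000040000000000000000000000000000000000000000000000000000000000000000100000020000000000000000000000000000000000000000000000000000000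
set_option linter.all false
open scoped Cfsg.Agent.FastGrp

/-!
# SUB6, II (helper2, S5931)

* `emW` : the embedding `W0 k → J`; `ir_of` : spans of tuples;
* `sub4` : the case of a tuple of type `(4, i)`; `sub2` : the case of a tuple of type `(2, i)`.
-/

set_option autoImplicit false
set_option linter.unusedSectionVars false
set_option linter.unusedVariables false

namespace Cfsg.Agent.R2.F4L

open Cfsg Cfsg.Lie Module Matrix
open Cfsg.Agent.ChevalleyStructure.E6Min.Basic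
open Cfsg.Agent.H952.F4 (sh cr tf tr1 u0 hF4)
open Cfsg.Agent.H952.F4.Jord
open Cfsg.Agent.H952.F4.FixV (W0 mem_W0 finrank_W0 u0_ne_zero tr1_eq)
open Cfsg.Agent.R2.H9.E6
open Cfsg.Agent.GpExc.Field (emb)
open Cfsg.Agent.H943.SL2Rel Cfsg.Agent.H943.SL2Mod
open Cfsg.Agent.R2.H28.SL2 Cfsg.Agent.H943.RepAdd
open Cfsg.Agent.R2.F4M Cfsg.Agent.R2.F4N

universe u v w

variable {F : Type u} [Field F] [Fintype F] {K : Type v} [Field K] [Fintype K] [DecidableEq K] {p a b : ℕ}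
variable {H : Subgroup ↥(chevF4.group F)} {φ : ProjectiveSpecialLinearGroup (Fin 2) K →* ↥(chevF4.group F)}
variable {k : Type u} [Field k] [DecidableEq k] {f : F →+* k} {ι : K →+* k} [Fact p.Prime] [CharP k p] [CharP K p]

/-- the embedding -/
theorem emW : Em (Rk f φ) (R0 f φ) (W0 k).subtype where
  inj := Subtype.val_injective
  tr := fun x => (mem_W0 _).1 x.2
  sur := fun y hy => ⟨⟨y, (mem_W0 y).2 hy⟩, rfl⟩
  eqv := fun _ _ => rfl

theorem act_Rk : Act (Rk f φ) := ⟨fun g x => (Rk_sh f φ g x).symm, fun g => Rk_u0 f φ g⟩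

theorem TS.str {V : Type*} [AddCommGroup V] [Module k V] {ρ : Representation k (SpecialLinearGroup (Fin 2) K) V} {n i : ℕ}
    {x : ℕ → V} (hx : TS ι p ρ n i x) : Str ((iterateFrobenius k p i).comp ι) ρ n x where
  u := fun s hs t => hx.u s hs t
  h := fun s hs c => hx.h s hs c
  w := hx.w

section

variable {n i : ℕ} {x : ℕ → I27 → k} (hx : TS ι p (Rk f φ) n i x) (hx0 : x ≠ 0) (hn : n < p) (hn1 : 1 ≤ n)
  (hb : n * p ^ i ≤ Fintype.card K - 1)

include hx hx0 hn hn1 hb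

/-- spans of tuples -/
theorem ir_of : Ir f φ (Submodule.span k (Set.range x)) := by
  obtain ⟨hX, hV⟩ := hx.isV hn hb hx0
  refine ⟨?_, hX, ?_, fun Y hY hYs => ?_⟩
  · rw [Submodule.span_le]
    rintro _ ⟨s, rfl⟩
    exact (mem_W0 _).2 (ts_tr act_Rk hn hn1 hb hx s)
  · intro h
    apply hx0
    funext s
    have h2 : x s ∈ Submodule.span k (Set.range x) := Submodule.subset_span ⟨s, rfl⟩
    rw [h, Submodule.mem_bot] at h2
    exact h2
  · rcases (IsV.irr ι p hV).2 (Y.comap (Submodule.span k (Set.range x)).subtype) (fun g x hx => hYs g _ hx) with h | h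
    · left
      rw [eq_bot_iff]
      intro y hy
      have h3 : (⟨y, hY hy⟩ : Submodule.span k (Set.range x)) ∈ Y.comap (Submodule.span k (Set.range x)).subtype := hy
      rw [h, Submodule.mem_bot] at h3
      exact (Submodule.mem_bot k).2 (congrArg Subtype.val h3)
    · right
      refine le_antisymm hY fun y hy => ?_
      have h3 : (⟨y, hy⟩ : Submodule.span k (Set.range x)) ∈ Y.comap (Submodule.span k (Set.range x)).subtype := by
        rw [h]; trivial
      exact h3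

theorem top_of : ∀ v ∈ Submodule.span k (Set.range x), (∀ t, Rk f φ (u t) v = v) → ∃ c : k, v = c • x n := by
  obtain ⟨hX, hV⟩ := hx.isV hn hb hx0
  intro v hv hvu
  obtain ⟨m, hm0, -, -, -, huniq⟩ := IsV.hw ι p hV
  obtain ⟨c, hc⟩ := huniq ⟨x n, Submodule.subset_span ⟨n, rfl⟩⟩ (fun t => Subtype.ext (hx.u_top t))
  obtain ⟨d, hd⟩ := huniq ⟨v, hv⟩ (fun t => Subtype.ext (hvu t))
  have hc0 : c ≠ 0 := by
    rintro rfl
    rw [zero_smul] at hc
    exact hx0 (hx.zero_of hn hb le_rfl (congrArg Subtype.val hc))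
  refine ⟨d * c⁻¹, ?_⟩
  have e1 : x n = c • (m : I27 → k) := congrArg Subtype.val hc
  have e2 : v = d • (m : I27 → k) := congrArg Subtype.val hd
  rw [e2, e1, smul_smul, mul_assoc, inv_mul_cancel₀ hc0, mul_one]

theorem ne_of (s : ℕ) (hs : s ≤ n) : x s ≠ 0 := fun h => hx0 (hx.zero_of hn hb hs h)

theorem fin_of [IsAlgClosed k] (hF : Fintype.card K = p ^ a) : finrank k (Submodule.span k (Set.range x)) = n + 1 := by
  obtain ⟨hX, hV⟩ := hx.isV hn hb hx0
  exact hV.dim_single ι hF hn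

end

/-- the fixed space of an element -/
def fixE (f : F →+* k) (g : ↥(chevF4.group F)) : Submodule k (I27 → k) where
  carrier := {x | Jr k (emb hF4 f g) x = x}
  add_mem' := fun {x y} hx hy => by
    show Jr k (emb hF4 f g) (x + y) = x + y
    rw [map_add, show Jr k (emb hF4 f g) x = x from hx, show Jr k (emb hF4 f g) y = y from hy]
  zero_mem' := map_zero _
  smul_mem' := fun c x hx => by
    show Jr k (emb hF4 f g) (c • x) = c • x
    rw [map_smul, show Jr k (emb hF4 f g) x = x from hx]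

theorem mem_fixE {g : ↥(chevF4.group F)} {x : I27 → k} : x ∈ fixE f g ↔ Jr k (emb hF4 f g) x = x := Iff.rfl

theorem fixE_u0 (g : ↥(chevF4.group F)) : u0 k ∈ fixE f g := Jr_u0 _

theorem fixE_cr {g : ↥(chevF4.group F)} : ∀ a ∈ fixE f g, ∀ b ∈ fixE f g, cr a b ∈ fixE f g := by
  intro a ha b hb
  rw [mem_fixE] at ha hb ⊢
  rw [← Jr_cr, ha, hb]

theorem fixE_up {g : ↥(chevF4.group F)} {x : I27 → F} (hx : Jr F g x = x) : (fun i => f (x i)) ∈ fixE f g := by
  rw [mem_fixE, Jr_map, hx]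

theorem threeF (hc : Cfg p a b H φ) (hp5 : 5 ≤ p) : (3 : F) ≠ 0 := by
  classical
  have := hc.charF
  exact three_ne p (by omega)

/-- **the tuples of type `(4, i)`** -/
theorem sub4 (hc : Cfg p a b H φ) [IsAlgClosed k] {i : ℕ} (hi : i < a) (C : F4Hyp ι p (Rk f φ) i) {z : ℕ → I27 → k}
    (hz : TS ι p (Rk f φ) 4 i z) (hzz : tf (z 2) (z 2) ≠ 0) (hus : Us f φ (Submodule.span k (Set.range z))) : False := by
  have hp5 := C.hp5
  have hb : 4 * p ^ i ≤ Fintype.card K - 1 := by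
    have := single_lt p (by omega : 4 < p) hi
    rw [hc.cardK]
    omega
  have hz0 : z ≠ 0 := by
    rintro rfl
    apply hzz
    show tf (0 : I27 → k) 0 = 0
    rw [tf_zero_left]
  obtain ⟨κ', -, x', ν, hν, hx', hS⟩ := rat_of hc hus.sm_mem (n := 4) (by norm_num) (by omega)
    (fun s _ => Submodule.subset_span ⟨s, rfl⟩) (ne_of hz hz0 (by omega) (by norm_num) hb) hz.str
    (top_of hz hz0 (by omega) (by norm_num) hb)
  obtain ⟨g, hg1, hga, hgb⟩ := R2.F4P.common_stab (x' 1) (x' 4)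
  apply hg1
  have hy := hz.smul ν
  obtain ⟨t, ht⟩ := C.exists_t hy
  have ht0 : t ≠ 0 := by
    rintro rfl
    have h1 := C.tf2 hy ht
    have h2 : ν * (ν * tf (z 2) (z 2)) = 6 * 0 := by
      rw [← h1]
      show _ = tf (ν • z 2) (ν • z 2)
      rw [tf_smul_left, tf_smul_right]
    rw [mul_zero] at h2
    exact (mul_ne_zero hν (mul_ne_zero hν hzz)) h2
  have h1 : (ν • z) 1 ∈ fixE f g := by
    show ν • z 1 ∈ fixE f g
    rw [← hx' 1 (by norm_num)]
    exact fixE_up hga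
  have h4 : (ν • z) 4 ∈ fixE f g := by
    show ν • z 4 ∈ fixE f g
    rw [← hx' 4 (by norm_num)]
    exact fixE_up hgb
  have hall := C.gen hy ht ht0 (fixE_u0 g) fixE_cr h1 h4
  have hfix : ∀ x ∈ Submodule.span k (Set.range z), Jr k (emb hF4 f g) x = x := by
    intro x hx
    have h2 : Submodule.span k (Set.range z) ≤ fixE f g := by
      rw [Submodule.span_le]
      rintro _ ⟨s, rfl⟩
      have h3 := (fixE f g).smul_mem ν⁻¹ (hall s)
      have h5 : ν⁻¹ • (ν • z) s = z s := by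
        show ν⁻¹ • ν • z s = z s
        rw [smul_smul, inv_mul_cancel₀ hν, one_smul]
      rwa [h5] at h3
    exact h2 hx
  refine kc_of hc (threeF hc hp5) (B := Submodule.span k (Set.range z)) (fun g hg x hx => hus.mem hc hg hx) (v := x' 3) ?_
    (s := pq (u 1)) ?_ hfix
  · rw [mem_dn, hx' 3 (by norm_num)]
    exact Submodule.smul_mem _ _ (Submodule.subset_span ⟨3, rfl⟩)
  · intro h
    have h2 := hS.u 3 (by norm_num) 1
    rw [RF_apply, h, show 4 - 3 + 1 = 2 by norm_num, Finset.sum_range_succ, Finset.sum_range_one, map_one, pow_zero, mul_one,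
      pow_one, mul_one, Nat.choose_zero_right, Nat.cast_one, one_smul, add_zero, Nat.choose_self, Nat.cast_one,
      one_smul] at h2
    have h3 : x' 4 = 0 := left_eq_add.1 h2
    have h4 := hx' 4 le_rfl
    rw [h3] at h4
    refine smul_ne_zero hν (ne_of hz hz0 (by omega) (by norm_num) hb 4 le_rfl) ?_
    rw [← h4]
    funext i
    exact map_zero f

/-- the span of the products -/
def Bcr (X : Submodule k (I27 → k)) : Submodule k (I27 → k) := Submodule.span k {v | ∃ a ∈ X, ∃ b ∈ X, v = cr a b}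

theorem cr_mem_Bcr {X : Submodule k (I27 → k)} {a b : I27 → k} (ha : a ∈ X) (hb : b ∈ X) : cr a b ∈ Bcr X :=
  Submodule.subset_span ⟨a, ha, b, hb, rfl⟩

theorem Bcr_le {X Y : Submodule k (I27 → k)} (h : ∀ a ∈ X, ∀ b ∈ X, cr a b ∈ Y) : Bcr X ≤ Y := by
  unfold Bcr
  rw [Submodule.span_le]
  rintro _ ⟨a, ha, b, hb, rfl⟩
  exact h a ha b hb

theorem Bcr_span {x : ℕ → I27 → k} {Y : Submodule k (I27 → k)} (h : ∀ s t, cr (x s) (x t) ∈ Y) :
    Bcr (Submodule.span k (Set.range x)) ≤ Y := by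
  refine Bcr_le fun v hv w hw => ?_
  induction hv using Submodule.span_induction with
  | mem v hv =>
    obtain ⟨s, rfl⟩ := hv
    induction hw using Submodule.span_induction with
    | mem w hw =>
      obtain ⟨t, rfl⟩ := hw
      exact h s t
    | zero => rw [cr_zero_right]; exact Y.zero_mem
    | add a b _ _ ha hb => rw [cr_add_right]; exact Y.add_mem ha hb
    | smul c a _ ha => rw [cr_smul_right]; exact Y.smul_mem _ ha
  | zero => rw [cr_zero_left]; exact Y.zero_mem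
  | add a b _ _ ha hb => rw [cr_add_left]; exact Y.add_mem ha hb
  | smul c a _ ha => rw [cr_smul_left]; exact Y.smul_mem _ ha

/-- **the tuples of type `(2, i)`** -/
theorem sub2 (hc : Cfg p a b H φ) [IsAlgClosed k] {i : ℕ} (hi : i < a) (C : Cx ι p a (Rk f φ)) {z : ℕ → I27 → k}
    (hz : TS ι p (Rk f φ) 2 i z) (hz0 : z ≠ 0) (hus : Us f φ (Submodule.span k (Set.range z))) : False := by
  have hp5 := C.hp5
  have h2 := C.two
  have h3 := C.three
  have hb : 2 * p ^ i ≤ Fintype.card K - 1 := C.lt_card (by omega) hi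
  obtain ⟨κ', -, x', ν, hν, hx', hS⟩ := rat_of hc hus.sm_mem (n := 2) (by norm_num) (by omega)
    (fun s _ => Submodule.subset_span ⟨s, rfl⟩) (ne_of hz hz0 (by omega) (by norm_num) hb) hz.str
    (top_of hz hz0 (by omega) (by norm_num) hb)
  have hy := hz.smul ν
  set y := ν • z with hyd
  have hy0 : y ≠ 0 := smul_ne_zero hν hz0
  have hxy : ∀ s ≤ 2, (fun i => f (x' s i)) = y s := hx'
  obtain ⟨c, hcc⟩ := C.exists_c hy
  have hc0 := C.c_ne hi hy hy0 hcc
  obtain ⟨c0', M⟩ := three_MH C.act (by omega) C.seven C.fix hy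
  have ht : (2 : k) ^ 2 ≠ 1 := by
    intro h
    apply h3
    linear_combination h
  have hc0' : c0' ≠ 0 := by
    rintro rfl
    have hw := M.w
    have e0 : (1 : k) • sh (y 0 + y 2) + (-1 : k) • sh (y 0 - y 2) + (-4 : k) • sh (y 1) = (2 * c) • u0 k := by
      rw [mul_smul, ← hcc, sub_eq_add_neg (y 0) (y 2), sh_add, sh_add, show -y 2 = (-1 : k) • y 2 by rw [neg_one_smul],
        sh_smul, cr_smul_right]
      module
    rw [e0, zero_smul] at hw
    exact (mul_ne_zero h2 hc0) ((smul_eq_zero.1 hw).resolve_right u0_ne)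
  -- two generators
  let e' : I27 → F := (-1 : F) • sh (x' 0 - x' 2) + (2 * (-4) : F) • sh (x' 1)
  let f' : I27 → F := (2 : F)⁻¹ • cr (x' 0 - x' 2) (x' 1) + (2 : F)⁻¹ • cr (x' 0 + x' 2) (x' 0 - x' 2)
  obtain ⟨g, hg1, hga, hgb⟩ := R2.F4P.common_stab e' f'
  apply hg1
  have ups : ∀ v : I27 → F, (fun i => f (sh v i)) = sh (fun i => f (v i)) := fun v => (map_sh f v).symm
  have upc : ∀ v w : I27 → F, (fun i => f (cr v w i)) = cr (fun i => f (v i)) (fun i => f (w i)) := fun v w => (map_cr f v w).symm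
  have upa : ∀ v w : I27 → F, (fun i => f ((v + w) i)) = (fun i => f (v i)) + (fun i => f (w i)) := fun v w => by
    funext i
    exact map_add f _ _
  have upm : ∀ v w : I27 → F, (fun i => f ((v - w) i)) = (fun i => f (v i)) - (fun i => f (w i)) := fun v w => by
    funext i
    exact map_sub f _ _
  have m1 : (-1 : k) • sh (y 0 - y 2) + (2 * (-4) : k) • sh (y 1) ∈ fixE f g := by
    have h5 := fixE_up (f := f) hga
    have e : (fun i => f (e' i)) = (-1 : k) • sh (y 0 - y 2) + (2 * (-4) : k) • sh (y 1) := by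
      show (fun i => f (((-1 : F) • sh (x' 0 - x' 2) + (2 * (-4) : F) • sh (x' 1)) i)) = _
      rw [upa, up_smul, up_smul, ups, ups, upm, hxy 0 (by norm_num), hxy 1 (by norm_num), hxy 2 (by norm_num), map_mul,
        map_neg, map_one, map_neg, map_ofNat, map_ofNat]
    rwa [e] at h5
  have m2 : (2 : k)⁻¹ • cr (y 0 - y 2) (y 1) + (2 : k)⁻¹ • cr (y 0 + y 2) (y 0 - y 2) ∈ fixE f g := by
    have h5 := fixE_up (f := f) hgb
    have e : (fun i => f (f' i)) = (2 : k)⁻¹ • cr (y 0 - y 2) (y 1) + (2 : k)⁻¹ • cr (y 0 + y 2) (y 0 - y 2) := by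
      show (fun i => f (((2 : F)⁻¹ • cr (x' 0 - x' 2) (x' 1) + (2 : F)⁻¹ • cr (x' 0 + x' 2) (x' 0 - x' 2)) i)) = _
      rw [upa, up_smul, up_smul, upc, upc, upm, upa, hxy 0 (by norm_num), hxy 1 (by norm_num), hxy 2 (by norm_num), map_inv₀,
        map_ofNat]
    rwa [e] at h5
  obtain ⟨⟨g1, g2, g3⟩, k1, k2, k3⟩ := M.gen h2 h2 ht hc0' (fixE_u0 g) fixE_cr m1 m2
  have hsm : ∀ {c : k} {x : I27 → k}, c ≠ 0 → c • x ∈ fixE f g → x ∈ fixE f g := fun {c x} hc hx => by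
    have := (fixE f g).smul_mem c⁻¹ hx
    rwa [smul_smul, inv_mul_cancel₀ hc, one_smul] at this
  have h4 : (4 : k) ≠ 0 := by
    rw [show (4 : k) = 2 * 2 by norm_num]
    exact mul_ne_zero h2 h2
  have em : y 0 - y 2 = y 0 + (-1 : k) • y 2 := by module
  have s0 : sh (y 0) ∈ fixE f g := by
    have h5 := (fixE f g).add_mem ((fixE f g).smul_mem (4 : k)⁻¹ ((fixE f g).add_mem g1 g2)) ((fixE f g).smul_mem (2 : k)⁻¹ k3)
    have e : (4 : k)⁻¹ • (sh (y 0 + y 2) + sh (y 0 - y 2)) + (2 : k)⁻¹ • (2 : k)⁻¹ • cr (y 0 + y 2) (y 0 - y 2) = sh (y 0) := by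
      rw [em, sh_add, sh_add, sh_smul]
      simp only [cr_add_left, cr_add_right, cr_smul_right, cr_self]
      rw [cr_comm (y 2) (y 0)]
      match_scalars <;> field_simp <;> ring
    rwa [e] at h5
  have s2 : sh (y 2) ∈ fixE f g := by
    have h5 := (fixE f g).sub_mem ((fixE f g).smul_mem (4 : k)⁻¹ ((fixE f g).add_mem g1 g2)) ((fixE f g).smul_mem (2 : k)⁻¹ k3)
    have e : (4 : k)⁻¹ • (sh (y 0 + y 2) + sh (y 0 - y 2)) - (2 : k)⁻¹ • (2 : k)⁻¹ • cr (y 0 + y 2) (y 0 - y 2) = sh (y 2) := by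
      rw [em, sh_add, sh_add, sh_smul]
      simp only [cr_add_left, cr_add_right, cr_smul_right, cr_self]
      rw [cr_comm (y 2) (y 0)]
      match_scalars <;> field_simp <;> ring
    rwa [e] at h5
  have s02 : cr (y 0) (y 2) ∈ fixE f g := by
    have h5 := (fixE f g).smul_mem (2 : k)⁻¹ ((fixE f g).sub_mem g1 g2)
    have e : (2 : k)⁻¹ • (sh (y 0 + y 2) - sh (y 0 - y 2)) = cr (y 0) (y 2) := by
      rw [em, sh_add, sh_add, sh_smul, cr_smul_right]
      match_scalars <;> field_simp <;> ring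
    rwa [e] at h5
  have s01 : cr (y 0) (y 1) ∈ fixE f g := by
    have h5 := (fixE f g).add_mem k1 k2
    have e : (2 : k)⁻¹ • cr (y 0 - y 2) (y 1) + (2 : k)⁻¹ • cr (y 0 + y 2) (y 1) = cr (y 0) (y 1) := by
      rw [em]
      simp only [cr_add_left, cr_smul_left]
      match_scalars <;> field_simp <;> ring
    rwa [e] at h5
  have s12 : cr (y 1) (y 2) ∈ fixE f g := by
    have h5 := (fixE f g).sub_mem k2 k1
    have e : (2 : k)⁻¹ • cr (y 0 + y 2) (y 1) - (2 : k)⁻¹ • cr (y 0 - y 2) (y 1) = cr (y 1) (y 2) := by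
      rw [em]
      simp only [cr_add_left, cr_smul_left]
      rw [cr_comm (y 2) (y 1)]
      match_scalars <;> field_simp <;> ring
    rwa [e] at h5
  have sall : ∀ s t, cr (y s) (y t) ∈ fixE f g := by
    intro s t
    by_cases hs : 2 < s
    · rw [hy.zero s hs, cr_zero_left]
      exact Submodule.zero_mem _
    by_cases ht : 2 < t
    · rw [hy.zero t ht, cr_zero_right]
      exact Submodule.zero_mem _
    have hs' : s = 0 ∨ s = 1 ∨ s = 2 := by omega
    have ht' : t = 0 ∨ t = 1 ∨ t = 2 := by omega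
    rcases hs' with rfl | rfl | rfl <;> rcases ht' with rfl | rfl | rfl
    · rw [cr_self]; exact Submodule.smul_mem _ _ s0
    · exact s01
    · exact s02
    · rw [cr_comm]; exact s01
    · rw [cr_self]; exact Submodule.smul_mem _ _ g3
    · exact s12
    · rw [cr_comm]; exact s02
    · rw [cr_comm]; exact s12
    · rw [cr_self]; exact Submodule.smul_mem _ _ s2
  have hspan : Submodule.span k (Set.range z) = Submodule.span k (Set.range y) := by
    apply le_antisymm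
    · rw [Submodule.span_le]
      rintro _ ⟨s, rfl⟩
      have h5 : z s = ν⁻¹ • y s := by
        show z s = ν⁻¹ • ν • z s
        rw [smul_smul, inv_mul_cancel₀ hν, one_smul]
      rw [h5]
      exact Submodule.smul_mem _ _ (Submodule.subset_span ⟨s, rfl⟩)
    · rw [Submodule.span_le]
      rintro _ ⟨s, rfl⟩
      exact Submodule.smul_mem _ _ (Submodule.subset_span ⟨s, rfl⟩)
  have hmem : ∀ g ∈ H, ∀ x ∈ Submodule.span k (Set.range y), Jr k (emb hF4 f g) x ∈ Submodule.span k (Set.range y) := by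
    intro g hg x hx
    rw [← hspan] at hx ⊢
    exact hus.mem hc hg hx
  set B := Bcr (Submodule.span k (Set.range y)) with hBd
  have hBfix : ∀ x ∈ B, Jr k (emb hF4 f g) x = x := fun x hx => Bcr_span sall hx
  have hBst : ∀ g ∈ H, ∀ x ∈ B, Jr k (emb hF4 f g) x ∈ B := by
    intro g hg
    have h5 : B ≤ B.comap (Jr k (emb hF4 f g)) := by
      refine Bcr_le fun a ha b hb => ?_
      show Jr k (emb hF4 f g) (cr a b) ∈ B
      rw [← Jr_cr]
      exact cr_mem_Bcr (hmem g hg a ha) (hmem g hg b hb)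
    exact h5
  by_contra hgne
  have hL : ∀ (s : ProjectiveSpecialLinearGroup (Fin 2) K) (v : I27 → F), v ∈ dn f B → Jr F (φ s) v = v := by
    intro s v hv
    by_contra hne
    exact hgne (kc_of hc (threeF hc hp5) hBst hv hne hBfix)
  have hcrs : ∀ s ≤ 2, ∀ t ≤ 2, ∃ d : k, cr (y s) (y t) = d • u0 k := by
    intro s hs t ht
    refine C.fix _ fun r => ?_
    have h5 : cr (x' s) (x' t) ∈ dn f B := by
      rw [mem_dn, upc, hxy s hs, hxy t ht]
      exact cr_mem_Bcr (Submodule.subset_span ⟨s, rfl⟩) (Submodule.subset_span ⟨t, rfl⟩)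
    have h6 := hL (pq r) _ h5
    have h7 := up_RF (f := f) (φ := φ) r (cr (x' s) (x' t))
    rw [RF_apply, h6, upc, hxy s hs, hxy t ht] at h7
    exact h7.symm
  refine hy0 (C.ts_white (by omega) hi hy fun b => ?_)
  set m := ∑ s ∈ Finset.range (2 + 1), b s • y s with hm
  have hN : cubicT m = 0 := by
    have h5 := three_N C.act (by omega) C.seven hy (b 0) (b 1) (b 2)
    rw [hm]
    simp only [Finset.sum_range_succ, Finset.sum_range_zero, zero_add]
    exact h5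
  obtain ⟨d, hd⟩ : ∃ d : k, sh m = d • u0 k := by
    obtain ⟨d00, h00⟩ := hcrs 0 (by norm_num) 0 (by norm_num)
    obtain ⟨d11, h11⟩ := hcrs 1 (by norm_num) 1 (by norm_num)
    obtain ⟨d22, h22⟩ := hcrs 2 (by norm_num) 2 (by norm_num)
    obtain ⟨d01, h01⟩ := hcrs 0 (by norm_num) 1 (by norm_num)
    obtain ⟨d02, h02⟩ := hcrs 0 (by norm_num) 2 (by norm_num)
    obtain ⟨d12, h12⟩ := hcrs 1 (by norm_num) 2 (by norm_num)
    have half : ∀ {v : I27 → k} {d : k}, cr v v = d • u0 k → sh v = (2⁻¹ * d) • u0 k := fun {v d} h => by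
      rw [cr_self] at h
      rw [mul_smul, ← h, smul_smul, inv_mul_cancel₀ h2, one_smul]
    refine ⟨b 0 ^ 2 * (2⁻¹ * d00) + b 1 ^ 2 * (2⁻¹ * d11) + b 2 ^ 2 * (2⁻¹ * d22) + b 0 * b 1 * d01 + b 0 * b 2 * d02 +
      b 1 * b 2 * d12, ?_⟩
    rw [hm]
    simp only [Finset.sum_range_succ, Finset.sum_range_zero, zero_add]
    rw [sh_add3]
    simp only [sh_smul, cr_smul_left, cr_smul_right]
    rw [half h00, half h11, half h22, h01, h02, h12]
    module
  have h5 := sh_sh m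
  rw [hN, zero_smul, hd, sh_smul, sh_u0] at h5
  have h6 : d = 0 := by
    have := (smul_eq_zero.1 h5).resolve_right u0_ne
    exact pow_eq_zero_iff (by norm_num) |>.1 this
  rw [hd, h6, zero_smul]

end Cfsg.Agent.R2.F4L
end
end

-- part: R2/F4L/SubD
section
set_option linter.all false
open scoped Cfsg.Agent.FastGrp

/-!
# SUB6, III (helper2, S5931)

* `iso4` : if `z` of type `(4, i)` is not isotropic and `x_4 ^ # = 0`, the tuples of type `(4, l)`, `l ≠ i`, are isotropic;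
* `no4` : `V_{4 p^i}` is not in the socle if the highest weight vectors are white;
* `no2` : `V_{2 p^i}` is not in the socle.
-/

set_option autoImplicit false
set_option linter.unusedSectionVars false
set_option linter.unusedVariables false

namespace Cfsg.Agent.R2.F4L

open Cfsg Cfsg.Lie Module Matrix
open Cfsg.Agent.ChevalleyStructure.E6Min.Basic
open Cfsg.Agent.H952.F4 (sh cr tf tr1 u0 hF4)
open Cfsg.Agent.H952.F4.Jord
open Cfsg.Agent.H952.F4.FixV (W0 mem_W0 finrank_W0 u0_ne_zero tr1_eq)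
open Cfsg.Agent.R2.H9.E6
open Cfsg.Agent.GpExc.Field (emb)
open Cfsg.Agent.H943.SL2Rel Cfsg.Agent.H943.SL2Mod
open Cfsg.Agent.R2.H28.SL2 Cfsg.Agent.H943.RepAdd
open Cfsg.Agent.R2.F4M Cfsg.Agent.R2.F4N

universe u v w

section Gen

variable {k : Type u} [Field k] [DecidableEq k] {K : Type w} [Field K] [Fintype K] [DecidableEq K] {ι : K →+* k}
variable {p : ℕ} [Fact p.Prime] [CharP k p] [CharP K p] {a : ℕ}

theorem tuple_of_isV {V : Type*} [AddCommGroup V] [Module k V] {σ : Representation k (_root_.Matrix.SpecialLinearGroup (Fin 2) K) V}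
    {n i : ℕ} (hn : n < p) {X : Submodule k V} {hX : ∀ g, ∀ x ∈ X, σ g x ∈ X} (hV : IsV ι p (subRep σ X hX) (n * p ^ i)) :
    ∃ x : ℕ → V, TS ι p σ n i x ∧ X = Submodule.span k (Set.range x) ∧ ∀ s ≤ n, x s ≠ 0 := by
  obtain ⟨v, hv⟩ := IsV.basS ι p hn hV
  have h1 : TS ι p σ n i (fun s => (v s : V)) := BasS.ts hv
  refine ⟨fun s => (v s : V), h1, le_antisymm (fun y hy => ?_) ?_, fun s hs h => ?_⟩
  · have h2 : (⟨y, hy⟩ : X) ∈ Submodule.span k (Set.range fun s : Fin (n + 1) => v s) := hv.sp trivial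
    have h3 := Submodule.mem_map_of_mem (f := X.subtype) h2
    rw [Submodule.map_span] at h3
    refine Submodule.span_mono ?_ h3
    rintro _ ⟨_, ⟨s, rfl⟩, rfl⟩
    exact ⟨s, rfl⟩
  · rw [Submodule.span_le]
    rintro _ ⟨s, rfl⟩
    exact (v s).2
  · exact hv.li.ne_zero (⟨s, Nat.lt_succ_iff.2 hs⟩ : Fin (n + 1)) (Subtype.ext h)

variable [IsAlgClosed k]
variable {ρ : Representation k (_root_.Matrix.SpecialLinearGroup (Fin 2) K) (I27 → k)}
variable {V : Type v} [AddCommGroup V] [Module k V] [FiniteDimensional k V]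
  {σ : Representation k (_root_.Matrix.SpecialLinearGroup (Fin 2) K) V} {j : V →ₗ[k] (I27 → k)}

/-- **the other positions are isotropic** -/
theorem Cx.iso4 (C : Cx ι p a ρ) (E : Em ρ σ j) (h26 : finrank k V = 26) {i l : ℕ} (hi : i < a) (hl : l < a)
    (hil : i ≠ l) (hF : F4Hyp ι p ρ i) {z x : ℕ → I27 → k} (hz : TS ι p ρ 4 i z) (hzz : tf (z 2) (z 2) ≠ 0)
    (hx : TS ι p ρ 4 l x) : tf (x 2) (x 2) = 0 := by
  have hp5 := C.hp5
  have h2 := C.two
  have h3 := C.three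
  have hz0 : z ≠ 0 := by
    rintro rfl
    apply hzz
    show tf (0 : I27 → k) 0 = 0
    rw [tf_zero_left]
  have h4i := (C.inSoc_of E (by omega) (by norm_num) hi hz hz0).mem_cf
  have hno := C.big44 h26 hil hi hl h4i (by rw [card_Bf_single' (by omega) C hi]; norm_num) (by
    rw [card_Bf_single' (by omega) C hi]; norm_num)
  have hne : 4 * p ^ i ≠ 4 * p ^ l := fun h => hil (Nat.pow_right_injective (by omega : 2 ≤ p) (by
    exact Nat.eq_of_mul_eq_mul_left (by norm_num) h))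
  have mz : z 2 ∈ Submodule.span k (Set.range z) := Submodule.subset_span (Set.mem_range_self 2)
  have mx : x 2 ∈ Submodule.span k (Set.range x) := Submodule.subset_span (Set.mem_range_self 2)
  have o := C.orth E (by omega) (by omega) (by norm_num) (by norm_num) hi hl hne hz hx _ mz _ mx
  have q := C.prod0 E (by omega) (by omega) (by norm_num) (by norm_num) hi hl hil hno hz hx _ mz _ mx
  have tz := ts_tr C.act (by omega) (by norm_num) (C.lt_card (n := 4) (by omega) hi) hz 2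
  have tx := ts_tr C.act (by omega) (by norm_num) (C.lt_card (n := 4) (by omega) hl) hx 2
  obtain ⟨t, ht⟩ := hF.exists_t hz
  have hT := hF.tf2 hz ht
  have ht0 : t ≠ 0 := by
    rintro rfl
    rw [mul_zero] at hT
    exact hzz hT
  obtain ⟨ν, hν, -⟩ := hF.scalar hz ht ht0
  have hsh := hF.sh2 hz ht
  have hst : R2.H1.F4.st (z 2) (z 2) = (2 * ν) • z 2 := by
    unfold R2.H1.F4.st
    rw [cr_self, hsh, hT, hν]
    show (2 : k) • (ν • z 2 - t • u0 k) + (6 * t / 3) • u0 k = (2 * ν) • z 2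
    match_scalars <;> field_simp <;> ring
  have e4 := R2.H1.F4.four h2 h3 tz tz tx tx
  rw [q, hst, tf_smul_left, ← R2.H1.F4.tf_st_rot tz tx, q, o, tf_zero_left] at e4
  have h5 : tf (z 2) (z 2) * tf (x 2) (x 2) = 0 := by
    have h23 : (2 / 3 : k) ≠ 0 := div_ne_zero h2 h3
    have z0 : tf (0 : I27 → k) 0 = 0 := tf_zero_left 0
    have : (2 / 3 : k) * (tf (z 2) (z 2) * tf (x 2) (x 2)) = 0 := by linear_combination 2 * z0 - e4
    exact (mul_eq_zero.1 this).resolve_left h23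
  exact (mul_eq_zero.1 h5).resolve_left hzz

end Gen

section cfg

variable {F : Type u} [Field F] [Fintype F] {K : Type v} [Field K] [Fintype K] [DecidableEq K] {p a b : ℕ}
variable {H : Subgroup ↥(chevF4.group F)} {φ : ProjectiveSpecialLinearGroup (Fin 2) K →* ↥(chevF4.group F)}
variable {k : Type u} [Field k] [DecidableEq k] {f : F →+* k} {ι : K →+* k} [Fact p.Prime] [CharP k p] [CharP K p]
variable [IsAlgClosed k]

/-- labels of irreducible submodules -/
theorem isV_of_ir (hc : _root_.Cfsg.Agent.R2.F4M.Cfg p a b H φ) {Y : Submodule k (I27 → k)} (hY : Ir f φ Y) :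
    ∃ c, IsV ι p (subRep (Rk f φ) Y hY.st) c ∧ finrank k Y = (Bf k c).card := by
  obtain ⟨c, hcV⟩ := (Sy.{u, u, v} ι p).ex (subRep (Rk f φ) Y hY.st) (irr_of_min (Rk f φ) hY.st hY.ne fun W hW hWs => hY.ir W hW hWs)
  obtain ⟨-, -, -, -, -, -, h5, -⟩ := IsV.hw2 ι p hcV
  exact ⟨c, hcV, h5⟩

theorem pos_lt (hc : _root_.Cfsg.Agent.R2.F4M.Cfg p a b H φ) {n l : ℕ} (hn : 1 ≤ n) (h : n * p ^ l ≤ Fintype.card K - 1) : l < a := by
  have hp := hc.prime
  by_contra hl
  have h1 : p ^ a ≤ p ^ l := Nat.pow_le_pow_right hp.pos (by omega)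
  have h2 : p ^ l ≤ n * p ^ l := Nat.le_mul_of_pos_left _ hn
  have h3 : 0 < p ^ a := Nat.pow_pos hp.pos
  rw [hc.cardK] at h
  omega

/-- **`V_{4 p^i}` with white highest weight vectors** -/
theorem no4 (hc : _root_.Cfsg.Agent.R2.F4M.Cfg p a b H φ) (C : Cx ι p a (Rk f φ)) (hQ : 11 ≤ Fintype.card K) {i : ℕ} (hi : i < a)
    (hv : ∀ y, TS ι p (Rk f φ) 4 i y → sh (y 4) = 0)
    (hcount : (cf (Sy.{u, u, v} ι p) (R0 f φ)).count (4 * p ^ i) ≤ 3) : ¬ InSoc ι p (R0 f φ) (4 * p ^ i) := by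
  intro h
  have hp5 := C.hp5
  have hb := C.lt_card (n := 4) (i := i) (by omega) hi
  have hF := C.f4 hQ hv
  obtain ⟨z, hz, hzz, hall⟩ := C.dead4 emW hQ hi hv hcount h
  have hz0 : z ≠ 0 := by
    rintro rfl
    apply hzz
    show tf (0 : I27 → k) 0 = 0
    rw [tf_zero_left]
  refine sub4 hc hi hF hz hzz ⟨ir_of hz hz0 (by omega) (by norm_num) hb, ⟨z 2, Submodule.subset_span ⟨2, rfl⟩, z 2,
    Submodule.subset_span ⟨2, rfl⟩, hzz⟩, fun Y hY hdim hns => ?_⟩
  rw [fin_of hz hz0 (by omega) (by norm_num) hb hc.cardK] at hdim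
  obtain ⟨c, hcV, hcd⟩ := isV_of_ir (ι := ι) hc hY
  rw [hdim] at hcd
  obtain ⟨l, rfl⟩ := card_five hp5 c hcd.symm
  obtain ⟨x, hx, hYx, hne⟩ := tuple_of_isV (by omega : 4 < p) hcV
  have hl : l < a := pos_lt hc (by norm_num) hcV.choose
  have hx0 : x ≠ 0 := fun h => hne 0 (by norm_num) (by rw [h]; rfl)
  by_cases hil : i = l
  · subst hil
    obtain ⟨d, hd⟩ := hall x hx
    have hd0 : d ≠ 0 := by
      rintro rfl
      apply hx0
      rw [hd, zero_smul]
    rw [hYx, hd]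
    apply le_antisymm
    · rw [Submodule.span_le]
      rintro _ ⟨s, rfl⟩
      exact Submodule.smul_mem _ _ (Submodule.subset_span ⟨s, rfl⟩)
    · rw [Submodule.span_le]
      rintro _ ⟨s, rfl⟩
      have h5 : z s = d⁻¹ • (d • z) s := by
        show z s = d⁻¹ • d • z s
        rw [smul_smul, inv_mul_cancel₀ hd0, one_smul]
      rw [h5]
      exact Submodule.smul_mem _ _ (Submodule.subset_span ⟨s, rfl⟩)
  · exfalso
    have h5 := C.iso4 emW finrank_W0 hi hl hil hF hz hzz hx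
    obtain ⟨v, hv, w, hw, hvw⟩ := hns
    rw [hYx] at hv hw
    apply hvw
    have h6 := ts4_orth C.act hp5 hQ hx hx h5
    induction hv using Submodule.span_induction with
    | mem v hv =>
      obtain ⟨s, rfl⟩ := hv
      clear hvw
      induction hw using Submodule.span_induction with
      | mem w hw =>
        obtain ⟨t, rfl⟩ := hw
        exact h6 s t
      | zero => rw [tf_comm, tf_zero_left]
      | add a b _ _ ha hb => rw [tf_add_right, ha, hb, add_zero]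
      | smul c a _ ha => rw [tf_smul_right, ha, mul_zero]
    | zero => exact tf_zero_left _
    | add a b _ _ ha hb =>
      rw [tf_add_left]
      by_cases h1 : tf a w = 0
      · by_cases h2 : tf b w = 0
        · rw [h1, h2, add_zero]
        · exact absurd (hb h2) h2
      · exact absurd (ha h1) h1
    | smul c a _ ha =>
      rw [tf_smul_left]
      by_cases h1 : tf a w = 0
      · rw [h1, mul_zero]
      · exact absurd (ha h1) h1

/-- **`V_{2 p^i}`** -/
theorem no2 (hc : _root_.Cfsg.Agent.R2.F4M.Cfg p a b H φ) (C : Cx ι p a (Rk f φ)) {i : ℕ} (hi : i < a) : ¬ InSoc ι p (R0 f φ) (2 * p ^ i) := by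
  intro h
  have hp5 := C.hp5
  have hb := C.lt_card (n := 2) (i := i) (by omega) hi
  obtain ⟨X, hX, hV⟩ := h
  obtain ⟨x', hx', hz, -, -, hne⟩ := ts_of_isV (emW (f := f) (φ := φ) (k := k)) (by omega : 2 < p) hV
  set z : ℕ → I27 → k := fun s => (W0 k).subtype (x' s) with hzd
  have hz0 : z ≠ 0 := by
    intro h
    apply hne 0 (by norm_num)
    have h1 : z 0 = 0 := by rw [h]; rfl
    exact Subtype.ext h1
  have hns : ∃ v ∈ Submodule.span k (Set.range z), ∃ w ∈ Submodule.span k (Set.range z), tf v w ≠ 0 := by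
    by_contra hcon
    push Not at hcon
    have m : ∀ s, z s ∈ Submodule.span k (Set.range z) := fun s => Submodule.subset_span ⟨s, rfl⟩
    apply C.form2 hi hz hz0
    rw [hcon _ (m 1) _ (m 1), hcon _ (m 0) _ (m 2), sub_zero]
  refine sub2 hc hi C hz hz0 ⟨ir_of hz hz0 (by omega) (by norm_num) hb, hns, fun Y hY hdim _ => ?_⟩
  rw [fin_of hz hz0 (by omega) (by norm_num) hb hc.cardK] at hdim
  obtain ⟨c, hcV, hcd⟩ := isV_of_ir (ι := ι) hc hY
  rw [hdim] at hcd
  obtain ⟨-, l, rfl⟩ := (card_cases k p (by omega) c).2.2.1 hcd.symm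
  obtain ⟨x, hx, hYx, hne'⟩ := tuple_of_isV (by omega : 2 < p) hcV
  have hl : l < a := pos_lt hc (by norm_num) hcV.choose
  have hx0 : x ≠ 0 := fun h => hne' 0 (by norm_num) (by rw [h]; rfl)
  by_cases hil : i = l
  · subst hil
    obtain ⟨d, hd⟩ := C.uniq2 hi hz hz0 hx
    have hd0 : d ≠ 0 := by
      rintro rfl
      apply hx0
      rw [hd, zero_smul]
    rw [hYx, hd]
    apply le_antisymm
    · rw [Submodule.span_le]
      rintro _ ⟨s, rfl⟩
      exact Submodule.smul_mem _ _ (Submodule.subset_span ⟨s, rfl⟩)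
    · rw [Submodule.span_le]
      rintro _ ⟨s, rfl⟩
      have h5 : z s = d⁻¹ • (d • z) s := by
        show z s = d⁻¹ • d • z s
        rw [smul_smul, inv_mul_cancel₀ hd0, one_smul]
      rw [h5]
      exact Submodule.smul_mem _ _ (Submodule.subset_span ⟨s, rfl⟩)
  · exact (C.pair2 emW finrank_W0 hi hl hil hz hz0 hx hx0).elim

end cfg

end Cfsg.Agent.R2.F4L
end

section
prune_inst 0xfffffbbbfff3ffdfff7e7fafdefdfc3b931fffa6dff94bffe0ebff1b3f139849e56fad0de0b0fe0ed7e21410a87853fb7eeeffea6bdc7ffffd5ff41ffbee6ff5f7b50851d48c340f380ffe03f0778e7f000000000000000000000000000000000200000000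

-- part: R2/F4L/RuA
section
prune_inst 0x4400000000000000000000001c06ca0000020048000000000a080680284000000820a4100112008a80040030000811000000420000000a00000001180080000012008008a000000000000080000000000000000000000000000000000004000000000
set_option linter.all false
open scoped Cfsg.Agent.FastGrp

-- part: R2/F4L/Wey
section
/-!
# Images of Weyl modules and the square of a tuple of type `(4, i)` (helper2, S5931)

* `WT ι p ρ n i z` : `z 0, …, z n` transform like the divided power basis of the Weyl module of highest weight `n p ^ i`;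
* `wt_of_bot`; `WT.span_st` : the span is stable; `WT.gen` : it is generated by `z n`;
* `Ds x` : the tuple `D_m = ∑ C(4,a) C(4,b) x_a * x_b`, `a + b = m`; `wt_Ds`.
-/

set_option autoImplicit false
set_option linter.unusedSectionVars false
set_option linter.unusedVariables false

namespace Cfsg.Agent.R2.F4L

open Cfsg.Lie
open Cfsg.Agent.ChevalleyStructure.E6Min.Tables Cfsg.Agent.ChevalleyStructure.E6Min.Basic
open Cfsg.Agent.H952.F4 (sh cr tf tr1 u0)
open Cfsg.Agent.H952.F4.Jord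
open Cfsg.Agent.H943.SL2Rel Cfsg.Agent.H943.SL2Mod Cfsg.Agent.R2.H28.SL2 Cfsg.Agent.H943.RepAdd

universe u v w

variable {k : Type u} [Field k] [DecidableEq k] {K : Type w} [Field K] [Fintype K] [DecidableEq K] {ι : K →+* k}
variable {p : ℕ} [Fact p.Prime] [CharP k p] [CharP K p] {a : ℕ}

section Gen

variable {V : Type v} [AddCommGroup V] [Module k V] {ρ : Representation k (Matrix.SpecialLinearGroup (Fin 2) K) V}
variable {n i : ℕ} {z : ℕ → V}

/-- the image of the divided power basis of a Weyl module -/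
structure WT (ι : K →+* k) (p : ℕ) (ρ : Representation k (Matrix.SpecialLinearGroup (Fin 2) K) V) (n i : ℕ) (z : ℕ → V) :
    Prop where
  zero : ∀ s, n < s → z s = 0
  u : ∀ s ≤ n, ∀ t, ρ (u t) (z s) =
    ∑ j ∈ Finset.range (n - s + 1), (((s + j).choose s : k) * (ι t ^ p ^ i) ^ j) • z (s + j)
  h : ∀ s ≤ n, ∀ a : Kˣ, ρ (h a) (z s) = ((ι a ^ p ^ i) ^ s * ((ι a ^ p ^ i)⁻¹) ^ (n - s)) • z s
  w : ∀ s ≤ n, ρ w (z s) = (-1 : k) ^ s • z (n - s)

/-- the binomial expansion with vector coefficients -/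
theorem binom_vec' (A τ : k) (z : ℕ → V) (n : ℕ) :
    ∑ m ∈ Finset.range (n + 1), ((A + τ) ^ m) • z m =
      ∑ s ∈ Finset.range (n + 1), A ^ s • ∑ j ∈ Finset.range (n - s + 1), (((s + j).choose s : k) * τ ^ j) • z (s + j) := by
  have h1 : ∀ m ∈ Finset.range (n + 1), ((A + τ) ^ m) • z m =
      ∑ s ∈ Finset.range (n + 1), (A ^ s * τ ^ (m - s) * (m.choose s : k)) • z m := by
    intro m hm
    rw [Finset.mem_range] at hm
    rw [add_pow, Finset.sum_smul]
    have hsub : Finset.range (m + 1) ⊆ Finset.range (n + 1) := Finset.range_mono (by omega)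
    rw [← Finset.sum_subset hsub (f := fun s => (A ^ s * τ ^ (m - s) * (m.choose s : k)) • z m)]
    intro s _ hs
    rw [Finset.mem_range] at hs
    show (A ^ s * τ ^ (m - s) * (m.choose s : k)) • z m = 0
    rw [Nat.choose_eq_zero_of_lt (by omega)]
    simp only [_root_.Nat.cast_zero, _root_.MulZeroClass.mul_zero, _root_.zero_smul]
  rw [Finset.sum_congr rfl h1, Finset.sum_comm]
  refine Finset.sum_congr rfl fun s hs => ?_
  rw [Finset.mem_range] at hs
  rw [Finset.smul_sum]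
  have h2 : Finset.range (n + 1) = Finset.range (s + (n - s + 1)) := by
    congr 1
    omega
  rw [h2, Finset.sum_range_add]
  rw [Finset.sum_eq_zero (s := Finset.range s), zero_add]
  · refine Finset.sum_congr rfl fun j hj => ?_
    rw [smul_smul, Nat.add_sub_cancel_left]
    congr 1
    ring
  · intro m hm
    rw [Finset.mem_range] at hm
    rw [Nat.choose_eq_zero_of_lt hm]
    simp only [_root_.Nat.cast_zero, _root_.MulZeroClass.mul_zero, _root_.zero_smul]

/-- construction from the lowest weight vector -/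
theorem wt_of_bot (hn : n < Fintype.card K) (hz : ∀ s, n < s → z s = 0)
    (hu : ∀ t, ρ (u t) (z 0) = ∑ m ∈ Finset.range (n + 1), ((ι t ^ p ^ i) ^ m) • z m)
    (hh : ∀ b : Kˣ, ρ (h b) (z 0) = (((ι b ^ p ^ i)⁻¹) ^ n) • z 0)
    (hw : ∀ s ≤ n, ρ w (z s) = (-1 : k) ^ s • z (n - s)) : WT ι p ρ n i z := by
  refine ⟨hz, fun s hs t => ?_, fun s hs b => ?_, hw⟩
  · have h1 : ∀ r : K, ∑ s ∈ Finset.range (n + 1), (ι r ^ p ^ i) ^ s • (ρ (u t) (z s) -
        ∑ j ∈ Finset.range (n - s + 1), (((s + j).choose s : k) * (ι t ^ p ^ i) ^ j) • z (s + j)) = 0 := by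
      intro r
      have h2 : ρ (Cfsg.Agent.H943.SL2Rel.u t) (ρ (Cfsg.Agent.H943.SL2Rel.u r) (z 0)) = ρ (Cfsg.Agent.H943.SL2Rel.u (r + t)) (z 0) := by
        rw [add_comm, u_add, map_mul, Module.End.mul_apply]
      rw [hu r, hu (r + t), iota_add, binom_vec', map_sum] at h2
      simp only [smul_sub, Finset.sum_sub_distrib]
      rw [sub_eq_zero, ← h2]
      exact Finset.sum_congr rfl fun s _ => by rw [map_smul]
    have h2 := poly0 ι (by omega) p i h1 s (by omega)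
    exact sub_eq_zero.1 h2
  · have hb0 : ι (b : K) ^ p ^ i ≠ 0 := pow_ne_zero _ ((map_ne_zero ι).2 b.ne_zero)
    have h1 : ∀ r : K, ∑ s ∈ Finset.range (n + 1), (ι r ^ p ^ i) ^ s • (ρ (Cfsg.Agent.H943.SL2Rel.h b) (z s) -
        ((ι b ^ p ^ i) ^ s * ((ι b ^ p ^ i)⁻¹) ^ (n - s)) • z s) = 0 := by
      intro r
      have h2 : ρ (Cfsg.Agent.H943.SL2Rel.h b) (ρ (Cfsg.Agent.H943.SL2Rel.u r) (z 0)) =
          ρ (Cfsg.Agent.H943.SL2Rel.u ((b : K) ^ 2 * r)) (ρ (Cfsg.Agent.H943.SL2Rel.h b) (z 0)) := by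
        rw [← Module.End.mul_apply, ← Module.End.mul_apply, ← map_mul, ← map_mul, h_u]
      rw [hh, map_smul, hu, hu, map_sum, Finset.smul_sum] at h2
      simp only [smul_sub, Finset.sum_sub_distrib]
      rw [sub_eq_zero]
      refine Eq.trans (Finset.sum_congr rfl fun s _ => ?_) (h2.trans (Finset.sum_congr rfl fun s hs => ?_))
      · rw [map_smul]
      · rw [Finset.mem_range] at hs
        rw [smul_smul, smul_smul]
        congr 1
        rw [map_mul, map_pow, mul_pow, ← pow_mul, ← pow_mul, mul_pow, ← pow_mul]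
        have h3 : ((ι b ^ p ^ i)⁻¹) ^ n * ι b ^ (2 * p ^ i * s) = (ι b ^ p ^ i) ^ s * ((ι b ^ p ^ i)⁻¹) ^ (n - s) := by
          have e1 : ((ι (b : K) ^ p ^ i)⁻¹) ^ n = ((ι b ^ p ^ i)⁻¹) ^ s * ((ι b ^ p ^ i)⁻¹) ^ (n - s) := by
            rw [← pow_add]
            congr 1
            omega
          have e2 : ι (b : K) ^ (2 * p ^ i * s) = (ι b ^ p ^ i) ^ s * (ι b ^ p ^ i) ^ s := by
            rw [← pow_add, ← pow_mul]
            congr 1
            ring
          have e3 : ((ι (b : K) ^ p ^ i)⁻¹) ^ s * (ι b ^ p ^ i) ^ s = 1 := by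
            rw [← mul_pow, inv_mul_cancel₀ hb0, one_pow]
          rw [e1, e2]
          calc ((ι (b : K) ^ p ^ i)⁻¹) ^ s * ((ι b ^ p ^ i)⁻¹) ^ (n - s) * ((ι b ^ p ^ i) ^ s * (ι b ^ p ^ i) ^ s)
              = (((ι (b : K) ^ p ^ i)⁻¹) ^ s * (ι b ^ p ^ i) ^ s) * ((ι b ^ p ^ i) ^ s * ((ι b ^ p ^ i)⁻¹) ^ (n - s)) := by ring
            _ = _ := by rw [e3, one_mul]
        rw [← h3]
        ring
    have h2 := poly0 ι (by omega) p i h1 s (by omega)
    exact sub_eq_zero.1 h2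

theorem WT.h' (hz : WT ι p ρ n i z) {s : ℕ} (hs : s ≤ n) (b : Kˣ) :
    ρ (Cfsg.Agent.H943.SL2Rel.h b) (z s) = ((ι b ^ p ^ i) ^ (2 * (s : ℤ) - n)) • z s := by
  rw [hz.h s hs b, pow_wt _ hs]
  exact pow_ne_zero _ ((map_ne_zero ι).2 b.ne_zero)

theorem WT.u_top (hz : WT ι p ρ n i z) (t : K) : ρ (Cfsg.Agent.H943.SL2Rel.u t) (z n) = z n := by
  rw [hz.u n le_rfl t, Nat.sub_self, Finset.sum_range_one, add_zero, Nat.choose_self, Nat.cast_one, pow_zero, mul_one,
    one_smul]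

theorem WT.u_bot (hz : WT ι p ρ n i z) (t : K) :
    ρ (Cfsg.Agent.H943.SL2Rel.u t) (z 0) = ∑ m ∈ Finset.range (n + 1), ((ι t ^ p ^ i) ^ m) • z m := by
  rw [hz.u 0 (Nat.zero_le _) t, Nat.sub_zero]
  refine Finset.sum_congr rfl fun m _ => ?_
  rw [Nat.choose_zero_right, Nat.cast_one, one_mul, zero_add]

/-- the span is stable -/
theorem WT.span_st (hz : WT ι p ρ n i z) : ∀ g, ∀ x ∈ Submodule.span k (Set.range z), ρ g x ∈ Submodule.span k (Set.range z) := by
  have key : ∀ g, (∀ s ≤ n, ρ g (z s) ∈ Submodule.span k (Set.range z)) →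
      ∀ x ∈ Submodule.span k (Set.range z), ρ g x ∈ Submodule.span k (Set.range z) := by
    intro g hg x hx
    have h1 : Submodule.span k (Set.range z) ≤ (Submodule.span k (Set.range z)).comap (ρ g) := by
      rw [Submodule.span_le]
      rintro _ ⟨s, rfl⟩
      show ρ g (z s) ∈ Submodule.span k (Set.range z)
      by_cases hs : s ≤ n
      · exact hg s hs
      · rw [hz.zero s (by omega), map_zero]
        exact Submodule.zero_mem _
    exact h1 hx
  have m : ∀ s, z s ∈ Submodule.span k (Set.range z) := fun s => Submodule.subset_span ⟨s, rfl⟩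
  refine induct (P := fun g => ∀ x ∈ Submodule.span k (Set.range z), ρ g x ∈ Submodule.span k (Set.range z))
    (fun t => key _ fun s hs => ?_) (fun b => key _ fun s hs => ?_) (key _ fun s hs => ?_)
    (fun g g' hg hg' x hx => ?_)
  · rw [hz.u s hs]
    exact Submodule.sum_mem _ fun j _ => Submodule.smul_mem _ _ (m _)
  · rw [hz.h s hs]
    exact Submodule.smul_mem _ _ (m _)
  · rw [hz.w s hs]
    exact Submodule.smul_mem _ _ (m _)
  · rw [map_mul, Module.End.mul_apply]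
    exact hg _ (hg' x hx)

/-- coefficients of a polynomial map with values in a submodule -/
theorem poly_mem {W : Submodule k V} {N : ℕ} (hN : N ≤ Fintype.card K) (i : ℕ) {c : ℕ → V}
    (h : ∀ t : K, ∑ j ∈ Finset.range N, (ι t ^ p ^ i) ^ j • c j ∈ W) : ∀ j < N, c j ∈ W := by
  intro j hj
  have h1 : ∀ t : K, ∑ j ∈ Finset.range N, (ι t ^ p ^ i) ^ j • W.mkQ (c j) = 0 := by
    intro t
    have h2 : W.mkQ (∑ j ∈ Finset.range N, (ι t ^ p ^ i) ^ j • c j) = 0 := (Submodule.Quotient.mk_eq_zero W).2 (h t)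
    rw [map_sum] at h2
    rw [← h2]
    exact Finset.sum_congr rfl fun j _ => (map_smul _ _ _).symm
  exact (Submodule.Quotient.mk_eq_zero W).1 (poly0 ι hN p i h1 j hj)

/-- **generation by the highest weight vector** -/
theorem WT.gen (hz : WT ι p ρ n i z) (hn : n < Fintype.card K) {W : Submodule k V} (hW : ∀ g, ∀ x ∈ W, ρ g x ∈ W)
    (h : z n ∈ W) : ∀ s, z s ∈ W := by
  intro s
  by_cases hs : s ≤ n
  · have h0 : z 0 ∈ W := by
      have h1 := hW Cfsg.Agent.H943.SL2Rel.w _ h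
      rw [hz.w n le_rfl, Nat.sub_self] at h1
      have h2 := W.smul_mem ((-1 : k) ^ n) h1
      rwa [smul_smul, ← mul_pow, neg_one_mul, neg_neg, one_pow, one_smul] at h2
    refine poly_mem (ι := ι) (p := p) (N := n + 1) (by omega) i (c := z) (fun t => ?_) s (by omega)
    rw [← hz.u_bot t]
    exact hW _ _ h0
  · rw [hz.zero s (by omega)]
    exact W.zero_mem

theorem WT.map {V' : Type*} [AddCommGroup V'] [Module k V'] {ρ' : Representation k (Matrix.SpecialLinearGroup (Fin 2) K) V'}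
    (hz : WT ι p ρ n i z) (f : V →ₗ[k] V') (hf : ∀ g x, f (ρ g x) = ρ' g (f x)) : WT ι p ρ' n i (fun s => f (z s)) where
  zero := fun s hs => by rw [hz.zero s hs, map_zero]
  u := fun s hs t => by
    rw [← hf, hz.u s hs, map_sum]
    exact Finset.sum_congr rfl fun j _ => map_smul _ _ _
  h := fun s hs b => by rw [← hf, hz.h s hs, map_smul]
  w := fun s hs => by rw [← hf, hz.w s hs, map_smul]

theorem WT.comap {V' : Type*} [AddCommGroup V'] [Module k V'] {ρ' : Representation k (Matrix.SpecialLinearGroup (Fin 2) K) V'}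
    (f : V →ₗ[k] V') (hf : ∀ g x, f (ρ g x) = ρ' g (f x)) (hi : Function.Injective f)
    (hz : WT ι p ρ' n i (fun s => f (z s))) : WT ι p ρ n i z where
  zero := fun s hs => hi (by rw [map_zero]; exact hz.zero s hs)
  u := fun s hs t => hi (by
    rw [hf, map_sum]
    refine (hz.u s hs t).trans (Finset.sum_congr rfl fun j _ => (map_smul _ _ _).symm))
  h := fun s hs b => hi (by rw [hf, map_smul]; exact hz.h s hs b)
  w := fun s hs => hi (by rw [hf, map_smul]; exact hz.w s hs)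

end Gen

/-! ## The square -/

section Sq

variable {V : Type v} [AddCommGroup V] [Module k V] {σ : Representation k (Matrix.SpecialLinearGroup (Fin 2) K) V}
variable {V' : Type*} [AddCommGroup V'] [Module k V'] {τ : Representation k (Matrix.SpecialLinearGroup (Fin 2) K) V'}
variable {i : ℕ} {x : ℕ → V}

/-- the square of a tuple of type `(4, i)` -/
def Ds (β : V →ₗ[k] V →ₗ[k] V') (x : ℕ → V) : ℕ → V' := fun s => match s with
  | 0 => β (x 0) (x 0)
  | 1 => (8 : k) • β (x 0) (x 1)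
  | 2 => (16 : k) • β (x 1) (x 1) + (12 : k) • β (x 0) (x 2)
  | 3 => (8 : k) • β (x 0) (x 3) + (48 : k) • β (x 1) (x 2)
  | 4 => (36 : k) • β (x 2) (x 2) + (2 : k) • β (x 0) (x 4) + (32 : k) • β (x 1) (x 3)
  | 5 => (48 : k) • β (x 2) (x 3) + (8 : k) • β (x 1) (x 4)
  | 6 => (16 : k) • β (x 3) (x 3) + (12 : k) • β (x 2) (x 4)
  | 7 => (8 : k) • β (x 3) (x 4)
  | 8 => β (x 4) (x 4)
  | _ => 0

variable {β : V →ₗ[k] V →ₗ[k] V'} (hs : ∀ x y, β x y = β y x) (hβ : ∀ g x y, β (σ g x) (σ g y) = τ g (β x y))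

include hs hβ

theorem wt_Ds (hQ : 9 ≤ Fintype.card K) (hx : TS ι p σ 4 i x) : WT ι p τ 8 i (Ds β x) := by
  refine wt_of_bot (by omega) (fun s hs' => ?_) (fun t => ?_) (fun b => ?_) (fun s hs' => ?_)
  · match s with
    | 0 | 1 | 2 | 3 | 4 | 5 | 6 | 7 | 8 => (clear * - hs'; omega)
    | s + 9 => rfl
  · show τ (u t) (β (x 0) (x 0)) = _
    rw [← hβ, ts4_u0 hx]
    simp only [Finset.sum_range_succ, Finset.sum_range_zero, zero_add]
    simp only [map_add, map_smul, LinearMap.add_apply, LinearMap.smul_apply]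
    rw [hs (x 1) (x 0), hs (x 2) (x 0), hs (x 3) (x 0), hs (x 4) (x 0), hs (x 2) (x 1), hs (x 3) (x 1), hs (x 4) (x 1),
      hs (x 3) (x 2), hs (x 4) (x 2), hs (x 4) (x 3)]
    simp only [Ds]
    module
  · show τ (h b) (β (x 0) (x 0)) = ((ι b ^ p ^ i)⁻¹) ^ 8 • β (x 0) (x 0)
    rw [← hβ, hx.h 0 (by norm_num), map_smul, map_smul, LinearMap.smul_apply, smul_smul]
    congr 1
    ring
  · have hs'' : s = 0 ∨ s = 1 ∨ s = 2 ∨ s = 3 ∨ s = 4 ∨ s = 5 ∨ s = 6 ∨ s = 7 ∨ s = 8 := by omega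
    rcases hs'' with rfl | rfl | rfl | rfl | rfl | rfl | rfl | rfl | rfl
    all_goals
      simp only [Ds]
      simp only [map_add, map_smul, ← hβ, ts4_w0 hx, ts4_w1 hx, ts4_w2 hx, ts4_w3 hx, ts4_w4 hx, map_neg,
        LinearMap.neg_apply]
      try simp only [hs (x 4) (x 3), hs (x 4) (x 2), hs (x 4) (x 1), hs (x 4) (x 0), hs (x 3) (x 2), hs (x 3) (x 1),
        hs (x 3) (x 0), hs (x 2) (x 1), hs (x 2) (x 0), hs (x 1) (x 0)]
      module

end Sq

end Cfsg.Agent.R2.F4L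
end

-- part: R2/F4L/N5
section
/-!
# `p = 5` : the highest weight vectors of `V_{4 p^i}` are white (helper2, S5931)

* `wt_span` : weight vectors in a span of weight vectors;
* `inSoc_zero_of` : fixed vectors; `Cx.hv5`.
-/

set_option autoImplicit false
set_option linter.unusedSectionVars false
set_option linter.unusedVariables false

namespace Cfsg.Agent.R2.F4L

open Cfsg.Lie
open Cfsg.Agent.ChevalleyStructure.E6Min.Tables Cfsg.Agent.ChevalleyStructure.E6Min.Basic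
open Cfsg.Agent.H952.F4 (sh cr tf tr1 u0)
open Cfsg.Agent.H952.F4.Jord
open Cfsg.Agent.H943.SL2Rel Cfsg.Agent.H943.SL2Mod Cfsg.Agent.R2.H28.SL2 Cfsg.Agent.H943.RepAdd

universe u v w

section Wt

variable {k : Type u} [Field k] {V : Type v} [AddCommGroup V] [Module k V]

theorem aeval_eig {T : V →ₗ[k] V} {v : V} {μ : k} (h : T v = μ • v) (P : Polynomial k) :
    (Polynomial.aeval T P) v = P.eval μ • v := by
  induction P using Polynomial.induction_on' with
  | add p q hp hq => rw [map_add, LinearMap.add_apply, hp, hq, Polynomial.eval_add, add_smul]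
  | monomial n a =>
    rw [Polynomial.aeval_monomial, Polynomial.eval_monomial]
    have h1 : ∀ n : ℕ, (T ^ n) v = μ ^ n • v := by
      intro n
      induction n with
      | zero => rw [pow_zero, pow_zero, one_smul]; rfl
      | succ n ih => rw [pow_succ, Module.End.mul_apply, h, map_smul, ih, smul_smul, pow_succ, mul_comm]
    rw [Module.End.mul_apply, h1, map_smul, Module.algebraMap_end_apply, smul_smul, mul_comm]

/-- **weight vectors in the span of weight vectors** -/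
theorem wt_span {T : V →ₗ[k] V} {z : ℕ → V} {μ : ℕ → k} {n : ℕ} (hz : ∀ s ≤ n, T (z s) = μ s • z s)
    (hz0 : ∀ s, n < s → z s = 0) {v : V} (hv : v ∈ Submodule.span k (Set.range z)) {ν : k} (hT : T v = ν • v)
    (hne : ∀ s ≤ n, z s ≠ 0 → μ s ≠ ν) : v = 0 := by
  classical
  let P : Polynomial k := ∏ s ∈ Finset.range (n + 1), if z s = 0 then 1 else (Polynomial.X - Polynomial.C (μ s))
  have h1 : ∀ x ∈ Submodule.span k (Set.range z), (Polynomial.aeval T P) x = 0 := by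
    intro x hx
    have h2 : Submodule.span k (Set.range z) ≤ LinearMap.ker (Polynomial.aeval T P) := by
      rw [Submodule.span_le]
      rintro _ ⟨s, rfl⟩
      show (Polynomial.aeval T P) (z s) = 0
      by_cases hs : s ≤ n
      · by_cases h0 : z s = 0
        · rw [h0, map_zero]
        · rw [aeval_eig (hz s hs)]
          have h3 : P.eval (μ s) = 0 := by
            rw [Polynomial.eval_prod]
            refine Finset.prod_eq_zero (Finset.mem_range.2 (show s < n + 1 by omega)) ?_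
            rw [if_neg h0, Polynomial.eval_sub, Polynomial.eval_X, Polynomial.eval_C, sub_self]
          rw [h3, zero_smul]
      · rw [hz0 s (by omega), map_zero]
    exact h2 hx
  have h2 := h1 v hv
  rw [aeval_eig hT] at h2
  refine (smul_eq_zero.1 h2).resolve_left ?_
  rw [Polynomial.eval_prod]
  refine Finset.prod_ne_zero_iff.2 fun s hs => ?_
  rw [Finset.mem_range] at hs
  by_cases h0 : z s = 0
  · rw [if_pos h0, Polynomial.eval_one]
    exact one_ne_zero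
  · rw [if_neg h0, Polynomial.eval_sub, Polynomial.eval_X, Polynomial.eval_C]
    exact sub_ne_zero.2 (Ne.symm (hne s (by omega) h0))

end Wt

variable {k : Type u} [Field k] [DecidableEq k] {K : Type w} [Field K] [Fintype K] [DecidableEq K] {ι : K →+* k}
variable {p : ℕ} [Fact p.Prime] [CharP k p] [CharP K p] {a : ℕ}

section

variable {V : Type v} [AddCommGroup V] [Module k V] {σ : Representation k (Matrix.SpecialLinearGroup (Fin 2) K) V}

/-- fixed vectors -/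
theorem inSoc_zero_of {e : V} (he : ∀ g, σ g e = e) (he0 : e ≠ 0) : InSoc ι p σ 0 := by
  have hts : TS ι p σ 0 0 (fun s => if s = 0 then e else 0) := by
    refine ⟨fun s hs => if_neg (by omega), fun s hs t => ?_, fun s hs b => ?_, fun s hs => ?_⟩
    all_goals
      have hs0 : s = 0 := by omega
      subst hs0
      simp only [he, ↓ _root_.reduceIte, _root_.tsub_self, _root_.zero_add, _root_.Finset.range_one, _root_.pow_zero, _root_.pow_one, _root_.smul_ite, _root_.smul_zero, _root_.Finset.sum_ite_eq', _root_.Finset.mem_singleton, _root_.Nat.choose_self, _root_.Nat.cast_one, _root_.mul_one, _root_.one_smul]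
  obtain ⟨hX, hV⟩ := hts.isV (Fact.out : p.Prime).pos (by omega) (fun h => he0 (by
    have := congrFun h 0
    simpa using this))
  rw [Nat.zero_mul] at hV
  exact ⟨_, hX, hV⟩

end

section Emb

variable {ρ : Representation k (Matrix.SpecialLinearGroup (Fin 2) K) (I27 → k)}
variable {V : Type v} [AddCommGroup V] [Module k V] {σ : Representation k (Matrix.SpecialLinearGroup (Fin 2) K) V}
variable {j : V →ₗ[k] (I27 → k)} {i : ℕ}
variable [IsAlgClosed k] [FiniteDimensional k V]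

/-- **`p = 5`** -/
theorem Cx.hv5 (C : Cx ι p a ρ) (E : Em ρ σ j) (hp : p = 5) (hi : i < a) (h0 : 0 ∉ cf (Sy.{u, v, w} ι p) σ)
    {y : ℕ → I27 → k} (hy : TS ι p ρ 4 i y) : sh (y 4) = 0 := by
  have hp5 := C.hp5
  have h3 := C.three
  have h5k : (5 : k) = 0 := by
    have := CharP.cast_eq_zero k p
    rw [hp] at this
    exact_mod_cast this
  -- the field
  have hQ : 25 ≤ Fintype.card K := by
    rw [C.card, hp]
    have h7 := C.seven
    rw [C.card, hp] at h7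
    have ha : 2 ≤ a := by
      by_contra h
      have : a = 0 ∨ a = 1 := by omega
      rcases this with h | h <;> rw [h] at h7 <;> norm_num at h7
    calc 25 = 5 ^ 2 := by norm_num
      _ ≤ 5 ^ a := Nat.pow_le_pow_right (by norm_num) ha
  obtain ⟨x, hx, ex⟩ := E.lift C.act (by omega) (by norm_num) (C.lt_card (n := 4) (by omega) hi) hy
  set β := stV E h3 with hβd
  have hs : ∀ x y, β x y = β y x := stV_comm E h3
  have hβ : ∀ g x y, β (σ g x) (σ g y) = σ g (β x y) := fun g x y => stV_eqv E C.act h3 g x y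
  have hD := wt_Ds hs hβ (by omega) hx
  set D := Ds β x with hDd
  -- `D 4` is fixed
  have hD4 : D 4 = 0 := by
    have hfix : ∀ g, σ g (D 4) = D 4 := by
      refine fix_of (fun t => ?_) (fun b => ?_) ?_
      · rw [hD.u 4 (by norm_num)]
        simp only [show 8 - 4 + 1 = 5 by norm_num, Finset.sum_range_succ, Finset.sum_range_zero, zero_add]
        have c1 : ((4 + 1).choose 4 : k) = 0 := by
          rw [show Nat.choose (4 + 1) 4 = 5 by decide]
          exact_mod_cast h5k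
        have c2 : ((4 + 2).choose 4 : k) = 0 := by
          rw [show Nat.choose (4 + 2) 4 = 3 * 5 by decide, Nat.cast_mul, Nat.cast_ofNat, Nat.cast_ofNat]
          rw [h5k, mul_zero]
        have c3 : ((4 + 3).choose 4 : k) = 0 := by
          rw [show Nat.choose (4 + 3) 4 = 7 * 5 by decide, Nat.cast_mul, Nat.cast_ofNat, Nat.cast_ofNat]
          rw [h5k, mul_zero]
        have c4 : ((4 + 4).choose 4 : k) = 0 := by
          rw [show Nat.choose (4 + 4) 4 = 14 * 5 by decide, Nat.cast_mul, Nat.cast_ofNat, Nat.cast_ofNat]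
          rw [h5k, mul_zero]
        rw [c1, c2, c3, c4]
        simp
      · rw [hD.h' (by norm_num)]
        norm_num
      · rw [hD.w 4 (by norm_num)]
        norm_num
    apply E.inj
    rw [map_zero]
    exact C.fix0 (E.tr _) fun g => by rw [← E.eqv, hfix]
  -- the generator
  let e : V := β (x 0) (x 4) + (2 : k) • β (x 1) (x 3)
  have heu : ∀ t, σ (u t) e = e + ((2 * (ι t ^ p ^ i)) • D 5 + ((ι t ^ p ^ i) ^ 2) • D 6 + (4 * (ι t ^ p ^ i) ^ 3) • D 7 +
      (3 * (ι t ^ p ^ i) ^ 4) • D 8) := by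
    intro t
    show σ (u t) (β (x 0) (x 4) + (2 : k) • β (x 1) (x 3)) = _
    rw [map_add, map_smul, ← hβ, ← hβ, ts4_u0 hx, ts4_u1 hx, ts4_u3 hx, ts4_u4 hx]
    simp only [map_add, map_smul, LinearMap.add_apply, LinearMap.smul_apply]
    rw [hs (x 4) (x 3)]
    show _ = β (x 0) (x 4) + (2 : k) • β (x 1) (x 3) + ((2 * (ι t ^ p ^ i)) • ((48 : k) • β (x 2) (x 3) + (8 : k) • β (x 1) (x 4)) +
      ((ι t ^ p ^ i) ^ 2) • ((16 : k) • β (x 3) (x 3) + (12 : k) • β (x 2) (x 4)) +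
      (4 * (ι t ^ p ^ i) ^ 3) • ((8 : k) • β (x 3) (x 4)) + (3 * (ι t ^ p ^ i) ^ 4) • β (x 4) (x 4))
    match_scalars <;> first
      | ring1
      | linear_combination (-2 * ι t ^ p ^ i) * h5k
      | linear_combination (-18 * ι t ^ p ^ i) * h5k
      | linear_combination (-2 * (ι t ^ p ^ i) ^ 2) * h5k
      | linear_combination (-4 * (ι t ^ p ^ i) ^ 3) * h5k
      | linear_combination (0 * (ι t ^ p ^ i) ^ 2) * h5k
  have hew : σ w e = e := by
    show σ w (β (x 0) (x 4) + (2 : k) • β (x 1) (x 3)) = β (x 0) (x 4) + (2 : k) • β (x 1) (x 3)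
    rw [map_add, map_smul, ← hβ, ← hβ, hx.w 0 (by norm_num), hx.w 4 le_rfl, hx.w 1 (by norm_num), hx.w 3 (by norm_num)]
    norm_num only [_root_.one_smul, _root_.neg_smul, _root_.map_neg, _root_.LinearMap.neg_apply, _root_.neg_neg]
    rw [hs (x 4) (x 0), hs (x 3) (x 1)]
  have e1 : ∀ τ : k, τ ≠ 0 → τ ^ 4 * τ⁻¹ ^ (4 - 4) * (τ ^ 0 * τ⁻¹ ^ (4 - 0)) = 1 := by
    intro τ hτ
    norm_num only [_root_.pow_zero, _root_.mul_one, _root_.inv_pow, _root_.one_mul]
    exact mul_inv_cancel₀ (pow_ne_zero _ hτ)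
  have e2 : ∀ τ : k, τ ≠ 0 → 2 * (τ ^ 3 * τ⁻¹ ^ (4 - 3) * (τ ^ 1 * τ⁻¹ ^ (4 - 1))) = 2 := by
    intro τ hτ
    norm_num only [_root_.pow_one, _root_.inv_pow]
    field_simp
  have heh : ∀ b : Kˣ, σ (h b) e = e := by
    intro b
    have hb0 : ι (b : K) ^ p ^ i ≠ 0 := pow_ne_zero _ ((map_ne_zero ι).2 b.ne_zero)
    show σ (h b) (β (x 0) (x 4) + (2 : k) • β (x 1) (x 3)) = β (x 0) (x 4) + (2 : k) • β (x 1) (x 3)
    rw [map_add, map_smul, ← hβ, ← hβ, hx.h 0 (by norm_num), hx.h 4 le_rfl, hx.h 1 (by norm_num), hx.h 3 (by norm_num)]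
    simp only [map_smul, LinearMap.smul_apply, smul_smul]
    congr 1
    · rw [e1 _ hb0, one_smul]
    · congr 1
      exact e2 _ hb0
  set DD := Submodule.span k (Set.range D) with hDD
  have hDst := hD.span_st
  have mD : ∀ s, D s ∈ DD := fun s => Submodule.subset_span ⟨s, rfl⟩
  have heD : e ∈ DD := by
    by_contra hne
    have h1 : DD.mkQ e ≠ 0 := fun h => hne ((Submodule.Quotient.mk_eq_zero DD).1 h)
    have h2 : ∀ g, quotRep σ DD hDst g (DD.mkQ e) = DD.mkQ e := by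
      refine fix_of (fun t => ?_) (fun b => ?_) ?_
      · rw [quotRep_mk, heu, map_add]
        rw [Submodule.mkQ_apply, Submodule.mkQ_apply, (Submodule.Quotient.mk_eq_zero DD).2 (Submodule.add_mem _ (Submodule.add_mem _ (Submodule.add_mem _
          (Submodule.smul_mem _ _ (mD 5)) (Submodule.smul_mem _ _ (mD 6))) (Submodule.smul_mem _ _ (mD 7)))
          (Submodule.smul_mem _ _ (mD 8))), add_zero]
      · rw [quotRep_mk, heh]
      · rw [quotRep_mk, hew]
    have h3 := (inSoc_zero_of (ι := ι) (p := p) h2 h1).mem_cf ι p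
    exact h0 (Multiset.mem_of_le (cf_quot_le _ _ _ _) h3)
  have he0 : e = 0 := by
    obtain ⟨lam, hlam⟩ := exists_prim (k := k) ι i p
    have hl0 : ι (lam : K) ^ p ^ i ≠ 0 := pow_ne_zero _ ((map_ne_zero ι).2 lam.ne_zero)
    refine wt_span (T := σ (h lam)) (n := 8) (z := D) (μ := fun s => (ι lam ^ p ^ i) ^ s * ((ι lam ^ p ^ i)⁻¹) ^ (8 - s))
      (ν := 1) (fun s hs' => hD.h s hs' lam) hD.zero heD (by rw [heh, one_smul]) (fun s hs' hne h1 => ?_)
    have h4 : s ≠ 4 := by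
      rintro rfl
      exact hne hD4
    have key : ∀ m : ℕ, 0 < m → m ≤ 8 → (ι (lam : K) ^ p ^ i) ^ m ≠ 1 := by
      intro m hm hm8 h5
      have h6 := Nat.le_of_dvd hm ((hlam.pow_eq_one_iff_dvd m).1 h5)
      omega
    rw [pow_wt hl0 hs'] at h1
    rcases lt_or_gt_of_ne h4 with h | h
    · refine key (8 - 2 * s) (by omega) (by omega) ?_
      have h5 : (ι (lam : K) ^ p ^ i) ^ (2 * (s : ℤ) - (8 : ℕ)) * (ι (lam : K) ^ p ^ i) ^ ((8 - 2 * s : ℕ) : ℤ) = 1 := by
        rw [← zpow_add₀ hl0, show (2 * (s : ℤ) - (8 : ℕ)) + ((8 - 2 * s : ℕ) : ℤ) = 0 by omega, zpow_zero]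
      rw [h1, one_mul, zpow_natCast] at h5
      exact h5
    · refine key (2 * s - 8) (by omega) (by omega) ?_
      rw [show (2 * (s : ℤ) - (8 : ℕ)) = ((2 * s - 8 : ℕ) : ℤ) by omega, zpow_natCast] at h1
      exact h1
  have h8 : (3 : k) • D 8 = 0 := by
    refine poly0 ι (N := 5) (by omega) p i (a := fun s => match s with
      | 0 => 0
      | 1 => (2 : k) • D 5
      | 2 => D 6
      | 3 => (4 : k) • D 7
      | 4 => (3 : k) • D 8
      | _ => 0) (fun t => ?_) 4 (by norm_num)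
    have h1 := heu t
    rw [he0, map_zero, zero_add] at h1
    simp only [Finset.sum_range_succ, Finset.sum_range_zero, zero_add, smul_zero]
    rw [h1]
    module
  have h9 : D 8 = 0 := (smul_eq_zero.1 h8).resolve_left h3
  have h10 : stV E h3 (x 4) (x 4) = 0 := h9
  have h11 := congrArg j h10
  rw [j_stV, map_zero, ex] at h11
  refine R2.H1.F4.sh_of_sq C.two h3 ?_ h11
  rw [← ex]
  exact E.tr _

end Emb

end Cfsg.Agent.R2.F4L
end

-- part: R2/F4L/RuA
section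
/-!
# The rules for `V_{4 p^i}`, `p ≥ 11` and `p = 5` (helper2, S5931)
-/

set_option autoImplicit false
set_option linter.unusedSectionVars false
set_option linter.unusedVariables false

namespace Cfsg.Agent.R2.F4L

open Cfsg Cfsg.Lie Module Matrix
open Cfsg.Agent.ChevalleyStructure.E6Min.Basic
open Cfsg.Agent.H952.F4 (sh cr tf tr1 u0 hF4)
open Cfsg.Agent.H952.F4.Jord
open Cfsg.Agent.H952.F4.FixV (W0 mem_W0 finrank_W0 u0_ne_zero tr1_eq)
open Cfsg.Agent.R2.H9.E6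
open Cfsg.Agent.GpExc.Field (emb)
open Cfsg.Agent.H943.SL2Rel Cfsg.Agent.H943.SL2Mod
open Cfsg.Agent.R2.H28.SL2 Cfsg.Agent.H943.RepAdd
open Cfsg.Agent.R2.F4M Cfsg.Agent.R2.F4N

universe u v w

variable {F : Type u} [Field F] [Fintype F] {K : Type v} [Field K] [Fintype K] [DecidableEq K] {p a b : ℕ}
variable {H : Subgroup ↥(chevF4.group F)} {φ : ProjectiveSpecialLinearGroup (Fin 2) K →* ↥(chevF4.group F)}
variable {k : Type u} [Field k] [DecidableEq k] {f : F →+* k} {ι : K →+* k} [Fact p.Prime] [CharP k p] [CharP K p]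
variable [IsAlgClosed k]

theorem rule4 (hc : _root_.Cfsg.Agent.R2.F4M.Cfg p a b H φ) (C : Cx ι p a (Rk f φ)) (hp : 11 ≤ p) {i : ℕ} (hi : i < a)
    (hcount : (cf (Sy.{u, u, v} ι p) (R0 f φ)).count (4 * p ^ i) ≤ 3) (h : InSoc ι p (R0 f φ) (4 * p ^ i)) :
    8 * p ^ i ∈ cf (Sy.{u, u, v} ι p) (R0 f φ) := by
  by_contra hcf
  have hpr : p.Prime := Fact.out
  have hQ : 11 ≤ Fintype.card K := C.hQ (Or.inl (by omega)) (Or.inl (by omega))
  have h9 := C.lt_card (n := 9) (i := i) (by omega) hi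
  have hpi : 0 < p ^ i := Nat.pow_pos hpr.pos
  refine no4 hc C hQ hi (fun y hy => C.hv_of emW (c := 8 * p ^ i) (fun b => rfl) (by omega) (by omega) (by omega) hcf hy)
    hcount h

theorem rule45 (hc : _root_.Cfsg.Agent.R2.F4M.Cfg p a b H φ) (C : Cx ι p a (Rk f φ)) (hp : p = 5) (h0 : 0 ∉ cf (Sy.{u, u, v} ι p) (R0 f φ))
    {i : ℕ} (hi : i < a) (hcount : (cf (Sy.{u, u, v} ι p) (R0 f φ)).count (4 * p ^ i) ≤ 3) :
    ¬ InSoc ι p (R0 f φ) (4 * p ^ i) := by
  have ha : 2 ≤ a := by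
    have h7 := C.seven
    rw [C.card, hp] at h7
    by_contra h
    have : a = 0 ∨ a = 1 := by omega
    rcases this with h | h <;> rw [h] at h7 <;> norm_num at h7
  exact no4 hc C (C.hQ (Or.inr ha) (Or.inr ha)) hi (fun y hy => C.hv5 emW hp hi h0 hy) hcount

end Cfsg.Agent.R2.F4L
end

private theorem dce_864f5ec7e7a1 : _root_.True := by
  try have : _root_.True := by simp only [_root_.Cfsg.Agent.R2.F4L.Ds.eq_10]
  try have : _root_.True := by simp only [_root_.Cfsg.Agent.R2.F4L.Ds.eq_7]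
  try have : _root_.True := by simp only [_root_.Cfsg.Agent.R2.F4L.Ds.eq_9]
  try have : _root_.True := by simp only [_root_.Cfsg.Agent.R2.F4L.Ds.eq_3]
  try have : _root_.True := by simp only [_root_.Cfsg.Agent.R2.F4L.Ds.eq_2]
  try have : _root_.True := by simp only [_root_.Cfsg.Agent.R2.F4L.Ds.eq_5]
  try have : _root_.True := by simp only [_root_.Cfsg.Agent.R2.F4L.Ds.eq_1]
  try have : _root_.True := by simp only [_root_.Cfsg.Agent.R2.F4L.Ds.eq_6]
  try have : _root_.True := by simp only [_root_.Cfsg.Agent.R2.F4L.Ds.eq_4]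
  try have : _root_.True := by simp only [_root_.Cfsg.Agent.R2.F4L.Ds.eq_8]
  exact _root_.True.intro
end

-- part: R2/H27/F4Th/Nn
section
set_option linter.all false
open scoped Cfsg.Agent.FastGrp

/-!
# S5931, theta types: the reduction by characters (helper27)

`th_n` : `N(W, W, X) = 0` if the label of `X` is not a factor of `S² W`.
`th_card`, `th_main` : the reduction to `N(Y, Y, X) = 0`, `Y = X^⊥`.
-/

set_option autoImplicit false
set_option linter.unusedSectionVars false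

namespace Cfsg.Agent.R2.H27.F4Th

open Cfsg Cfsg.Lie Module Matrix
open Cfsg.Agent.ChevalleyStructure.E6Min.Basic
open Cfsg.Agent.H952.F4 (sh cr tf tr1 u0 hF4)
open Cfsg.Agent.H952.F4.Jord
open Cfsg.Agent.H952.F4.FixV (W0 mem_W0 finrank_W0)
open Cfsg.Agent.R2.H28.SL2 Cfsg.Agent.H943.RepAdd Cfsg.Agent.H943.SL2Mod
open Cfsg.Agent.R2.F4M Cfsg.Agent.R2.F4N
open Cfsg.Agent.R2.F4T (SD Nd Iso)
open Cfsg.Agent.R2.F4L (emW stV j_stV stV_comm stV_eqv Act)
open Cfsg.Agent.R2.H1.F4 (st)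
open Cfsg.Agent.R2.SL2 (typ tyl)

universe u v w

variable {F : Type u} [Field F] [Fintype F] {K : Type v} [Field K] [Fintype K] [DecidableEq K] {p a b : ℕ}
variable {H : Subgroup ↥(chevF4.group F)} {φ : ProjectiveSpecialLinearGroup (Fin 2) K →* ↥(chevF4.group F)}
variable {k : Type u} [Field k] [DecidableEq k] {f : F →+* k} {ι : K →+* k} [Fact p.Prime] [CharP k p] [CharP K p]
variable [IsAlgClosed k]

/-- **products by characters** -/
theorem th_n (h3 : (3 : k) ≠ 0) {X : Submodule k ↥(W0 k)} {hX : ∀ g, ∀ x ∈ X, R0 f φ g x ∈ X} {c : ℕ}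
    (hV : IsV (V := ↥X) ι p ((subRep (R0 f φ) X hX :)) c) (hnd : Nd (tf0 k) X)
    {W : Submodule k ↥(W0 k)} (hW : ∀ g, ∀ x ∈ W, R0 f φ g x ∈ W)
    (hc : c ∉ (cf (Sy.{u, u, v} ι p) (Sq (V := ↥W) (subRep (R0 f φ) W hW)) :)) :
    ∀ x ∈ W, ∀ y ∈ W, ∀ z ∈ X, tf ((st (x : I27 → k) y :)) z = 0 := by
  intro x hx y hy z hz
  have H1 : Act (Rk f φ) := R2.F4L.act_Rk
  have h5 := th_gen ι p (sd_R0 (f := f) (φ := φ) h3) hV hnd hW hc (stV_comm (emW (f := f) (φ := φ)) h3)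
    (stV_eqv (emW (f := f) (φ := φ)) H1 h3) x hx y hy z hz
  rw [tf0_apply, tf_comm] at h5
  rw [← h5]
  congr 1
  exact (j_stV (emW (f := f) (φ := φ)) h3 x y).symm

section ty

variable {c : ℕ}

theorem card_typ (k : Type u) [Field k] [DecidableEq k] [CharP k p] (b : ℕ) :
    (Bf k b).card = ((typ p b).map (· + 1)).prod := by
  have hp : p.Prime := Fact.out
  induction b using Nat.strong_induction_on with
  | _ b ih =>
    rcases Nat.eq_zero_or_pos b with rfl | hb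
    · rw [card_Bf_zero, show typ p 0 = 0 from R2.SL2.typ_zero _, Multiset.map_zero, Multiset.prod_zero]
    · rw [card_Bf_low k p b, R2.SL2.typ_step hp.one_lt (by omega), ih (b / p) (Nat.div_lt_self hb hp.one_lt)]
      split_ifs with h
      · rw [h, zero_add, zero_add, one_mul]
      · rw [Multiset.map_add, Multiset.prod_add, Multiset.map_singleton, Multiset.prod_singleton]

theorem ty_card (ht : Ty p c) : (Bf k c).card = 12 := by
  rw [card_typ k c, ← R2.SL2.coe_tyl]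
  rcases ht with h | h <;> rw [h] <;> rfl

theorem card_single {n : ℕ} (h0 : 0 < n) (hn : n < p) (i : ℕ) : (Bf k (n * p ^ i)).card = n + 1 := by
  rw [card_typ k, typ_single h0 hn]
  simp

theorem card_11 {i j : ℕ} (hp : 1 < p) (hij : i ≠ j) : (Bf k (p ^ i + p ^ j)).card = 4 := by
  have h := typ_pair (p := p) one_pos hp one_pos hp hij
  rw [one_mul, one_mul] at h
  rw [card_typ k, h]
  rfl

end ty

/-- **the reduction, `p ≥ 11`** -/
theorem mainB (hc : Cfg p a b H φ) (hp11 : 11 ≤ p) {r : ℕ} (hr : r < a) {c : ℕ} (ht : Ty p c)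
    (hcf : cf (Sy.{u, u, v} ι p) (R0 f φ) = {c, 4 * p ^ r, 8 * p ^ r}) {X : Submodule k ↥(W0 k)}
    {hX : ∀ g, ∀ x ∈ X, R0 f φ g x ∈ X} (hV : IsV (V := ↥X) ι p ((subRep (R0 f φ) X hX :)) c) (hnd : Nd (tf0 k) X) :
    ¬ ∀ x ∈ orth (tf0 k) X, ∀ y ∈ orth (tf0 k) X, ∀ z ∈ X, tf ((st (x : I27 → k) y :)) z = 0 := by
  intro n1
  have h3 : (3 : k) ≠ 0 := R2.F4L.three_ne p (by omega)
  refine th_fin (ι := ι) (p := p) (X := X) hc (R2.F4L.two_ne p (by omega)) h3 hV hnd ?_ ?_ n1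
    (th_n h3 hV hnd hX (not_mem_sq ι p hc.cardK (by omega) (Or.inr hp11) hV ht))
  · have e1 : c ≠ 4 * p ^ r := fun h => not_ty_single (n := 4) (i := r) (by omega) (h ▸ ht)
    have e2 : c ≠ 8 * p ^ r := fun h => not_ty_single (n := 8) (i := r) (by omega) (h ▸ ht)
    rw [hcf, Multiset.insert_eq_cons, Multiset.insert_eq_cons, Multiset.count_cons_self, Multiset.count_cons_of_ne e1,
      Multiset.count_singleton, if_neg e2]
  · intro c' hc' h
    rw [hcf, Multiset.insert_eq_cons, Multiset.insert_eq_cons, Multiset.mem_cons, Multiset.mem_cons,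
      Multiset.mem_singleton] at hc'
    rw [ty_card ht] at h
    rcases hc' with rfl | rfl | rfl
    · rfl
    · rw [card_single (by norm_num) (by omega)] at h
      omega
    · rw [card_single (by norm_num) (by omega)] at h
      omega

/-- **the reduction, `p = 7`** -/
theorem mainF (hc : Cfg p a b H φ) (hp7 : p = 7) (ha : 2 ≤ a) {r : ℕ} (hr : r < a) {c : ℕ} (ht : Ty p c)
    (hcf : cf (Sy.{u, u, v} ι p) (R0 f φ) = {c, 4 * p ^ r, 4 * p ^ r, p ^ r + p ^ ((r + 1) % a)}) {X : Submodule k ↥(W0 k)}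
    {hX : ∀ g, ∀ x ∈ X, R0 f φ g x ∈ X} (hV : IsV (V := ↥X) ι p ((subRep (R0 f φ) X hX :)) c) (hnd : Nd (tf0 k) X) :
    ¬ ∀ x ∈ orth (tf0 k) X, ∀ y ∈ orth (tf0 k) X, ∀ z ∈ X, tf ((st (x : I27 → k) y :)) z = 0 := by
  intro n1
  have h3 : (3 : k) ≠ 0 := R2.F4L.three_ne p (by omega)
  have hs : r ≠ (r + 1) % a := succ_mod_ne (by omega) hr
  refine th_fin (ι := ι) (p := p) (X := X) hc (R2.F4L.two_ne p (by omega)) h3 hV hnd ?_ ?_ n1
    (th_n h3 hV hnd hX (not_mem_sq ι p hc.cardK (by omega) (Or.inl hp7) hV ht))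
  · have e1 : c ≠ 4 * p ^ r := fun h => not_ty_single (n := 4) (i := r) (by omega) (h ▸ ht)
    have e2 : c ≠ p ^ r + p ^ ((r + 1) % a) := fun h => by
      have h4 := ty_card (k := k) ht
      rw [h, card_11 (by omega) hs] at h4
      omega
    rw [hcf, Multiset.insert_eq_cons, Multiset.insert_eq_cons, Multiset.insert_eq_cons, Multiset.count_cons_self,
      Multiset.count_cons_of_ne e1, Multiset.count_cons_of_ne e1, Multiset.count_singleton, if_neg e2]
  · intro c' hc' h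
    rw [hcf, Multiset.insert_eq_cons, Multiset.insert_eq_cons, Multiset.insert_eq_cons, Multiset.mem_cons,
      Multiset.mem_cons, Multiset.mem_cons, Multiset.mem_singleton] at hc'
    rw [ty_card ht] at h
    rcases hc' with rfl | rfl | rfl | rfl
    · rfl
    · rw [card_single (by norm_num) (by omega)] at h
      omega
    · rw [card_single (by norm_num) (by omega)] at h
      omega
    · rw [card_11 (by omega) hs] at h
      omega

end Cfsg.Agent.R2.H27.F4Th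
end

-- part: R2/F4L/Cfs
section
prune_inst 0x40400000020000180002100000044800019200400000e0000e040a402060a905280104a0051200128c802800000000100000003000000000040000000000008112028108010000000e000000000000000000000000000000000000000000000000000
set_option linter.all false
open scoped Cfsg.Agent.FastGrp

/-!
# Factors of nested submodules, weights (helper2, S5931)

* `cf_pair`, `cf_disj` : factors of nested submodules;
* `wt_mem` : weight vectors;
* `Sx`, `not_mem_Sx` : the weights `-8, ..., 8`.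
-/

set_option autoImplicit false
set_option linter.unusedSectionVars false
set_option linter.unusedVariables false

namespace Cfsg.Agent.R2.F4L

open Cfsg.Agent.H943.SL2Rel Cfsg.Agent.H943.SL2Mod Cfsg.Agent.R2.H28.SL2 Cfsg.Agent.H943.RepAdd

universe u v w

section Wt

variable {k : Type u} [Field k] {V : Type v} [AddCommGroup V] [Module k V]

theorem aeval_eig' {T : V →ₗ[k] V} {v : V} {μ : k} (h : T v = μ • v) (P : Polynomial k) :
    (Polynomial.aeval T P) v = P.eval μ • v := by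
  induction P using Polynomial.induction_on' with
  | add p q hp hq => rw [map_add, LinearMap.add_apply, hp, hq, Polynomial.eval_add, add_smul]
  | monomial n a =>
    rw [Polynomial.aeval_monomial, Polynomial.eval_monomial]
    have h1 : ∀ n : ℕ, (T ^ n) v = μ ^ n • v := by
      intro n
      induction n with
      | zero => rw [pow_zero, pow_zero, one_smul]; rfl
      | succ n ih => rw [pow_succ, Module.End.mul_apply, h, map_smul, ih, smul_smul, pow_succ, mul_comm]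
    rw [Module.End.mul_apply, h1, map_smul, Module.algebraMap_end_apply, smul_smul, mul_comm]

/-- **weight vectors** -/
theorem wt_mem {T : V →ₗ[k] V} {G : Set V} {M : Submodule k V} {S : Finset k} {ν : k} (hν : ν ∉ S)
    (hG : ∀ g ∈ G, (T g = ν • g ∧ g ∈ M) ∨ ∃ μ ∈ S, T g = μ • g) {v : V} (hv : v ∈ Submodule.span k G)
    (hT : T v = ν • v) : v ∈ M := by
  let P : Polynomial k := ∏ μ ∈ S, (Polynomial.X - Polynomial.C μ)
  have h1 : (Polynomial.aeval T P) v ∈ M := by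
    have h2 : Submodule.span k G ≤ M.comap (Polynomial.aeval T P) := by
      rw [Submodule.span_le]
      intro g hg
      show (Polynomial.aeval T P) g ∈ M
      rcases hG g hg with ⟨h3, h4⟩ | ⟨μ, hμ, h3⟩
      · rw [aeval_eig' h3]
        exact M.smul_mem _ h4
      · rw [aeval_eig' h3]
        have h4 : P.eval μ = 0 := by
          rw [Polynomial.eval_prod]
          refine Finset.prod_eq_zero hμ ?_
          rw [Polynomial.eval_sub, Polynomial.eval_X, Polynomial.eval_C, sub_self]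
        rw [h4, zero_smul]
        exact M.zero_mem
    exact h2 hv
  rw [aeval_eig' hT] at h1
  have h5 : P.eval ν ≠ 0 := by
    rw [Polynomial.eval_prod]
    refine Finset.prod_ne_zero_iff.2 fun μ hμ => ?_
    rw [Polynomial.eval_sub, Polynomial.eval_X, Polynomial.eval_C]
    refine sub_ne_zero.2 ?_
    rintro rfl
    exact hν hμ
  have h6 := M.smul_mem (P.eval ν)⁻¹ h1
  rwa [smul_smul, inv_mul_cancel₀ h5, one_smul] at h6

open Classical in
/-- the weights different from `n` -/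
noncomputable def Sx (μ : k) (n : ℤ) : Finset k := ((Finset.Icc (-8 : ℤ) 8).erase n).image (fun m => μ ^ m)

theorem mem_Sx {μ : k} {n m : ℤ} (h1 : -8 ≤ m) (h2 : m ≤ 8) (h : m ≠ n) : μ ^ m ∈ Sx μ n := by
  classical
  unfold Sx
  exact Finset.mem_image_of_mem _ (Finset.mem_erase.2 ⟨h, Finset.mem_Icc.2 ⟨h1, h2⟩⟩)

theorem not_mem_Sx {μ : k} {N : ℕ} (hμ : IsPrimitiveRoot μ N) (hN : 17 ≤ N) {n : ℤ} (h1 : -8 ≤ n) (h2 : n ≤ 8) :
    μ ^ n ∉ Sx μ n := by
  classical
  intro h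
  unfold Sx at h
  obtain ⟨m, hm, he⟩ := Finset.mem_image.1 h
  rw [Finset.mem_erase, Finset.mem_Icc] at hm
  have h0 : μ ≠ 0 := hμ.ne_zero (by omega)
  have h3 : μ ^ (m - n) = 1 := by
    rw [zpow_sub₀ h0, he, div_self (zpow_ne_zero _ h0)]
  have h4 := (hμ.zpow_eq_one_iff_dvd _).1 h3
  obtain ⟨c, hc⟩ := h4
  have h5 : c = 0 := by
    by_contra h5
    have h6 : (1 : ℤ) ≤ |c| := Int.one_le_abs h5
    have h7 : |m - n| = N * |c| := by rw [hc, abs_mul, Nat.abs_cast]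
    have h8 : (N : ℤ) ≤ |m - n| := by
      rw [h7]
      nlinarith
    have h9 : |m - n| ≤ 16 := by
      rw [abs_le]
      constructor <;> omega
    omega
  rw [h5, mul_zero] at hc
  exact hm.1 (by omega)

end Wt

section Cf

variable {k : Type u} [Field k] [DecidableEq k] {K : Type w} [Field K] [Fintype K] [DecidableEq K] {ι : K →+* k}
variable {p : ℕ} [Fact p.Prime] [CharP k p] [CharP K p] {a : ℕ}
variable [IsAlgClosed k]
variable {V : Type v} [AddCommGroup V] [Module k V] [FiniteDimensional k V]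
  {σ : Representation k (Matrix.SpecialLinearGroup (Fin 2) K) V}

theorem cf_pair {W I : Submodule k V} (hW : ∀ g, ∀ x ∈ W, σ g x ∈ W) (hI : ∀ g, ∀ x ∈ I, σ g x ∈ I) (hle : W ≤ I) :
    ∃ n : Multiset ℕ, cf (Sy.{u, v, w} ι p) (subRep σ I hI) = cf (Sy.{u, v, w} ι p) (subRep σ W hW) + n ∧
      (n = 0 → I ≤ W) := by
  let W' : Submodule k I := W.comap I.subtype
  have hW' : ∀ g, ∀ x ∈ W', subRep σ I hI g x ∈ W' := fun g x hx => hW g _ hx
  have h1 : cf (Sy.{u, v, w} ι p) (subRep (subRep σ I hI) W' hW') = cf (Sy.{u, v, w} ι p) (subRep σ W hW) :=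
    cf_iso _ ⟨Submodule.comapSubtypeEquivOfLe hle, fun g x => rfl⟩
  refine ⟨cf (Sy.{u, v, w} ι p) (quotRep (subRep σ I hI) W' hW'), ?_, fun h x hx => ?_⟩
  · rw [cf_add _ (subRep σ I hI) W' hW', h1]
  · have h2 := cf_eq_zero _ h
    have h3 : W' = ⊤ := Submodule.Quotient.subsingleton_iff.1 h2
    have h4 : (⟨x, hx⟩ : I) ∈ W' := by
      rw [h3]
      trivial
    exact h4

theorem cf_disj0 {R W : Submodule k V} (hR : ∀ g, ∀ x ∈ R, σ g x ∈ R) (hW : ∀ g, ∀ x ∈ W, σ g x ∈ W) (hd : R ⊓ W = ⊥)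
    (hS : ∀ g, ∀ x ∈ R ⊔ W, σ g x ∈ R ⊔ W) : cf (Sy.{u, v, w} ι p) (subRep σ (R ⊔ W) hS) =
      cf (Sy.{u, v, w} ι p) (subRep σ R hR) + cf (Sy.{u, v, w} ι p) (subRep σ W hW) := by
  set τ := subRep σ (R ⊔ W) hS with hτ
  let W' : Submodule k (R ⊔ W : Submodule k V) := W.comap (R ⊔ W : Submodule k V).subtype
  have hW' : ∀ g, ∀ x ∈ W', τ g x ∈ W' := fun g x hx => hW g _ hx
  have h1 : cf (Sy.{u, v, w} ι p) (subRep τ W' hW') = cf (Sy.{u, v, w} ι p) (subRep σ W hW) :=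
    cf_iso _ ⟨Submodule.comapSubtypeEquivOfLe le_sup_right, fun g x => rfl⟩
  let f : R →ₗ[k] (R ⊔ W : Submodule k V) ⧸ W' := W'.mkQ ∘ₗ Submodule.inclusion le_sup_left
  have hf : ∀ g x, f (subRep σ R hR g x) = quotRep τ W' hW' g (f x) := fun g x => by
    rw [LinearMap.comp_apply, LinearMap.comp_apply, quotRep_mk]
    rfl
  have hfi : Function.Injective f := by
    rw [← LinearMap.ker_eq_bot, eq_bot_iff]
    intro x hx
    have h2 : (x : V) ∈ R ⊓ W := ⟨x.2, (Submodule.Quotient.mk_eq_zero W').1 hx⟩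
    rw [hd, Submodule.mem_bot] at h2
    exact (Submodule.mem_bot k).2 (Subtype.ext h2)
  have hfs : Function.Surjective f := by
    intro z
    obtain ⟨⟨z, hz⟩, rfl⟩ := W'.mkQ_surjective z
    obtain ⟨r, hr, w', hw', rfl⟩ := Submodule.mem_sup.1 hz
    refine ⟨⟨r, hr⟩, ?_⟩
    show W'.mkQ _ = W'.mkQ _
    rw [Submodule.mkQ_apply, Submodule.mkQ_apply, Submodule.Quotient.eq]
    show (r : V) - (r + w') ∈ W
    rw [sub_add_cancel_left]
    exact W.neg_mem hw'
  have h2 : cf (Sy.{u, v, w} ι p) (subRep σ R hR) = cf (Sy.{u, v, w} ι p) (quotRep τ W' hW') :=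
    cf_iso _ ⟨LinearEquiv.ofBijective f ⟨hfi, hfs⟩, hf⟩
  rw [cf_add _ τ W' hW', h1, ← h2, add_comm]

theorem sup_st {R W : Submodule k V} (hR : ∀ g, ∀ x ∈ R, σ g x ∈ R) (hW : ∀ g, ∀ x ∈ W, σ g x ∈ W) :
    ∀ g, ∀ x ∈ R ⊔ W, σ g x ∈ R ⊔ W := by
  intro g x hx
  obtain ⟨y, hy, z, hz, rfl⟩ := Submodule.mem_sup.1 hx
  rw [map_add]
  exact Submodule.add_mem_sup (hR g y hy) (hW g z hz)

theorem inf_st {R W : Submodule k V} (hR : ∀ g, ∀ x ∈ R, σ g x ∈ R) (hW : ∀ g, ∀ x ∈ W, σ g x ∈ W) :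
    ∀ g, ∀ x ∈ R ⊓ W, σ g x ∈ R ⊓ W := fun g x hx => ⟨hR g x hx.1, hW g x hx.2⟩

theorem cf_disj {R W I : Submodule k V} (hR : ∀ g, ∀ x ∈ R, σ g x ∈ R) (hW : ∀ g, ∀ x ∈ W, σ g x ∈ W)
    (hI : ∀ g, ∀ x ∈ I, σ g x ∈ I) (hd : R ⊓ W = ⊥) (hRI : R ≤ I) (hWI : W ≤ I) :
    ∃ n : Multiset ℕ, cf (Sy.{u, v, w} ι p) (subRep σ I hI) =
      cf (Sy.{u, v, w} ι p) (subRep σ R hR) + cf (Sy.{u, v, w} ι p) (subRep σ W hW) + n ∧ (n = 0 → I ≤ R ⊔ W) := by
  have hS := sup_st hR hW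
  obtain ⟨n, h1, h2⟩ := cf_pair (ι := ι) (p := p) hS hI (sup_le hRI hWI)
  exact ⟨n, by rw [h1, cf_disj0 hR hW hd hS], h2⟩

/-- nonzero submodules -/
theorem cf_ne_zero {R : Submodule k V} (hR : ∀ g, ∀ x ∈ R, σ g x ∈ R) (h : R ≠ ⊥) :
    cf (Sy.{u, v, w} ι p) (subRep σ R hR) ≠ 0 := by
  intro h0
  have h1 := cf_eq_zero _ h0
  apply h
  rw [eq_bot_iff]
  intro x hx
  have h2 : (⟨x, hx⟩ : R) = 0 := Subsingleton.elim _ _
  exact (Submodule.mem_bot k).2 (congrArg Subtype.val h2)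

end Cf

end Cfsg.Agent.R2.F4L
end

-- part: R2/F4L/I4
section
prune_inst 0x444000c000000000050010201c428200040000480000a040060c0e80286089000820a0300512808a80050830004811100110420000000a0000000119008000011202b008a008480010000080000000000000000000000000000000000004000000000
set_option linter.all false
open scoped Cfsg.Agent.FastGrp

/-!
# The isotropic `V_{4 p^i}` gives an isotropic `V_{8 p^i}`, `p ≥ 11` (helper2, S5931)

* `Hs`, `ts_Hs` : the Hessian of a tuple; `Ga_fix` : the invariant;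
* `Cx.i4`.
-/

set_option autoImplicit false
set_option linter.unusedSectionVars false
set_option linter.unusedVariables false

namespace Cfsg.Agent.R2.F4L

open Cfsg.Lie
open Cfsg.Agent.ChevalleyStructure.E6Min.Tables Cfsg.Agent.ChevalleyStructure.E6Min.Basic
open Cfsg.Agent.H952.F4 (sh cr tf tr1 u0)
open Cfsg.Agent.H952.F4.Jord
open Cfsg.Agent.H943.SL2Rel Cfsg.Agent.H943.SL2Mod Cfsg.Agent.R2.H28.SL2 Cfsg.Agent.H943.RepAdd
open Cfsg.Agent.R2.F4T (Iso Nd)

universe u v w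

variable {k : Type u} [Field k] [DecidableEq k] {K : Type w} [Field K] [Fintype K] [DecidableEq K] {ι : K →+* k}
variable {p : ℕ} [Fact p.Prime] [CharP k p] [CharP K p] {a : ℕ}

section Sq

variable {V : Type v} [AddCommGroup V] [Module k V] {σ : Representation k (Matrix.SpecialLinearGroup (Fin 2) K) V}
variable {V' : Type*} [AddCommGroup V'] [Module k V'] {τ : Representation k (Matrix.SpecialLinearGroup (Fin 2) K) V'}
variable {i : ℕ} {x : ℕ → V}

/-- the Hessian of a tuple of type `(4, i)` -/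
def Hs (β : V →ₗ[k] V →ₗ[k] V') (x : ℕ → V) : ℕ → V' := fun s => match s with
  | 0 => β (x 0) (x 2) - β (x 1) (x 1)
  | 1 => (2 : k)⁻¹ • (β (x 0) (x 3) - β (x 1) (x 2))
  | 2 => (6 : k)⁻¹ • (β (x 0) (x 4) + (2 : k) • β (x 1) (x 3) - (3 : k) • β (x 2) (x 2))
  | 3 => (2 : k)⁻¹ • (β (x 1) (x 4) - β (x 2) (x 3))
  | 4 => β (x 2) (x 4) - β (x 3) (x 3)
  | _ => 0

/-- the invariant -/
def Ga (β : V →ₗ[k] V →ₗ[k] V') (x : ℕ → V) : V' :=
  β (x 0) (x 4) - (4 : k) • β (x 1) (x 3) + (3 : k) • β (x 2) (x 2)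

variable {β : V →ₗ[k] V →ₗ[k] V'} (hs : ∀ x y, β x y = β y x) (hβ : ∀ g x y, β (σ g x) (σ g y) = τ g (β x y))

include hs hβ

theorem ts_Hs (hp5 : 5 ≤ p) (hx : TS ι p σ 4 i x) : TS ι p τ 4 i (Hs β x) := by
  have h2 : (2 : k) ≠ 0 := two_ne p (by omega)
  have h6 : (6 : k) ≠ 0 := six_ne p hp5
  refine ts_of_bot (by omega) (fun s hs' => ?_) (fun t => ?_) (fun b => ?_) (fun s hs' => ?_)
  · match s with
    | 0 | 1 | 2 | 3 | 4 => omega
    | s + 5 => rfl
  · show τ (u t) (β (x 0) (x 2) - β (x 1) (x 1)) = _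
    rw [map_sub, ← hβ, ← hβ, ts4_u0 hx, ts4_u1 hx, ts4_u2 hx]
    simp only [Finset.sum_range_succ, Finset.sum_range_zero, zero_add, Nat.choose]
    simp only [map_add, map_smul, LinearMap.add_apply, LinearMap.smul_apply]
    rw [hs (x 2) (x 1), hs (x 3) (x 1), hs (x 4) (x 1), hs (x 3) (x 2), hs (x 4) (x 2), hs (x 4) (x 3)]
    simp only [Hs]
    match_scalars <;> field_simp <;> ring
  · have hb0 : ι (b : K) ^ p ^ i ≠ 0 := pow_ne_zero _ ((map_ne_zero ι).2 b.ne_zero)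
    show τ (h b) (β (x 0) (x 2) - β (x 1) (x 1)) = ((ι b ^ p ^ i)⁻¹) ^ 4 • (β (x 0) (x 2) - β (x 1) (x 1))
    rw [map_sub, ← hβ, ← hβ, hx.h 0 (by norm_num), hx.h 1 (by norm_num), hx.h 2 (by norm_num)]
    simp only [map_smul, LinearMap.smul_apply, smul_smul, smul_sub]
    congr 2
    all_goals
      norm_num
    all_goals
      field_simp
  · have hs'' : s = 0 ∨ s = 1 ∨ s = 2 ∨ s = 3 ∨ s = 4 := by omega
    rcases hs'' with rfl | rfl | rfl | rfl | rfl
    all_goals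
      simp only [Hs]
      simp only [map_add, map_sub, map_smul, ← hβ, ts4_w0 hx, ts4_w1 hx, ts4_w2 hx, ts4_w3 hx, ts4_w4 hx, map_neg,
        LinearMap.neg_apply]
      try simp only [hs (x 4) (x 3), hs (x 4) (x 2), hs (x 4) (x 1), hs (x 4) (x 0), hs (x 3) (x 2), hs (x 3) (x 1),
        hs (x 3) (x 0), hs (x 2) (x 1), hs (x 2) (x 0), hs (x 1) (x 0)]
      module

theorem Ga_fix (hx : TS ι p σ 4 i x) (g : Matrix.SpecialLinearGroup (Fin 2) K) : τ g (Ga β x) = Ga β x := by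
  refine fix_of (fun t => ?_) (fun b => ?_) ?_ g
  · show τ (u t) (β (x 0) (x 4) - (4 : k) • β (x 1) (x 3) + (3 : k) • β (x 2) (x 2)) =
      β (x 0) (x 4) - (4 : k) • β (x 1) (x 3) + (3 : k) • β (x 2) (x 2)
    rw [map_add, map_sub, map_smul, map_smul, ← hβ, ← hβ, ← hβ, ts4_u0 hx, ts4_u1 hx, ts4_u2 hx, ts4_u3 hx, ts4_u4 hx]
    simp only [map_add, map_smul, LinearMap.add_apply, LinearMap.smul_apply]
    rw [hs (x 3) (x 2), hs (x 4) (x 2), hs (x 4) (x 3)]
    module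
  · have hb0 : ι (b : K) ^ p ^ i ≠ 0 := pow_ne_zero _ ((map_ne_zero ι).2 b.ne_zero)
    show τ (h b) (β (x 0) (x 4) - (4 : k) • β (x 1) (x 3) + (3 : k) • β (x 2) (x 2)) =
      β (x 0) (x 4) - (4 : k) • β (x 1) (x 3) + (3 : k) • β (x 2) (x 2)
    rw [map_add, map_sub, map_smul, map_smul, ← hβ, ← hβ, ← hβ, ts4_h hx (by norm_num), ts4_h hx (by norm_num),
      ts4_h hx (by norm_num), ts4_h hx (by norm_num), ts4_h hx (by norm_num)]
    simp only [map_smul, LinearMap.smul_apply, smul_smul, ← zpow_add₀ hb0]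
    norm_num
  · show τ w (β (x 0) (x 4) - (4 : k) • β (x 1) (x 3) + (3 : k) • β (x 2) (x 2)) =
      β (x 0) (x 4) - (4 : k) • β (x 1) (x 3) + (3 : k) • β (x 2) (x 2)
    simp only [map_add, map_sub, map_smul, ← hβ, ts4_w0 hx, ts4_w1 hx, ts4_w2 hx, ts4_w3 hx, ts4_w4 hx, map_neg,
        LinearMap.neg_apply, neg_neg]
    rw [hs (x 4) (x 0), hs (x 3) (x 1)]

end Sq

section Emb

variable {ρ : Representation k (Matrix.SpecialLinearGroup (Fin 2) K) (I27 → k)}
variable {V : Type v} [AddCommGroup V] [Module k V] {σ : Representation k (Matrix.SpecialLinearGroup (Fin 2) K) V}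
variable {j : V →ₗ[k] (I27 → k)} {i : ℕ}

/-- isotropic vectors : `T(v ∘ v, v ∘ v) = 0` -/
theorem quart (E : Em ρ σ j) (h2 : (2 : k) ≠ 0) (h3 : (3 : k) ≠ 0) {v : V} (hv : Pj j v v = 0) :
    Pj j (stV E h3 v v) (stV E h3 v v) = 0 := by
  rw [Pj_apply] at hv
  rw [Pj_apply, j_stV]
  unfold R2.H1.F4.st
  rw [hv, zero_div, zero_smul, add_zero, cr_self]
  have h4 := tr1_sh (sh (j v))
  rw [sh_sh, tr1_smul, E.tr, mul_zero, mul_zero] at h4
  have h5 := tr1_sh (j v)
  rw [E.tr, hv] at h5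
  have h6 : tr1 (sh (j v)) = 0 := by
    have : (2 : k) * tr1 (sh (j v)) = 0 := by rw [h5]; ring
    exact (mul_eq_zero.1 this).resolve_left h2
  rw [h6] at h4
  rw [tf_smul_left, tf_smul_right]
  linear_combination (4 : k) * h4

section Alg

variable [IsAlgClosed k] [FiniteDimensional k V]

/-- a tuple with nonvanishing highest product -/
theorem Cx.exists_top (C : Cx ι p a ρ) (E : Em ρ σ j) (hQ : 11 ≤ Fintype.card K) (hi : i < a)
    (hc : (cf (Sy.{u, v, w} ι p) σ).count (4 * p ^ i) ≤ 3) (hsoc : InSoc ι p σ (4 * p ^ i))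
    (hiso : ∀ (X : Submodule k V) (hX : ∀ g, ∀ x ∈ X, σ g x ∈ X), IsV ι p (subRep σ X hX) (4 * p ^ i) → Iso (Pj j) X) :
    ∃ x : ℕ → V, TS ι p σ 4 i x ∧ stV E C.three (x 4) (x 4) ≠ 0 := by
  have hp5 := C.hp5
  have hb := C.lt_card (n := 4) (i := i) (by omega) hi
  by_contra hcon
  push Not at hcon
  have hv : ∀ y, TS ι p ρ 4 i y → sh (y 4) = 0 := by
    intro y hy
    obtain ⟨x, hx, ex⟩ := E.lift C.act (by omega) (by norm_num) hb hy
    have h11 := congrArg j (hcon x hx)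
    rw [j_stV, map_zero, ex] at h11
    refine R2.H1.F4.sh_of_sq C.two C.three ?_ h11
    rw [← ex]
    exact E.tr _
  obtain ⟨z, hz, hzz, -⟩ := C.dead4 E hQ hi hv hc hsoc
  obtain ⟨x, hx, ex⟩ := E.lift C.act (by omega) (by norm_num) hb hz
  have hx0 : x ≠ 0 := by
    rintro rfl
    apply hzz
    rw [← ex]
    show tf (j 0) (j 0) = 0
    rw [map_zero, tf_zero_left]
  obtain ⟨hX, hV⟩ := hx.isV (by omega) hb hx0
  have h1 := hiso _ hX hV (x 2) (Submodule.subset_span ⟨2, rfl⟩) (x 2) (Submodule.subset_span ⟨2, rfl⟩)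
  rw [Pj_apply, ex] at h1
  exact hzz h1

/-- **an isotropic `V_{8 p^i}`** -/
theorem Cx.i4 (C : Cx ι p a ρ) (E : Em ρ σ j) (hp : 11 ≤ p) (hi : i < a)
    (hc : (cf (Sy.{u, v, w} ι p) σ).count (4 * p ^ i) ≤ 3) (hsoc : InSoc ι p σ (4 * p ^ i))
    (hiso : ∀ (X : Submodule k V) (hX : ∀ g, ∀ x ∈ X, σ g x ∈ X), IsV ι p (subRep σ X hX) (4 * p ^ i) → Iso (Pj j) X) :
    ∃ (Y : Submodule k V) (hY : ∀ g, ∀ x ∈ Y, σ g x ∈ Y), IsV ι p (subRep σ Y hY) (8 * p ^ i) ∧ Iso (Pj j) Y := by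
  have hp5 := C.hp5
  have hpr : p.Prime := Fact.out
  have hQ : 11 ≤ Fintype.card K := C.hQ (Or.inl (by omega)) (Or.inl (by omega))
  have hb := C.lt_card (n := 4) (i := i) (by omega) hi
  have hb8 := C.lt_card (n := 8) (i := i) (by omega) hi
  have h2 := C.two
  have h3 := C.three
  obtain ⟨x, hx, hx4⟩ := C.exists_top E hQ hi hc hsoc hiso
  set β := stV E C.three with hβd
  have hs : ∀ x y, β x y = β y x := stV_comm E C.three
  have hβ : ∀ g x y, β (σ g x) (σ g y) = σ g (β x y) := fun g x y => stV_eqv E C.act C.three g x y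
  have hinv : ∀ g x y, Pj j (σ g x) (σ g y) = Pj j x y := (E.dul C.act C.three).1
  have hxne : x ≠ 0 := by
    rintro rfl
    apply hx4
    show β 0 0 = 0
    rw [map_zero]
  have isoT : ∀ y : ℕ → V, TS ι p σ 4 i y → ∀ s t, Pj j (y s) (y t) = 0 := by
    intro y hy s t
    by_cases hy0 : y = 0
    · rw [hy0]
      show Pj j 0 0 = 0
      rw [map_zero]
    · obtain ⟨hX, hV⟩ := hy.isV (by omega) hb hy0
      exact hiso _ hX hV _ (Submodule.subset_span ⟨s, rfl⟩) _ (Submodule.subset_span ⟨t, rfl⟩)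
  have hD := wt_Ds hs hβ (by omega) hx
  set D := Ds β x with hDd
  have hch : ∀ m ≤ 8, ((8 : ℕ).choose m : k) ≠ 0 := fun m hm => choose_ne' k (by omega : 8 < p) hm
  let z : ℕ → V := fun m => ((8 : ℕ).choose m : k)⁻¹ • D m
  have hz : TS ι p σ 8 i z := by
    refine ts_of_bot (by omega) (fun s hs' => ?_) (fun t => ?_) (fun b => ?_) (fun s hs' => ?_)
    · show ((8 : ℕ).choose s : k)⁻¹ • D s = 0
      rw [hD.zero s hs', smul_zero]
    · show σ (u t) (((8 : ℕ).choose 0 : k)⁻¹ • D 0) = _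
      rw [Nat.choose_zero_right, Nat.cast_one, inv_one, one_smul, hD.u_bot]
      refine Finset.sum_congr rfl fun m hm => ?_
      rw [Finset.mem_range] at hm
      show _ = (((8 : ℕ).choose m : k) * (ι t ^ p ^ i) ^ m) • ((8 : ℕ).choose m : k)⁻¹ • D m
      rw [smul_smul]
      congr 1
      have := hch m (by omega)
      field_simp
    · show σ (h b) (((8 : ℕ).choose 0 : k)⁻¹ • D 0) = ((ι b ^ p ^ i)⁻¹) ^ 8 • ((8 : ℕ).choose 0 : k)⁻¹ • D 0
      rw [Nat.choose_zero_right, Nat.cast_one, inv_one, one_smul, hD.h 0 (by norm_num)]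
      norm_num
    · show σ w (((8 : ℕ).choose s : k)⁻¹ • D s) = (-1 : k) ^ s • ((8 : ℕ).choose (8 - s) : k)⁻¹ • D (8 - s)
      rw [map_smul, hD.w s hs', Nat.choose_symm hs', smul_comm]
  have hb' := ts_Hs hs hβ hp5 hx
  set B := Hs β x with hBd
  have hG : Ga β x = 0 := by
    apply E.inj
    rw [map_zero]
    exact C.fix0 (E.tr _) fun g => by rw [← E.eqv, Ga_fix hs hβ hx]
  -- the products
  have hz8 : z 8 = β (x 4) (x 4) := by
    show ((8 : ℕ).choose 8 : k)⁻¹ • D 8 = _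
    rw [Nat.choose_self, Nat.cast_one, inv_one, one_smul]
    rfl
  have hz0 : z 0 = β (x 0) (x 0) := by
    show ((8 : ℕ).choose 0 : k)⁻¹ • D 0 = _
    rw [Nat.choose_zero_right, Nat.cast_one, inv_one, one_smul]
    rfl
  have h70 : (70 : k) ≠ 0 := by
    have := hch 4 (by norm_num)
    rwa [show (8 : ℕ).choose 4 = 70 by decide, Nat.cast_ofNat] at this
  have hbig : ∀ m : ℕ, 0 < m → (∀ q, q.Prime → q ∣ m → q ≤ 7) → (m : k) ≠ 0 := by
    intro m hm hq h0
    have h1 : p ∣ m := (CharP.cast_eq_zero_iff k p m).1 h0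
    have := hq p hpr h1
    omega
  have h04 : β (x 0) (x 4) = z 4 + ((24 : k) / 7) • B 2 := by
    have e1 : z 4 = (70 : k)⁻¹ • D 4 := by
      show ((8 : ℕ).choose 4 : k)⁻¹ • D 4 = _
      rw [show (8 : ℕ).choose 4 = 70 by decide, Nat.cast_ofNat]
    have e2 : B 2 = (6 : k)⁻¹ • (β (x 0) (x 4) + (2 : k) • β (x 1) (x 3) - (3 : k) • β (x 2) (x 2)) := rfl
    have e3 : D 4 = (36 : k) • β (x 2) (x 2) + (2 : k) • β (x 0) (x 4) + (32 : k) • β (x 1) (x 3) := rfl
    have e4 : β (x 0) (x 4) - (4 : k) • β (x 1) (x 3) + (3 : k) • β (x 2) (x 2) = 0 := hG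
    have h6 : (6 : k) ≠ 0 := six_ne p hp5
    have h7 : (7 : k) ≠ 0 := by
      intro h7
      apply h70
      rw [show (70 : k) = 7 * 10 by norm_num, h7, zero_mul]
    have h5 : (5 : k) ≠ 0 := by
      intro h7
      apply h70
      rw [show (70 : k) = 5 * 14 by norm_num, h7, zero_mul]
    rw [e1, e2, e3]
    have e5 : ((2 : k) / 5) • (β (x 0) (x 4) - (4 : k) • β (x 1) (x 3) + (3 : k) • β (x 2) (x 2)) = 0 := by
      rw [e4, smul_zero]
    rw [← add_zero ((70 : k)⁻¹ • _ + _), ← e5]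
    match_scalars <;> field_simp <;> ring
  -- the form
  have hzz : ∀ s ≤ 8, ∀ t ≤ 8, Pj j (z s) (z t) =
      if s + t = 8 then (-1) ^ s * ((8 : ℕ).choose s : k)⁻¹ * Pj j (z 0) (z 8) else 0 :=
    fun s hs' t ht => ts_form hinv (by omega) hz hz hs' ht
  have hzne : z ≠ 0 := by
    intro h0
    apply hx4
    rw [← hz8, h0]
    rfl
  obtain ⟨hY, hVY⟩ := hz.isV (by omega) hb8 hzne
  have hzB : ∀ s t, Pj j (z s) (B t) = 0 ∧ Pj j (B t) (z s) = 0 := by
    intro s t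
    by_cases hB0 : B = 0
    · rw [hB0]
      show Pj j (z s) 0 = 0 ∧ Pj j 0 (z s) = 0
      rw [map_zero, map_zero]
      exact ⟨rfl, rfl⟩
    · obtain ⟨hX, hVX⟩ := hb'.isV (by omega) hb hB0
      have hne : 8 * p ^ i ≠ 4 * p ^ i := by
        have := Nat.pow_pos (n := i) hpr.pos
        omega
      exact ⟨orth_ne (E.dul C.act C.three) hne hVY hVX _ (Submodule.subset_span ⟨s, rfl⟩) _ (Submodule.subset_span ⟨t, rfl⟩),
        orth_ne (E.dul C.act C.three) hne.symm hVX hVY _ (Submodule.subset_span ⟨t, rfl⟩) _ (Submodule.subset_span ⟨s, rfl⟩)⟩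
  have hBB := isoT B hb'
  -- the quartic relation
  have hq : Pj j (β (x 0 + x 4) (x 0 + x 4)) (β (x 0 + x 4) (x 0 + x 4)) = 0 := by
    refine quart E h2 C.three ?_
    have := isoT x hx
    rw [map_add, map_add, LinearMap.add_apply, LinearMap.add_apply, this, this, this, this]
    norm_num
  have e1 : β (x 0 + x 4) (x 0 + x 4) = z 0 + (2 : k) • (z 4 + ((24 : k) / 7) • B 2) + z 8 := by
    rw [← h04, hz0, hz8]
    simp only [map_add, LinearMap.add_apply]
    rw [hs (x 4) (x 0)]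
    module
  have hk : Pj j (z 0) (z 8) = 0 := by
    have e80 : Pj j (z 8) (z 0) = Pj j (z 0) (z 8) := by
      rw [Pj_apply, Pj_apply, tf_comm]
    have e44 : Pj j (z 4) (z 4) = (70 : k)⁻¹ * Pj j (z 0) (z 8) := by
      rw [hzz 4 (by norm_num) 4 (by norm_num), if_pos rfl, show (8 : ℕ).choose 4 = 70 by decide]
      norm_num
    rw [e1] at hq
    simp only [map_add, map_smul, LinearMap.add_apply, LinearMap.smul_apply, smul_eq_mul, (hzB _ _).1, (hzB _ _).2, hBB,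
      hzz 0 (by norm_num) 0 (by norm_num), hzz 0 (by norm_num) 4 (by norm_num), hzz 4 (by norm_num) 0 (by norm_num),
      hzz 8 le_rfl 4 (by norm_num), hzz 4 (by norm_num) 8 le_rfl, hzz 8 le_rfl 8 le_rfl] at hq
    norm_num at hq
    rw [e80, e44] at hq
    have h144 : (144 : k) ≠ 0 := by
      intro h0
      have h1 : ((144 : ℕ) : k) = 0 := by exact_mod_cast h0
      refine hbig 144 (by norm_num) (fun q hq hd => ?_) h1
      have h2 : q ∣ 2 ^ 4 * 3 ^ 2 := by norm_num; exact hd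
      rcases (Nat.Prime.dvd_mul hq).1 h2 with h3 | h3
      · have := Nat.le_of_dvd (by norm_num) (hq.dvd_of_dvd_pow h3)
        omega
      · have := Nat.le_of_dvd (by norm_num) (hq.dvd_of_dvd_pow h3)
        omega
    have h5 : (144 : k) * Pj j (z 0) (z 8) = 0 := by
      field_simp at hq
      linear_combination hq
    exact (mul_eq_zero.1 h5).resolve_left h144
  refine ⟨_, hY, hVY, fun m hm m' hm' => ?_⟩
  have hz' : ∀ s t, Pj j (z s) (z t) = 0 := by
    intro s t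
    by_cases hs8 : s ≤ 8
    · by_cases ht8 : t ≤ 8
      · rw [hzz s hs8 t ht8, hk]
        simp
      · rw [hz.zero t (by omega), map_zero]
    · rw [hz.zero s (by omega), map_zero]
      rfl
  induction hm using Submodule.span_induction with
  | mem m hm =>
    obtain ⟨s, rfl⟩ := hm
    induction hm' using Submodule.span_induction with
    | mem m' hm' =>
      obtain ⟨t, rfl⟩ := hm'
      exact hz' s t
    | zero => rw [map_zero]
    | add a b _ _ ha hb => rw [map_add, ha, hb, add_zero]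
    | smul c a _ ha => rw [map_smul, ha, smul_zero]
  | zero => rw [map_zero, LinearMap.zero_apply]
  | add a b _ _ ha hb => rw [map_add, LinearMap.add_apply, ha, hb, add_zero]
  | smul c a _ ha => rw [map_smul, LinearMap.smul_apply, ha, smul_zero]

end Alg

end Emb

end Cfsg.Agent.R2.F4L

private theorem dce_de87448b81dc : _root_.True := by
  try have : _root_.True := by simp only [_root_.Cfsg.Agent.R2.F4L.stV.congr_simp]
  try have : _root_.True := by simp only [_root_.Cfsg.Agent.R2.F4L.Hs.eq_1]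
  try have : _root_.True := by simp only [_root_.Cfsg.Agent.R2.F4L.Hs.eq_5]
  try have : _root_.True := by simp only [_root_.Cfsg.Agent.R2.F4L.Hs.eq_3]
  try have : _root_.True := by simp only [_root_.Cfsg.Agent.R2.F4L.Hs.eq_4]
  try have : _root_.True := by simp only [_root_.Cfsg.Agent.R2.F4L.Hs.eq_6]
  try have : _root_.True := by simp only [_root_.Cfsg.Agent.R2.F4L.Hs.eq_2]
  exact _root_.True.intro
end

-- part: R2/F4P/Th/Y9a
section
prune_inst 0x40000c000000000000010201c428200040000080000800000080cc0084000000020a0100010008000050030000811000010420000000a000000011800800001000030000008400010000080000000000000000000000000000000000000000000000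
set_option linter.all false
open scoped Cfsg.Agent.FastGrp

-- part: R2/F4P/Th/TPb
section
/-!
# Two-digit tuples and submodules (helper20, S5931)

* `TP.linb` : the homomorphism of a tuple; `TP.isVb` : the span of a nonzero tuple is `V_{n p^i + m p^j}`, the tuple is
  linearly independent; `TP.schurb` : two tuples in an irreducible module are proportional.
-/

set_option autoImplicit false
set_option linter.unusedSectionVars false
set_option linter.unusedVariables false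

namespace Cfsg.Agent.R2.F4P.Th

open Cfsg.Agent.H943.SL2Rel Cfsg.Agent.H943.SL2Mod Cfsg.Agent.R2.H28.SL2 Cfsg.Agent.H943.RepAdd
open Cfsg.Agent.R2.F4L

universe u v w

variable {k : Type u} [Field k] [DecidableEq k] {K : Type w} [Field K] [Fintype K] [DecidableEq K] {ι : K →+* k}
variable {p : ℕ} [Fact p.Prime] [CharP k p] [CharP K p] {a : ℕ}
variable {V : Type v} [AddCommGroup V] [Module k V] {σ : Representation k (Matrix.SpecialLinearGroup (Fin 2) K) V}
variable {n m i j : ℕ} {x y : ℕ → ℕ → V}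

/-- **the homomorphism of a tuple** -/
theorem TP.linb {M : Type*} [AddCommGroup M] [Module k M] {τ : Representation k (Matrix.SpecialLinearGroup (Fin 2) K) M}
    {v : ℕ → ℕ → M} (hv : BasP ι p τ n i m j v) (hx : TP ι p σ n i m j x) :
    ∃ f : M →ₗ[k] V, (∀ s s', f (v s s') = x s s') ∧ ∀ g m, f (τ g m) = σ g (f m) := by
  let B : Module.Basis (Fin (n + 1) × Fin (m + 1)) k M := Module.Basis.mk hv.li hv.sp
  have hB : ∀ s : Fin (n + 1) × Fin (m + 1), B s = v s.1 s.2 := fun s => Module.Basis.mk_apply _ _ _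
  let f : M →ₗ[k] V := B.constr k fun s : Fin (n + 1) × Fin (m + 1) => x s.1 s.2
  have hf0 : ∀ s : Fin (n + 1) × Fin (m + 1), f (v s.1 s.2) = x s.1 s.2 := fun s => by
    rw [← hB, Module.Basis.constr_basis]
  have hf : ∀ s s', f (v s s') = x s s' := by
    intro s s'
    by_cases hs : s ≤ n ∧ s' ≤ m
    · exact hf0 (⟨s, by omega⟩, ⟨s', by omega⟩)
    · rw [hv.zero s s' (by omega), hx.zero s s' (by omega), map_zero]
  have ext : ∀ g, (∀ s ≤ n, ∀ s' ≤ m, f (τ g (v s s')) = σ g (x s s')) → ∀ m, f (τ g m) = σ g (f m) := by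
    intro g hg m'
    have h1 : f ∘ₗ τ g = σ g ∘ₗ f := by
      refine B.ext fun s => ?_
      rw [LinearMap.comp_apply, LinearMap.comp_apply, hB, hf]
      exact hg s.1 (by omega) s.2 (by omega)
    exact LinearMap.congr_fun h1 m'
  refine ⟨f, hf, ?_⟩
  refine induct (P := fun g => ∀ m, f (τ g m) = σ g (f m)) (fun t => ext _ fun s hs s' hs' => ?_)
    (fun b => ext _ fun s hs s' hs' => ?_) (ext _ fun s hs s' hs' => ?_) (fun g g' hg hg' m => ?_)
  · rw [hv.u s hs s' hs', hx.u s hs s' hs', map_sum]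
    refine Finset.sum_congr rfl fun l _ => ?_
    rw [map_sum]
    exact Finset.sum_congr rfl fun l' _ => by rw [map_smul, hf]
  · rw [hv.h s hs s' hs', hx.h s hs s' hs', map_smul, hf]
  · rw [hv.w s hs s' hs', hx.w s hs s' hs', map_smul, hf]
  · rw [map_mul, map_mul, Module.End.mul_apply, Module.End.mul_apply, hg, hg']

omit [CharP k p] [CharP K p] in
/-- labels with two digits -/
theorem label_lt2 (hF : Fintype.card K = p ^ a) (hn : n < p) (hm : m < p) (hij : i ≠ j) (hi : i < a) (hj : j < a) :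
    n * p ^ i + m * p ^ j ≤ Fintype.card K - 1 := by
  have hp : p.Prime := Fact.out
  have key : ∀ {n m i j : ℕ}, n < p → m < p → i < j → j < a → n * p ^ i + m * p ^ j < p ^ a := by
    intro n m i j hn hm hij hj
    have h1 : n * p ^ i < p ^ j := by
      calc n * p ^ i < p * p ^ i := Nat.mul_lt_mul_of_pos_right hn (pow_pos hp.pos _)
        _ = p ^ (i + 1) := by rw [pow_succ, mul_comm]
        _ ≤ p ^ j := Nat.pow_le_pow_right hp.pos hij
    calc n * p ^ i + m * p ^ j < p ^ j + m * p ^ j := by omega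
      _ = (m + 1) * p ^ j := by ring
      _ ≤ p * p ^ j := Nat.mul_le_mul_right _ hm
      _ = p ^ (j + 1) := by rw [pow_succ, mul_comm]
      _ ≤ p ^ a := Nat.pow_le_pow_right hp.pos hj
  rw [hF]
  rcases lt_or_gt_of_ne hij with h | h
  · have := key hn hm h hj
    omega
  · have := key hm hn h hi
    omega

section

variable [IsAlgClosed k]

/-- an embedding of `V_{n p^i + m p^j}` -/
theorem TP.emb (hF : Fintype.card K = p ^ a) (hn : n < p) (hm : m < p) (hij : i ≠ j) (hi : i < a) (hj : j < a)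
    (hx : TP ι p σ n i m j x) (hx0 : x ≠ 0) :
    ∃ (M : Type (max u w)) (_ : AddCommGroup M) (_ : Module k M) (τ : Representation k (Matrix.SpecialLinearGroup (Fin 2) K) M)
      (v : ℕ → ℕ → M) (f : M →ₗ[k] V), IsV ι p τ (n * p ^ i + m * p ^ j) ∧ BasP ι p τ n i m j v ∧
      (∀ s s', f (v s s') = x s s') ∧ (∀ g m, f (τ g m) = σ g (f m)) ∧ Function.Injective f := by
  have hb := label_lt2 (a := a) (K := K) hF hn hm hij hi hj
  have hV : IsV ι p (RB (k := k) ι p hb) (n * p ^ i + m * p ^ j) := ⟨hb, LinearEquiv.refl k _, fun _ _ => rfl⟩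
  obtain ⟨v, hv⟩ := hV.basP ι p hF hn hm hij hi hj
  obtain ⟨f, hf, he⟩ := hx.linb hv
  have hne : f ≠ 0 := by
    intro h0
    apply hx0
    funext s s'
    rw [← hf s s', h0]
    rfl
  have hker : LinearMap.ker f = ⊥ := by
    rcases (IsV.irr ι p hV).2 (LinearMap.ker f) (fun g m hm => by
      rw [LinearMap.mem_ker] at hm ⊢
      rw [he, hm, map_zero]) with h1 | h1
    · exact h1
    · exfalso
      exact hne (LinearMap.ker_eq_top.1 h1)
  exact ⟨_, _, _, _, v, f, hV, hv, hf, he, LinearMap.ker_eq_bot.1 hker⟩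

/-- **linear independence** -/
theorem TP.li (hF : Fintype.card K = p ^ a) (hn : n < p) (hm : m < p) (hij : i ≠ j) (hi : i < a) (hj : j < a)
    (hx : TP ι p σ n i m j x) (hx0 : x ≠ 0) :
    LinearIndependent k (fun q : Fin (n + 1) × Fin (m + 1) => x q.1 q.2) := by
  obtain ⟨M, _, _, τ, v, f, hV, hv, hf, he, hinj⟩ := hx.emb hF hn hm hij hi hj hx0
  have h1 := hv.li.map' f (LinearMap.ker_eq_bot.2 hinj)
  have h2 : (f ∘ fun q : Fin (n + 1) × Fin (m + 1) => v q.1 q.2) = fun q : Fin (n + 1) × Fin (m + 1) => x q.1 q.2 := by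
    funext q
    exact hf _ _
  rw [h2] at h1
  exact h1

/-- a nonzero tuple has no zero entries -/
theorem TP.ne_of (hF : Fintype.card K = p ^ a) (hn : n < p) (hm : m < p) (hij : i ≠ j) (hi : i < a) (hj : j < a)
    (hx : TP ι p σ n i m j x) (hx0 : x ≠ 0) {s s' : ℕ} (hs : s ≤ n) (hs' : s' ≤ m) : x s s' ≠ 0 :=
  (hx.li hF hn hm hij hi hj hx0).ne_zero (⟨s, by omega⟩, ⟨s', by omega⟩)

/-- the elements of the span -/
theorem TP.mem_span (hx : TP ι p σ n i m j x) {v : V} (hv : v ∈ Submodule.span k (Set.range fun q : ℕ × ℕ => x q.1 q.2)) :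
    ∃ c : ℕ → ℕ → k, v = ∑ s ∈ Finset.range (n + 1), ∑ s' ∈ Finset.range (m + 1), c s s' • x s s' := by
  induction hv using Submodule.span_induction with
  | mem v hv =>
    obtain ⟨⟨s, s'⟩, rfl⟩ := hv
    by_cases hs : s ≤ n ∧ s' ≤ m
    · refine ⟨fun l l' => if l = s ∧ l' = s' then 1 else 0, ?_⟩
      rw [Finset.sum_eq_single s, Finset.sum_eq_single s']
      · show x s s' = (if s = s ∧ s' = s' then (1 : k) else 0) • x s s'
        rw [if_pos ⟨rfl, rfl⟩, one_smul]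
      · intro l _ hl
        show (if s = s ∧ l = s' then (1 : k) else 0) • x s l = 0
        rw [if_neg (fun h => hl h.2), zero_smul]
      · intro h
        exact absurd (Finset.mem_range.2 (by omega)) h
      · intro l _ hl
        refine Finset.sum_eq_zero fun l' _ => ?_
        show (if l = s ∧ l' = s' then (1 : k) else 0) • x l l' = 0
        rw [if_neg (fun h => hl h.1), zero_smul]
      · intro h
        exact absurd (Finset.mem_range.2 (by omega)) h
    · refine ⟨0, ?_⟩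
      show x s s' = _
      rw [hx.zero s s' (by omega)]
      simp
  | zero => exact ⟨0, by simp⟩
  | add v v' _ _ h h' =>
    obtain ⟨c, rfl⟩ := h
    obtain ⟨c', rfl⟩ := h'
    refine ⟨c + c', ?_⟩
    rw [← Finset.sum_add_distrib]
    refine Finset.sum_congr rfl fun s _ => ?_
    rw [← Finset.sum_add_distrib]
    exact Finset.sum_congr rfl fun s' _ => (add_smul _ _ _).symm
  | smul b v _ h =>
    obtain ⟨c, rfl⟩ := h
    refine ⟨b • c, ?_⟩
    rw [Finset.smul_sum]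
    refine Finset.sum_congr rfl fun s _ => ?_
    rw [Finset.smul_sum]
    exact Finset.sum_congr rfl fun s' _ => smul_smul _ _ _

/-- **the span of a tuple** -/
theorem TP.isVb (hF : Fintype.card K = p ^ a) (hn : n < p) (hm : m < p) (hij : i ≠ j) (hi : i < a) (hj : j < a)
    (hx : TP ι p σ n i m j x) (hx0 : x ≠ 0) :
    ∃ hX : ∀ g, ∀ y ∈ Submodule.span k (Set.range fun q : ℕ × ℕ => x q.1 q.2), σ g y ∈
      Submodule.span k (Set.range fun q : ℕ × ℕ => x q.1 q.2),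
      IsV ι p (subRep σ (Submodule.span k (Set.range fun q : ℕ × ℕ => x q.1 q.2)) hX) (n * p ^ i + m * p ^ j) := by
  obtain ⟨M, _, _, τ, v, f, hV, hv, hf, he, hinj⟩ := hx.emb hF hn hm hij hi hj hx0
  have hr : LinearMap.range f = Submodule.span k (Set.range fun q : ℕ × ℕ => x q.1 q.2) := by
    apply le_antisymm
    · rintro _ ⟨m', rfl⟩
      have h1 : m' ∈ Submodule.span k (Set.range fun q : Fin (n + 1) × Fin (m + 1) => v q.1 q.2) := hv.sp trivial
      have h2 := Submodule.mem_map_of_mem (f := f) h1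
      rw [Submodule.map_span] at h2
      refine Submodule.span_mono ?_ h2
      rintro _ ⟨_, ⟨s, rfl⟩, rfl⟩
      exact ⟨(s.1, s.2), (hf _ _).symm⟩
    · rw [Submodule.span_le]
      rintro _ ⟨s, rfl⟩
      exact ⟨v s.1 s.2, hf _ _⟩
  have hX : ∀ g, ∀ y ∈ Submodule.span k (Set.range fun q : ℕ × ℕ => x q.1 q.2), σ g y ∈
      Submodule.span k (Set.range fun q : ℕ × ℕ => x q.1 q.2) := by
    rw [← hr]
    rintro g _ ⟨m, rfl⟩
    exact ⟨_, he g m⟩
  refine ⟨hX, ?_⟩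
  let e : M ≃ₗ[k] Submodule.span k (Set.range fun q : ℕ × ℕ => x q.1 q.2) :=
    (LinearEquiv.ofInjective f hinj).trans (LinearEquiv.ofEq _ _ hr)
  exact IsV.iso ι p e (fun g m => Subtype.ext (he g m)) hV

/-- **Schur** : two tuples in an irreducible module -/
theorem TP.schurb (hF : Fintype.card K = p ^ a) (hn : n < p) (hm : m < p) (hij : i ≠ j) (hi : i < a) (hj : j < a)
    (hx : TP ι p σ n i m j x) (hx0 : x ≠ 0) (hy : TP ι p σ n i m j y)
    (hyX : ∀ s s', y s s' ∈ Submodule.span k (Set.range fun q : ℕ × ℕ => x q.1 q.2)) : ∃ c : k, y = c • x := by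
  obtain ⟨hX, hV⟩ := hx.isVb hF hn hm hij hi hj hx0
  obtain ⟨z, hz0, -, -, -, huniq⟩ := IsV.hw ι p hV
  obtain ⟨c, hc⟩ := huniq ⟨x n m, Submodule.subset_span ⟨(n, m), rfl⟩⟩ (fun t => Subtype.ext (hx.top t))
  obtain ⟨d, hd⟩ := huniq ⟨y n m, hyX n m⟩ (fun t => Subtype.ext (hy.top t))
  have hxn := hx.ne_of hF hn hm hij hi hj hx0 le_rfl le_rfl
  have hc0 : c ≠ 0 := by
    rintro rfl
    rw [zero_smul] at hc
    exact hxn (congrArg Subtype.val hc)
  refine ⟨d * c⁻¹, ?_⟩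
  have h1 : y n m = (d * c⁻¹) • x n m := by
    have e1 : x n m = c • (z : V) := congrArg Subtype.val hc
    have e2 : y n m = d • (z : V) := congrArg Subtype.val hd
    rw [e2, e1, smul_smul, mul_assoc, inv_mul_cancel₀ hc0, mul_one]
  have h2 : y + (-(d * c⁻¹)) • x = 0 := by
    by_contra hne
    refine (hy.add (hx.smul _)).ne_of hF hn hm hij hi hj hne le_rfl le_rfl ?_
    show y n m + (-(d * c⁻¹)) • x n m = 0
    rw [h1]
    module
  have h3 : y = (y + (-(d * c⁻¹)) • x) + (d * c⁻¹) • x := by module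
  rw [h3, h2, zero_add]

/-- invariant subspaces of the span -/
theorem TP.sub (hF : Fintype.card K = p ^ a) (hn : n < p) (hm : m < p) (hij : i ≠ j) (hi : i < a) (hj : j < a)
    (hx : TP ι p σ n i m j x) (hx0 : x ≠ 0) {W : Submodule k V}
    (hW : W ≤ Submodule.span k (Set.range fun q : ℕ × ℕ => x q.1 q.2)) (hWs : ∀ g, ∀ v ∈ W, σ g v ∈ W) :
    W = ⊥ ∨ W = Submodule.span k (Set.range fun q : ℕ × ℕ => x q.1 q.2) := by
  obtain ⟨hX, hV⟩ := hx.isVb hF hn hm hij hi hj hx0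
  set X := Submodule.span k (Set.range fun q : ℕ × ℕ => x q.1 q.2) with hXd
  rcases (IsV.irr ι p hV).2 (W.comap X.subtype) (fun g m hm => hWs g _ hm) with h1 | h1
  · left
    rw [eq_bot_iff]
    intro v hv
    have h2 : (⟨v, hW hv⟩ : X) ∈ W.comap X.subtype := hv
    rw [h1, Submodule.mem_bot] at h2
    exact (Submodule.mem_bot k).2 (congrArg Subtype.val h2)
  · right
    refine le_antisymm hW fun v hv => ?_
    have h2 : (⟨v, hv⟩ : X) ∈ W.comap X.subtype := by rw [h1]; trivial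
    exact h2

end

end Cfsg.Agent.R2.F4P.Th
end

-- part: R2/F4P/Th/Tri
section
/-!
# Triples of vectors with vanishing norm (helper20, S5931)

`Tri x0 x1 x2 c0` : the norm vanishes on the span, `x0 × x2 = c0 1 + 2 x1^#`, `c0 ≠ 0`; `Tri.closure` : generation.
-/

set_option autoImplicit false
set_option linter.unusedSectionVars false

namespace Cfsg.Agent.R2.F4P.Th

open Cfsg.Lie
open Cfsg.Agent.ChevalleyStructure.E6Min.Tables Cfsg.Agent.ChevalleyStructure.E6Min.Basic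
open Cfsg.Agent.H952.F4 (sh cr tf tr1 u0)
open Cfsg.Agent.H952.F4.Jord
open Cfsg.Agent.R2.F4L

universe u v w

variable {k : Type u} [Field k]

/-- the vanishing of the norm, in coordinates -/
structure Nz (x0 x1 x2 : I27 → k) : Prop where
  n0 : cubicT x0 = 0
  n1 : cubicT x1 = 0
  n2 : cubicT x2 = 0
  t01 : tf (sh x0) x1 = 0
  t02 : tf (sh x0) x2 = 0
  t10 : tf (sh x1) x0 = 0
  t12 : tf (sh x1) x2 = 0
  t20 : tf (sh x2) x0 = 0
  t21 : tf (sh x2) x1 = 0
  t012 : tf (cr x0 x1) x2 = 0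

theorem cubic_aux (h2 : (2 : k) ≠ 0) {t : k} (ht : t ≠ 0) (ht2 : t ^ 2 ≠ 1) {A B C D : k}
    (h : ∀ b : k, A + b * B + b ^ 2 * C + b ^ 3 * D = 0) : A = 0 ∧ B = 0 ∧ C = 0 ∧ D = 0 := by
  have h0 := h 0
  have hA : A = 0 := by linear_combination h0
  have h1 := h 1
  have h3 := h (-1)
  have h4 := h t
  have hC : C = 0 := by
    have : (2 : k) * C = 0 := by linear_combination h1 + h3 - 2 * hA
    exact (mul_eq_zero.1 this).resolve_left h2
  have hBD : B + D = 0 := by linear_combination h1 - hA - hC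
  have hD : D = 0 := by
    have : t * (t ^ 2 - 1) * D = 0 := by linear_combination h4 - hA - t ^ 2 * hC - t * hBD
    rcases mul_eq_zero.1 this with h5 | h5
    · rcases mul_eq_zero.1 h5 with h6 | h6
      · exact absurd h6 ht
      · exact absurd (sub_eq_zero.1 h6) ht2
    · exact h5
  exact ⟨hA, by linear_combination hBD - hD, hC, hD⟩

theorem Nz.of_N {x0 x1 x2 : I27 → k} (h2 : (2 : k) ≠ 0) {t : k} (ht : t ≠ 0) (ht2 : t ^ 2 ≠ 1)
    (h : ∀ a b c : k, cubicT (a • x0 + b • x1 + c • x2) = 0) : Nz x0 x1 x2 := by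
  have h' : ∀ a b c : k, a ^ 3 * cubicT x0 + b ^ 3 * cubicT x1 + c ^ 3 * cubicT x2 +
    a ^ 2 * b * tf (sh x0) x1 + a ^ 2 * c * tf (sh x0) x2 +
    a * b ^ 2 * tf (sh x1) x0 + b ^ 2 * c * tf (sh x1) x2 +
    a * c ^ 2 * tf (sh x2) x0 + b * c ^ 2 * tf (sh x2) x1 +
    a * b * c * tf (cr x0 x1) x2 = 0 := fun a b c => by rw [← N_lin3]; exact h a b c
  obtain ⟨e1, e2, e3, e4⟩ := cubic_aux h2 ht ht2 (A := cubicT x0) (B := tf (sh x0) x1) (C := tf (sh x1) x0)
    (D := cubicT x1) (fun b => by linear_combination h' 1 b 0)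
  obtain ⟨-, e5, e6, e7⟩ := cubic_aux h2 ht ht2 (A := cubicT x0) (B := tf (sh x0) x2) (C := tf (sh x2) x0)
    (D := cubicT x2) (fun b => by linear_combination h' 1 0 b)
  obtain ⟨-, e8, e9, -⟩ := cubic_aux h2 ht ht2 (A := cubicT x1) (B := tf (sh x1) x2) (C := tf (sh x2) x1)
    (D := cubicT x2) (fun b => by linear_combination h' 0 1 b)
  refine ⟨e1, e4, e7, e2, e5, e3, e8, e6, e9, ?_⟩
  linear_combination h' 1 1 1 - e1 - e2 - e3 - e4 - e5 - e6 - e7 - e8 - e9

/-- triples -/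
structure Tri (x0 x1 x2 : I27 → k) (c0 : k) : Prop extends Nz x0 x1 x2 where
  ne : c0 ≠ 0
  w : cr x0 x2 = c0 • u0 k + (2 : k) • sh x1
  r0 : tr1 (sh x0) = 0
  r1 : tr1 (cr x0 x1) = 0
  r3 : tr1 (cr x1 x2) = 0
  r4 : tr1 (sh x2) = 0

variable {x0 x1 x2 : I27 → k} {c0 : k}

theorem Tri.symm (T : Tri x0 x1 x2 c0) : Tri x2 x1 x0 c0 where
  n0 := T.n2
  n1 := T.n1
  n2 := T.n0
  t01 := T.t21
  t02 := T.t20
  t10 := T.t12
  t12 := T.t10
  t20 := T.t02
  t21 := T.t01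
  t012 := by rw [tf_comm, ← tf_cr, tf_comm, cr_comm, tf_comm]; rw [← T.t012, tf_cr, tf_comm, cr_comm]
  ne := T.ne
  w := by rw [cr_comm, T.w]
  r0 := T.r4
  r1 := by rw [cr_comm]; exact T.r3
  r3 := by rw [cr_comm]; exact T.r1
  r4 := T.r0

theorem Tri.sh0 (T : Tri x0 x1 x2 c0) : sh (sh x0) = 0 := by rw [sh_sh, T.n0, zero_smul]

theorem Tri.sh1 (T : Tri x0 x1 x2 c0) : sh (sh x1) = 0 := by rw [sh_sh, T.n1, zero_smul]

theorem Tri.sh4 (T : Tri x0 x1 x2 c0) : sh (sh x2) = 0 := by rw [sh_sh, T.n2, zero_smul]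

theorem Tri.e0 (T : Tri x0 x1 x2 c0) : (2 : k) • cr (sh x0) (sh x1) = c0 • sh x0 := by
  have h1 := cr_sh_cr x0 x2
  rw [T.n0, T.t02, zero_smul, zero_smul, add_zero, T.w, cr_add_right, cr_smul_right, cr_smul_right, cr_comm (sh x0) (u0 k),
    cr_u0, T.r0] at h1
  have h3 : (2 : k) • cr (sh x0) (sh x1) - c0 • sh x0 = c0 • ((0 : k) • u0 k - sh x0) + (2 : k) • cr (sh x0) (sh x1) := by
    module
  rw [h1] at h3
  exact sub_eq_zero.1 h3

theorem Tri.e4 (T : Tri x0 x1 x2 c0) : (2 : k) • cr (sh x2) (sh x1) = c0 • sh x2 := T.symm.e0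

/-- the trace of `x1^#` -/
theorem Tri.trace (T : Tri x0 x1 x2 c0) (h2 : (2 : k) ≠ 0) : c0 + 2 * tr1 (sh x1) = 0 ∧
    cr (sh x0) (sh x2) = (2 * c0) • sh x1 := by
  set β := c0 * (c0 + 2 * tr1 (sh x1)) with hβ
  have key : cr (sh x0) (sh x2) = (2 * c0) • sh x1 + (-β) • u0 k := by
    have h1 := sh_cr x0 x2
    rw [T.t02, tf_comm x0 (sh x2), T.t20, zero_smul, zero_smul, add_zero, T.w, sh_add, sh_smul, sh_smul, sh_u0, T.sh1,
      cr_smul_left, cr_smul_right, cr_u0] at h1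
    have h3 : cr (sh x0) (sh x2) - ((2 * c0) • sh x1 + (-β) • u0 k) =
        c0 ^ 2 • u0 k + (2 : k) ^ 2 • (0 : I27 → k) + c0 • (2 : k) • (tr1 (sh x1) • u0 k - sh x1) + cr (sh x0) (sh x2) := by
      rw [hβ]; module
    rw [h1] at h3
    exact sub_eq_zero.1 h3
  have hsh : sh (cr (sh x0) (sh x2)) = 0 := by
    have h1 := sh_cr (sh x0) (sh x2)
    rw [T.sh0, T.sh4, cr_zero_left, add_zero] at h1
    rw [h1, tf_zero_left, tf_comm, tf_zero_left, zero_smul, zero_smul, add_zero]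
  have hβ0 : β = 0 := by
    by_contra hne
    rw [key, sh_add, sh_smul, sh_smul, sh_u0, T.sh1, cr_smul_left, cr_smul_right, cr_comm, cr_u0] at hsh
    -- `Θ` is a multiple of the unit
    have h1 : (2 * c0 * β) • sh x1 = (2 * c0 * β * tr1 (sh x1) - β ^ 2) • u0 k := by
      have h3 : (2 * c0 * β) • sh x1 - (2 * c0 * β * tr1 (sh x1) - β ^ 2) • u0 k =
          (2 * c0) ^ 2 • (0 : I27 → k) + (-β) ^ 2 • u0 k + (2 * c0) • (-β) • (tr1 (sh x1) • u0 k - sh x1) := by module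
      rw [hsh] at h3
      exact sub_eq_zero.1 h3
    have h3 := congrArg sh h1
    rw [sh_smul, sh_smul, T.sh1, smul_zero, sh_u0] at h3
    have h4 : 2 * c0 * β * tr1 (sh x1) - β ^ 2 = 0 := by
      have := (smul_eq_zero.1 h3.symm).resolve_right u0_ne
      exact pow_eq_zero_iff (by norm_num) |>.1 this
    rw [h4, zero_smul] at h1
    have h5 : sh x1 = 0 := (smul_eq_zero.1 h1).resolve_left (mul_ne_zero (mul_ne_zero h2 T.ne) hne)
    rw [h5, tr1_zero, mul_zero, zero_sub, neg_eq_zero] at h4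
    exact hne (pow_eq_zero_iff (by norm_num) |>.1 h4)
  refine ⟨(mul_eq_zero.1 hβ0).resolve_left T.ne, ?_⟩
  rw [key, hβ0, neg_zero, zero_smul, add_zero]

theorem Tri.z1 (T : Tri x0 x1 x2 c0) : cr (sh x1) (cr x0 x1) = 0 := by
  rw [cr_comm x0 x1, cr_sh_cr, T.n1, T.t10, zero_smul, zero_smul, add_zero]

theorem Tri.z3 (T : Tri x0 x1 x2 c0) : cr (sh x1) (cr x1 x2) = 0 := by
  rw [cr_sh_cr, T.n1, T.t12, zero_smul, zero_smul, add_zero]

theorem Tri.z34 (T : Tri x0 x1 x2 c0) : cr (sh x2) (cr x1 x2) = 0 := by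
  rw [cr_comm x1 x2, cr_sh_cr, T.n2, T.t21, zero_smul, zero_smul, add_zero]

theorem Tri.e14 (T : Tri x0 x1 x2 c0) : cr (sh x2) (cr x0 x1) = c0 • cr x1 x2 := by
  have h1 := cr_cr x2 x0 x1
  rw [T.t20, T.t21, zero_smul, zero_smul, add_zero, zero_add, tf_comm, T.t012, zero_smul, cr_comm x2 x0, T.w,
    cr_comm x2 x1, cr_add_left, cr_smul_left, cr_smul_left, cr_u0, T.r3, T.z3] at h1
  have h3 : cr (sh x2) (cr x0 x1) - c0 • cr x1 x2 =
      c0 • ((0 : k) • u0 k - cr x1 x2) + (2 : k) • (0 : I27 → k) + cr (sh x2) (cr x0 x1) := by module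
  rw [h1] at h3
  exact sub_eq_zero.1 h3

theorem Tri.f1 (T : Tri x0 x1 x2 c0) : sh (x0 + (2 : k) • x1 + x2) =
    sh x0 + sh x2 + (6 : k) • sh x1 + c0 • u0 k + (2 : k) • cr x0 x1 + (2 : k) • cr x1 x2 := by
  rw [sh_add3, sh_smul, cr_smul_left, cr_smul_right, T.w]
  module

/-- **generation** -/
theorem Tri.closure (T : Tri x0 x1 x2 c0) (h2 : (2 : k) ≠ 0) {S : Submodule k (I27 → k)} (hu : u0 k ∈ S)
    (hcr : ∀ a ∈ S, ∀ b ∈ S, cr a b ∈ S) (ha : sh (x0 + (2 : k) • x1 + x2) ∈ S) (hb : sh x2 - sh x0 ∈ S) :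
    sh x0 ∈ S ∧ sh x1 ∈ S ∧ sh x2 ∈ S ∧ cr x0 x1 ∈ S ∧ cr x1 x2 ∈ S := by
  have can : ∀ {c : k} {x : I27 → k}, c ≠ 0 → c • x ∈ S → x ∈ S := fun {c x} hc hx => by
    have := S.smul_mem c⁻¹ hx
    rwa [smul_smul, inv_mul_cancel₀ hc, one_smul] at this
  obtain ⟨htr, h04⟩ := T.trace h2
  have hΘ : sh x1 ∈ S := by
    have h3 := hcr _ hb _ hb
    have h4 : cr (sh x2 - sh x0) (sh x2 - sh x0) = (-(2 * (2 * c0))) • sh x1 := by
      rw [cr_self, sub_eq_add_neg, show -sh x0 = (-1 : k) • sh x0 by rw [neg_one_smul], sh_add, sh_smul, T.sh0, T.sh4,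
        cr_smul_right, cr_comm, h04]
      module
    rw [h4] at h3
    exact can (neg_ne_zero.2 (mul_ne_zero h2 (mul_ne_zero h2 T.ne))) h3
  have hh : sh x0 + sh x2 + (2 : k) • cr x0 x1 + (2 : k) • cr x1 x2 ∈ S := by
    have h3 := S.sub_mem (S.sub_mem ha (S.smul_mem (6 : k) hΘ)) (S.smul_mem c0 hu)
    rw [T.f1] at h3
    have h4 : sh x0 + sh x2 + (6 : k) • sh x1 + c0 • u0 k + (2 : k) • cr x0 x1 + (2 : k) • cr x1 x2 - (6 : k) • sh x1 -
        c0 • u0 k = sh x0 + sh x2 + (2 : k) • cr x0 x1 + (2 : k) • cr x1 x2 := by module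
    rwa [h4] at h3
  have hs : sh x0 + sh x2 ∈ S := by
    have h3 := S.smul_mem (2 : k) (hcr _ hh _ hΘ)
    have h4 : (2 : k) • cr (sh x0 + sh x2 + (2 : k) • cr x0 x1 + (2 : k) • cr x1 x2) (sh x1) = c0 • (sh x0 + sh x2) := by
      rw [cr_add_left, cr_add_left, cr_add_left, cr_smul_left, cr_smul_left, cr_comm (cr x0 x1), cr_comm (cr x1 x2),
        T.z1, T.z3, smul_zero, add_zero, add_zero, smul_add, T.e0, T.e4, smul_add]
    rw [h4] at h3
    exact can T.ne h3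
  have h4 : sh x2 ∈ S := by
    have h3 := S.add_mem hs hb
    have h5 : sh x0 + sh x2 + (sh x2 - sh x0) = (2 : k) • sh x2 := by module
    rw [h5] at h3
    exact can h2 h3
  have h0 : sh x0 ∈ S := by
    have h3 := S.sub_mem hs h4
    rwa [add_sub_cancel_right] at h3
  have h13 : cr x0 x1 + cr x1 x2 ∈ S := by
    have h3 := S.sub_mem hh hs
    have h5 : sh x0 + sh x2 + (2 : k) • cr x0 x1 + (2 : k) • cr x1 x2 - (sh x0 + sh x2) =
        (2 : k) • (cr x0 x1 + cr x1 x2) := by module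
    rw [h5] at h3
    exact can h2 h3
  have h3 : cr x1 x2 ∈ S := by
    have h5 := hcr _ h4 _ h13
    rw [cr_add_right, T.e14, T.z34, add_zero] at h5
    exact can T.ne h5
  have h1 : cr x0 x1 ∈ S := by
    have h5 := S.sub_mem h13 h3
    rwa [add_sub_cancel_right] at h5
  exact ⟨h0, hΘ, h4, h1, h3⟩

end Cfsg.Agent.R2.F4P.Th
end

-- part: R2/F4P/Th/Wh
section
/-!
# White triples; the curve of the squares (helper20, S5931)
-/

set_option autoImplicit false
set_option linter.unusedSectionVars false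
set_option linter.unusedVariables false

namespace Cfsg.Agent.R2.F4P.Th

open Cfsg.Lie
open Cfsg.Agent.ChevalleyStructure.E6Min.Tables Cfsg.Agent.ChevalleyStructure.E6Min.Basic
open Cfsg.Agent.H952.F4 (sh cr tf tr1 u0)
open Cfsg.Agent.H952.F4.Jord
open Cfsg.Agent.H943.SL2Rel Cfsg.Agent.H943.SL2Mod Cfsg.Agent.R2.H28.SL2 Cfsg.Agent.H943.RepAdd
open Cfsg.Agent.R2.F4L

universe u v w

section

variable {k : Type u} [Field k]

/-- five vectors with vanishing products -/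
structure Wh (v1 v2 v3 v4 v5 : I27 → k) : Prop where
  s1 : sh v1 = 0
  s2 : sh v2 = 0
  s3 : sh v3 = 0
  s4 : sh v4 = 0
  s5 : sh v5 = 0
  c12 : cr v1 v2 = 0
  c13 : cr v1 v3 = 0
  c14 : cr v1 v4 = 0
  c15 : cr v1 v5 = 0
  c23 : cr v2 v3 = 0
  c24 : cr v2 v4 = 0
  c25 : cr v2 v5 = 0
  c34 : cr v3 v4 = 0
  c35 : cr v3 v5 = 0
  c45 : cr v4 v5 = 0

theorem Wh.sh {v1 v2 v3 v4 v5 : I27 → k} (W : Wh v1 v2 v3 v4 v5) (a b c d e : k) :
    H952.F4.sh (a • v1 + b • v2 + c • v3 + d • v4 + e • v5) = 0 := by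
  rw [sh_add, sh_add, sh_add, sh_add]
  simp only [sh_smul, cr_add_left, cr_smul_left, cr_smul_right, W.s1, W.s2, W.s3, W.s4, W.s5, W.c12, W.c13, W.c14, W.c15,
    W.c23, W.c24, W.c25, W.c34, W.c35, W.c45, smul_zero, add_zero]

variable {x0 x1 x2 : I27 → k}

theorem Nz.wh (Z : Nz x0 x1 x2) (h2 : (2 : k) ≠ 0) (hw : cr x0 x2 = (2 : k) • sh x1) :
    Wh (sh x0) (sh x1) (sh x2) (cr x0 x1) (cr x1 x2) := by
  have s0 : sh (sh x0) = 0 := by rw [sh_sh, Z.n0, zero_smul]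
  have s1 : sh (sh x1) = 0 := by rw [sh_sh, Z.n1, zero_smul]
  have s2 : sh (sh x2) = 0 := by rw [sh_sh, Z.n2, zero_smul]
  have e01 : cr (sh x0) (sh x1) = 0 := by
    have h1 := cr_sh_cr x0 x2
    rw [Z.n0, Z.t02, zero_smul, zero_smul, add_zero, hw, cr_smul_right] at h1
    exact (smul_eq_zero.1 h1).resolve_left h2
  have e21 : cr (sh x2) (sh x1) = 0 := by
    have h1 := cr_sh_cr x2 x0
    rw [Z.n2, Z.t20, zero_smul, zero_smul, add_zero, cr_comm x2 x0, hw, cr_smul_right] at h1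
    exact (smul_eq_zero.1 h1).resolve_left h2
  have e02 : cr (sh x0) (sh x2) = 0 := by
    have h1 := sh_cr x0 x2
    rw [Z.t02, tf_comm x0 (sh x2), Z.t20, zero_smul, zero_smul, add_zero, hw, sh_smul, s1, smul_zero, zero_add] at h1
    exact h1
  have z1 : cr (sh x1) (cr x0 x1) = 0 := by
    rw [cr_comm x0 x1, cr_sh_cr, Z.n1, Z.t10, zero_smul, zero_smul, add_zero]
  have z3 : cr (sh x1) (cr x1 x2) = 0 := by
    rw [cr_sh_cr, Z.n1, Z.t12, zero_smul, zero_smul, add_zero]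
  have z01 : cr (sh x0) (cr x0 x1) = 0 := by
    rw [cr_sh_cr, Z.n0, Z.t01, zero_smul, zero_smul, add_zero]
  have z23 : cr (sh x2) (cr x1 x2) = 0 := by
    rw [cr_comm x1 x2, cr_sh_cr, Z.n2, Z.t21, zero_smul, zero_smul, add_zero]
  have q1 : sh (cr x0 x1) = 0 := by
    have h1 := sh_cr x0 x1
    rw [Z.t01, tf_comm x0 (sh x1), Z.t10, zero_smul, zero_smul, add_zero, e01, add_zero] at h1
    exact h1
  have q3 : sh (cr x1 x2) = 0 := by
    have h1 := sh_cr x1 x2
    rw [Z.t12, tf_comm x1 (sh x2), Z.t21, zero_smul, zero_smul, add_zero, cr_comm (sh x1), e21, add_zero] at h1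
    exact h1
  have z21 : cr (sh x2) (cr x0 x1) = 0 := by
    have h1 := cr_cr x2 x0 x1
    rw [Z.t20, Z.t21, zero_smul, zero_smul, add_zero, zero_add, tf_comm, Z.t012, zero_smul, cr_comm x2 x0, hw,
      cr_comm x2 x1, cr_smul_left, z3, smul_zero, zero_add] at h1
    exact h1
  have t201 : tf x0 (cr x1 x2) = 0 := by rw [← tf_cr]; exact Z.t012
  have z03 : cr (sh x0) (cr x1 x2) = 0 := by
    have h1 := cr_cr x0 x1 x2
    rw [Z.t01, Z.t02, zero_smul, zero_smul, add_zero, zero_add, t201, zero_smul, hw, cr_smul_right, cr_comm (cr x0 x1),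
      z1, smul_zero, zero_add] at h1
    exact h1
  have t102 : tf x1 (cr x0 x2) = 0 := by rw [← tf_cr, cr_comm]; exact Z.t012
  have c13 : cr (cr x0 x1) (cr x1 x2) = 0 := by
    have h1 := cr_cr x1 x0 x2
    rw [Z.t10, Z.t12, zero_smul, zero_smul, add_zero, zero_add, t102, zero_smul, hw, cr_smul_right, cr_self, s1,
      smul_zero, smul_zero, add_zero, cr_comm x1 x0] at h1
    exact h1
  exact ⟨s0, s1, s2, q1, q3, e01, e02, z01, z03, by rw [cr_comm]; exact e21, z1, z3, z21, z23, c13⟩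

/-- the coefficients of the curve of the squares -/
def ff (x0 x1 x2 : I27 → k) : ℕ → I27 → k
  | 0 => sh x0
  | 1 => (2 : k) • cr x0 x1
  | 2 => cr x0 x2 + (4 : k) • sh x1
  | 3 => (2 : k) • cr x1 x2
  | 4 => sh x2
  | _ => 0

theorem sh_line (x0 x1 x2 : I27 → k) (s : k) :
    sh (x0 + (2 * s) • x1 + (s ^ 2) • x2) = ∑ A ∈ Finset.range 5, s ^ A • ff x0 x1 x2 A := by
  simp only [Finset.sum_range_succ, Finset.sum_range_zero, ff]
  rw [sh_add3]
  simp only [sh_smul, cr_smul_left, cr_smul_right]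
  module

end

section

variable {k : Type u} [Field k] [DecidableEq k] {K : Type w} [Field K] [Fintype K] [DecidableEq K] {ι : K →+* k}
variable {p : ℕ} [Fact p.Prime] [CharP k p] [CharP K p]

omit [Fintype K] [DecidableEq K] [DecidableEq k] in
theorem wt_tr {A : Type*} [Group A] {ρ : Representation k A (I27 → k)} (H : Act ρ) {g : A} {x : I27 → k} {α : k}
    (hx : ρ g x = α • x) (hα : α ≠ 1) : tr1 x = 0 := by
  have h1 := H.tr g x
  rw [hx, tr1_smul] at h1
  have h2 : (α - 1) * tr1 x = 0 := by linear_combination h1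
  exact (mul_eq_zero.1 h2).resolve_left (sub_ne_zero.2 hα)

theorem exists_t (ι : K →+* k) (p : ℕ) [Fact p.Prime] [CharP K p] (hQ : 4 ≤ Fintype.card K) :
    ∃ t : k, t ≠ 0 ∧ t ^ 2 ≠ 1 := by
  obtain ⟨lam, hl⟩ := exists_prim ι 0 p
  refine ⟨ι lam ^ p ^ 0, pow_ne_zero _ ((map_ne_zero ι).2 lam.ne_zero), ?_⟩
  exact hl.pow_ne_one_of_pos_of_lt (by omega) (by omega)

/-- stability from the generators -/
theorem st_gen {V : Type*} [AddCommGroup V] [Module k V] {ρ : Representation k (Matrix.SpecialLinearGroup (Fin 2) K) V}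
    {W : Submodule k V} (hu : ∀ t, ∀ x ∈ W, ρ (Cfsg.Agent.H943.SL2Rel.u t) x ∈ W)
    (hh : ∀ a, ∀ x ∈ W, ρ (Cfsg.Agent.H943.SL2Rel.h a) x ∈ W)
    (hw : ∀ x ∈ W, ρ Cfsg.Agent.H943.SL2Rel.w x ∈ W) : ∀ g, ∀ x ∈ W, ρ g x ∈ W := by
  refine induct (P := fun g => ∀ x ∈ W, ρ g x ∈ W) hu hh hw (fun a b ha hb x hx => ?_)
  rw [map_mul, Module.End.mul_apply]
  exact ha _ (hb _ hx)

theorem st_span {V : Type*} [AddCommGroup V] [Module k V] {ρ : Representation k (Matrix.SpecialLinearGroup (Fin 2) K) V}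
    {S : Set V} (hu : ∀ t, ∀ x ∈ S, ρ (Cfsg.Agent.H943.SL2Rel.u t) x ∈ Submodule.span k S)
    (hh : ∀ a, ∀ x ∈ S, ρ (Cfsg.Agent.H943.SL2Rel.h a) x ∈ Submodule.span k S)
    (hw : ∀ x ∈ S, ρ Cfsg.Agent.H943.SL2Rel.w x ∈ Submodule.span k S) :
    ∀ g, ∀ x ∈ Submodule.span k S, ρ g x ∈ Submodule.span k S := by
  have key : ∀ f : V →ₗ[k] V, (∀ x ∈ S, f x ∈ Submodule.span k S) → ∀ x ∈ Submodule.span k S, f x ∈ Submodule.span k S := by
    intro f hf
    have h1 : Submodule.span k S ≤ (Submodule.span k S).comap f := Submodule.span_le.2 hf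
    exact h1
  exact st_gen (fun t => key _ (hu t)) (fun a => key _ (hh a)) (key _ hw)

end

end Cfsg.Agent.R2.F4P.Th
end

-- part: R2/F4P/Th/Sb
section
/-!
# SUB6, all odd characteristics (helper20, S5931)

`sub6` : the span of the adjoints of the combinations of a triple (`Tri`) is not stable under `H` and the Frobenius map.
-/

set_option autoImplicit false
set_option linter.unusedSectionVars false
set_option linter.unusedVariables false

namespace Cfsg.Agent.R2.F4P.Th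

open Cfsg Cfsg.Lie Module Matrix
open Cfsg.Agent.ChevalleyStructure.E6Min.Basic
open Cfsg.Agent.H952.F4 Cfsg.Agent.H952.F4.Jord
open Cfsg.Agent.H952.F4.FixV (W0 mem_W0 finrank_W0 u0_ne_zero tr1_eq)
open Cfsg.Agent.R2.H9.E6
open Cfsg.Agent.GpExc.Field (emb)
open Cfsg.Agent.R2.H28.SL2 Cfsg.Agent.H943.RepAdd
open Cfsg.Agent.R2.F4M Cfsg.Agent.R2.F4N Cfsg.Agent.R2.F4L

universe u v w

variable {k : Type u} [Field k]

/-- the span of the adjoints -/
def Usp (x0 x1 x2 : I27 → k) : Submodule k (I27 → k) :=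
  Submodule.span k {v | ∃ a b c : k, v = sh (a • x0 + b • x1 + c • x2)}

theorem mem_Usp (x0 x1 x2 : I27 → k) (a b c : k) : sh (a • x0 + b • x1 + c • x2) ∈ Usp x0 x1 x2 :=
  Submodule.subset_span ⟨a, b, c, rfl⟩

section

variable {x0 x1 x2 : I27 → k} {c0 : k}

theorem mem2 : sh x2 ∈ Usp x0 x1 x2 := by
  have := mem_Usp x0 x1 x2 0 0 1
  rwa [one_smul, zero_smul, zero_smul, zero_add, zero_add] at this

theorem Tri.sh_comb (T : Tri x0 x1 x2 c0) (a b c : k) : sh (a • x0 + b • x1 + c • x2) =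
    a ^ 2 • sh x0 + (b ^ 2 + 2 * a * c) • sh x1 + c ^ 2 • sh x2 + (a * b) • cr x0 x1 + (b * c) • cr x1 x2 +
      (a * c * c0) • u0 k := by
  rw [sh_add3]
  simp only [sh_smul, cr_smul_left, cr_smul_right, T.w]
  module

/-- the elements of the span -/
theorem Tri.mem_U (T : Tri x0 x1 x2 c0) {v : I27 → k} (hv : v ∈ Usp x0 x1 x2) : ∃ α β γ δ ε ζ : k,
    v = α • sh x0 + β • cr x0 x1 + γ • sh x1 + δ • u0 k + ε • cr x1 x2 + ζ • sh x2 := by
  unfold Usp at hv
  induction hv using Submodule.span_induction with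
  | mem v hv =>
    obtain ⟨a, b, c, rfl⟩ := hv
    refine ⟨a ^ 2, a * b, b ^ 2 + 2 * a * c, a * c * c0, b * c, c ^ 2, ?_⟩
    rw [T.sh_comb]
    module
  | zero => exact ⟨0, 0, 0, 0, 0, 0, by module⟩
  | add v w _ _ hv hw =>
    obtain ⟨a1, a2, a3, a4, a5, a6, rfl⟩ := hv
    obtain ⟨b1, b2, b3, b4, b5, b6, rfl⟩ := hw
    exact ⟨a1 + b1, a2 + b2, a3 + b3, a4 + b4, a5 + b5, a6 + b6, by module⟩
  | smul c v _ hv =>
    obtain ⟨a1, a2, a3, a4, a5, a6, rfl⟩ := hv
    exact ⟨c * a1, c * a2, c * a3, c * a4, c * a5, c * a6, by module⟩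

theorem Tri.f4_ne (T : Tri x0 x1 x2 c0) (h2 : (2 : k) ≠ 0) : sh x2 ≠ 0 := by
  intro h
  obtain ⟨h3, h4⟩ := T.trace h2
  rw [h, cr_zero_right] at h4
  have h5 : sh x1 = 0 := (smul_eq_zero.1 h4.symm).resolve_left (mul_ne_zero h2 T.ne)
  rw [h5, tr1_zero, mul_zero, add_zero] at h3
  exact T.ne h3

/-- the dimension -/
theorem Tri.U_le (T : Tri x0 x1 x2 c0) : Usp x0 x1 x2 ≤
    Submodule.span k (Set.range ![sh x0, cr x0 x1, sh x1, u0 k, cr x1 x2, sh x2]) := by
  intro v hv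
  obtain ⟨a1, a2, a3, a4, a5, a6, rfl⟩ := T.mem_U hv
  have hm : ∀ i, (![sh x0, cr x0 x1, sh x1, u0 k, cr x1 x2, sh x2] : Fin 6 → I27 → k) i ∈
      Submodule.span k (Set.range ![sh x0, cr x0 x1, sh x1, u0 k, cr x1 x2, sh x2]) :=
    fun i => Submodule.subset_span ⟨i, rfl⟩
  exact (Submodule.add_mem _ (Submodule.add_mem _ (Submodule.add_mem _ (Submodule.add_mem _ (Submodule.add_mem _
    (Submodule.smul_mem _ _ (hm 0)) (Submodule.smul_mem _ _ (hm 1))) (Submodule.smul_mem _ _ (hm 2)))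
    (Submodule.smul_mem _ _ (hm 3))) (Submodule.smul_mem _ _ (hm 4))) (Submodule.smul_mem _ _ (hm 5)) :)

theorem Tri.finrank_le (T : Tri x0 x1 x2 c0) : finrank k (Usp x0 x1 x2) ≤ 6 := by
  refine (Submodule.finrank_mono T.U_le).trans ?_
  refine (finrank_range_le_card _).trans ?_
  simp

end

/-- seven coordinates off the diagonal -/
def off (i : Fin 7) : I27 := ![(1, 0, 0), (1, 0, 1), (1, 0, 2), (1, 1, 0), (1, 1, 1), (1, 1, 2), (1, 2, 0)] i

theorem off_inj : Function.Injective off := by decide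

/-- a small subspace does not contain the rational vectors of trace zero -/
theorem not_W0_le {F : Type u} [Field F] [Fintype F] (f : F →+* k) {U : Submodule k (I27 → k)} (hU : finrank k U ≤ 6) :
    ¬ W0 F ≤ dn f U := by
  intro h
  have h1 : ∀ i : Fin 7, (Pi.single (off i) (1 : k) : I27 → k) ∈ U := by
    intro i
    have h2 : (Pi.single (off i) (1 : F) : I27 → F) ∈ W0 F := by
      rw [mem_W0, tr1_eq]
      (revert i; simp only [off, _root_.Fin.forall_fin_succ, _root_.Nat.succ_eq_add_one, Nat.reduceAdd, Fin.isValue, _root_.Matrix.cons_val_zero, _root_.ne_eq, _root_.Prod.mk.injEq, _root_.zero_ne_one, _root_.and_true, _root_.not_false_eq_true, _root_.Pi.single_eq_of_ne, _root_.one_ne_zero, _root_.and_self, _root_.add_zero, Fin.reduceEq, _root_.Matrix.cons_val_succ, _root_.and_false, _root_.Matrix.cons_val_fin_one, _root_.implies_true])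
    have h3 := h h2
    rw [mem_dn] at h3
    have h4 : (fun l => f ((Pi.single (off i) (1 : F) : I27 → F) l)) = Pi.single (off i) (1 : k) := by
      funext l
      by_cases hl : l = off i
      · subst hl
        simp
      · simp [Pi.single_eq_of_ne hl]
    rwa [h4] at h3
  have h2 : LinearIndependent k (fun i : Fin 7 => (⟨Pi.single (off i) (1 : k), h1 i⟩ : U)) := by
    apply LinearIndependent.of_comp U.subtype
    have h3 := (Pi.basisFun k I27).linearIndependent.comp off off_inj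
    convert h3 using 1
    funext i
    simp
  have h3 := h2.fintype_card_le_finrank
  rw [Fintype.card_fin] at h3
  omega

variable {F : Type u} [Field F] [Fintype F] {K : Type v} [Field K] [Fintype K] [DecidableEq K] {p a b : ℕ}
variable {H : Subgroup ↥(chevF4.group F)} {φ : ProjectiveSpecialLinearGroup (Fin 2) K →* ↥(chevF4.group F)}
variable [DecidableEq k] {f : F →+* k} {ι : K →+* k} [Fact p.Prime] [CharP k p] [CharP K p]
variable {x0 x1 x2 : I27 → k} {c0 : k}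

/-- the action of the unipotent elements on the adjoints of a triple -/
structure TriA (f : F →+* k) (φ : ProjectiveSpecialLinearGroup (Fin 2) K →* ↥(chevF4.group F)) (ι : K →+* k) (p i : ℕ)
    (x0 x1 x2 : I27 → k) : Prop where
  u : ∀ (t : K) (a b c : k), Rk f φ (Cfsg.Agent.H943.SL2Rel.u t) (sh (a • x0 + b • x1 + c • x2)) =
    sh (a • x0 + (2 * a * (ι t ^ p ^ i) + b) • x1 + (a * (ι t ^ p ^ i) ^ 2 + b * (ι t ^ p ^ i) + c) • x2)
  w : ∀ (a b c : k), Rk f φ Cfsg.Agent.H943.SL2Rel.w (sh (a • x0 + b • x1 + c • x2)) = sh (c • x0 + (-b) • x1 + a • x2)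

section

variable {i : ℕ}

theorem TriA.u0' (A : TriA f φ ι p i x0 x1 x2) (t : K) : Rk f φ (Cfsg.Agent.H943.SL2Rel.u t) (sh x0) =
    sh (x0 + (2 * (ι t ^ p ^ i)) • x1 + (ι t ^ p ^ i) ^ 2 • x2) := by
  have := A.u t 1 0 0
  rw [one_smul, zero_smul, zero_smul, add_zero, add_zero] at this
  rw [this]
  congr 1
  module

theorem TriA.u1' (A : TriA f φ ι p i x0 x1 x2) (t : K) : Rk f φ (Cfsg.Agent.H943.SL2Rel.u t) (sh x1) =
    sh (x1 + (ι t ^ p ^ i) • x2) := by
  have := A.u t 0 1 0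
  rw [one_smul, zero_smul, zero_smul, add_zero, zero_add] at this
  rw [this]
  congr 1
  module

theorem TriA.u2' (A : TriA f φ ι p i x0 x1 x2) (t : K) : Rk f φ (Cfsg.Agent.H943.SL2Rel.u t) (sh x2) = sh x2 := by
  have := A.u t 0 0 1
  rw [one_smul, zero_smul, zero_smul, zero_add, zero_add] at this
  rw [this]
  congr 1
  module

theorem TriA.u01 (A : TriA f φ ι p i x0 x1 x2) (t : K) : Rk f φ (Cfsg.Agent.H943.SL2Rel.u t) (cr x0 x1) =
    cr (x0 + (2 * (ι t ^ p ^ i)) • x1 + (ι t ^ p ^ i) ^ 2 • x2) (x1 + (ι t ^ p ^ i) • x2) := by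
  have h1 := A.u t 1 1 0
  have e1 : (1 : k) • x0 + (1 : k) • x1 + (0 : k) • x2 = x0 + x1 := by module
  have e2 : (1 : k) • x0 + (2 * 1 * (ι t ^ p ^ i) + 1) • x1 + (1 * (ι t ^ p ^ i) ^ 2 + 1 * (ι t ^ p ^ i) + 0) • x2 =
      (x0 + (2 * (ι t ^ p ^ i)) • x1 + (ι t ^ p ^ i) ^ 2 • x2) + (x1 + (ι t ^ p ^ i) • x2) := by module
  rw [e1, e2, sh_add x0 x1, map_add, map_add, A.u0', A.u1', sh_add (x0 + _ + _) (x1 + _)] at h1
  exact add_left_cancel h1

theorem TriA.u12 (A : TriA f φ ι p i x0 x1 x2) (t : K) : Rk f φ (Cfsg.Agent.H943.SL2Rel.u t) (cr x1 x2) =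
    cr (x1 + (ι t ^ p ^ i) • x2) x2 := by
  have h1 := A.u t 0 1 1
  have e1 : (0 : k) • x0 + (1 : k) • x1 + (1 : k) • x2 = x1 + x2 := by module
  have e2 : (0 : k) • x0 + (2 * 0 * (ι t ^ p ^ i) + 1) • x1 + (0 * (ι t ^ p ^ i) ^ 2 + 1 * (ι t ^ p ^ i) + 1) • x2 =
      (x1 + (ι t ^ p ^ i) • x2) + x2 := by module
  rw [e1, e2, sh_add x1 x2, map_add, map_add, A.u2', A.u1', sh_add (x1 + _) x2] at h1
  exact add_left_cancel h1

/-- **the vectors fixed by the unipotent elements** -/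
theorem TriA.top (A : TriA f φ ι p i x0 x1 x2) (T : Tri x0 x1 x2 c0) (h2 : (2 : k) ≠ 0) (hQ : 5 ≤ Fintype.card K)
    {v : I27 → k} (hv : v ∈ Usp x0 x1 x2) (hu : ∀ t, Rk f φ (Cfsg.Agent.H943.SL2Rel.u t) v = v) (hsh : sh v = 0) :
    ∃ ζ : k, v = ζ • sh x2 := by
  have hf4 := T.f4_ne h2
  obtain ⟨α, β, γ, δ, ε, ζ, rfl⟩ := T.mem_U hv
  have h0 : ∀ t : K, ∑ j ∈ Finset.range 5, (ι t ^ p ^ i) ^ j • (fun j : ℕ => if j = 1 then
      (2 * α) • cr x0 x1 + β • (cr x0 x2 + (4 : k) • sh x1) + γ • cr x1 x2 + (2 * ε) • sh x2 else if j = 2 then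
      α • (cr x0 x2 + (4 : k) • sh x1) + (3 * β) • cr x1 x2 + γ • sh x2 else if j = 3 then
      (2 * α) • cr x1 x2 + (2 * β) • sh x2 else if j = 4 then α • sh x2 else 0) j = 0 := by
    intro t
    have h1 := hu t
    rw [map_add, map_add, map_add, map_add, map_add, map_smul, map_smul, map_smul, map_smul, map_smul, map_smul,
      A.u0', A.u1', A.u2', A.u01, A.u12, Rk_u0] at h1
    have h3 := sub_eq_zero.2 h1
    refine Eq.trans ?_ h3
    simp only [Finset.sum_range_succ, Finset.sum_range_zero, sh_add, sh_smul, cr_add_left, cr_add_right,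
      cr_smul_left, cr_smul_right, cr_self, cr_comm x2 x1]
    simp only [show (0 : ℕ) = 1 ↔ False by norm_num, show (0 : ℕ) = 2 ↔ False by norm_num, show (0 : ℕ) = 3 ↔ False by norm_num,
      show (0 : ℕ) = 4 ↔ False by norm_num, if_false, if_true,
      show (2 : ℕ) = 1 ↔ False by norm_num, show (3 : ℕ) = 1 ↔ False by norm_num, show (3 : ℕ) = 2 ↔ False by norm_num,
      show (4 : ℕ) = 1 ↔ False by norm_num, show (4 : ℕ) = 2 ↔ False by norm_num, show (4 : ℕ) = 3 ↔ False by norm_num]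
    module
  have h3 := poly0 ι hQ p i h0
  have a4 := h3 4 (by norm_num)
  simp only [show (4 : ℕ) = 1 ↔ False by norm_num, show (4 : ℕ) = 2 ↔ False by norm_num, show (4 : ℕ) = 3 ↔ False by norm_num,
    if_false, if_true] at a4
  have hα : α = 0 := (smul_eq_zero.1 a4).resolve_right hf4
  have a3 := h3 3 (by norm_num)
  simp only [show (3 : ℕ) = 1 ↔ False by norm_num, show (3 : ℕ) = 2 ↔ False by norm_num, if_false, if_true, hα, mul_zero,
    zero_smul, zero_add] at a3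
  have hβ : β = 0 := (mul_eq_zero.1 ((smul_eq_zero.1 a3).resolve_right hf4)).resolve_left h2
  have a2 := h3 2 (by norm_num)
  simp only [show (2 : ℕ) = 1 ↔ False by norm_num, if_false, if_true, hα, hβ, mul_zero, zero_smul, zero_add] at a2
  have hγ : γ = 0 := (smul_eq_zero.1 a2).resolve_right hf4
  have a1 := h3 1 (by norm_num)
  simp only [if_true, hα, hβ, hγ, mul_zero, zero_smul, zero_add] at a1
  have hε : ε = 0 := (mul_eq_zero.1 ((smul_eq_zero.1 a1).resolve_right hf4)).resolve_left h2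
  subst hα hβ hγ hε
  have e1 : (0 : k) • sh x0 + (0 : k) • cr x0 x1 + (0 : k) • sh x1 + δ • u0 k + (0 : k) • cr x1 x2 + ζ • sh x2 =
      δ • u0 k + ζ • sh x2 := by module
  rw [e1] at hsh ⊢
  rw [sh_add, sh_smul, sh_smul, sh_u0, T.sh4, cr_smul_left, cr_smul_right, cr_u0, T.r4] at hsh
  by_cases hδ : δ = 0
  · exact ⟨ζ, by rw [hδ, zero_smul, zero_add]⟩
  · exfalso
    have e2 : δ • u0 k = ζ • sh x2 := by
      have h5 : δ • (δ • u0 k - ζ • sh x2) = 0 := by
        rw [← hsh]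
        module
      exact sub_eq_zero.1 ((smul_eq_zero.1 h5).resolve_left hδ)
    have e3 := congrArg sh e2
    rw [sh_smul, sh_smul, sh_u0, T.sh4, smul_zero] at e3
    exact (pow_ne_zero 2 hδ) ((smul_eq_zero.1 e3).resolve_right u0_ne)

end

/-- **SUB6** -/
theorem sub6 (hc : _root_.Cfsg.Agent.R2.F4M.Cfg p a b H φ) [IsAlgClosed k] (hp2 : p ≠ 2) {i : ℕ} (A : TriA f φ ι p i x0 x1 x2)
    (T : Tri x0 x1 x2 c0) (hH : ∀ g ∈ H, ∀ v ∈ Usp x0 x1 x2, Jr k (emb hF4 f g) v ∈ Usp x0 x1 x2)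
    (hs : ∀ s : k →+* k, (∀ c, s (f c) = f c) → Function.Surjective s → ∀ v ∈ Usp x0 x1 x2, sm s v ∈ Usp x0 x1 x2) :
    False := by
  classical
  have hcF := hc.charF
  have h2 : (2 : k) ≠ 0 := _root_.Cfsg.Agent.R2.F4L.two_ne p hp2
  have hQ : 5 ≤ Fintype.card K := by
    have := hc.seven
    omega
  have hf4 := T.f4_ne h2
  have hcard := hc.cardF
  have hq : 1 < Fintype.card F := Fintype.one_lt_card
  let s : k →+* k := iterateFrobenius k p b
  have hs1 : ∀ c, s c = c ^ Fintype.card F := fun c => by rw [hcard]; exact iterateFrobenius_def p b c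
  have hsf : ∀ c, s (f c) = f c := fun c => by rw [hs1, ← map_pow, FiniteField.pow_card]
  have hsur : Function.Surjective s := fun c => by
    obtain ⟨z, hz⟩ := IsAlgClosed.exists_pow_nat_eq c (n := Fintype.card F) (by omega)
    exact ⟨z, by rw [hs1, hz]⟩
  have hRk : ∀ g v, sm s (Rk f φ g v) = Rk f φ g (sm s v) := fun g v => sm_Jr s f hsf _ v
  have hsh : ∀ v, sm s (sh v) = sh (sm s v) := fun v => (map_sh s v).symm
  -- normalization of the last vector
  obtain ⟨μ, hμ⟩ := A.top T h2 hQ (hs s hsf hsur _ mem2) (fun t => by rw [← hRk, A.u2']) (by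
    rw [← hsh, T.sh4, sm_zero])
  have hμ0 : μ ≠ 0 := by
    rintro rfl
    rw [zero_smul, ← sm_zero s] at hμ
    exact hf4 (sm_inj s hμ)
  obtain ⟨ν, hν⟩ := IsAlgClosed.exists_pow_nat_eq μ⁻¹ (n := Fintype.card F - 1) (by omega)
  have hν0 : ν ≠ 0 := by
    rintro rfl
    rw [zero_pow (by omega)] at hν
    exact hμ0 (inv_eq_zero.1 hν.symm)
  have hν1 : s ν * μ = ν := by
    rw [hs1, show Fintype.card F = Fintype.card F - 1 + 1 by omega, pow_succ, hν]
    field_simp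
  have hfix : sm s (ν • sh x2) = ν • sh x2 := by
    rw [sm_smul, hμ, smul_smul, hν1]
  have hex : ∀ l, ∃ d, f d = (ν • sh x2) l := fun l => exists_of_pow f (by
    rw [← hs1]
    exact congrFun hfix l)
  choose e' he' using hex
  have heu : (fun l => f (e' l)) = ν • sh x2 := funext he'
  have hw2 : Rk f φ Cfsg.Agent.H943.SL2Rel.w (sh x2) = sh x0 := by
    have := A.w 0 0 1
    rw [one_smul, zero_smul, zero_smul, zero_add, zero_add, one_smul, neg_zero, zero_smul, zero_smul, add_zero,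
      add_zero] at this
    exact this
  -- two rational vectors
  let a' : I27 → F := RF φ (Cfsg.Agent.H943.SL2Rel.u 1) (RF φ Cfsg.Agent.H943.SL2Rel.w e')
  let b' : I27 → F := e' - RF φ Cfsg.Agent.H943.SL2Rel.w e'
  have hwe : (fun l => f (RF φ Cfsg.Agent.H943.SL2Rel.w e' l)) = ν • sh x0 := by
    rw [up_RF, heu, map_smul, hw2]
  have hau : (fun l => f (a' l)) = ν • sh (x0 + (2 : k) • x1 + x2) := by
    show (fun l => f (RF φ (Cfsg.Agent.H943.SL2Rel.u 1) (RF φ Cfsg.Agent.H943.SL2Rel.w e') l)) = _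
    rw [up_RF, hwe, map_smul, A.u0', map_one, one_pow, one_pow, mul_one, one_smul]
  have hbu : (fun l => f (b' l)) = ν • (sh x2 - sh x0) := by
    rw [smul_sub, ← heu, ← hwe]
    funext l
    exact map_sub f _ _
  obtain ⟨g, hg1, hga, hgb⟩ := R2.F4P.common_stab a' b'
  apply hg1
  have can : ∀ {c : k} {x : I27 → k}, c ≠ 0 → c • x ∈ fixE f g → x ∈ fixE f g := fun {c x} hc hx => by
    have := (fixE f g).smul_mem c⁻¹ hx
    rwa [smul_smul, inv_mul_cancel₀ hc, one_smul] at this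
  have m1 : sh (x0 + (2 : k) • x1 + x2) ∈ fixE f g := can hν0 (by rw [← hau]; exact fixE_up hga)
  have m2 : sh x2 - sh x0 ∈ fixE f g := can hν0 (by rw [← hbu]; exact fixE_up hgb)
  obtain ⟨g0, g1, g4, g01, g12⟩ := T.closure h2 (fixE_u0 g) fixE_cr m1 m2
  have hUfix : ∀ v ∈ Usp x0 x1 x2, Jr k (emb hF4 f g) v = v := by
    intro v hv
    obtain ⟨α, β, γ, δ, ε, ζ, rfl⟩ := T.mem_U hv
    have : α • sh x0 + β • cr x0 x1 + γ • sh x1 + δ • u0 k + ε • cr x1 x2 + ζ • sh x2 ∈ fixE f g :=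
      (Submodule.add_mem _ (Submodule.add_mem _ (Submodule.add_mem _ (Submodule.add_mem _ (Submodule.add_mem _
        (Submodule.smul_mem _ _ g0) (Submodule.smul_mem _ _ g01)) (Submodule.smul_mem _ _ g1))
        (Submodule.smul_mem _ _ (fixE_u0 g))) (Submodule.smul_mem _ _ g12)) (Submodule.smul_mem _ _ g4) :)
    exact this
  have he'U : e' ∈ dn f (Usp x0 x1 x2) := by
    rw [mem_dn, heu]
    exact Submodule.smul_mem _ _ mem2
  refine hc.kc (U := dn f (Usp x0 x1 x2)) ?_ ⟨fun hU => ?_, not_W0_le f T.finrank_le⟩ ?_ ?_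
  · intro h hh x hx
    rw [mem_dn, ← Jr_map]
    exact hH h hh _ hx
  · obtain ⟨c, hc'⟩ := Submodule.mem_span_singleton.1 (hU he'U)
    have h3 : ν • sh x2 = f c • u0 k := by
      rw [← heu, ← hc']
      funext l
      rw [Pi.smul_apply, smul_eq_mul, map_mul]
      show _ = f c * u0 k l
      congr 1
      have := congrFun (Cfsg.Agent.R2.F4P.u0_map f) l
      exact this
    have h4 := congrArg sh h3
    rw [sh_smul, sh_smul, T.sh4, smul_zero, sh_u0] at h4
    have h5 : f c = 0 := by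
      have := (smul_eq_zero.1 h4.symm).resolve_right u0_ne
      exact pow_eq_zero_iff (by norm_num) |>.1 this
    rw [h5, zero_smul] at h3
    exact hf4 ((smul_eq_zero.1 h3).resolve_left hν0)
  · by_contra hcon
    push Not at hcon
    have hall : ∀ r : _root_.Matrix.SpecialLinearGroup (Fin 2) K, Rk f φ r (sh x2) = sh x2 := by
      intro r
      have h3 := hcon (pq r) e' he'U
      have h4 := up_RF (f := f) (φ := φ) r e'
      rw [RF_apply, h3, heu, map_smul] at h4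
      have h5 : ν • (Rk f φ r (sh x2) - sh x2) = 0 := by rw [smul_sub, ← h4, sub_self]
      exact sub_eq_zero.1 ((smul_eq_zero.1 h5).resolve_left hν0)
    have h02 : sh x0 = sh x2 := by rw [← hw2, hall]
    have hall0 : ∀ t : K, Rk f φ (Cfsg.Agent.H943.SL2Rel.u t) (sh x0) = sh x0 := fun t => by rw [h02, hall]
    have h0 : ∀ t : K, ∑ j ∈ Finset.range 5, (ι t ^ p ^ i) ^ j • (fun j : ℕ => if j = 1 then
        (2 : k) • cr x0 x1 else if j = 2 then cr x0 x2 + (4 : k) • sh x1 else if j = 3 then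
        (2 : k) • cr x1 x2 else if j = 4 then sh x2 else 0) j = 0 := by
      intro t
      have h1 := hall0 t
      rw [A.u0'] at h1
      have h3 := sub_eq_zero.2 h1
      refine Eq.trans ?_ h3
      simp only [Finset.sum_range_succ, Finset.sum_range_zero, sh_add3, sh_smul, cr_smul_left, cr_smul_right]
      simp only [show (0 : ℕ) = 1 ↔ False by norm_num, show (0 : ℕ) = 2 ↔ False by norm_num,
        show (0 : ℕ) = 3 ↔ False by norm_num, show (0 : ℕ) = 4 ↔ False by norm_num, if_false, if_true,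
        show (2 : ℕ) = 1 ↔ False by norm_num, show (3 : ℕ) = 1 ↔ False by norm_num, show (3 : ℕ) = 2 ↔ False by norm_num,
        show (4 : ℕ) = 1 ↔ False by norm_num, show (4 : ℕ) = 2 ↔ False by norm_num, show (4 : ℕ) = 3 ↔ False by norm_num]
      module
    have h3 := poly0 ι hQ p i h0 4 (by norm_num)
    simp only [show (4 : ℕ) = 1 ↔ False by norm_num, show (4 : ℕ) = 2 ↔ False by norm_num,
      show (4 : ℕ) = 3 ↔ False by norm_num, if_false, if_true] at h3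
    exact hf4 h3
  · intro x hx
    apply up_inj (f := f)
    rw [← Jr_map]
    exact hUfix _ hx

end Cfsg.Agent.R2.F4P.Th
end

-- part: R2/F4P/Th/No3
section
/-!
# No submodules `V_{2 3^i}` in the Albert algebra, `p = 3` (helper20, S5931)

* `Cx3.tri` : a nonzero tuple of type `(2, i)` is a triple (`Tri`);
* `Cx3.uniq3`, `Cx3.pair3` : uniqueness;
* `no3`.
-/

set_option autoImplicit false
set_option linter.unusedSectionVars false
set_option linter.unusedVariables false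

namespace Cfsg.Agent.R2.F4P.Th

open Cfsg Cfsg.Lie Module Matrix
open Cfsg.Agent.ChevalleyStructure.E6Min.Tables Cfsg.Agent.ChevalleyStructure.E6Min.Basic
open Cfsg.Agent.H952.F4 (sh cr tf tr1 u0 hF4)
open Cfsg.Agent.H952.F4.Jord
open Cfsg.Agent.H952.F4.FixV (W0 mem_W0 finrank_W0 u0_ne_zero tr1_eq)
open Cfsg.Agent.R2.H9.E6
open Cfsg.Agent.GpExc.Field (emb)
open Cfsg.Agent.H943.SL2Rel Cfsg.Agent.H943.SL2Mod Cfsg.Agent.R2.H28.SL2 Cfsg.Agent.H943.RepAdd
open Cfsg.Agent.R2.F4M Cfsg.Agent.R2.F4N Cfsg.Agent.R2.F4L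

universe u v w

section Gen

variable {k : Type u} [Field k] [DecidableEq k] {K : Type w} [Field K] [Fintype K] [DecidableEq K] {ι : K →+* k}
variable [CharP k 3] [CharP K 3] {a : ℕ}
variable {ρ : Representation k (Matrix.SpecialLinearGroup (Fin 2) K) (I27 → k)}

theorem Cx3.nine (C : Cx3 K a ρ) : 9 ≤ Fintype.card K := by
  rw [C.card]
  calc 9 = 3 ^ 2 := by norm_num
    _ ≤ 3 ^ a := Nat.pow_le_pow_right (by norm_num) C.ha

theorem two3 (k : Type u) [Field k] [CharP k 3] : (2 : k) ≠ 0 := two_ne 3 (by norm_num)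

theorem three0 (k : Type u) [Field k] [CharP k 3] : (3 : k) = 0 := by
  have := CharP.cast_eq_zero k 3
  exact_mod_cast this

theorem Cx3.lt_card (C : Cx3 K a ρ) {i : ℕ} (hi : i < a) : 2 * 3 ^ i ≤ Fintype.card K - 1 := by
  rw [C.card]
  have h1 : 3 ^ (i + 1) ≤ 3 ^ a := Nat.pow_le_pow_right (by norm_num) hi
  have h2 : 0 < 3 ^ i := by positivity
  rw [pow_succ] at h1
  omega

variable {i : ℕ} {x y : ℕ → I27 → k}

theorem Cx3.nz (C : Cx3 K a ρ) (hx : TS ι 3 ρ 2 i x) : Nz (x 0) (x 1) (x 2) := by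
  have h9 := C.nine
  obtain ⟨t, ht, ht2⟩ := exists_t (k := k) ι 3 (by omega)
  exact Nz.of_N (two3 k) ht ht2 (three_N C.act (by norm_num) (by omega) hx)

/-- the action of the unipotent elements -/
theorem ts_u (hx : TS ι 3 ρ 2 i x) (t : K) (α β γ : k) :
    ρ (Cfsg.Agent.H943.SL2Rel.u t) (α • x 0 + β • x 1 + γ • x 2) =
    α • x 0 + (2 * α * (ι t ^ 3 ^ i) + β) • x 1 + (α * (ι t ^ 3 ^ i) ^ 2 + β * (ι t ^ 3 ^ i) + γ) • x 2 := by
  rw [map_add, map_add, map_smul, map_smul, map_smul, ts2_u0 hx, ts2_u1 hx, ts2_u2 hx]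
  module

theorem ts_h (hx : TS ι 3 ρ 2 i x) (c : Kˣ) (α β γ : k) :
    ρ (Cfsg.Agent.H943.SL2Rel.h c) (α • x 0 + β • x 1 + γ • x 2) =
    (α * (ι c ^ 3 ^ i)⁻¹ ^ 2) • x 0 + β • x 1 + (γ * (ι c ^ 3 ^ i) ^ 2) • x 2 := by
  rw [map_add, map_add, map_smul, map_smul, map_smul, ts2_h0 hx, ts2_h1 hx, ts2_h2 hx]
  module

theorem ts_w (hx : TS ι 3 ρ 2 i x) (α β γ : k) :
    ρ Cfsg.Agent.H943.SL2Rel.w (α • x 0 + β • x 1 + γ • x 2) = γ • x 0 + (-β) • x 1 + α • x 2 := by
  rw [map_add, map_add, map_smul, map_smul, map_smul, ts2_w0 hx, ts2_w1 hx, ts2_w2 hx]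
  module

/-- the span is white only if it is zero -/
theorem Cx3.ts_white (C : Cx3 K a ρ) (hx : TS ι 3 ρ 2 i x) (h : ∀ α β γ : k, sh (α • x 0 + β • x 1 + γ • x 2) = 0) :
    x = 0 := by
  have mem : ∀ v ∈ Submodule.span k (Set.range x), ∃ α β γ : k, v = α • x 0 + β • x 1 + γ • x 2 := by
    intro v hv
    obtain ⟨c, rfl⟩ := hx.mem_span hv
    exact ⟨c 0, c 1, c 2, by simp [Finset.sum_range_succ]⟩
  have hm : ∀ s, x s ∈ Submodule.span k (Set.range x) := fun s => Submodule.subset_span ⟨s, rfl⟩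
  have hc : ∀ α β γ : k, α • x 0 + β • x 1 + γ • x 2 ∈ Submodule.span k (Set.range x) := fun α β γ =>
    Submodule.add_mem _ (Submodule.add_mem _ (Submodule.smul_mem _ _ (hm 0)) (Submodule.smul_mem _ _ (hm 1)))
      (Submodule.smul_mem _ _ (hm 2))
  have h1 := C.white (Submodule.span k (Set.range x)) (st_gen (fun t v hv => by
      obtain ⟨α, β, γ, rfl⟩ := mem v hv
      rw [ts_u hx]
      exact hc _ _ _) (fun t v hv => by
      obtain ⟨α, β, γ, rfl⟩ := mem v hv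
      rw [ts_h hx]
      exact hc _ _ _) (fun v hv => by
      obtain ⟨α, β, γ, rfl⟩ := mem v hv
      rw [ts_w hx]
      exact hc _ _ _)) (fun v hv => by
      obtain ⟨α, β, γ, rfl⟩ := mem v hv
      exact h α β γ)
  funext s
  have h2 := hm s
  rw [h1, Submodule.mem_bot] at h2
  exact h2

/-- the span of the squares is stable -/
theorem usp_stable (C : Cx3 K a ρ) (hx : TS ι 3 ρ 2 i x) :
    ∀ g, ∀ v ∈ Usp (x 0) (x 1) (x 2), ρ g v ∈ Usp (x 0) (x 1) (x 2) := by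
  refine st_span ?_ ?_ ?_
  · rintro t _ ⟨α, β, γ, rfl⟩
    rw [C.act.sh, ts_u hx]
    exact mem_Usp _ _ _ _ _ _
  · rintro t _ ⟨α, β, γ, rfl⟩
    rw [C.act.sh, ts_h hx]
    exact mem_Usp _ _ _ _ _ _
  · rintro _ ⟨α, β, γ, rfl⟩
    rw [C.act.sh, ts_w hx]
    exact mem_Usp _ _ _ _ _ _

/-- **nonzero tuples are triples** -/
theorem Cx3.tri (C : Cx3 K a ρ) (hx : TS ι 3 ρ 2 i x) (hx0 : x ≠ 0) : ∃ c0 : k, Tri (x 0) (x 1) (x 2) c0 := by
  have h9 := C.nine
  have h2 := two3 k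
  have Z := C.nz hx
  obtain ⟨c0, hc⟩ := C.fix _ (three_w0 C.act hx)
  have hw : cr (x 0) (x 2) = c0 • u0 k + (2 : k) • sh (x 1) := by rw [← hc]; module
  obtain ⟨lam, hl⟩ := _root_.Cfsg.Agent.R2.F4L.exists_prim ι i 3
  set α := ι (lam : K) ^ 3 ^ i with hα
  have hα0 : α ≠ 0 := pow_ne_zero _ ((map_ne_zero ι).2 lam.ne_zero)
  have ne : ∀ m : ℕ, 0 < m → m < 8 → α ^ m ≠ 1 := fun m h0 h6 => hl.pow_ne_one_of_pos_of_lt (by omega) (by omega)
  have ine : ∀ m : ℕ, 0 < m → m < 8 → α⁻¹ ^ m ≠ 1 := fun m h0 h6 h => by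
    rw [inv_pow] at h
    exact ne m h0 h6 (inv_injective (h.trans inv_one.symm))
  have w0 := (ts2_h0 hx) lam
  have w1 := (ts2_h1 hx) lam
  have w2 := (ts2_h2 hx) lam
  rw [← hα] at w0 w2
  refine ⟨c0, { Z with ne := ?_, w := hw, r0 := ?_, r1 := ?_, r3 := ?_, r4 := ?_ }⟩
  · rintro rfl
    rw [zero_smul, zero_add] at hw
    have W := Z.wh h2 hw
    have hz : ∀ α β γ : k, sh (α • x 0 + β • x 1 + γ • x 2) ∈ (⊥ : Submodule k (I27 → k)) := by
      have h1 := C.white (Usp (x 0) (x 1) (x 2)) (usp_stable C hx) (fun v hv => by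
        have h3 : ∃ a b c d e : k, v = a • sh (x 0) + b • sh (x 1) + c • sh (x 2) + d • cr (x 0) (x 1) + e • cr (x 1) (x 2) := by
          unfold Usp at hv
          induction hv using Submodule.span_induction with
          | mem v hv =>
            obtain ⟨a, b, c, rfl⟩ := hv
            refine ⟨a ^ 2, b ^ 2 + 2 * a * c, c ^ 2, a * b, b * c, ?_⟩
            rw [sh_add3]
            simp only [sh_smul, cr_smul_left, cr_smul_right, hw]
            module
          | zero => exact ⟨0, 0, 0, 0, 0, by module⟩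
          | add v w _ _ hv hw =>
            obtain ⟨a1, a2, a3, a4, a5, rfl⟩ := hv
            obtain ⟨b1, b2, b3, b4, b5, rfl⟩ := hw
            exact ⟨a1 + b1, a2 + b2, a3 + b3, a4 + b4, a5 + b5, by module⟩
          | smul c v _ hv =>
            obtain ⟨a1, a2, a3, a4, a5, rfl⟩ := hv
            exact ⟨c * a1, c * a2, c * a3, c * a4, c * a5, by module⟩
        obtain ⟨a1, a2, a3, a4, a5, rfl⟩ := h3
        exact W.sh _ _ _ _ _)
      intro α β γ
      rw [← h1]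
      exact mem_Usp _ _ _ _ _ _
    exact hx0 (C.ts_white hx fun α β γ => (Submodule.mem_bot k).1 (hz α β γ))
  · refine wt_tr C.act (g := Cfsg.Agent.H943.SL2Rel.h lam) (α := α⁻¹ ^ 4) ?_ (ine 4 (by norm_num) (by norm_num))
    rw [C.act.sh, w0, sh_smul]
    congr 1
    ring
  · refine wt_tr C.act (g := Cfsg.Agent.H943.SL2Rel.h lam) (α := α⁻¹ ^ 2) ?_ (ine 2 (by norm_num) (by norm_num))
    rw [C.act.cr, w0, w1, cr_smul_left]
  · refine wt_tr C.act (g := Cfsg.Agent.H943.SL2Rel.h lam) (α := α ^ 2) ?_ (ne 2 (by norm_num) (by norm_num))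
    rw [C.act.cr, w2, w1, cr_smul_right]
  · refine wt_tr C.act (g := Cfsg.Agent.H943.SL2Rel.h lam) (α := α ^ 4) ?_ (ne 4 (by norm_num) (by norm_num))
    rw [C.act.sh, w2, sh_smul]
    congr 1
    ring

/-- the traces of a tuple -/
theorem Cx3.ts_tr1 (C : Cx3 K a ρ) (hx : TS ι 3 ρ 2 i x) : tr1 (x 1) = 0 := by
  have h1 := C.act.tr Cfsg.Agent.H943.SL2Rel.w (x 1)
  rw [ts2_w1 hx, show -x 1 = (-1 : k) • x 1 by rw [neg_one_smul], tr1_smul] at h1
  have h2 : (2 : k) * tr1 (x 1) = 0 := by linear_combination -h1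
  exact (mul_eq_zero.1 h2).resolve_left (two3 k)

theorem Cx3.form3 (C : Cx3 K a ρ) (hx : TS ι 3 ρ 2 i x) (hx0 : x ≠ 0) : tf (x 1) (x 1) ≠ 0 := by
  obtain ⟨c0, T⟩ := C.tri hx hx0
  obtain ⟨h1, -⟩ := T.trace (two3 k)
  have h3 := tr1_sh (x 1)
  rw [C.ts_tr1 hx] at h3
  intro h
  rw [h] at h3
  exact T.ne (by linear_combination h1 - h3)

/-- **uniqueness, the same label** -/
theorem Cx3.uniq3 (C : Cx3 K a ρ) [IsAlgClosed k] (hx : TS ι 3 ρ 2 i x) (hx0 : x ≠ 0) (hy : TS ι 3 ρ 2 i y) :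
    ∃ c : k, y = c • x := by
  have h2 := two3 k
  set A := tf (x 1) (x 1) with hA
  have hA0 : A ≠ 0 := C.form3 hx hx0
  set B := 2 * tf (x 1) (y 1) with hB
  set D := tf (y 1) (y 1) with hD
  obtain ⟨s, hs⟩ := IsAlgClosed.exists_pow_nat_eq (B ^ 2 - 4 * A * D) (n := 2) (by norm_num)
  set e : k := (-B + s) / (2 * A) with he
  have hroot : A * e ^ 2 + B * e + D = 0 := by
    have h1 : 4 * A * (A * e ^ 2 + B * e + D) = 0 := by
      have h3 : 2 * A * e = -B + s := by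
        rw [he]
        field_simp
      calc 4 * A * (A * e ^ 2 + B * e + D) = (2 * A * e) ^ 2 + 2 * B * (2 * A * e) + 4 * A * D := by ring
        _ = 0 := by rw [h3]; linear_combination hs
    have h4 : (4 : k) ≠ 0 := by
      rw [show (4 : k) = 2 * 2 by norm_num]
      exact mul_ne_zero h2 h2
    exact (mul_eq_zero.1 h1).resolve_left (mul_ne_zero h4 hA0)
  by_contra hne
  have hz : y + e • x ≠ 0 := by
    intro h
    apply hne
    refine ⟨-e, ?_⟩
    rw [neg_smul]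
    exact eq_neg_of_add_eq_zero_left h
  refine C.form3 (hy.add (hx.smul e)) hz ?_
  show tf (y 1 + e • x 1) (y 1 + e • x 1) = 0
  simp only [tf_add_left, tf_add_right, tf_smul_left, tf_smul_right]
  rw [tf_comm (y 1) (x 1)]
  rw [← hroot, hA, hB, hD]
  ring

theorem tf_sum_left {β : Type*} (S : Finset β) (f : β → I27 → k) (y : I27 → k) :
    tf (∑ b ∈ S, f b) y = ∑ b ∈ S, tf (f b) y := by
  classical
  induction S using Finset.induction_on with
  | empty => simp [tf_zero_left]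
  | insert b S hb ih => rw [Finset.sum_insert hb, Finset.sum_insert hb, tf_add_left, ih]

/-- **different labels** -/
theorem Cx3.pair3 (C : Cx3 K a ρ) {d : ℕ} (hd0 : 0 < d) (hda : d < a) (hx : TS ι 3 ρ 2 0 x) (hx0 : x ≠ 0)
    (hy : TS ι 3 ρ 2 d y) (hy0 : y ≠ 0) : False := by
  have h9 := C.nine
  have h2 := two3 k
  obtain ⟨c0, T⟩ := C.tri hx hx0
  obtain ⟨d0, S⟩ := C.tri hy hy0
  obtain ⟨htr, -⟩ := S.trace h2
  have hux : ∀ t : K, ρ (Cfsg.Agent.H943.SL2Rel.u t) (sh (x 0)) =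
      ∑ A ∈ Finset.range 5, (ι t) ^ A • ff (x 0) (x 1) (x 2) A := by
    intro t
    rw [C.act.sh, ts2_u0 hx, sh_line, pow_zero, pow_one]
  -- the last vector
  have hg4 : ∀ A ∈ Finset.range 5, A ≠ 0 → tf (ff (x 0) (x 1) (x 2) A) (sh (y 2)) = 0 := by
    intro A hA hA0
    have h0 : ∀ t : K, ∑ j ∈ Finset.range 5, (ι t ^ 3 ^ 0) ^ j •
        (fun j : ℕ => if j = 0 then 0 else tf (ff (x 0) (x 1) (x 2) j) (sh (y 2))) j = 0 := by
      intro t
      have h1 := C.act.tf (Cfsg.Agent.H943.SL2Rel.u t) (sh (x 0)) (sh (y 2))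
      rw [hux, C.act.sh, ts2_u2 hy, tf_sum_left, Finset.sum_range_succ'] at h1
      rw [Finset.sum_range_succ']
      simp only [pow_zero, one_smul, pow_one, if_true, add_zero, Nat.add_one_ne_zero, if_false, tf_smul_left,
        smul_eq_mul] at h1 ⊢
      have h3 : tf (ff (x 0) (x 1) (x 2) 0) (sh (y 2)) = tf (sh (x 0)) (sh (y 2)) := rfl
      rw [h3] at h1
      linear_combination h1
    have h3 := poly0 ι (by omega : 5 ≤ Fintype.card K) 3 0 h0 A (Finset.mem_range.1 hA)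
    simp only [if_neg hA0] at h3
    exact h3
  -- the middle vector
  let G : ℕ → I27 → k := fun B => if B = 0 then sh (y 1) else if B = 1 then cr (y 1) (y 2) else sh (y 2)
  have huy : ∀ t : K, ρ (Cfsg.Agent.H943.SL2Rel.u t) (sh (y 1)) =
      ∑ B ∈ Finset.range 3, (ι t ^ 3 ^ d) ^ B • G B := by
    intro t
    rw [C.act.sh, ts2_u1 hy, sh_add, sh_smul, cr_smul_right]
    simp only [Finset.sum_range_succ, Finset.sum_range_zero, G]
    simp only [if_true, one_ne_zero, if_false, show (2 : ℕ) = 1 ↔ False by norm_num, show (2 : ℕ) = 0 ↔ False by norm_num]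
    module
  let c : ℕ × ℕ → k := fun q => if q.2 = 2 ∧ q.1 ≠ 0 then 0 else if q = (0, 0) then 0 else
    tf (ff (x 0) (x 1) (x 2) q.1) (G q.2)
  let e : ℕ × ℕ → ℕ := fun q => if q.2 = 2 ∧ q.1 ≠ 0 then 0 else q.1 + q.2 * 3 ^ d
  have h3d : 3 ≤ 3 ^ d := by
    calc 3 = 3 ^ 1 := by norm_num
      _ ≤ 3 ^ d := Nat.pow_le_pow_right (by norm_num) hd0
  have h3a : 3 * 3 ^ d ≤ Fintype.card K := by
    rw [C.card, mul_comm, ← pow_succ]
    exact Nat.pow_le_pow_right (by norm_num) hda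
  have hpoly := polyF (V := k) (K := K) (ι := ι) 3 (Finset.range 5 ×ˢ Finset.range 3) e c (by
      rintro ⟨A, B⟩ hq
      rw [Finset.mem_product, Finset.mem_range, Finset.mem_range] at hq
      obtain ⟨hA, hB⟩ := hq
      simp only at hA hB
      show (if B = 2 ∧ A ≠ 0 then 0 else A + B * 3 ^ d) < _
      split_ifs with h
      · omega
      · have hB' : B = 0 ∨ B = 1 ∨ B = 2 := by omega
        rcases hB' with rfl | rfl | rfl
        · omega
        · omega
        · have : A = 0 := by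
            by_contra hA'
            exact h ⟨rfl, hA'⟩
          subst this
          omega) (by
      intro t
      have h1 := C.act.tf (Cfsg.Agent.H943.SL2Rel.u t) (sh (x 0)) (sh (y 1))
      rw [hux, huy] at h1
      have h4 : ∑ q ∈ Finset.range 5 ×ˢ Finset.range 3, ι t ^ e q • c q =
          tf (∑ A ∈ Finset.range 5, (ι t) ^ A • ff (x 0) (x 1) (x 2) A) (∑ B ∈ Finset.range 3, (ι t ^ 3 ^ d) ^ B • G B) -
          tf (sh (x 0)) (sh (y 1)) := by
        rw [tf_sum_left]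
        have h5 : ∀ A ∈ Finset.range 5, tf (ι t ^ A • ff (x 0) (x 1) (x 2) A) (∑ B ∈ Finset.range 3, (ι t ^ 3 ^ d) ^ B • G B) =
            ∑ B ∈ Finset.range 3, (ι t ^ A * (ι t ^ 3 ^ d) ^ B) * tf (ff (x 0) (x 1) (x 2) A) (G B) := by
          intro A _
          rw [tf_comm, tf_sum_left]
          refine Finset.sum_congr rfl fun B _ => ?_
          rw [tf_smul_left, tf_smul_right, tf_comm]
          ring
        rw [Finset.sum_congr rfl h5, ← Finset.sum_product',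
          ← Finset.add_sum_erase (Finset.range 5 ×ˢ Finset.range 3) (fun q : ℕ × ℕ => ι t ^ e q • c q)
          (a := ((0 : ℕ), (0 : ℕ))) (by decide),
          ← Finset.add_sum_erase (Finset.range 5 ×ˢ Finset.range 3) (fun q : ℕ × ℕ => ι t ^ q.1 * (ι t ^ 3 ^ d) ^ q.2 *
          tf (ff (x 0) (x 1) (x 2) q.1) (G q.2)) (a := ((0 : ℕ), (0 : ℕ))) (by decide)]
        have h6 : ι t ^ e (0, 0) • c (0, 0) = 0 := by
          show _ • (if (0 : ℕ) = 2 ∧ (0 : ℕ) ≠ 0 then (0 : k) else if ((0 : ℕ), (0 : ℕ)) = (0, 0) then 0 else _) = 0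
          rw [if_neg (by norm_num), if_pos rfl, smul_zero]
        have h7 : ι t ^ ((0 : ℕ), (0 : ℕ)).1 * (ι t ^ 3 ^ d) ^ ((0 : ℕ), (0 : ℕ)).2 *
            tf (ff (x 0) (x 1) (x 2) ((0 : ℕ), (0 : ℕ)).1) (G ((0 : ℕ), (0 : ℕ)).2) = tf (sh (x 0)) (sh (y 1)) := by
          show ι t ^ 0 * (ι t ^ 3 ^ d) ^ 0 * tf (sh (x 0)) (if (0 : ℕ) = 0 then sh (y 1) else _) = _
          rw [if_pos rfl, pow_zero, pow_zero, one_mul, one_mul]
        rw [h6, h7, zero_add, add_sub_cancel_left]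
        refine Finset.sum_congr rfl fun q hq => ?_
        obtain ⟨A, B⟩ := q
        rw [Finset.mem_erase, Finset.mem_product, Finset.mem_range, Finset.mem_range] at hq
        obtain ⟨hAB, hA, hB⟩ := hq
        simp only at hA hB
        show ι t ^ (if B = 2 ∧ A ≠ 0 then 0 else A + B * 3 ^ d) • (if B = 2 ∧ A ≠ 0 then (0 : k) else if (A, B) = (0, 0) then 0 else
          tf (ff (x 0) (x 1) (x 2) A) (G B)) = ι t ^ A * (ι t ^ 3 ^ d) ^ B * tf (ff (x 0) (x 1) (x 2) A) (G B)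
        by_cases h8 : B = 2 ∧ A ≠ 0
        · rw [if_pos h8, if_pos h8, smul_zero]
          obtain ⟨rfl, hA0⟩ := h8
          have h10 : G 2 = sh (y 2) := rfl
          rw [h10, hg4 A (Finset.mem_range.2 hA) hA0, mul_zero]
        · rw [if_neg h8, if_neg h8, if_neg hAB, smul_eq_mul, pow_add, pow_mul']
      rw [h4, h1, sub_self]) 2
  have hfil : (Finset.range 5 ×ˢ Finset.range 3).filter (fun q => e q = 2) = {(2, 0)} := by
    ext ⟨A, B⟩
    rw [Finset.mem_filter, Finset.mem_product, Finset.mem_range, Finset.mem_range, Finset.mem_singleton]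
    show ((A < 5 ∧ B < 3) ∧ (if B = 2 ∧ A ≠ 0 then 0 else A + B * 3 ^ d) = 2) ↔ (A, B) = (2, 0)
    constructor
    · rintro ⟨⟨hA, hB⟩, h⟩
      have hB' : B = 0 ∨ B = 1 ∨ B = 2 := by omega
      rcases hB' with rfl | rfl | rfl
      · rw [if_neg (by omega)] at h
        have : A = 2 := by omega
        rw [this]
      · rw [if_neg (by omega)] at h
        omega
      · split_ifs at h with h8
        omega
    · intro h
      obtain ⟨rfl, rfl⟩ := Prod.mk.inj h
      refine ⟨⟨by norm_num, by norm_num⟩, ?_⟩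
      rw [if_neg (by omega)]
      omega
  rw [hfil, Finset.sum_singleton] at hpoly
  have h5 : tf (ff (x 0) (x 1) (x 2) 2) (sh (y 1)) = 0 := hpoly
  have h6 : ff (x 0) (x 1) (x 2) 2 = c0 • u0 k := by
    show cr (x 0) (x 2) + (4 : k) • sh (x 1) = _
    rw [T.w]
    have h3 := three0 k
    have : (6 : k) • sh (x 1) = 0 := by
      rw [show (6 : k) = 3 * 2 by norm_num, h3, zero_mul, zero_smul]
    calc c0 • u0 k + (2 : k) • sh (x 1) + (4 : k) • sh (x 1) = c0 • u0 k + (6 : k) • sh (x 1) := by module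
      _ = _ := by rw [this, add_zero]
  rw [h6, tf_smul_left, tf_u0] at h5
  have h7 := (mul_eq_zero.1 h5).resolve_left T.ne
  rw [h7, mul_zero, add_zero] at htr
  exact S.ne htr

end Gen

section cfg

variable {F : Type u} [Field F] [Fintype F] {K : Type v} [Field K] [Fintype K] [DecidableEq K] {a b : ℕ}
variable {H : Subgroup ↥(chevF4.group F)} {φ : ProjectiveSpecialLinearGroup (Fin 2) K →* ↥(chevF4.group F)}
variable {k : Type u} [Field k] [DecidableEq k] {f : F →+* k} {ι : K →+* k} [CharP k 3] [CharP K 3]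
variable [IsAlgClosed k]

/-- **no submodules `V_{2 3^i}`** -/
theorem no3 (hc : _root_.Cfsg.Agent.R2.F4M.Cfg 3 a b H φ) (C : Cx3 K a (Rk f φ)) {i : ℕ} (hi : i < a) {z : ℕ → I27 → k}
    (hz : TS ι 3 (Rk f φ) 2 i z) : z = 0 := by
  by_contra hz0
  have hb := C.lt_card hi
  obtain ⟨c0, T⟩ := C.tri hz hz0
  have hmem : ∀ v ∈ Submodule.span k (Set.range z), ∃ α β γ : k, v = α • z 0 + β • z 1 + γ • z 2 := by
    intro v hv
    obtain ⟨c, rfl⟩ := hz.mem_span hv
    exact ⟨c 0, c 1, c 2, by simp [Finset.sum_range_succ]⟩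
  have hm : ∀ s, z s ∈ Submodule.span k (Set.range z) := fun s => Submodule.subset_span ⟨s, rfl⟩
  have hcm : ∀ α β γ : k, α • z 0 + β • z 1 + γ • z 2 ∈ Submodule.span k (Set.range z) := fun α β γ =>
    Submodule.add_mem _ (Submodule.add_mem _ (Submodule.smul_mem _ _ (hm 0)) (Submodule.smul_mem _ _ (hm 1)))
      (Submodule.smul_mem _ _ (hm 2))
  have hU : Uq f φ (Submodule.span k (Set.range z)) := by
    refine ⟨ir_of hz hz0 (by norm_num) (by norm_num) hb, fun Y hY hdim => ?_⟩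
    rw [fin_of hz hz0 (by norm_num) (by norm_num) hb hc.cardK] at hdim
    obtain ⟨c, hcV, hcd⟩ := isV_of_ir (p := 3) (ι := ι) hc hY
    rw [hdim] at hcd
    obtain ⟨-, l, rfl⟩ := (card_cases k 3 (by omega) c).2.2.1 hcd.symm
    obtain ⟨x, hx, hYx, hne'⟩ := tuple_of_isV (by norm_num : 2 < 3) hcV
    have hl : l < a := pos_lt hc (by norm_num) hcV.choose
    have hx0 : x ≠ 0 := fun h => hne' 0 (by norm_num) (by rw [h]; rfl)
    by_cases hil : i = l
    · subst hil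
      obtain ⟨d, hd⟩ := C.uniq3 hz hz0 hx
      have hd0 : d ≠ 0 := by
        rintro rfl
        apply hx0
        rw [hd, zero_smul]
      rw [hYx, hd]
      apply le_antisymm
      · rw [Submodule.span_le]
        rintro _ ⟨s, rfl⟩
        exact Submodule.smul_mem _ _ (Submodule.subset_span ⟨s, rfl⟩)
      · rw [Submodule.span_le]
        rintro _ ⟨s, rfl⟩
        have h5 : z s = d⁻¹ • (d • z) s := by
          show z s = d⁻¹ • d • z s
          rw [smul_smul, inv_mul_cancel₀ hd0, one_smul]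
        rw [h5]
        exact Submodule.smul_mem _ _ (Submodule.subset_span ⟨s, rfl⟩)
    · exfalso
      have hF : Fintype.card K = 3 ^ a := hc.cardK
      have e1 : (i + (a - i + l) % a) % a = l % a := by
        rw [Nat.add_mod_mod, show i + (a - i + l) = a + l by omega, Nat.add_mod_left]
      have hz' := TS_twist (l := i) (i' := 0) hF (by rw [add_zero]) hz
      have hx' := TS_twist (l := i) (i' := (a - i + l) % a) hF e1 hx
      refine C.pair3 (d := (a - i + l) % a) ?_ (Nat.mod_lt _ (by omega)) hz' hz0 hx' hx0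
      rw [Nat.pos_iff_ne_zero]
      intro h0
      rw [h0, add_zero, Nat.mod_eq_of_lt hi, Nat.mod_eq_of_lt hl] at e1
      exact hil e1
  refine sub6 (f := f) hc (by norm_num) (i := i) (ι := ι) (x0 := z 0) (x1 := z 1) (x2 := z 2) ⟨fun t α β γ => ?_, fun α β γ => ?_⟩ T
    (fun g hg v hv => ?_) (fun s hs hsur v hv => ?_)
  · rw [C.act.sh, ts_u hz]
  · rw [C.act.sh, ts_w hz]
  · have h1 : Usp (z 0) (z 1) (z 2) ≤ (Usp (z 0) (z 1) (z 2)).comap (Jr k (emb hF4 f g)) := by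
      refine Submodule.span_le.2 ?_
      rintro _ ⟨α, β, γ, rfl⟩
      show Jr k (emb hF4 f g) _ ∈ Usp (z 0) (z 1) (z 2)
      rw [← Jr_sh]
      obtain ⟨α', β', γ', h5⟩ := hmem _ (hU.mem hc hg (hcm α β γ))
      rw [h5]
      exact mem_Usp _ _ _ _ _ _
    exact h1 hv
  · unfold Usp at hv
    induction hv using Submodule.span_induction with
    | mem v hv =>
      obtain ⟨α, β, γ, rfl⟩ := hv
      have h5 : sm s (sh (α • z 0 + β • z 1 + γ • z 2)) = sh (sm s (α • z 0 + β • z 1 + γ • z 2)) := (map_sh s _).symm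
      rw [h5]
      obtain ⟨α', β', γ', h6⟩ := hmem _ (hU.sm_mem hs hsur (hcm α β γ))
      rw [h6]
      exact mem_Usp _ _ _ _ _ _
    | zero =>
      rw [sm_zero]
      exact Submodule.zero_mem _
    | add v w _ _ hv hw =>
      rw [sm_add]
      exact Submodule.add_mem _ hv hw
    | smul c v _ hv =>
      rw [sm_smul]
      exact Submodule.smul_mem _ _ hv

end cfg

end Cfsg.Agent.R2.F4P.Th
end

-- part: R2/F4P/Th/Y9a
section
/-!
# The submodules `V_{2 3^i + 2 3^j}`, I (helper20, S5931)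

* `mm y p r` : `Σ p_a r_b y_ab`; `tp_u`, `tp_h`, `tp_w` : the action;
* `HH y` : hypothesis (H); `HH.col` : the adjoints of the columns;
* `HY.oy` : `T(m^#, Y) = 0`; `HY.nz` : the norm vanishes.
-/

set_option autoImplicit false
set_option linter.unusedSectionVars false
set_option linter.unusedVariables false

namespace Cfsg.Agent.R2.F4P.Th

open Cfsg.Lie
open Cfsg.Agent.ChevalleyStructure.E6Min.Tables Cfsg.Agent.ChevalleyStructure.E6Min.Basic
open Cfsg.Agent.H952.F4 (sh cr tf tr1 u0)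
open Cfsg.Agent.H952.F4.Jord
open Cfsg.Agent.H943.SL2Rel Cfsg.Agent.H943.SL2Mod Cfsg.Agent.R2.H28.SL2 Cfsg.Agent.H943.RepAdd
open Cfsg.Agent.R2.F4L

universe u v w

section Alg

variable {k : Type u} [Field k]

/-- a combination of the columns -/
def col (y : ℕ → ℕ → I27 → k) (r0 r1 r2 : k) (s : ℕ) : I27 → k := r0 • y s 0 + r1 • y s 1 + r2 • y s 2

/-- pure tensors -/
def mm (y : ℕ → ℕ → I27 → k) (p0 p1 p2 r0 r1 r2 : k) : I27 → k :=
  p0 • col y r0 r1 r2 0 + p1 • col y r0 r1 r2 1 + p2 • col y r0 r1 r2 2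

theorem mm_swap (y : ℕ → ℕ → I27 → k) (p0 p1 p2 r0 r1 r2 : k) :
    mm (fun s s' => y s' s) p0 p1 p2 r0 r1 r2 = mm y r0 r1 r2 p0 p1 p2 := by
  unfold mm col
  module

/-- hypothesis (H) -/
def HH (y : ℕ → ℕ → I27 → k) : Prop := ∀ σ τ : k, sh (yy y σ τ) = 0

theorem yy_mm (y : ℕ → ℕ → I27 → k) (σ τ : k) : yy y σ τ = mm y 1 (2 * σ) (σ ^ 2) 1 (2 * τ) (τ ^ 2) := by
  unfold yy mm col
  module

theorem HH.swap {y : ℕ → ℕ → I27 → k} (h : HH y) : HH (fun s s' => y s' s) := by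
  intro σ τ
  rw [yy_mm, mm_swap, ← yy_mm]
  exact h τ σ

end Alg

variable {k : Type u} [Field k] [DecidableEq k] {K : Type w} [Field K] [Fintype K] [DecidableEq K] {ι : K →+* k}
variable [CharP k 3] [CharP K 3] {a : ℕ}

theorem poly4 (ι : K →+* k) (hQ : 5 ≤ Fintype.card K) {V : Type*} [AddCommGroup V] [Module k V] {v : ℕ → V}
    (h : ∀ τ : k, ∑ A ∈ Finset.range 5, τ ^ A • v A = 0) : ∀ A < 5, v A = 0 :=
  poly0 ι hQ 3 0 (fun t => h _)

theorem s3 {x : I27 → k} {c : k} : (3 * c) • x = 0 := by rw [three0 k, zero_mul, zero_smul]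

/-- **the adjoints of the columns** -/
theorem HH.col {y : ℕ → ℕ → I27 → k} (h : HH y) (ι : K →+* k) (hQ : 5 ≤ Fintype.card K) (r0 r1 r2 : k) {A : ℕ}
    (hA : A < 5) : ff (col y r0 r1 r2 0) (col y r0 r1 r2 1) (col y r0 r1 r2 2) A =
    (r1 ^ 2 - r0 * r2) • ff (y 0 1) (y 1 1) (y 2 1) A := by
  have key : ∀ σ : k, ∑ A ∈ Finset.range 5, σ ^ A • (ff (Th.col y r0 r1 r2 0) (Th.col y r0 r1 r2 1) (Th.col y r0 r1 r2 2) A -
      (r1 ^ 2 - r0 * r2) • ff (y 0 1) (y 1 1) (y 2 1) A) = 0 := by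
    intro σ
    set W := y 0 0 + (2 * σ) • y 1 0 + (σ ^ 2) • y 2 0 with hW
    set X := y 0 1 + (2 * σ) • y 1 1 + (σ ^ 2) • y 2 1 with hX
    set Z := y 0 2 + (2 * σ) • y 1 2 + (σ ^ 2) • y 2 2 with hZ
    have h1 : ∀ τ : k, ∑ A ∈ Finset.range 5, τ ^ A • ff W X Z A = 0 := by
      intro τ
      rw [← sh_line, ← h σ τ]
      congr 1
      rw [hW, hX, hZ]
      unfold yy
      module
    have h2 := poly4 ι hQ h1
    have e0 : sh W = 0 := h2 0 (by norm_num)
    have e1 : (2 : k) • cr W X = 0 := h2 1 (by norm_num)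
    have e2 : cr W Z + (4 : k) • sh X = 0 := h2 2 (by norm_num)
    have e3 : (2 : k) • cr X Z = 0 := h2 3 (by norm_num)
    have e4 : sh Z = 0 := h2 4 (by norm_num)
    have e1' := (smul_eq_zero.1 e1).resolve_left (two3 k)
    have e3' := (smul_eq_zero.1 e3).resolve_left (two3 k)
    have e2' : cr W Z = (-1 : k) • sh X := by
      have h3 : cr W Z + (4 : k) • sh X = cr W Z + sh X + (3 * (1 : k)) • sh X := by module
      rw [h3, s3, add_zero] at e2
      rw [neg_one_smul]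
      exact eq_neg_of_add_eq_zero_left e2
    have e5 : sh (r0 • W + r1 • X + r2 • Z) = (r1 ^ 2 - r0 * r2) • sh X := by
      rw [sh_add3]
      simp only [sh_smul, cr_smul_left, cr_smul_right, e0, e1', e2', e3', e4, smul_zero]
      module
    have e6 : r0 • W + r1 • X + r2 • Z = Th.col y r0 r1 r2 0 + (2 * σ) • Th.col y r0 r1 r2 1 + (σ ^ 2) • Th.col y r0 r1 r2 2 := by
      rw [hW, hX, hZ]
      unfold Th.col
      module
    rw [e6, sh_line, hX, sh_line, Finset.smul_sum] at e5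
    rw [← sub_eq_zero, ← Finset.sum_sub_distrib] at e5
    rw [← e5]
    refine Finset.sum_congr rfl fun A _ => ?_
    rw [smul_sub, smul_comm (σ ^ A)]
  exact sub_eq_zero.1 (poly4 ι hQ key A hA)

variable {ρ : Representation k (Matrix.SpecialLinearGroup (Fin 2) K) (I27 → k)} {i j : ℕ} {y : ℕ → ℕ → I27 → k}

/-- **the unipotent elements** -/
theorem tp_u (hy : TP ι 3 ρ 2 i 2 j y) (t : K) (p0 p1 p2 r0 r1 r2 : k) :
    ρ (Cfsg.Agent.H943.SL2Rel.u t) (mm y p0 p1 p2 r0 r1 r2) =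
      mm y p0 (2 * (ι t ^ 3 ^ i) * p0 + p1) ((ι t ^ 3 ^ i) ^ 2 * p0 + (ι t ^ 3 ^ i) * p1 + p2)
        r0 (2 * (ι t ^ 3 ^ j) * r0 + r1) ((ι t ^ 3 ^ j) ^ 2 * r0 + (ι t ^ 3 ^ j) * r1 + r2) := by
  have e : ∀ s ≤ 2, ∀ s' ≤ 2, _ := fun s hs s' hs' => hy.u s hs s' hs' t
  have e00 := e 0 (by norm_num) 0 (by norm_num)
  have e01 := e 0 (by norm_num) 1 (by norm_num)
  have e02 := e 0 (by norm_num) 2 (by norm_num)
  have e10 := e 1 (by norm_num) 0 (by norm_num)
  have e11 := e 1 (by norm_num) 1 (by norm_num)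
  have e12 := e 1 (by norm_num) 2 (by norm_num)
  have e20 := e 2 (by norm_num) 0 (by norm_num)
  have e21 := e 2 (by norm_num) 1 (by norm_num)
  have e22 := e 2 (by norm_num) 2 (by norm_num)
  simp only [Nat.sub_zero, Nat.reduceSub, Nat.reduceAdd, Finset.sum_range_succ, Finset.sum_range_zero, Nat.choose,
    zero_add, add_zero, Nat.cast_one, Nat.cast_ofNat, pow_zero, pow_one, mul_one, one_mul] at e00 e01 e02 e10 e11 e12 e20 e21 e22
  unfold mm col
  simp only [map_add, map_smul, e00, e01, e02, e10, e11, e12, e20, e21, e22]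
  module

/-- **the torus** -/
theorem tp_h (hy : TP ι 3 ρ 2 i 2 j y) (c : Kˣ) (p0 p1 p2 r0 r1 r2 : k) :
    ρ (Cfsg.Agent.H943.SL2Rel.h c) (mm y p0 p1 p2 r0 r1 r2) =
      mm y ((ι c ^ 3 ^ i)⁻¹ ^ 2 * p0) p1 ((ι c ^ 3 ^ i) ^ 2 * p2)
        ((ι c ^ 3 ^ j)⁻¹ ^ 2 * r0) r1 ((ι c ^ 3 ^ j) ^ 2 * r2) := by
  have e : ∀ s ≤ 2, ∀ s' ≤ 2, _ := fun s hs s' hs' => hy.h s hs s' hs' c
  have e00 := e 0 (by norm_num) 0 (by norm_num)
  have e01 := e 0 (by norm_num) 1 (by norm_num)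
  have e02 := e 0 (by norm_num) 2 (by norm_num)
  have e10 := e 1 (by norm_num) 0 (by norm_num)
  have e11 := e 1 (by norm_num) 1 (by norm_num)
  have e12 := e 1 (by norm_num) 2 (by norm_num)
  have e20 := e 2 (by norm_num) 0 (by norm_num)
  have e21 := e 2 (by norm_num) 1 (by norm_num)
  have e22 := e 2 (by norm_num) 2 (by norm_num)
  have hi0 : ι (c : K) ^ 3 ^ i ≠ 0 := pow_ne_zero _ ((map_ne_zero ι).2 c.ne_zero)
  have hj0 : ι (c : K) ^ 3 ^ j ≠ 0 := pow_ne_zero _ ((map_ne_zero ι).2 c.ne_zero)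
  simp only [Nat.sub_zero, Nat.reduceSub, pow_zero, pow_one, mul_one, one_mul, mul_inv_cancel₀ hi0,
    mul_inv_cancel₀ hj0, one_smul] at e00 e01 e02 e10 e11 e12 e20 e21 e22
  unfold mm col
  simp only [map_add, map_smul, e00, e01, e02, e10, e11, e12, e20, e21, e22]
  module

/-- **the Weyl element** -/
theorem tp_w (hy : TP ι 3 ρ 2 i 2 j y) (p0 p1 p2 r0 r1 r2 : k) :
    ρ Cfsg.Agent.H943.SL2Rel.w (mm y p0 p1 p2 r0 r1 r2) = mm y p2 (-p1) p0 r2 (-r1) r0 := by
  have e : ∀ s ≤ 2, ∀ s' ≤ 2, _ := fun s hs s' hs' => hy.w s hs s' hs'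
  have e00 := e 0 (by norm_num) 0 (by norm_num)
  have e01 := e 0 (by norm_num) 1 (by norm_num)
  have e02 := e 0 (by norm_num) 2 (by norm_num)
  have e10 := e 1 (by norm_num) 0 (by norm_num)
  have e11 := e 1 (by norm_num) 1 (by norm_num)
  have e12 := e 1 (by norm_num) 2 (by norm_num)
  have e20 := e 2 (by norm_num) 0 (by norm_num)
  have e21 := e 2 (by norm_num) 1 (by norm_num)
  have e22 := e 2 (by norm_num) 2 (by norm_num)
  simp only [Nat.sub_zero, Nat.reduceSub, pow_zero, pow_one, mul_one, one_mul] at e00 e01 e02 e10 e11 e12 e20 e21 e22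
  unfold mm col
  simp only [map_add, map_smul, e00, e01, e02, e10, e11, e12, e20, e21, e22]
  module

theorem mm_y (y : ℕ → ℕ → I27 → k) : y 0 0 = mm y 1 0 0 1 0 0 ∧ y 0 1 = mm y 1 0 0 0 1 0 ∧ y 0 2 = mm y 1 0 0 0 0 1 ∧
    y 1 0 = mm y 0 1 0 1 0 0 ∧ y 1 1 = mm y 0 1 0 0 1 0 ∧ y 1 2 = mm y 0 1 0 0 0 1 ∧
    y 2 0 = mm y 0 0 1 1 0 0 ∧ y 2 1 = mm y 0 0 1 0 1 0 ∧ y 2 2 = mm y 0 0 1 0 0 1 := by
  refine ⟨?_, ?_, ?_, ?_, ?_, ?_, ?_, ?_, ?_⟩ <;> unfold mm col <;> module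

end Cfsg.Agent.R2.F4P.Th
end

private theorem dce_192ebdbe8cc6 : _root_.True := by
  try have : _root_.True := by simp only [_root_.Cfsg.Agent.R2.F4P.Th.ff.eq_5]
  try have : _root_.True := by simp only [_root_.Cfsg.Agent.R2.F4P.Th.ff.eq_1]
  try have : _root_.True := by simp only [_root_.Cfsg.Agent.R2.F4P.Th.off.eq_1]
  try have : _root_.True := by simp only [_root_.Cfsg.Agent.R2.F4P.Th.ff.eq_2]
  try have : _root_.True := by simp only [_root_.Cfsg.Agent.R2.F4P.Th.ff.eq_6]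
  try have : _root_.True := by simp only [_root_.Cfsg.Agent.R2.F4P.Th.ff.eq_4]
  try have : _root_.True := by simp only [_root_.Cfsg.Agent.R2.F4P.Th.ff.eq_3]
  exact _root_.True.intro
end

-- part: R2/F4P/Th/Y9f
section
prune_inst 0x4000c000000000050000201c0282000400000800000000040c04c0080009000820a0100402008880050830000811100010020000000000000001180080000012023000a008420010000080000000000000000000000000000000000004000000000
set_option linter.all false
open scoped Cfsg.Agent.FastGrp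

-- part: R2/F4P/Th/Y9b
section
/-!
# The submodules `V_{2 3^i + 2 3^j}`, II (helper20, S5931)

* `YC` : the configuration; `YC.oy` : `T(m^#, Y) = 0`; `YC.nz` : the norm vanishes on the pure tensors.
-/

set_option autoImplicit false
set_option linter.unusedSectionVars false
set_option linter.unusedVariables false

namespace Cfsg.Agent.R2.F4P.Th

open Cfsg.Lie
open Cfsg.Agent.ChevalleyStructure.E6Min.Tables Cfsg.Agent.ChevalleyStructure.E6Min.Basic
open Cfsg.Agent.H952.F4 (sh cr tf tr1 u0)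
open Cfsg.Agent.H952.F4.Jord
open Cfsg.Agent.H943.SL2Rel Cfsg.Agent.H943.SL2Mod Cfsg.Agent.R2.H28.SL2 Cfsg.Agent.H943.RepAdd
open Cfsg.Agent.R2.F4L

universe u v w

variable {k : Type u} [Field k] [DecidableEq k] {K : Type w} [Field K] [Fintype K] [DecidableEq K] {ι : K →+* k}
variable [CharP k 3] [CharP K 3] {a : ℕ}

theorem digb_inj {i j : ℕ} (hij : i < j) {A B A' B' : ℕ} (hA : A < 3) (hB : B < 3) (hA' : A' < 3) (hB' : B' < 3)
    (h : A * 3 ^ i + B * 3 ^ j = A' * 3 ^ i + B' * 3 ^ j) : A = A' ∧ B = B' := by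
  obtain ⟨d, rfl⟩ := Nat.exists_eq_add_of_lt hij
  have h0 : 0 < 3 ^ i := by positivity
  obtain ⟨D, hD⟩ : ∃ D, D = 3 ^ d := ⟨_, rfl⟩
  have hD1 : 1 ≤ D := by rw [hD]; exact Nat.one_le_pow _ _ (by norm_num)
  have e : ∀ A B : ℕ, A * 3 ^ i + B * 3 ^ (i + d + 1) = (A + B * (3 * D)) * 3 ^ i := by
    intro A B
    rw [hD]
    ring
  rw [e, e] at h
  have h1 := Nat.eq_of_mul_eq_mul_right h0 h
  have hb : B = 0 ∨ B = 1 ∨ B = 2 := by omega
  have hb' : B' = 0 ∨ B' = 1 ∨ B' = 2 := by omega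
  rcases hb with rfl | rfl | rfl <;> rcases hb' with rfl | rfl | rfl <;> (clear * - h1 hA hA' hD hD1; omega)

theorem digb_inj' {i j : ℕ} (hij : i ≠ j) {A B A' B' : ℕ} (hA : A < 3) (hB : B < 3) (hA' : A' < 3) (hB' : B' < 3)
    (h : A * 3 ^ i + B * 3 ^ j = A' * 3 ^ i + B' * 3 ^ j) : A = A' ∧ B = B' := by
  rcases lt_or_gt_of_ne hij with h1 | h1
  · exact digb_inj h1 hA hB hA' hB' h
  · have := digb_inj h1 hB hA hB' hA' (by omega)
    exact ⟨this.2, this.1⟩

variable {ρ : Representation k (Matrix.SpecialLinearGroup (Fin 2) K) (I27 → k)} {i j : ℕ} {y : ℕ → ℕ → I27 → k}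

/-- the configuration -/
structure YC (ι : K →+* k) (a : ℕ) (ρ : Representation k (Matrix.SpecialLinearGroup (Fin 2) K) (I27 → k)) (i j : ℕ)
    (y : ℕ → ℕ → I27 → k) : Prop where
  C : Cx3 K a ρ
  hi : i < a
  hj : j < a
  hij : i ≠ j
  tp : TP ι 3 ρ 2 i 2 j y
  H : HH y

theorem YC.swap (h : YC ι a ρ i j y) : YC ι a ρ j i (fun s s' => y s' s) :=
  ⟨h.C, h.hj, h.hi, h.hij.symm, h.tp.swap, h.H.swap⟩

theorem YC.five (h : YC ι a ρ i j y) : 5 ≤ Fintype.card K := by have := h.C.nine; omega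

/-- polynomials with two digits -/
theorem poly33 (hF : Fintype.card K = 3 ^ a) (hi : i < a) (hj : j < a) (hij : i ≠ j) {V : Type*} [AddCommGroup V] [Module k V]
    {c : ℕ × ℕ → V}
    (h : ∀ t : K, ∑ q ∈ Finset.range 3 ×ˢ Finset.range 3, ((ι t ^ 3 ^ i) ^ q.1 * (ι t ^ 3 ^ j) ^ q.2) • c q = 0) :
    ∀ q ∈ Finset.range 3 ×ˢ Finset.range 3, c q = 0 := by
  refine polyE (ι := ι) 3 _ (fun q : ℕ × ℕ => q.1 * 3 ^ i + q.2 * 3 ^ j) c ?_ ?_ ?_
  · rintro ⟨A, B⟩ hq
    rw [Finset.mem_product, Finset.mem_range, Finset.mem_range] at hq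
    have h1 := label_lt2 (K := K) (p := 3) (n := A) (m := B) hF hq.1 hq.2 hij hi hj
    have h2 : 0 < Fintype.card K := Fintype.card_pos
    show A * 3 ^ i + B * 3 ^ j < Fintype.card K
    omega
  · rintro ⟨A, B⟩ hq ⟨A', B'⟩ hq' he
    rw [Finset.mem_product, Finset.mem_range, Finset.mem_range] at hq hq'
    obtain ⟨h1, h2⟩ := digb_inj' hij hq.1 hq.2 hq'.1 hq'.2 he
    exact Prod.ext h1 h2
  · intro t
    rw [← h t]
    refine Finset.sum_congr rfl fun q _ => ?_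
    congr 1
    rw [pow_add, pow_mul', pow_mul']

theorem mm_sum (y : ℕ → ℕ → I27 → k) (s s' : k) : mm y 1 (2 * s) (s ^ 2) 1 (2 * s') (s' ^ 2) =
    ∑ q ∈ Finset.range 3 ×ˢ Finset.range 3, (s ^ q.1 * s' ^ q.2) • (((Nat.choose 2 q.1 : k) * (Nat.choose 2 q.2 : k)) • y q.1 q.2) := by
  rw [Finset.sum_product]
  simp only [Finset.sum_range_succ, Finset.sum_range_zero, Nat.choose, zero_add, add_zero, Nat.cast_one, Nat.cast_ofNat]
  unfold mm col
  module

theorem ch_ne {A : ℕ} (hA : A < 3) : (Nat.choose 2 A : k) ≠ 0 := by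
  have hA' : A = 0 ∨ A = 1 ∨ A = 2 := by omega
  rcases hA' with rfl | rfl | rfl
  · simp
  · simpa using two3 k
  · simp

/-- **invariant functionals** -/
theorem YC.kap (h : YC ι a ρ i j y) {κ : (I27 → k) →ₗ[k] k}
    (hk : ∀ t, κ (ρ (Cfsg.Agent.H943.SL2Rel.u t) (y 0 0)) = κ (y 0 0)) {A B : ℕ} (hA : A < 3) (hB : B < 3)
    (hAB : (A, B) ≠ (0, 0)) : κ (y A B) = 0 := by
  have h1 := poly33 (ι := ι) h.C.card h.hi h.hj h.hij (V := k) (c := fun q => if q = (0, 0) then 0 else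
    ((Nat.choose 2 q.1 : k) * (Nat.choose 2 q.2 : k)) * κ (y q.1 q.2)) (by
      intro t
      have h2 := hk t
      have h3 : ρ (Cfsg.Agent.H943.SL2Rel.u t) (y 0 0) = mm y 1 (2 * (ι t ^ 3 ^ i)) ((ι t ^ 3 ^ i) ^ 2) 1
          (2 * (ι t ^ 3 ^ j)) ((ι t ^ 3 ^ j) ^ 2) := by
        conv_lhs => rw [(mm_y y).1]
        rw [tp_u h.tp]
        congr 1 <;> ring
      rw [h3, mm_sum, map_sum, ← Finset.add_sum_erase _ _ (a := ((0 : ℕ), (0 : ℕ))) (by decide)] at h2
      rw [← Finset.add_sum_erase _ _ (a := ((0 : ℕ), (0 : ℕ))) (by decide)]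
      have h4 : κ (((ι t ^ 3 ^ i) ^ ((0 : ℕ), (0 : ℕ)).1 * (ι t ^ 3 ^ j) ^ ((0 : ℕ), (0 : ℕ)).2) •
          (((Nat.choose 2 ((0 : ℕ), (0 : ℕ)).1 : k) * (Nat.choose 2 ((0 : ℕ), (0 : ℕ)).2 : k)) •
          y ((0 : ℕ), (0 : ℕ)).1 ((0 : ℕ), (0 : ℕ)).2)) = κ (y 0 0) := by
        simp
      rw [h4] at h2
      have h5 := add_left_cancel (h2.trans (add_zero _).symm)
      rw [if_pos rfl, smul_zero, zero_add, ← h5]
      refine Finset.sum_congr rfl fun q hq => ?_
      rw [if_neg (Finset.mem_erase.1 hq).1, map_smul, map_smul, smul_eq_mul, smul_eq_mul, smul_eq_mul])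
      (A, B) (Finset.mem_product.2 ⟨Finset.mem_range.2 hA, Finset.mem_range.2 hB⟩)
  rw [if_neg hAB] at h1
  exact (mul_eq_zero.1 h1).resolve_left (mul_ne_zero (ch_ne hA) (ch_ne hB))

/-- orthogonality to the span -/
def OY (y : ℕ → ℕ → I27 → k) (v : I27 → k) : Prop := ∀ p0 p1 p2 r0 r1 r2 : k, tf v (mm y p0 p1 p2 r0 r1 r2) = 0

theorem OY.of_y {v : I27 → k} (h : ∀ A < 3, ∀ B < 3, tf v (y A B) = 0) : OY y v := by
  intro p0 p1 p2 r0 r1 r2
  unfold mm col
  simp only [tf_add_right, tf_smul_right, h 0 (by norm_num) 0 (by norm_num), h 0 (by norm_num) 1 (by norm_num),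
    h 0 (by norm_num) 2 (by norm_num), h 1 (by norm_num) 0 (by norm_num), h 1 (by norm_num) 1 (by norm_num),
    h 1 (by norm_num) 2 (by norm_num), h 2 (by norm_num) 0 (by norm_num), h 2 (by norm_num) 1 (by norm_num),
    h 2 (by norm_num) 2 (by norm_num), mul_zero, add_zero]

theorem OY.add {v w : I27 → k} (hv : OY y v) (hw : OY y w) : OY y (v + w) := fun p0 p1 p2 r0 r1 r2 => by
  rw [tf_add_left, hv, hw, add_zero]

theorem OY.smul {v : I27 → k} (c : k) (hv : OY y v) : OY y (c • v) := fun p0 p1 p2 r0 r1 r2 => by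
  rw [tf_smul_left, hv, mul_zero]

theorem OY.of_smul {v : I27 → k} {c : k} (hc : c ≠ 0) (hv : OY y (c • v)) : OY y v := fun p0 p1 p2 r0 r1 r2 => by
  have := hv p0 p1 p2 r0 r1 r2
  rw [tf_smul_left] at this
  exact (mul_eq_zero.1 this).resolve_left hc

theorem OY.swap {v : I27 → k} (hv : OY (fun s s' => y s' s) v) : OY y v := fun p0 p1 p2 r0 r1 r2 => by
  have := hv r0 r1 r2 p0 p1 p2
  rwa [mm_swap] at this

theorem YC.oy_w (h : YC ι a ρ i j y) {v : I27 → k} (hv : OY y v) : OY y (ρ Cfsg.Agent.H943.SL2Rel.w v) := by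
  intro p0 p1 p2 r0 r1 r2
  have h1 : mm y p0 p1 p2 r0 r1 r2 = ρ Cfsg.Agent.H943.SL2Rel.w (mm y p2 (-p1) p0 r2 (-r1) r0) := by
    rw [tp_w h.tp, neg_neg, neg_neg]
  rw [h1, h.C.act.tf]
  exact hv _ _ _ _ _ _

theorem YC.oy_u (h : YC ι a ρ i j y) {v : I27 → k} (hv : OY y v) (t : K) :
    OY y (ρ (Cfsg.Agent.H943.SL2Rel.u t) v) := by
  intro p0 p1 p2 r0 r1 r2
  have h1 : mm y p0 p1 p2 r0 r1 r2 = ρ (Cfsg.Agent.H943.SL2Rel.u t) (mm y p0 (p1 - 2 * (ι t ^ 3 ^ i) * p0)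
      (p2 - (ι t ^ 3 ^ i) * p1 + (ι t ^ 3 ^ i) ^ 2 * p0) r0 (r1 - 2 * (ι t ^ 3 ^ j) * r0)
      (r2 - (ι t ^ 3 ^ j) * r1 + (ι t ^ 3 ^ j) ^ 2 * r0)) := by
    rw [tp_u h.tp]
    congr 1 <;> ring
  rw [h1, h.C.act.tf]
  exact hv _ _ _ _ _ _

/-- the traces -/
theorem YC.oy_u0 (h : YC ι a ρ i j y) : OY y (u0 k) := by
  have h1 : ∀ A < 3, ∀ B < 3, (A, B) ≠ (0, 0) → tf (u0 k) (y A B) = 0 := by
    intro A hA B hB hAB
    refine h.kap (κ := Cfsg.Agent.R2.GEO.tfB k (u0 k)) (fun t => ?_) hA hB hAB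
    show tf (u0 k) (ρ _ (y 0 0)) = tf (u0 k) (y 0 0)
    rw [tf_u0, tf_u0, h.C.act.tr]
  refine OY.of_y fun A hA B hB => ?_
  by_cases hAB : (A, B) = (0, 0)
  · obtain ⟨rfl, rfl⟩ := Prod.mk.inj hAB
    have h2 := h1 2 (by norm_num) 2 (by norm_num) (by decide)
    have h3 : ρ Cfsg.Agent.H943.SL2Rel.w (y 2 2) = y 0 0 := by
      have := h.tp.w 2 le_rfl 2 le_rfl
      rw [this]
      simp only [_root_.even_two, _root_.Even.neg_pow, _root_.one_pow, _root_.mul_one, _root_.tsub_self, _root_.one_smul]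
    rw [← h3, tf_u0, h.C.act.tr, ← tf_u0]
    exact h2
  · exact h1 A hA B hB hAB

theorem YC.tr (h : YC ι a ρ i j y) (p0 p1 p2 r0 r1 r2 : k) : tr1 (mm y p0 p1 p2 r0 r1 r2) = 0 := by
  rw [← tf_u0]
  exact h.oy_u0 _ _ _ _ _ _

/-- the columns -/
theorem YC.col_ff (h : YC ι a ρ i j y) (r0 r1 r2 : k) {A : ℕ} (hA : A < 5) :
    ff (col y r0 r1 r2 0) (col y r0 r1 r2 1) (col y r0 r1 r2 2) A = (r1 ^ 2 - r0 * r2) • ff (y 0 1) (y 1 1) (y 2 1) A :=
  h.H.col ι h.five r0 r1 r2 hA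

theorem YC.c_0 (h : YC ι a ρ i j y) (r0 r1 r2 : k) : sh (col y r0 r1 r2 0) = (r1 ^ 2 - r0 * r2) • sh (y 0 1) :=
  h.col_ff r0 r1 r2 (A := 0) (by norm_num)

theorem YC.c_4 (h : YC ι a ρ i j y) (r0 r1 r2 : k) : sh (col y r0 r1 r2 2) = (r1 ^ 2 - r0 * r2) • sh (y 2 1) :=
  h.col_ff r0 r1 r2 (A := 4) (by norm_num)

theorem YC.c_1 (h : YC ι a ρ i j y) (r0 r1 r2 : k) :
    cr (col y r0 r1 r2 0) (col y r0 r1 r2 1) = (r1 ^ 2 - r0 * r2) • cr (y 0 1) (y 1 1) := by
  have h1 : (2 : k) • cr (col y r0 r1 r2 0) (col y r0 r1 r2 1) = (r1 ^ 2 - r0 * r2) • (2 : k) • cr (y 0 1) (y 1 1) :=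
    h.col_ff r0 r1 r2 (A := 1) (by norm_num)
  rw [smul_comm, ← sub_eq_zero, ← smul_sub] at h1
  exact sub_eq_zero.1 ((smul_eq_zero.1 h1).resolve_left (two3 k))

theorem YC.c_3 (h : YC ι a ρ i j y) (r0 r1 r2 : k) :
    cr (col y r0 r1 r2 1) (col y r0 r1 r2 2) = (r1 ^ 2 - r0 * r2) • cr (y 1 1) (y 2 1) := by
  have h1 : (2 : k) • cr (col y r0 r1 r2 1) (col y r0 r1 r2 2) = (r1 ^ 2 - r0 * r2) • (2 : k) • cr (y 1 1) (y 2 1) :=
    h.col_ff r0 r1 r2 (A := 3) (by norm_num)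
  rw [smul_comm, ← sub_eq_zero, ← smul_sub] at h1
  exact sub_eq_zero.1 ((smul_eq_zero.1 h1).resolve_left (two3 k))

theorem YC.c_2 (h : YC ι a ρ i j y) (r0 r1 r2 : k) :
    cr (col y r0 r1 r2 0) (col y r0 r1 r2 2) = (r1 ^ 2 - r0 * r2) • (cr (y 0 1) (y 2 1) + (4 : k) • sh (y 1 1)) +
      (-4 : k) • sh (col y r0 r1 r2 1) := by
  have h1 : cr (col y r0 r1 r2 0) (col y r0 r1 r2 2) + (4 : k) • sh (col y r0 r1 r2 1) =
    (r1 ^ 2 - r0 * r2) • (cr (y 0 1) (y 2 1) + (4 : k) • sh (y 1 1)) := h.col_ff r0 r1 r2 (A := 2) (by norm_num)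
  rw [← h1]
  module

/-- the adjoint of a pure tensor -/
theorem YC.sh_mm (h : YC ι a ρ i j y) (p0 p1 p2 r0 r1 r2 : k) : sh (mm y p0 p1 p2 r0 r1 r2) =
    (r1 ^ 2 - r0 * r2) • (p0 ^ 2 • sh (y 0 1) + (p0 * p1) • cr (y 0 1) (y 1 1) +
      (p0 * p2) • (cr (y 0 1) (y 2 1) + (4 : k) • sh (y 1 1)) + (p1 * p2) • cr (y 1 1) (y 2 1) + p2 ^ 2 • sh (y 2 1)) +
      (p1 ^ 2 - 4 * p0 * p2) • sh (col y r0 r1 r2 1) := by
  unfold mm
  rw [sh_add3]
  simp only [sh_smul, cr_smul_left, cr_smul_right, h.c_0, h.c_1, h.c_2, h.c_3, h.c_4]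
  module

theorem col_swap (y : ℕ → ℕ → I27 → k) (r0 r1 r2 : k) : col y r0 r1 r2 1 = mm y 0 1 0 r0 r1 r2 := by
  unfold mm
  module

end Cfsg.Agent.R2.F4P.Th
end

-- part: R2/F4P/Th/Y9c
section
/-!
# The submodules `V_{2 3^i + 2 3^j}`, III (helper20, S5931)

* `YC.oy` : `T(m^#, Y) = 0`; `YC.norm` : the norm vanishes on the pure tensors; `YC.nz` : the columns.
-/

set_option autoImplicit false
set_option linter.unusedSectionVars false
set_option linter.unusedVariables false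

namespace Cfsg.Agent.R2.F4P.Th

open Cfsg.Lie
open Cfsg.Agent.ChevalleyStructure.E6Min.Tables Cfsg.Agent.ChevalleyStructure.E6Min.Basic
open Cfsg.Agent.H952.F4 (sh cr tf tr1 u0)
open Cfsg.Agent.H952.F4.Jord
open Cfsg.Agent.H943.SL2Rel Cfsg.Agent.H943.SL2Mod Cfsg.Agent.R2.H28.SL2 Cfsg.Agent.H943.RepAdd
open Cfsg.Agent.R2.F4L

universe u v w

variable {k : Type u} [Field k] [DecidableEq k] {K : Type w} [Field K] [Fintype K] [DecidableEq K] {ι : K →+* k}
variable [CharP k 3] [CharP K 3] {a : ℕ}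
variable {ρ : Representation k (Matrix.SpecialLinearGroup (Fin 2) K) (I27 → k)} {i j : ℕ} {y : ℕ → ℕ → I27 → k}

/-- the last vector is fixed -/
theorem YC.f4_fix (h : YC ι a ρ i j y) (t : K) : ρ (Cfsg.Agent.H943.SL2Rel.u t) (sh (y 2 1)) = sh (y 2 1) := by
  rw [h.C.act.sh, (mm_y y).2.2.2.2.2.2.2.1, tp_u h.tp, h.sh_mm, h.sh_mm]
  module

theorem YC.w21 (h : YC ι a ρ i j y) : ρ Cfsg.Agent.H943.SL2Rel.w (sh (y 2 1)) = sh (y 0 1) := by
  rw [h.C.act.sh, (mm_y y).2.2.2.2.2.2.2.1, tp_w h.tp, h.sh_mm]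
  module

/-- the first vector -/
theorem YC.f0_u (h : YC ι a ρ i j y) (t : K) : ρ (Cfsg.Agent.H943.SL2Rel.u t) (sh (y 0 1)) =
    ∑ A ∈ Finset.range 5, (ι t ^ 3 ^ i) ^ A • ff (y 0 1) (y 1 1) (y 2 1) A := by
  rw [h.C.act.sh, (mm_y y).2.1, tp_u h.tp, ← (mm_y y).2.1]
  have e : mm y 1 (2 * ι t ^ 3 ^ i * 1 + 0) ((ι t ^ 3 ^ i) ^ 2 * 1 + ι t ^ 3 ^ i * 0 + 0) 0 (2 * ι t ^ 3 ^ j * 0 + 1)
      ((ι t ^ 3 ^ j) ^ 2 * 0 + ι t ^ 3 ^ j * 1 + 0) =
      col y 0 1 (ι t ^ 3 ^ j) 0 + (2 * (ι t ^ 3 ^ i)) • col y 0 1 (ι t ^ 3 ^ j) 1 +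
        ((ι t ^ 3 ^ i) ^ 2) • col y 0 1 (ι t ^ 3 ^ j) 2 := by
    unfold mm col
    module
  rw [e, sh_line]
  refine Finset.sum_congr rfl fun A hA => ?_
  rw [h.col_ff _ _ _ (Finset.mem_range.1 hA)]
  module

/-- **`T(f_4, Y) = 0`** -/
theorem YC.oy_f4 (h : YC ι a ρ i j y) : OY y (sh (y 2 1)) := by
  have h9 := h.C.nine
  refine OY.of_y fun A hA B hB => ?_
  by_cases hAB : (A, B) = (0, 0)
  · obtain ⟨rfl, rfl⟩ := Prod.mk.inj hAB
    -- the torus
    obtain ⟨lam, hl⟩ := exists_prim ι 0 3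
    rw [pow_zero, pow_one] at hl
    set α := ι (lam : K) ^ 3 ^ i with hα
    set β := ι (lam : K) ^ 3 ^ j with hβ
    have hα0 : α ≠ 0 := pow_ne_zero _ ((map_ne_zero ι).2 lam.ne_zero)
    have hβ0 : β ≠ 0 := pow_ne_zero _ ((map_ne_zero ι).2 lam.ne_zero)
    have h1 := h.C.act.tf (Cfsg.Agent.H943.SL2Rel.h lam) (sh (y 2 1)) (y 0 0)
    have e1 : ρ (Cfsg.Agent.H943.SL2Rel.h lam) (sh (y 2 1)) = (α ^ 4) • sh (y 2 1) := by
      rw [h.C.act.sh, (mm_y y).2.2.2.2.2.2.2.1, tp_h h.tp, ← hα, ← hβ, h.sh_mm, h.sh_mm]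
      module
    have e2 : ρ (Cfsg.Agent.H943.SL2Rel.h lam) (y 0 0) = (α⁻¹ ^ 2 * β⁻¹ ^ 2) • y 0 0 := by
      conv_lhs => rw [(mm_y y).1]
      rw [tp_h h.tp, ← hα, ← hβ]
      unfold mm col
      module
    rw [e1, e2, tf_smul_left, tf_smul_right] at h1
    have h2 : (α ^ 2 - β ^ 2) * tf (sh (y 2 1)) (y 0 0) = 0 := by
      have h3 : α ^ 4 * (α⁻¹ ^ 2 * β⁻¹ ^ 2 * tf (sh (y 2 1)) (y 0 0)) * β ^ 2 = α ^ 2 * tf (sh (y 2 1)) (y 0 0) := by
        field_simp
      rw [h1] at h3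
      linear_combination -h3
    refine (mul_eq_zero.1 h2).resolve_left (sub_ne_zero.2 fun h4 => ?_)
    rw [hα, hβ, ← pow_mul, ← pow_mul] at h4
    have hlt : ∀ {l : ℕ}, l < a → 3 ^ l * 2 < Fintype.card K - 1 := by
      intro l hl
      have h5 : 3 ^ (l + 1) ≤ 3 ^ a := Nat.pow_le_pow_right (by norm_num) hl
      rw [← h.C.card, pow_succ] at h5
      have h6 : 0 < 3 ^ l := by positivity
      rcases Nat.eq_zero_or_pos l with rfl | hl0
      · rw [pow_zero]
        omega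
      · have h7 : 3 ≤ 3 ^ l := by
          calc 3 = 3 ^ 1 := by norm_num
            _ ≤ 3 ^ l := Nat.pow_le_pow_right (by norm_num) hl0
        omega
    have h5 := hl.pow_inj (hlt h.hi) (hlt h.hj) h4
    have h6 : 3 ^ i = 3 ^ j := by omega
    exact h.hij (Nat.pow_right_injective (by norm_num : 2 ≤ 3) h6)
  · refine h.kap (κ := Cfsg.Agent.R2.GEO.tfB k (sh (y 2 1))) (fun t => ?_) hA hB hAB
    show tf (sh (y 2 1)) (ρ _ (y 0 0)) = tf (sh (y 2 1)) (y 0 0)
    conv_lhs => rw [← h.f4_fix t]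
    rw [h.C.act.tf]

/-- **`T(f_A, Y) = 0`** -/
theorem YC.oy_ff (h : YC ι a ρ i j y) {A : ℕ} (hA : A < 5) : OY y (ff (y 0 1) (y 1 1) (y 2 1) A) := by
  intro p0 p1 p2 r0 r1 r2
  have h0 : OY y (sh (y 0 1)) := by
    rw [← h.w21]
    exact h.oy_w h.oy_f4
  refine poly0 ι h.five 3 i (a := fun A => tf (ff (y 0 1) (y 1 1) (y 2 1) A) (mm y p0 p1 p2 r0 r1 r2)) (fun t => ?_) A hA
  have h1 := h.oy_u h0 t p0 p1 p2 r0 r1 r2
  rw [h.f0_u, tf_sum_left] at h1
  rw [← h1]
  refine Finset.sum_congr rfl fun A _ => ?_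
  rw [tf_smul_left, smul_eq_mul]

theorem YC.oy_0 (h : YC ι a ρ i j y) : OY y (sh (y 0 1)) := h.oy_ff (A := 0) (by norm_num)
theorem YC.oy_1 (h : YC ι a ρ i j y) : OY y (cr (y 0 1) (y 1 1)) := OY.of_smul (two3 k) (h.oy_ff (A := 1) (by norm_num))
theorem YC.oy_2 (h : YC ι a ρ i j y) : OY y (cr (y 0 1) (y 2 1) + (4 : k) • sh (y 1 1)) := h.oy_ff (A := 2) (by norm_num)
theorem YC.oy_3 (h : YC ι a ρ i j y) : OY y (cr (y 1 1) (y 2 1)) := OY.of_smul (two3 k) (h.oy_ff (A := 3) (by norm_num))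
theorem YC.oy_4 (h : YC ι a ρ i j y) : OY y (sh (y 2 1)) := h.oy_ff (A := 4) (by norm_num)

/-- the middle vector -/
theorem YC.oy_m (h : YC ι a ρ i j y) : OY y (sh (y 1 1)) := by
  have key : ∀ t : K, ∀ p0 p1 p2 r0 r1 r2 : k, tf (ρ (Cfsg.Agent.H943.SL2Rel.u t) (sh (y 1 1))) (mm y p0 p1 p2 r0 r1 r2) =
      tf (sh (y 1 1)) (mm y p0 p1 p2 r0 r1 r2) := by
    intro t p0 p1 p2 r0 r1 r2
    have e1 : ρ (Cfsg.Agent.H943.SL2Rel.u t) (sh (y 1 1)) = sh (mm y 0 1 (ι t ^ 3 ^ i) 0 1 (ι t ^ 3 ^ j)) := by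
      rw [h.C.act.sh, (mm_y y).2.2.2.2.1, tp_u h.tp]
      congr 2 <;> ring
    have e2 := h.swap.sh_mm 0 1 (ι t ^ 3 ^ j) 0 1 0
    rw [mm_swap] at e2
    have e3 : sh (mm y 0 1 0 0 1 (ι t ^ 3 ^ j)) = sh (y 1 1) + (ι t ^ 3 ^ j) • cr (y 1 1) (y 1 2) +
        (ι t ^ 3 ^ j) ^ 2 • sh (y 1 2) := by
      have e4 : col (fun s s' => y s' s) 0 1 0 1 = y 1 1 := by unfold col; module
      rw [e4] at e2
      refine e2.trans ?_
      module
    rw [e1, h.sh_mm, col_swap, e3]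
    simp only [tf_add_left, tf_smul_left]
    rw [h.oy_0, h.oy_1, h.oy_3, h.oy_4, OY.swap h.swap.oy_3, OY.swap h.swap.oy_4]
    have e5 := h.oy_2 p0 p1 p2 r0 r1 r2
    rw [tf_add_left, tf_smul_left] at e5
    rw [e5]
    ring
  have h1 : ∀ A < 3, ∀ B < 3, (A, B) ≠ (0, 0) → tf (sh (y 1 1)) (y A B) = 0 := by
    intro A hA B hB hAB
    refine h.kap (κ := Cfsg.Agent.R2.GEO.tfB k (sh (y 1 1))) (fun t => ?_) hA hB hAB
    show tf (sh (y 1 1)) (ρ _ (y 0 0)) = tf (sh (y 1 1)) (y 0 0)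
    have e : ρ (Cfsg.Agent.H943.SL2Rel.u t) (y 0 0) = mm y 1 (2 * (ι t ^ 3 ^ i)) ((ι t ^ 3 ^ i) ^ 2) 1
        (2 * (ι t ^ 3 ^ j)) ((ι t ^ 3 ^ j) ^ 2) := by
      conv_lhs => rw [(mm_y y).1]
      rw [tp_u h.tp]
      congr 1 <;> ring
    have e2 := key t 1 (2 * (ι t ^ 3 ^ i)) ((ι t ^ 3 ^ i) ^ 2) 1 (2 * (ι t ^ 3 ^ j)) ((ι t ^ 3 ^ j) ^ 2)
    rw [e, ← e2, ← e, h.C.act.tf]
  refine OY.of_y fun A hA B hB => ?_
  by_cases hAB : (A, B) = (0, 0)
  · obtain ⟨rfl, rfl⟩ := Prod.mk.inj hAB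
    have h3 : ρ Cfsg.Agent.H943.SL2Rel.w (y 2 2) = y 0 0 := by
      rw [h.tp.w 2 le_rfl 2 le_rfl]
      simp only [_root_.even_two, _root_.Even.neg_pow, _root_.one_pow, _root_.mul_one, _root_.tsub_self, _root_.one_smul]
    have h4 : ρ Cfsg.Agent.H943.SL2Rel.w (sh (y 1 1)) = sh (y 1 1) := by
      rw [h.C.act.sh, h.tp.w 1 (by norm_num) 1 (by norm_num)]
      simp
    rw [← h3, ← h4, h.C.act.tf]
    exact h1 2 (by norm_num) 2 (by norm_num) (by decide)
  · exact h1 A hA B hB hAB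

/-- **`T(m^#, Y) = 0`** -/
theorem YC.oy (h : YC ι a ρ i j y) (p0 p1 p2 r0 r1 r2 : k) : OY y (sh (mm y p0 p1 p2 r0 r1 r2)) := by
  have h1 : OY y (sh (col y r0 r1 r2 1)) := by
    have e2 := h.swap.sh_mm r0 r1 r2 0 1 0
    rw [mm_swap] at e2
    rw [col_swap, e2]
    have e4 : col (fun s s' => y s' s) 0 1 0 1 = y 1 1 := by unfold col; module
    rw [e4]
    exact OY.add (OY.smul _ (OY.add (OY.add (OY.add (OY.add (OY.smul _ (OY.swap h.swap.oy_0)) (OY.smul _ (OY.swap h.swap.oy_1)))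
      (OY.smul _ (OY.swap h.swap.oy_2))) (OY.smul _ (OY.swap h.swap.oy_3))) (OY.smul _ (OY.swap h.swap.oy_4))))
      (OY.smul _ h.oy_m)
  rw [h.sh_mm]
  exact OY.add (OY.smul _ (OY.add (OY.add (OY.add (OY.add (OY.smul _ h.oy_0) (OY.smul _ h.oy_1))
      (OY.smul _ h.oy_2)) (OY.smul _ h.oy_3)) (OY.smul _ h.oy_4))) (OY.smul _ h1)

/-- the mixed products -/
theorem YC.oy_cr (h : YC ι a ρ i j y) (p0 p1 p2 q0 q1 q2 r0 r1 r2 : k) :
    OY y (cr (mm y p0 p1 p2 r0 r1 r2) (mm y q0 q1 q2 r0 r1 r2)) := by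
  have e : cr (mm y p0 p1 p2 r0 r1 r2) (mm y q0 q1 q2 r0 r1 r2) = sh (mm y (p0 + q0) (p1 + q1) (p2 + q2) r0 r1 r2) +
      (-1 : k) • sh (mm y p0 p1 p2 r0 r1 r2) + (-1 : k) • sh (mm y q0 q1 q2 r0 r1 r2) := by
    have e1 : mm y (p0 + q0) (p1 + q1) (p2 + q2) r0 r1 r2 = mm y p0 p1 p2 r0 r1 r2 + mm y q0 q1 q2 r0 r1 r2 := by
      unfold mm
      module
    rw [e1, sh_add]
    module
  rw [e]
  exact OY.add (OY.add (h.oy _ _ _ _ _ _) (OY.smul _ (h.oy _ _ _ _ _ _))) (OY.smul _ (h.oy _ _ _ _ _ _))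

/-- the norm on the columns -/
theorem YC.N_p (h : YC ι a ρ i j y) (p0 p1 p2 r0 r1 r2 : k) : cubicT (mm y p0 p1 p2 r0 r1 r2) =
    p0 ^ 3 * cubicT (mm y 1 0 0 r0 r1 r2) + p1 ^ 3 * cubicT (mm y 0 1 0 r0 r1 r2) +
      p2 ^ 3 * cubicT (mm y 0 0 1 r0 r1 r2) := by
  have e0 : mm y 1 0 0 r0 r1 r2 = col y r0 r1 r2 0 := by unfold mm; module
  have e1 : mm y 0 1 0 r0 r1 r2 = col y r0 r1 r2 1 := by unfold mm; module
  have e2 : mm y 0 0 1 r0 r1 r2 = col y r0 r1 r2 2 := by unfold mm; module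
  rw [e0, e1, e2]
  conv_lhs => unfold mm
  rw [N_lin3]
  rw [← e0, ← e1, ← e2]
  rw [h.oy, h.oy, h.oy, h.oy, h.oy, h.oy, h.oy_cr]
  ring

theorem YC.N_eq (h : YC ι a ρ i j y) (p0 p1 p2 r0 r1 r2 : k) : cubicT (mm y p0 p1 p2 r0 r1 r2) =
    p0 ^ 3 * (r0 ^ 3 * cubicT (y 0 0) + r1 ^ 3 * cubicT (y 0 1) + r2 ^ 3 * cubicT (y 0 2)) +
    p1 ^ 3 * (r0 ^ 3 * cubicT (y 1 0) + r1 ^ 3 * cubicT (y 1 1) + r2 ^ 3 * cubicT (y 1 2)) +
    p2 ^ 3 * (r0 ^ 3 * cubicT (y 2 0) + r1 ^ 3 * cubicT (y 2 1) + r2 ^ 3 * cubicT (y 2 2)) := by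
  have e : ∀ p0 p1 p2 : k, cubicT (mm y p0 p1 p2 r0 r1 r2) = r0 ^ 3 * cubicT (mm y p0 p1 p2 1 0 0) +
      r1 ^ 3 * cubicT (mm y p0 p1 p2 0 1 0) + r2 ^ 3 * cubicT (mm y p0 p1 p2 0 0 1) := by
    intro p0 p1 p2
    have := h.swap.N_p r0 r1 r2 p0 p1 p2
    rwa [mm_swap y, mm_swap y, mm_swap y, mm_swap y] at this
  obtain ⟨e00, e01, e02, e10, e11, e12, e20, e21, e22⟩ := mm_y y
  rw [h.N_p, e, e, e, ← e00, ← e01, ← e02, ← e10, ← e11, ← e12, ← e20, ← e21, ← e22]

/-- **the norm vanishes** -/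
theorem YC.N_y (h : YC ι a ρ i j y) {A B : ℕ} (hA : A < 3) (hB : B < 3) : cubicT (y A B) = 0 := by
  have key : ∀ q ∈ Finset.range 3 ×ˢ Finset.range 3, (fun q : ℕ × ℕ => if q = (0, 0) then 0 else
      ((Nat.choose 2 q.1 : k) * (Nat.choose 2 q.2 : k)) ^ 3 * cubicT (y q.1 q.2)) q = 0 := by
    refine poly33 (ι := ι) h.C.card h.hi h.hj h.hij (V := k) (fun t' => ?_)
    obtain ⟨t, ht⟩ : ∃ t : K, t ^ 3 = t' := by
      have hinj : Function.Injective (fun t : K => t ^ 3) := by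
        have : (fun t : K => t ^ 3) = frobenius K 3 := rfl
        rw [this]
        exact frobenius_inj K 3
      exact (Finite.injective_iff_surjective.1 hinj) t'
    have es : ∀ l : ℕ, ι t' ^ 3 ^ l = (ι t ^ 3 ^ l) ^ 3 := fun l => by
      rw [← ht, map_pow, ← pow_mul, ← pow_mul, mul_comm]
    have h2 := h.C.act.N (Cfsg.Agent.H943.SL2Rel.u t) (y 0 0)
    have h3 : ρ (Cfsg.Agent.H943.SL2Rel.u t) (y 0 0) = mm y 1 (2 * (ι t ^ 3 ^ i)) ((ι t ^ 3 ^ i) ^ 2) 1
        (2 * (ι t ^ 3 ^ j)) ((ι t ^ 3 ^ j) ^ 2) := by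
      conv_lhs => rw [(mm_y y).1]
      rw [tp_u h.tp]
      congr 1 <;> ring
    rw [h3, h.N_eq] at h2
    rw [es, es, Finset.sum_product]
    simp only [Finset.sum_range_succ, Finset.sum_range_zero, Nat.choose, zero_add, add_zero, Nat.cast_one]
    simp only [Prod.mk.injEq, show (1 : ℕ) = 0 ↔ False by norm_num, show (2 : ℕ) = 0 ↔ False by norm_num, and_false, false_and,
      if_false, and_self, if_true, smul_eq_mul]
    linear_combination h2
  have h1 : ∀ A < 3, ∀ B < 3, (A, B) ≠ (0, 0) → cubicT (y A B) = 0 := by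
    intro A hA B hB hAB
    have h2 := key (A, B) (Finset.mem_product.2 ⟨Finset.mem_range.2 hA, Finset.mem_range.2 hB⟩)
    beta_reduce at h2
    rw [if_neg hAB] at h2
    exact (mul_eq_zero.1 h2).resolve_left (pow_ne_zero _ (mul_ne_zero (ch_ne hA) (ch_ne hB)))
  by_cases hAB : (A, B) = (0, 0)
  · obtain ⟨rfl, rfl⟩ := Prod.mk.inj hAB
    have h3 : ρ Cfsg.Agent.H943.SL2Rel.w (y 2 2) = y 0 0 := by
      rw [h.tp.w 2 le_rfl 2 le_rfl]
      simp only [_root_.even_two, _root_.Even.neg_pow, _root_.one_pow, _root_.mul_one, _root_.tsub_self, _root_.one_smul]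
    rw [← h3, h.C.act.N]
    exact h1 2 (by norm_num) 2 (by norm_num) (by decide)
  · exact h1 A hA B hB hAB

theorem YC.N_mm (h : YC ι a ρ i j y) (p0 p1 p2 r0 r1 r2 : k) : cubicT (mm y p0 p1 p2 r0 r1 r2) = 0 := by
  rw [h.N_eq]
  simp only [h.N_y (show 0 < 3 by norm_num) (show 0 < 3 by norm_num), h.N_y (show 0 < 3 by norm_num) (show 1 < 3 by norm_num),
    h.N_y (show 0 < 3 by norm_num) (show 2 < 3 by norm_num), h.N_y (show 1 < 3 by norm_num) (show 0 < 3 by norm_num),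
    h.N_y (show 1 < 3 by norm_num) (show 1 < 3 by norm_num), h.N_y (show 1 < 3 by norm_num) (show 2 < 3 by norm_num),
    h.N_y (show 2 < 3 by norm_num) (show 0 < 3 by norm_num), h.N_y (show 2 < 3 by norm_num) (show 1 < 3 by norm_num),
    h.N_y (show 2 < 3 by norm_num) (show 2 < 3 by norm_num), mul_zero, add_zero]

/-- the columns -/
theorem YC.nz (h : YC ι a ρ i j y) (r0 r1 r2 : k) : Nz (col y r0 r1 r2 0) (col y r0 r1 r2 1) (col y r0 r1 r2 2) := by
  have e0 : mm y 1 0 0 r0 r1 r2 = col y r0 r1 r2 0 := by unfold mm; module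
  have e1 : mm y 0 1 0 r0 r1 r2 = col y r0 r1 r2 1 := by unfold mm; module
  have e2 : mm y 0 0 1 r0 r1 r2 = col y r0 r1 r2 2 := by unfold mm; module
  rw [← e0, ← e1, ← e2]
  exact ⟨h.N_mm _ _ _ _ _ _, h.N_mm _ _ _ _ _ _, h.N_mm _ _ _ _ _ _, h.oy _ _ _ _ _ _ _ _ _ _ _ _,
    h.oy _ _ _ _ _ _ _ _ _ _ _ _, h.oy _ _ _ _ _ _ _ _ _ _ _ _, h.oy _ _ _ _ _ _ _ _ _ _ _ _,
    h.oy _ _ _ _ _ _ _ _ _ _ _ _, h.oy _ _ _ _ _ _ _ _ _ _ _ _, h.oy_cr _ _ _ _ _ _ _ _ _ _ _ _ _ _ _⟩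

end Cfsg.Agent.R2.F4P.Th
end

-- part: R2/F4P/Th/Zt
section
/-!
# The alternating products of a two-digit tuple (helper20, S5931)

`zz y` : the tuple of the alternating products, `TP` again.
-/

set_option autoImplicit false
set_option linter.unusedSectionVars false
set_option linter.unusedVariables false

namespace Cfsg.Agent.R2.F4P.Th

open Cfsg.Lie
open Cfsg.Agent.ChevalleyStructure.E6Min.Tables Cfsg.Agent.ChevalleyStructure.E6Min.Basic
open Cfsg.Agent.H952.F4 (sh cr tf tr1 u0)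
open Cfsg.Agent.H952.F4.Jord
open Cfsg.Agent.H943.SL2Rel Cfsg.Agent.H943.SL2Mod Cfsg.Agent.R2.H28.SL2 Cfsg.Agent.H943.RepAdd
open Cfsg.Agent.R2.F4L

universe u v w

section Alg

variable {k : Type u} [Field k]

/-- alternating products -/
def zbr (y : ℕ → ℕ → I27 → k) (a a' b b' : ℕ) : I27 → k := cr (y a b) (y a' b') - cr (y a b') (y a' b)

/-- the tuple of the alternating products -/
noncomputable def zz (y : ℕ → ℕ → I27 → k) : ℕ → ℕ → I27 → k
  | 0, 0 => (2 : k)⁻¹ • zbr y 0 1 0 1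
  | 0, 1 => (4 : k)⁻¹ • zbr y 0 1 0 2
  | 0, 2 => (2 : k)⁻¹ • zbr y 0 1 1 2
  | 1, 0 => (4 : k)⁻¹ • zbr y 0 2 0 1
  | 1, 1 => (8 : k)⁻¹ • zbr y 0 2 0 2
  | 1, 2 => (4 : k)⁻¹ • zbr y 0 2 1 2
  | 2, 0 => (2 : k)⁻¹ • zbr y 1 2 0 1
  | 2, 1 => (4 : k)⁻¹ • zbr y 1 2 0 2
  | 2, 2 => (2 : k)⁻¹ • zbr y 1 2 1 2
  | _, _ => 0

/-- the alternating products of pure tensors -/
def BB (y : ℕ → ℕ → I27 → k) (p0 p1 p2 q0 q1 q2 r0 r1 r2 s0 s1 s2 : k) : I27 → k :=
  cr (mm y p0 p1 p2 r0 r1 r2) (mm y q0 q1 q2 s0 s1 s2) - cr (mm y p0 p1 p2 s0 s1 s2) (mm y q0 q1 q2 r0 r1 r2)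

theorem BB_col (c d : ℕ → I27 → k) (p0 p1 p2 q0 q1 q2 : k) :
    cr (p0 • c 0 + p1 • c 1 + p2 • c 2) (q0 • d 0 + q1 • d 1 + q2 • d 2) -
      cr (p0 • d 0 + p1 • d 1 + p2 • d 2) (q0 • c 0 + q1 • c 1 + q2 • c 2) =
    (p0 * q1 - p1 * q0) • (cr (c 0) (d 1) - cr (d 0) (c 1)) + (p0 * q2 - p2 * q0) • (cr (c 0) (d 2) - cr (d 0) (c 2)) +
      (p1 * q2 - p2 * q1) • (cr (c 1) (d 2) - cr (d 1) (c 2)) := by
  simp only [cr_add_left, cr_add_right, cr_smul_left, cr_smul_right]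
  rw [cr_comm (d 0) (c 0), cr_comm (d 1) (c 1), cr_comm (d 2) (c 2), cr_comm (d 1) (c 0), cr_comm (d 2) (c 0),
    cr_comm (d 2) (c 1), cr_comm (d 0) (c 1), cr_comm (d 0) (c 2), cr_comm (d 1) (c 2)]
  module

theorem BB_row (e f : ℕ → I27 → k) (r0 r1 r2 s0 s1 s2 : k) :
    cr (r0 • e 0 + r1 • e 1 + r2 • e 2) (s0 • f 0 + s1 • f 1 + s2 • f 2) -
      cr (s0 • e 0 + s1 • e 1 + s2 • e 2) (r0 • f 0 + r1 • f 1 + r2 • f 2) =
    (r0 * s1 - r1 * s0) • (cr (e 0) (f 1) - cr (e 1) (f 0)) + (r0 * s2 - r2 * s0) • (cr (e 0) (f 2) - cr (e 2) (f 0)) +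
      (r1 * s2 - r2 * s1) • (cr (e 1) (f 2) - cr (e 2) (f 1)) := by
  simp only [cr_add_left, cr_add_right, cr_smul_left, cr_smul_right]
  module

/-- **the alternating products in terms of the minors** -/
theorem BB_eq (h2 : (2 : k) ≠ 0) (y : ℕ → ℕ → I27 → k) (p0 p1 p2 q0 q1 q2 r0 r1 r2 s0 s1 s2 : k) :
    BB y p0 p1 p2 q0 q1 q2 r0 r1 r2 s0 s1 s2 = (2 : k) •
      mm (zz y) (p0 * q1 - p1 * q0) (2 * (p0 * q2 - p2 * q0)) (p1 * q2 - p2 * q1)
        (r0 * s1 - r1 * s0) (2 * (r0 * s2 - r2 * s0)) (r1 * s2 - r2 * s1) := by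
  unfold BB
  have h1 := BB_col (fun s => col y r0 r1 r2 s) (fun s => col y s0 s1 s2 s) p0 p1 p2 q0 q1 q2
  have e01 := BB_row (fun s => y 0 s) (fun s => y 1 s) r0 r1 r2 s0 s1 s2
  have e02 := BB_row (fun s => y 0 s) (fun s => y 2 s) r0 r1 r2 s0 s1 s2
  have e12 := BB_row (fun s => y 1 s) (fun s => y 2 s) r0 r1 r2 s0 s1 s2
  have e : cr (mm y p0 p1 p2 r0 r1 r2) (mm y q0 q1 q2 s0 s1 s2) - cr (mm y p0 p1 p2 s0 s1 s2) (mm y q0 q1 q2 r0 r1 r2) =
      (p0 * q1 - p1 * q0) • (cr (col y r0 r1 r2 0) (col y s0 s1 s2 1) - cr (col y s0 s1 s2 0) (col y r0 r1 r2 1)) +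
      (p0 * q2 - p2 * q0) • (cr (col y r0 r1 r2 0) (col y s0 s1 s2 2) - cr (col y s0 s1 s2 0) (col y r0 r1 r2 2)) +
      (p1 * q2 - p2 * q1) • (cr (col y r0 r1 r2 1) (col y s0 s1 s2 2) - cr (col y s0 s1 s2 1) (col y r0 r1 r2 2)) := h1
  rw [e]
  have e01' : cr (col y r0 r1 r2 0) (col y s0 s1 s2 1) - cr (col y s0 s1 s2 0) (col y r0 r1 r2 1) =
      (r0 * s1 - r1 * s0) • zbr y 0 1 0 1 + (r0 * s2 - r2 * s0) • zbr y 0 1 0 2 + (r1 * s2 - r2 * s1) • zbr y 0 1 1 2 := e01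
  have e02' : cr (col y r0 r1 r2 0) (col y s0 s1 s2 2) - cr (col y s0 s1 s2 0) (col y r0 r1 r2 2) =
      (r0 * s1 - r1 * s0) • zbr y 0 2 0 1 + (r0 * s2 - r2 * s0) • zbr y 0 2 0 2 + (r1 * s2 - r2 * s1) • zbr y 0 2 1 2 := e02
  have e12' : cr (col y r0 r1 r2 1) (col y s0 s1 s2 2) - cr (col y s0 s1 s2 1) (col y r0 r1 r2 2) =
      (r0 * s1 - r1 * s0) • zbr y 1 2 0 1 + (r0 * s2 - r2 * s0) • zbr y 1 2 0 2 + (r1 * s2 - r2 * s1) • zbr y 1 2 1 2 := e12
  rw [e01', e02', e12']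
  have h4 : (4 : k) ≠ 0 := by
    rw [show (4 : k) = 2 * 2 by norm_num]
    exact mul_ne_zero h2 h2
  have h8 : (8 : k) ≠ 0 := by
    rw [show (8 : k) = 2 * 4 by norm_num]
    exact mul_ne_zero h2 h4
  have z00 : zbr y 0 1 0 1 = (2 : k) • zz y 0 0 := by
    show _ = (2 : k) • (2 : k)⁻¹ • _
    rw [smul_smul, mul_inv_cancel₀ h2, one_smul]
  have z01 : zbr y 0 1 0 2 = (4 : k) • zz y 0 1 := by
    show _ = (4 : k) • (4 : k)⁻¹ • _
    rw [smul_smul, mul_inv_cancel₀ h4, one_smul]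
  have z02 : zbr y 0 1 1 2 = (2 : k) • zz y 0 2 := by
    show _ = (2 : k) • (2 : k)⁻¹ • _
    rw [smul_smul, mul_inv_cancel₀ h2, one_smul]
  have z10 : zbr y 0 2 0 1 = (4 : k) • zz y 1 0 := by
    show _ = (4 : k) • (4 : k)⁻¹ • _
    rw [smul_smul, mul_inv_cancel₀ h4, one_smul]
  have z11 : zbr y 0 2 0 2 = (8 : k) • zz y 1 1 := by
    show _ = (8 : k) • (8 : k)⁻¹ • _
    rw [smul_smul, mul_inv_cancel₀ h8, one_smul]
  have z12 : zbr y 0 2 1 2 = (4 : k) • zz y 1 2 := by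
    show _ = (4 : k) • (4 : k)⁻¹ • _
    rw [smul_smul, mul_inv_cancel₀ h4, one_smul]
  have z20 : zbr y 1 2 0 1 = (2 : k) • zz y 2 0 := by
    show _ = (2 : k) • (2 : k)⁻¹ • _
    rw [smul_smul, mul_inv_cancel₀ h2, one_smul]
  have z21 : zbr y 1 2 0 2 = (4 : k) • zz y 2 1 := by
    show _ = (4 : k) • (4 : k)⁻¹ • _
    rw [smul_smul, mul_inv_cancel₀ h4, one_smul]
  have z22 : zbr y 1 2 1 2 = (2 : k) • zz y 2 2 := by
    show _ = (2 : k) • (2 : k)⁻¹ • _
    rw [smul_smul, mul_inv_cancel₀ h2, one_smul]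
  rw [z00, z01, z02, z10, z11, z12, z20, z21, z22]
  unfold mm col
  module

end Alg

variable {k : Type u} [Field k] [DecidableEq k] {K : Type w} [Field K] [Fintype K] [DecidableEq K] {ι : K →+* k}
variable [CharP k 3] [CharP K 3] {a : ℕ}
variable {ρ : Representation k (Matrix.SpecialLinearGroup (Fin 2) K) (I27 → k)} {i j : ℕ} {y : ℕ → ℕ → I27 → k}

theorem tp_uB (H : Act ρ) (hy : TP ι 3 ρ 2 i 2 j y) (t : K) (p0 p1 p2 q0 q1 q2 r0 r1 r2 s0 s1 s2 : k) :
    ρ (Cfsg.Agent.H943.SL2Rel.u t) (BB y p0 p1 p2 q0 q1 q2 r0 r1 r2 s0 s1 s2) =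
    BB y p0 (2 * (ι t ^ 3 ^ i) * p0 + p1) ((ι t ^ 3 ^ i) ^ 2 * p0 + (ι t ^ 3 ^ i) * p1 + p2)
      q0 (2 * (ι t ^ 3 ^ i) * q0 + q1) ((ι t ^ 3 ^ i) ^ 2 * q0 + (ι t ^ 3 ^ i) * q1 + q2)
      r0 (2 * (ι t ^ 3 ^ j) * r0 + r1) ((ι t ^ 3 ^ j) ^ 2 * r0 + (ι t ^ 3 ^ j) * r1 + r2)
      s0 (2 * (ι t ^ 3 ^ j) * s0 + s1) ((ι t ^ 3 ^ j) ^ 2 * s0 + (ι t ^ 3 ^ j) * s1 + s2) := by
  unfold BB
  rw [map_sub, H.cr, H.cr, tp_u hy, tp_u hy, tp_u hy, tp_u hy]

theorem tp_hB (H : Act ρ) (hy : TP ι 3 ρ 2 i 2 j y) (c : Kˣ) (p0 p1 p2 q0 q1 q2 r0 r1 r2 s0 s1 s2 : k) :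
    ρ (Cfsg.Agent.H943.SL2Rel.h c) (BB y p0 p1 p2 q0 q1 q2 r0 r1 r2 s0 s1 s2) =
    BB y ((ι c ^ 3 ^ i)⁻¹ ^ 2 * p0) p1 ((ι c ^ 3 ^ i) ^ 2 * p2) ((ι c ^ 3 ^ i)⁻¹ ^ 2 * q0) q1 ((ι c ^ 3 ^ i) ^ 2 * q2)
      ((ι c ^ 3 ^ j)⁻¹ ^ 2 * r0) r1 ((ι c ^ 3 ^ j) ^ 2 * r2) ((ι c ^ 3 ^ j)⁻¹ ^ 2 * s0) s1 ((ι c ^ 3 ^ j) ^ 2 * s2) := by
  unfold BB
  rw [map_sub, H.cr, H.cr, tp_h hy, tp_h hy, tp_h hy, tp_h hy]

theorem tp_wB (H : Act ρ) (hy : TP ι 3 ρ 2 i 2 j y) (p0 p1 p2 q0 q1 q2 r0 r1 r2 s0 s1 s2 : k) :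
    ρ Cfsg.Agent.H943.SL2Rel.w (BB y p0 p1 p2 q0 q1 q2 r0 r1 r2 s0 s1 s2) =
    BB y p2 (-p1) p0 q2 (-q1) q0 r2 (-r1) r0 s2 (-s1) s0 := by
  unfold BB
  rw [map_sub, H.cr, H.cr, tp_w hy, tp_w hy, tp_w hy, tp_w hy]

/-- tuples from the action on the nine vectors -/
theorem TP.of_nine {z : ℕ → ℕ → I27 → k} (h0 : ∀ s s', 2 < s ∨ 2 < s' → z s s' = 0)
    (hu : ∀ t : K, ∀ p0 p1 p2 r0 r1 r2 : k, ρ (Cfsg.Agent.H943.SL2Rel.u t) (mm z p0 p1 p2 r0 r1 r2) =
      mm z p0 (2 * (ι t ^ 3 ^ i) * p0 + p1) ((ι t ^ 3 ^ i) ^ 2 * p0 + (ι t ^ 3 ^ i) * p1 + p2)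
        r0 (2 * (ι t ^ 3 ^ j) * r0 + r1) ((ι t ^ 3 ^ j) ^ 2 * r0 + (ι t ^ 3 ^ j) * r1 + r2))
    (hh : ∀ c : Kˣ, ∀ p0 p1 p2 r0 r1 r2 : k, ρ (Cfsg.Agent.H943.SL2Rel.h c) (mm z p0 p1 p2 r0 r1 r2) =
      mm z ((ι c ^ 3 ^ i)⁻¹ ^ 2 * p0) p1 ((ι c ^ 3 ^ i) ^ 2 * p2)
        ((ι c ^ 3 ^ j)⁻¹ ^ 2 * r0) r1 ((ι c ^ 3 ^ j) ^ 2 * r2))
    (hw : ∀ p0 p1 p2 r0 r1 r2 : k, ρ Cfsg.Agent.H943.SL2Rel.w (mm z p0 p1 p2 r0 r1 r2) = mm z p2 (-p1) p0 r2 (-r1) r0) :
    TP ι 3 ρ 2 i 2 j z := by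
  obtain ⟨e00, e01, e02, e10, e11, e12, e20, e21, e22⟩ := mm_y z
  refine ⟨h0, fun s hs s' hs' t => ?_, fun s hs s' hs' c => ?_, fun s hs s' hs' => ?_⟩
  · have h1 : s = 0 ∨ s = 1 ∨ s = 2 := by omega
    have h2 : s' = 0 ∨ s' = 1 ∨ s' = 2 := by omega
    rcases h1 with rfl | rfl | rfl <;> rcases h2 with rfl | rfl | rfl <;>
      simp only [Nat.sub_zero, Nat.reduceSub, Nat.reduceAdd, Finset.sum_range_succ, Finset.sum_range_zero, Nat.choose,
        zero_add, add_zero, Nat.cast_one, pow_zero, pow_one, mul_one, one_mul]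
    · conv_lhs => rw [e00, hu]
      unfold mm col
      module
    · conv_lhs => rw [e01, hu]
      unfold mm col
      module
    · conv_lhs => rw [e02, hu]
      unfold mm col
      module
    · conv_lhs => rw [e10, hu]
      unfold mm col
      module
    · conv_lhs => rw [e11, hu]
      unfold mm col
      module
    · conv_lhs => rw [e12, hu]
      unfold mm col
      module
    · conv_lhs => rw [e20, hu]
      unfold mm col
      module
    · conv_lhs => rw [e21, hu]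
      unfold mm col
      module
    · conv_lhs => rw [e22, hu]
      unfold mm col
      module
  · have h1 : s = 0 ∨ s = 1 ∨ s = 2 := by omega
    have h2 : s' = 0 ∨ s' = 1 ∨ s' = 2 := by omega
    have hi0 : ι (c : K) ^ 3 ^ i ≠ 0 := pow_ne_zero _ ((map_ne_zero ι).2 c.ne_zero)
    have hj0 : ι (c : K) ^ 3 ^ j ≠ 0 := pow_ne_zero _ ((map_ne_zero ι).2 c.ne_zero)
    rcases h1 with rfl | rfl | rfl <;> rcases h2 with rfl | rfl | rfl <;>
      simp only [Nat.sub_zero, Nat.reduceSub, pow_zero, pow_one, mul_one, one_mul, mul_inv_cancel₀ hi0,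
        mul_inv_cancel₀ hj0, one_smul]
    · conv_lhs => rw [e00, hh]
      unfold mm col
      module
    · conv_lhs => rw [e01, hh]
      unfold mm col
      module
    · conv_lhs => rw [e02, hh]
      unfold mm col
      module
    · conv_lhs => rw [e10, hh]
      unfold mm col
      module
    · conv_lhs => rw [e11, hh]
      unfold mm col
      module
    · conv_lhs => rw [e12, hh]
      unfold mm col
      module
    · conv_lhs => rw [e20, hh]
      unfold mm col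
      module
    · conv_lhs => rw [e21, hh]
      unfold mm col
      module
    · conv_lhs => rw [e22, hh]
      unfold mm col
      module
  · have h1 : s = 0 ∨ s = 1 ∨ s = 2 := by omega
    have h2 : s' = 0 ∨ s' = 1 ∨ s' = 2 := by omega
    rcases h1 with rfl | rfl | rfl <;> rcases h2 with rfl | rfl | rfl <;>
      simp only [Nat.sub_zero, Nat.reduceSub, pow_zero, pow_one, mul_one, one_mul]
    · conv_lhs => rw [e00, hw]
      unfold mm col
      module
    · conv_lhs => rw [e01, hw]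
      unfold mm col
      module
    · conv_lhs => rw [e02, hw]
      unfold mm col
      module
    · conv_lhs => rw [e10, hw]
      unfold mm col
      module
    · conv_lhs => rw [e11, hw]
      unfold mm col
      module
    · conv_lhs => rw [e12, hw]
      unfold mm col
      module
    · conv_lhs => rw [e20, hw]
      unfold mm col
      module
    · conv_lhs => rw [e21, hw]
      unfold mm col
      module
    · conv_lhs => rw [e22, hw]
      unfold mm col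
      module

end Cfsg.Agent.R2.F4P.Th
end

-- part: R2/F4P/Th/Zu
section
/-!
# The alternating products of a two-digit tuple, II (helper20, S5931)

`tp_zz` : `zz y` is a two-digit tuple.
-/

set_option autoImplicit false
set_option linter.unusedSectionVars false
set_option linter.unusedVariables false

namespace Cfsg.Agent.R2.F4P.Th

open Cfsg.Lie
open Cfsg.Agent.ChevalleyStructure.E6Min.Tables Cfsg.Agent.ChevalleyStructure.E6Min.Basic
open Cfsg.Agent.H952.F4 (sh cr tf tr1 u0)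
open Cfsg.Agent.H952.F4.Jord
open Cfsg.Agent.H943.SL2Rel Cfsg.Agent.H943.SL2Mod Cfsg.Agent.R2.H28.SL2 Cfsg.Agent.H943.RepAdd
open Cfsg.Agent.R2.F4L

universe u v w

variable {k : Type u} [Field k] [DecidableEq k] {K : Type w} [Field K] [Fintype K] [DecidableEq K] {ι : K →+* k}
variable [CharP k 3] [CharP K 3] {a : ℕ}
variable {ρ : Representation k (Matrix.SpecialLinearGroup (Fin 2) K) (I27 → k)} {i j : ℕ} {y : ℕ → ℕ → I27 → k}

theorem canc {V : Type*} [AddCommGroup V] [Module k V] {c : k} (hc : c ≠ 0) {v w : V} (h : c • v = c • w) : v = w := by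
  rw [← sub_eq_zero, ← smul_sub] at h
  exact sub_eq_zero.1 ((smul_eq_zero.1 h).resolve_left hc)

theorem four3 (k : Type u) [Field k] [CharP k 3] : (4 : k) ≠ 0 := by
  rw [show (4 : k) = 2 * 2 by norm_num]
  exact mul_ne_zero (two3 k) (two3 k)

/-- an equation for the nine vectors suffices -/
theorem ext_u {z : ℕ → ℕ → I27 → k} {S S' : k} {f : (I27 → k) →ₗ[k] (I27 → k)}
    (e00 : f (z 0 0) = mm z 1 (2 * S) (S ^ 2) 1 (2 * S') (S' ^ 2)) (e01 : f (z 0 1) = mm z 1 (2 * S) (S ^ 2) 0 1 S')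
    (e02 : f (z 0 2) = mm z 1 (2 * S) (S ^ 2) 0 0 1) (e10 : f (z 1 0) = mm z 0 1 S 1 (2 * S') (S' ^ 2))
    (e11 : f (z 1 1) = mm z 0 1 S 0 1 S') (e12 : f (z 1 2) = mm z 0 1 S 0 0 1)
    (e20 : f (z 2 0) = mm z 0 0 1 1 (2 * S') (S' ^ 2)) (e21 : f (z 2 1) = mm z 0 0 1 0 1 S')
    (e22 : f (z 2 2) = mm z 0 0 1 0 0 1) (p0 p1 p2 r0 r1 r2 : k) : f (mm z p0 p1 p2 r0 r1 r2) =
      mm z p0 (2 * S * p0 + p1) (S ^ 2 * p0 + S * p1 + p2) r0 (2 * S' * r0 + r1) (S' ^ 2 * r0 + S' * r1 + r2) := by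
  unfold mm col at *
  simp only [map_add, map_smul, e00, e01, e02, e10, e11, e12, e20, e21, e22]
  module

theorem ext_h {z : ℕ → ℕ → I27 → k} {s0 s2 t0 t2 : k} {f : (I27 → k) →ₗ[k] (I27 → k)}
    (e00 : f (z 0 0) = (s0 * t0) • z 0 0) (e01 : f (z 0 1) = s0 • z 0 1) (e02 : f (z 0 2) = (s0 * t2) • z 0 2)
    (e10 : f (z 1 0) = t0 • z 1 0) (e11 : f (z 1 1) = z 1 1) (e12 : f (z 1 2) = t2 • z 1 2)
    (e20 : f (z 2 0) = (s2 * t0) • z 2 0) (e21 : f (z 2 1) = s2 • z 2 1) (e22 : f (z 2 2) = (s2 * t2) • z 2 2)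
    (p0 p1 p2 r0 r1 r2 : k) : f (mm z p0 p1 p2 r0 r1 r2) = mm z (s0 * p0) p1 (s2 * p2) (t0 * r0) r1 (t2 * r2) := by
  unfold mm col at *
  simp only [map_add, map_smul, e00, e01, e02, e10, e11, e12, e20, e21, e22]
  module

theorem ext_w {z : ℕ → ℕ → I27 → k} {f : (I27 → k) →ₗ[k] (I27 → k)}
    (e00 : f (z 0 0) = z 2 2) (e01 : f (z 0 1) = -z 2 1) (e02 : f (z 0 2) = z 2 0)
    (e10 : f (z 1 0) = -z 1 2) (e11 : f (z 1 1) = z 1 1) (e12 : f (z 1 2) = -z 1 0)
    (e20 : f (z 2 0) = z 0 2) (e21 : f (z 2 1) = -z 0 1) (e22 : f (z 2 2) = z 0 0)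
    (p0 p1 p2 r0 r1 r2 : k) : f (mm z p0 p1 p2 r0 r1 r2) = mm z p2 (-p1) p0 r2 (-r1) r0 := by
  unfold mm col at *
  simp only [map_add, map_smul, e00, e01, e02, e10, e11, e12, e20, e21, e22]
  module

/-- **the alternating products form a tuple** -/
theorem tp_zz (H : Act ρ) (hy : TP ι 3 ρ 2 i 2 j y) : TP ι 3 ρ 2 i 2 j (zz y) := by
  have h2 := two3 k
  have h4 := four3 k
  have h1 : (1 : k) ≠ 0 := one_ne_zero
  refine TP.of_nine (fun s s' hs => ?_) (fun t => ?_) (fun c => ?_) ?_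
  · have : ∀ s s', 2 < s ∨ 2 < s' → zz y s s' = 0 := by
      intro s s' hs
      unfold zz
      split <;> first | (clear * - hs; omega) | rfl
    exact this s s' hs
  · have key : ∀ p0 p1 p2 q0 q1 q2 r0 r1 r2 s0 s1 s2 : k, ρ (Cfsg.Agent.H943.SL2Rel.u t)
        (mm (zz y) (p0 * q1 - p1 * q0) (2 * (p0 * q2 - p2 * q0)) (p1 * q2 - p2 * q1)
        (r0 * s1 - r1 * s0) (2 * (r0 * s2 - r2 * s0)) (r1 * s2 - r2 * s1)) =
        mm (zz y) (p0 * q1 - p1 * q0) (2 * (ι t ^ 3 ^ i) * (p0 * q1 - p1 * q0) + 2 * (p0 * q2 - p2 * q0))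
          ((ι t ^ 3 ^ i) ^ 2 * (p0 * q1 - p1 * q0) + (ι t ^ 3 ^ i) * (2 * (p0 * q2 - p2 * q0)) + (p1 * q2 - p2 * q1))
          (r0 * s1 - r1 * s0) (2 * (ι t ^ 3 ^ j) * (r0 * s1 - r1 * s0) + 2 * (r0 * s2 - r2 * s0))
          ((ι t ^ 3 ^ j) ^ 2 * (r0 * s1 - r1 * s0) + (ι t ^ 3 ^ j) * (2 * (r0 * s2 - r2 * s0)) + (r1 * s2 - r2 * s1)) := by
      intro p0 p1 p2 q0 q1 q2 r0 r1 r2 s0 s1 s2
      apply canc h2
      rw [← map_smul, ← BB_eq h2, tp_uB H hy, BB_eq h2]
      congr 2 <;> ring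
    have e00 : ρ (Cfsg.Agent.H943.SL2Rel.u t) (zz y 0 0) = mm (zz y) 1 (2 * (ι t ^ 3 ^ i)) ((ι t ^ 3 ^ i) ^ 2) 1 (2 * (ι t ^ 3 ^ j)) ((ι t ^ 3 ^ j) ^ 2) := by
      have := key 1 0 0 0 1 0 1 0 0 0 1 0
      apply canc h1
      rw [← map_smul]
      refine Eq.trans ?_ (this.trans ?_)
      · congr 1
        unfold mm col
        module
      · unfold mm col
        module
    have e01 : ρ (Cfsg.Agent.H943.SL2Rel.u t) (zz y 0 1) = mm (zz y) 1 (2 * (ι t ^ 3 ^ i)) ((ι t ^ 3 ^ i) ^ 2) 0 1 (ι t ^ 3 ^ j) := by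
      have := key 1 0 0 0 1 0 1 0 0 0 0 1
      apply canc h2
      rw [← map_smul]
      refine Eq.trans ?_ (this.trans ?_)
      · congr 1
        unfold mm col
        module
      · unfold mm col
        module
    have e02 : ρ (Cfsg.Agent.H943.SL2Rel.u t) (zz y 0 2) = mm (zz y) 1 (2 * (ι t ^ 3 ^ i)) ((ι t ^ 3 ^ i) ^ 2) 0 0 1 := by
      have := key 1 0 0 0 1 0 0 1 0 0 0 1
      apply canc h1
      rw [← map_smul]
      refine Eq.trans ?_ (this.trans ?_)
      · congr 1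
        unfold mm col
        module
      · unfold mm col
        module
    have e10 : ρ (Cfsg.Agent.H943.SL2Rel.u t) (zz y 1 0) = mm (zz y) 0 1 (ι t ^ 3 ^ i) 1 (2 * (ι t ^ 3 ^ j)) ((ι t ^ 3 ^ j) ^ 2) := by
      have := key 1 0 0 0 0 1 1 0 0 0 1 0
      apply canc h2
      rw [← map_smul]
      refine Eq.trans ?_ (this.trans ?_)
      · congr 1
        unfold mm col
        module
      · unfold mm col
        module
    have e11 : ρ (Cfsg.Agent.H943.SL2Rel.u t) (zz y 1 1) = mm (zz y) 0 1 (ι t ^ 3 ^ i) 0 1 (ι t ^ 3 ^ j) := by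
      have := key 1 0 0 0 0 1 1 0 0 0 0 1
      apply canc h4
      rw [← map_smul]
      refine Eq.trans ?_ (this.trans ?_)
      · congr 1
        unfold mm col
        module
      · unfold mm col
        module
    have e12 : ρ (Cfsg.Agent.H943.SL2Rel.u t) (zz y 1 2) = mm (zz y) 0 1 (ι t ^ 3 ^ i) 0 0 1 := by
      have := key 1 0 0 0 0 1 0 1 0 0 0 1
      apply canc h2
      rw [← map_smul]
      refine Eq.trans ?_ (this.trans ?_)
      · congr 1
        unfold mm col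
        module
      · unfold mm col
        module
    have e20 : ρ (Cfsg.Agent.H943.SL2Rel.u t) (zz y 2 0) = mm (zz y) 0 0 1 1 (2 * (ι t ^ 3 ^ j)) ((ι t ^ 3 ^ j) ^ 2) := by
      have := key 0 1 0 0 0 1 1 0 0 0 1 0
      apply canc h1
      rw [← map_smul]
      refine Eq.trans ?_ (this.trans ?_)
      · congr 1
        unfold mm col
        module
      · unfold mm col
        module
    have e21 : ρ (Cfsg.Agent.H943.SL2Rel.u t) (zz y 2 1) = mm (zz y) 0 0 1 0 1 (ι t ^ 3 ^ j) := by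
      have := key 0 1 0 0 0 1 1 0 0 0 0 1
      apply canc h2
      rw [← map_smul]
      refine Eq.trans ?_ (this.trans ?_)
      · congr 1
        unfold mm col
        module
      · unfold mm col
        module
    have e22 : ρ (Cfsg.Agent.H943.SL2Rel.u t) (zz y 2 2) = mm (zz y) 0 0 1 0 0 1 := by
      have := key 0 1 0 0 0 1 0 1 0 0 0 1
      apply canc h1
      rw [← map_smul]
      refine Eq.trans ?_ (this.trans ?_)
      · congr 1
        unfold mm col
        module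
      · unfold mm col
        module
    exact ext_u e00 e01 e02 e10 e11 e12 e20 e21 e22
  · have hi0 : ι (c : K) ^ 3 ^ i ≠ 0 := pow_ne_zero _ ((map_ne_zero ι).2 c.ne_zero)
    have hj0 : ι (c : K) ^ 3 ^ j ≠ 0 := pow_ne_zero _ ((map_ne_zero ι).2 c.ne_zero)
    have key : ∀ p0 p1 p2 q0 q1 q2 r0 r1 r2 s0 s1 s2 : k, ρ (Cfsg.Agent.H943.SL2Rel.h c)
        (mm (zz y) (p0 * q1 - p1 * q0) (2 * (p0 * q2 - p2 * q0)) (p1 * q2 - p2 * q1)
        (r0 * s1 - r1 * s0) (2 * (r0 * s2 - r2 * s0)) (r1 * s2 - r2 * s1)) =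
        mm (zz y) ((ι c ^ 3 ^ i)⁻¹ ^ 2 * (p0 * q1 - p1 * q0)) (2 * (p0 * q2 - p2 * q0))
          ((ι c ^ 3 ^ i) ^ 2 * (p1 * q2 - p2 * q1))
          ((ι c ^ 3 ^ j)⁻¹ ^ 2 * (r0 * s1 - r1 * s0)) (2 * (r0 * s2 - r2 * s0))
          ((ι c ^ 3 ^ j) ^ 2 * (r1 * s2 - r2 * s1)) := by
      intro p0 p1 p2 q0 q1 q2 r0 r1 r2 s0 s1 s2
      apply canc h2
      rw [← map_smul, ← BB_eq h2, tp_hB H hy, BB_eq h2]
      congr 2 <;> field_simp
    have e00 : ρ (Cfsg.Agent.H943.SL2Rel.h c) (zz y 0 0) = (((ι c ^ 3 ^ i)⁻¹ ^ 2) * ((ι c ^ 3 ^ j)⁻¹ ^ 2)) • zz y 0 0 := by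
      have := key 1 0 0 0 1 0 1 0 0 0 1 0
      apply canc h1
      rw [← map_smul]
      refine Eq.trans ?_ (this.trans ?_)
      · congr 1
        unfold mm col
        module
      · unfold mm col
        module
    have e01 : ρ (Cfsg.Agent.H943.SL2Rel.h c) (zz y 0 1) = ((ι c ^ 3 ^ i)⁻¹ ^ 2) • zz y 0 1 := by
      have := key 1 0 0 0 1 0 1 0 0 0 0 1
      apply canc h2
      rw [← map_smul]
      refine Eq.trans ?_ (this.trans ?_)
      · congr 1
        unfold mm col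
        module
      · unfold mm col
        module
    have e02 : ρ (Cfsg.Agent.H943.SL2Rel.h c) (zz y 0 2) = (((ι c ^ 3 ^ i)⁻¹ ^ 2) * ((ι c ^ 3 ^ j) ^ 2)) • zz y 0 2 := by
      have := key 1 0 0 0 1 0 0 1 0 0 0 1
      apply canc h1
      rw [← map_smul]
      refine Eq.trans ?_ (this.trans ?_)
      · congr 1
        unfold mm col
        module
      · unfold mm col
        module
    have e10 : ρ (Cfsg.Agent.H943.SL2Rel.h c) (zz y 1 0) = ((ι c ^ 3 ^ j)⁻¹ ^ 2) • zz y 1 0 := by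
      have := key 1 0 0 0 0 1 1 0 0 0 1 0
      apply canc h2
      rw [← map_smul]
      refine Eq.trans ?_ (this.trans ?_)
      · congr 1
        unfold mm col
        module
      · unfold mm col
        module
    have e11 : ρ (Cfsg.Agent.H943.SL2Rel.h c) (zz y 1 1) = zz y 1 1 := by
      have := key 1 0 0 0 0 1 1 0 0 0 0 1
      apply canc h4
      rw [← map_smul]
      refine Eq.trans ?_ (this.trans ?_)
      · congr 1
        unfold mm col
        module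
      · unfold mm col
        module
    have e12 : ρ (Cfsg.Agent.H943.SL2Rel.h c) (zz y 1 2) = ((ι c ^ 3 ^ j) ^ 2) • zz y 1 2 := by
      have := key 1 0 0 0 0 1 0 1 0 0 0 1
      apply canc h2
      rw [← map_smul]
      refine Eq.trans ?_ (this.trans ?_)
      · congr 1
        unfold mm col
        module
      · unfold mm col
        module
    have e20 : ρ (Cfsg.Agent.H943.SL2Rel.h c) (zz y 2 0) = (((ι c ^ 3 ^ i) ^ 2) * ((ι c ^ 3 ^ j)⁻¹ ^ 2)) • zz y 2 0 := by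
      have := key 0 1 0 0 0 1 1 0 0 0 1 0
      apply canc h1
      rw [← map_smul]
      refine Eq.trans ?_ (this.trans ?_)
      · congr 1
        unfold mm col
        module
      · unfold mm col
        module
    have e21 : ρ (Cfsg.Agent.H943.SL2Rel.h c) (zz y 2 1) = ((ι c ^ 3 ^ i) ^ 2) • zz y 2 1 := by
      have := key 0 1 0 0 0 1 1 0 0 0 0 1
      apply canc h2
      rw [← map_smul]
      refine Eq.trans ?_ (this.trans ?_)
      · congr 1
        unfold mm col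
        module
      · unfold mm col
        module
    have e22 : ρ (Cfsg.Agent.H943.SL2Rel.h c) (zz y 2 2) = (((ι c ^ 3 ^ i) ^ 2) * ((ι c ^ 3 ^ j) ^ 2)) • zz y 2 2 := by
      have := key 0 1 0 0 0 1 0 1 0 0 0 1
      apply canc h1
      rw [← map_smul]
      refine Eq.trans ?_ (this.trans ?_)
      · congr 1
        unfold mm col
        module
      · unfold mm col
        module
    exact ext_h e00 e01 e02 e10 e11 e12 e20 e21 e22
  · have key : ∀ p0 p1 p2 q0 q1 q2 r0 r1 r2 s0 s1 s2 : k, ρ Cfsg.Agent.H943.SL2Rel.w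
        (mm (zz y) (p0 * q1 - p1 * q0) (2 * (p0 * q2 - p2 * q0)) (p1 * q2 - p2 * q1)
        (r0 * s1 - r1 * s0) (2 * (r0 * s2 - r2 * s0)) (r1 * s2 - r2 * s1)) =
        mm (zz y) (p1 * q2 - p2 * q1) (-(2 * (p0 * q2 - p2 * q0))) (p0 * q1 - p1 * q0)
          (r1 * s2 - r2 * s1) (-(2 * (r0 * s2 - r2 * s0))) (r0 * s1 - r1 * s0) := by
      intro p0 p1 p2 q0 q1 q2 r0 r1 r2 s0 s1 s2
      apply canc h2
      rw [← map_smul, ← BB_eq h2, tp_wB H hy, BB_eq h2]
      congr 2 <;> ring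
    have e00 : ρ Cfsg.Agent.H943.SL2Rel.w (zz y 0 0) = zz y 2 2 := by
      have := key 1 0 0 0 1 0 1 0 0 0 1 0
      apply canc h1
      rw [← map_smul]
      refine Eq.trans ?_ (this.trans ?_)
      · congr 1
        unfold mm col
        module
      · unfold mm col
        module
    have e01 : ρ Cfsg.Agent.H943.SL2Rel.w (zz y 0 1) = -zz y 2 1 := by
      have := key 1 0 0 0 1 0 1 0 0 0 0 1
      apply canc h2
      rw [← map_smul]
      refine Eq.trans ?_ (this.trans ?_)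
      · congr 1
        unfold mm col
        module
      · unfold mm col
        module
    have e02 : ρ Cfsg.Agent.H943.SL2Rel.w (zz y 0 2) = zz y 2 0 := by
      have := key 1 0 0 0 1 0 0 1 0 0 0 1
      apply canc h1
      rw [← map_smul]
      refine Eq.trans ?_ (this.trans ?_)
      · congr 1
        unfold mm col
        module
      · unfold mm col
        module
    have e10 : ρ Cfsg.Agent.H943.SL2Rel.w (zz y 1 0) = -zz y 1 2 := by
      have := key 1 0 0 0 0 1 1 0 0 0 1 0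
      apply canc h2
      rw [← map_smul]
      refine Eq.trans ?_ (this.trans ?_)
      · congr 1
        unfold mm col
        module
      · unfold mm col
        module
    have e11 : ρ Cfsg.Agent.H943.SL2Rel.w (zz y 1 1) = zz y 1 1 := by
      have := key 1 0 0 0 0 1 1 0 0 0 0 1
      apply canc h4
      rw [← map_smul]
      refine Eq.trans ?_ (this.trans ?_)
      · congr 1
        unfold mm col
        module
      · unfold mm col
        module
    have e12 : ρ Cfsg.Agent.H943.SL2Rel.w (zz y 1 2) = -zz y 1 0 := by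
      have := key 1 0 0 0 0 1 0 1 0 0 0 1
      apply canc h2
      rw [← map_smul]
      refine Eq.trans ?_ (this.trans ?_)
      · congr 1
        unfold mm col
        module
      · unfold mm col
        module
    have e20 : ρ Cfsg.Agent.H943.SL2Rel.w (zz y 2 0) = zz y 0 2 := by
      have := key 0 1 0 0 0 1 1 0 0 0 1 0
      apply canc h1
      rw [← map_smul]
      refine Eq.trans ?_ (this.trans ?_)
      · congr 1
        unfold mm col
        module
      · unfold mm col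
        module
    have e21 : ρ Cfsg.Agent.H943.SL2Rel.w (zz y 2 1) = -zz y 0 1 := by
      have := key 0 1 0 0 0 1 1 0 0 0 0 1
      apply canc h2
      rw [← map_smul]
      refine Eq.trans ?_ (this.trans ?_)
      · congr 1
        unfold mm col
        module
      · unfold mm col
        module
    have e22 : ρ Cfsg.Agent.H943.SL2Rel.w (zz y 2 2) = zz y 0 0 := by
      have := key 0 1 0 0 0 1 0 1 0 0 0 1
      apply canc h1
      rw [← map_smul]
      refine Eq.trans ?_ (this.trans ?_)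
      · congr 1
        unfold mm col
        module
      · unfold mm col
        module
    exact ext_w e00 e01 e02 e10 e11 e12 e20 e21 e22

end Cfsg.Agent.R2.F4P.Th
end

-- part: R2/F4P/Th/Y9d
section
/-!
# The submodules `V_{2 3^i + 2 3^j}`, IV (helper20, S5931)

* `YC.exists_c` : the constant; `YC.zero` : both constants cannot vanish.
-/

set_option autoImplicit false
set_option linter.unusedSectionVars false
set_option linter.unusedVariables false

namespace Cfsg.Agent.R2.F4P.Th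

open Cfsg.Lie
open Cfsg.Agent.ChevalleyStructure.E6Min.Tables Cfsg.Agent.ChevalleyStructure.E6Min.Basic
open Cfsg.Agent.H952.F4 (sh cr tf tr1 u0)
open Cfsg.Agent.H952.F4.Jord
open Cfsg.Agent.H943.SL2Rel Cfsg.Agent.H943.SL2Mod Cfsg.Agent.R2.H28.SL2 Cfsg.Agent.H943.RepAdd
open Cfsg.Agent.R2.F4L

universe u v w

variable {k : Type u} [Field k] [DecidableEq k] {K : Type w} [Field K] [Fintype K] [DecidableEq K] {ι : K →+* k}
variable [CharP k 3] [CharP K 3] {a : ℕ}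
variable {ρ : Representation k (Matrix.SpecialLinearGroup (Fin 2) K) (I27 → k)} {i j : ℕ} {y : ℕ → ℕ → I27 → k}

/-- **the constant** -/
theorem YC.exists_c (h : YC ι a ρ i j y) : ∃ c : k, cr (y 0 1) (y 2 1) + (4 : k) • sh (y 1 1) = c • u0 k := by
  refine h.C.fix _ fun g => fix_of (fun t => ?_) (fun c => ?_) ?_ g
  · set r := ι t ^ 3 ^ j with hr
    set s := ι t ^ 3 ^ i with hs
    have e0 : ρ (Cfsg.Agent.H943.SL2Rel.u t) (y 0 1) = col y 0 1 r 0 + (2 * s) • col y 0 1 r 1 + (s ^ 2) • col y 0 1 r 2 := by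
      conv_lhs => rw [(mm_y y).2.1, tp_u h.tp]
      unfold mm col
      module
    have e1 : ρ (Cfsg.Agent.H943.SL2Rel.u t) (y 1 1) = col y 0 1 r 1 + s • col y 0 1 r 2 := by
      conv_lhs => rw [(mm_y y).2.2.2.2.1, tp_u h.tp]
      unfold mm col
      module
    have e2 : ρ (Cfsg.Agent.H943.SL2Rel.u t) (y 2 1) = col y 0 1 r 2 := by
      conv_lhs => rw [(mm_y y).2.2.2.2.2.2.2.1, tp_u h.tp]
      unfold mm col
      module
    rw [map_add, map_smul, h.C.act.cr, h.C.act.sh, e0, e1, e2, cr_add_left, cr_add_left, cr_smul_left, cr_smul_left,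
      cr_self, sh_add, sh_smul, cr_smul_right, h.c_2]
    have h3 : ∀ v : I27 → k, (6 : k) • v = 0 := fun v => by
      rw [show (6 : k) = 3 * 2 by norm_num, s3]
    calc _ = (1 ^ 2 - 0 * r) • (cr (y 0 1) (y 2 1) + (4 : k) • sh (y 1 1)) +
          (6 : k) • (s • cr (col y 0 1 r 1) (col y 0 1 r 2) + s ^ 2 • sh (col y 0 1 r 2)) := by module
      _ = _ := by rw [h3]; module
  · have hi0 : ι (c : K) ^ 3 ^ i ≠ 0 := pow_ne_zero _ ((map_ne_zero ι).2 c.ne_zero)
    have e0 : ρ (Cfsg.Agent.H943.SL2Rel.h c) (y 0 1) = ((ι c ^ 3 ^ i)⁻¹ ^ 2) • y 0 1 := by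
      conv_lhs => rw [(mm_y y).2.1, tp_h h.tp]
      unfold mm col
      module
    have e1 : ρ (Cfsg.Agent.H943.SL2Rel.h c) (y 1 1) = y 1 1 := by
      conv_lhs => rw [(mm_y y).2.2.2.2.1, tp_h h.tp]
      unfold mm col
      module
    have e2 : ρ (Cfsg.Agent.H943.SL2Rel.h c) (y 2 1) = ((ι c ^ 3 ^ i) ^ 2) • y 2 1 := by
      conv_lhs => rw [(mm_y y).2.2.2.2.2.2.2.1, tp_h h.tp]
      unfold mm col
      module
    rw [map_add, map_smul, h.C.act.cr, h.C.act.sh, e0, e1, e2, cr_smul_left, cr_smul_right, smul_smul, ← mul_pow,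
      inv_mul_cancel₀ hi0, one_pow, one_smul]
  · have e0 : ρ Cfsg.Agent.H943.SL2Rel.w (y 0 1) = (-1 : k) • y 2 1 := by
      conv_lhs => rw [(mm_y y).2.1, tp_w h.tp]
      unfold mm col
      module
    have e1 : ρ Cfsg.Agent.H943.SL2Rel.w (y 1 1) = y 1 1 := by
      conv_lhs => rw [(mm_y y).2.2.2.2.1, tp_w h.tp]
      unfold mm col
      module
    have e2 : ρ Cfsg.Agent.H943.SL2Rel.w (y 2 1) = (-1 : k) • y 0 1 := by
      conv_lhs => rw [(mm_y y).2.2.2.2.2.2.2.1, tp_w h.tp]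
      unfold mm col
      module
    rw [map_add, map_smul, h.C.act.cr, h.C.act.sh, e0, e1, e2, cr_smul_left, cr_smul_right, cr_comm]
    module

/-- the columns -/
theorem YC.w_r (h : YC ι a ρ i j y) {c : k} (hc : cr (y 0 1) (y 2 1) + (4 : k) • sh (y 1 1) = c • u0 k) (r0 r1 r2 : k) :
    cr (col y r0 r1 r2 0) (col y r0 r1 r2 2) = ((r1 ^ 2 - r0 * r2) * c) • u0 k + (2 : k) • sh (col y r0 r1 r2 1) := by
  rw [h.c_2, hc]
  have h3 : (6 : k) • sh (col y r0 r1 r2 1) = 0 := by rw [show (6 : k) = 3 * 2 by norm_num, s3]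
  calc _ = ((r1 ^ 2 - r0 * r2) * c) • u0 k + (2 : k) • sh (col y r0 r1 r2 1) - (6 : k) • sh (col y r0 r1 r2 1) := by module
    _ = _ := by rw [h3, sub_zero]

/-- the middle column vector -/
theorem YC.sh_c1 (h : YC ι a ρ i j y) (r0 r1 r2 : k) : sh (col y r0 r1 r2 1) =
    (r0 ^ 2 • sh (y 1 0) + (r0 * r1) • cr (y 1 0) (y 1 1) +
      (r0 * r2) • (cr (y 1 0) (y 1 2) + (4 : k) • sh (y 1 1)) + (r1 * r2) • cr (y 1 1) (y 1 2) + r2 ^ 2 • sh (y 1 2)) +
      (r1 ^ 2 - 4 * r0 * r2) • sh (y 1 1) := by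
  have e2 := h.swap.sh_mm r0 r1 r2 0 1 0
  have e4 : col (fun s s' => y s' s) 0 1 0 1 = y 1 1 := by unfold col; module
  rw [mm_swap, ← col_swap, e4] at e2
  refine e2.trans ?_
  module

theorem cr_span {S T : Set (I27 → k)} (h : ∀ x ∈ S, ∀ y ∈ T, cr x y = 0) {x y : I27 → k} (hx : x ∈ Submodule.span k S)
    (hy : y ∈ Submodule.span k T) : cr x y = 0 := by
  induction hx using Submodule.span_induction with
  | mem x hx =>
    induction hy using Submodule.span_induction with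
    | mem y hy => exact h x hx y hy
    | zero => exact cr_zero_right x
    | add a b _ _ ha hb => rw [cr_add_right, ha, hb, add_zero]
    | smul c a _ ha => rw [cr_smul_right, ha, smul_zero]
  | zero => exact cr_zero_left y
  | add a b _ _ ha hb => rw [cr_add_left, ha, hb, add_zero]
  | smul c a _ ha => rw [cr_smul_left, ha, smul_zero]

theorem Wh.all {v1 v2 v3 v4 v5 : I27 → k} (W : Wh v1 v2 v3 v4 v5) :
    ∀ x ∈ ({v1, v2, v3, v4, v5} : Set (I27 → k)), ∀ y ∈ ({v1, v2, v3, v4, v5} : Set (I27 → k)), cr x y = 0 := by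
  have S : ∀ {x : I27 → k}, H952.F4.sh x = 0 → cr x x = 0 := fun hx => by rw [cr_self, hx, smul_zero]
  have h11 := S W.s1
  have h22 := S W.s2
  have h33 := S W.s3
  have h44 := S W.s4
  have h55 := S W.s5
  have h12 := W.c12
  have h13 := W.c13
  have h14 := W.c14
  have h15 := W.c15
  have h23 := W.c23
  have h24 := W.c24
  have h25 := W.c25
  have h34 := W.c34
  have h35 := W.c35
  have h45 := W.c45
  have C : ∀ {x y : I27 → k}, cr x y = 0 → cr y x = 0 := fun h => by rw [cr_comm]; exact h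
  simp only [Set.forall_mem_insert, Set.mem_singleton_iff, forall_eq]
  exact ⟨⟨h11, h12, h13, h14, h15⟩, ⟨C h12, h22, h23, h24, h25⟩, ⟨C h13, C h23, h33, h34, h35⟩,
    ⟨C h14, C h24, C h34, h44, h45⟩, C h15, C h25, C h35, C h45, h55⟩

/-- **both constants cannot vanish, I** : all the adjoints of the pure tensors vanish -/
theorem YC.pure0 (h : YC ι a ρ i j y) (hc : cr (y 0 1) (y 2 1) + (4 : k) • sh (y 1 1) = 0)
    (hc' : cr (y 1 0) (y 1 2) + (4 : k) • sh (y 1 1) = 0) (p0 p1 p2 r0 r1 r2 : k) : sh (mm y p0 p1 p2 r0 r1 r2) = 0 := by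
  have h2 := two3 k
  have hW : ∀ r0 r1 r2 : k, Wh (sh (col y r0 r1 r2 0)) (sh (col y r0 r1 r2 1)) (sh (col y r0 r1 r2 2))
      (cr (col y r0 r1 r2 0) (col y r0 r1 r2 1)) (cr (col y r0 r1 r2 1) (col y r0 r1 r2 2)) := fun r0 r1 r2 =>
    (h.nz r0 r1 r2).wh h2 (by
      rw [h.w_r (c := 0) (by rw [hc, zero_smul]), mul_zero, zero_smul, zero_add])
  have hV : ∀ r0 r1 r2 : k, Wh (sh (col (fun s s' => y s' s) r0 r1 r2 0)) (sh (col (fun s s' => y s' s) r0 r1 r2 1))
      (sh (col (fun s s' => y s' s) r0 r1 r2 2)) (cr (col (fun s s' => y s' s) r0 r1 r2 0) (col (fun s s' => y s' s) r0 r1 r2 1))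
      (cr (col (fun s s' => y s' s) r0 r1 r2 1) (col (fun s s' => y s' s) r0 r1 r2 2)) := fun r0 r1 r2 =>
    (h.swap.nz r0 r1 r2).wh h2 (by
      rw [h.swap.w_r (c := 0) (by rw [hc', zero_smul]), mul_zero, zero_smul, zero_add])
  -- the columns with `n(r) = 1`
  have hw : ∀ r0 r1 r2 : k, r1 ^ 2 - r0 * r2 = 1 → ∀ v ∈ ({sh (y 0 1), cr (y 0 1) (y 1 1), cr (y 1 1) (y 2 1), sh (y 2 1)} :
      Set (I27 → k)), cr v (sh (col y r0 r1 r2 1)) = 0 := by
    intro r0 r1 r2 hr v hv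
    have W := hW r0 r1 r2
    have e0 := h.c_0 r0 r1 r2
    have e1 := h.c_1 r0 r1 r2
    have e3 := h.c_3 r0 r1 r2
    have e4 := h.c_4 r0 r1 r2
    rw [hr, one_smul] at e0 e1 e3 e4
    rw [e0, e1, e3, e4] at W
    simp only [Set.mem_insert_iff, Set.mem_singleton_iff] at hv
    rcases hv with rfl | rfl | rfl | rfl
    · exact W.c12
    · rw [cr_comm]; exact W.c24
    · rw [cr_comm]; exact W.c25
    · rw [cr_comm]; exact W.c23
  have hx : ∀ v ∈ ({sh (y 0 1), cr (y 0 1) (y 1 1), cr (y 1 1) (y 2 1), sh (y 2 1)} : Set (I27 → k)),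
      ∀ w ∈ ({sh (y 1 0), sh (y 1 1), sh (y 1 2), cr (y 1 0) (y 1 1), cr (y 1 1) (y 1 2)} : Set (I27 → k)), cr v w = 0 := by
    intro v hv w hww
    have a1 := hw 0 1 0 (by ring) v hv
    have a2 := hw 1 1 0 (by ring) v hv
    have a3 := hw (-1) 1 0 (by ring) v hv
    have a4 := hw 0 1 1 (by ring) v hv
    have a5 := hw 0 1 (-1) (by ring) v hv
    rw [h.sh_c1] at a1 a2 a3 a4 a5
    simp only [cr_add_right, cr_smul_right] at a1 a2 a3 a4 a5
    have b1 : cr v (sh (y 1 1)) = 0 := by rw [← a1]; module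
    have b2 : cr v (sh (y 1 0)) = 0 := by
      apply canc h2
      rw [smul_zero]
      refine Eq.trans ?_ ((congrArg₂ (· + ·) a2 a3).trans (add_zero 0))
      rw [b1]
      module
    have b3 : cr v (cr (y 1 0) (y 1 1)) = 0 := by
      rw [← a2, b1, b2]
      module
    have b4 : cr v (sh (y 1 2)) = 0 := by
      apply canc h2
      rw [smul_zero]
      refine Eq.trans ?_ ((congrArg₂ (· + ·) a4 a5).trans (add_zero 0))
      rw [b1]
      module
    have b5 : cr v (cr (y 1 1) (y 1 2)) = 0 := by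
      rw [← a4, b1, b4]
      module
    simp only [Set.mem_insert_iff, Set.mem_singleton_iff] at hww
    rcases hww with rfl | rfl | rfl | rfl | rfl
    · exact b2
    · exact b1
    · exact b4
    · exact b3
    · exact b5
  -- the span
  have W1 : Wh (sh (y 0 1)) (sh (y 1 1)) (sh (y 2 1)) (cr (y 0 1) (y 1 1)) (cr (y 1 1) (y 2 1)) := by
    have := hW 0 1 0
    have e : ∀ s, col y 0 1 0 s = y s 1 := fun s => by unfold col; module
    rwa [e, e, e] at this
  have V1 : Wh (sh (y 1 0)) (sh (y 1 1)) (sh (y 1 2)) (cr (y 1 0) (y 1 1)) (cr (y 1 1) (y 1 2)) := by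
    have := hV 0 1 0
    have e : ∀ s, col (fun s s' => y s' s) 0 1 0 s = y 1 s := fun s => by unfold col; module
    rwa [e, e, e] at this
  set SF : Set (I27 → k) := {sh (y 0 1), sh (y 1 1), sh (y 2 1), cr (y 0 1) (y 1 1), cr (y 1 1) (y 2 1)} with hSF
  set SG : Set (I27 → k) := {sh (y 1 0), sh (y 1 1), sh (y 1 2), cr (y 1 0) (y 1 1), cr (y 1 1) (y 1 2)} with hSG
  have hFG : ∀ v ∈ SF, ∀ w ∈ SG, cr v w = 0 := by
    intro v hv w hww
    rw [hSF] at hv
    simp only [Set.mem_insert_iff, Set.mem_singleton_iff] at hv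
    rcases hv with rfl | rfl | rfl | rfl | rfl
    · exact hx _ (by simp) w hww
    · exact V1.all _ (by simp) w hww
    · exact hx _ (by simp) w hww
    · exact hx _ (by simp) w hww
    · exact hx _ (by simp) w hww
  have mF : ∀ v ∈ ({sh (y 0 1), sh (y 1 1), sh (y 2 1), cr (y 0 1) (y 1 1), cr (y 1 1) (y 2 1)} : Set (I27 → k)),
      v ∈ Submodule.span k (SF ∪ SG) := fun v hv => Submodule.subset_span (Or.inl hv)
  have mG : ∀ v ∈ ({sh (y 1 0), sh (y 1 1), sh (y 1 2), cr (y 1 0) (y 1 1), cr (y 1 1) (y 1 2)} : Set (I27 → k)),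
      v ∈ Submodule.span k (SF ∪ SG) := fun v hv => Submodule.subset_span (Or.inr hv)
  have hmem : ∀ p0 p1 p2 r0 r1 r2 : k, sh (mm y p0 p1 p2 r0 r1 r2) ∈ Submodule.span k (SF ∪ SG) := by
    intro p0 p1 p2 r0 r1 r2
    rw [h.sh_mm, h.sh_c1, hc, hc', smul_zero, smul_zero, add_zero, add_zero]
    refine Submodule.add_mem _ (Submodule.smul_mem _ _ ?_) (Submodule.smul_mem _ _ ?_)
    · exact Submodule.add_mem _ (Submodule.add_mem _ (Submodule.add_mem _ (Submodule.smul_mem _ _ (mF _ (by simp)))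
        (Submodule.smul_mem _ _ (mF _ (by simp)))) (Submodule.smul_mem _ _ (mF _ (by simp))))
        (Submodule.smul_mem _ _ (mF _ (by simp)))
    · exact Submodule.add_mem _ (Submodule.add_mem _ (Submodule.add_mem _ (Submodule.add_mem _
        (Submodule.smul_mem _ _ (mG _ (by simp))) (Submodule.smul_mem _ _ (mG _ (by simp))))
        (Submodule.smul_mem _ _ (mG _ (by simp)))) (Submodule.smul_mem _ _ (mG _ (by simp))))
        (Submodule.smul_mem _ _ (mG _ (by simp)))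
  have half : ∀ x : I27 → k, cr x x = 0 → sh x = 0 := fun x hx => by
    rw [cr_self] at hx
    exact (smul_eq_zero.1 hx).resolve_left h2
  have hwh : ∀ x ∈ Submodule.span k (SF ∪ SG), sh x = 0 := by
    intro x hxx
    rw [Submodule.span_union] at hxx
    obtain ⟨v, hv, w, hww, rfl⟩ := Submodule.mem_sup.1 hxx
    rw [sh_add, half v (cr_span W1.all hv hv), half w (cr_span V1.all hww hww), cr_span hFG hv hww, add_zero, add_zero]
  let D : Set (I27 → k) := {v | ∃ p0 p1 p2 r0 r1 r2 : k, v = sh (mm y p0 p1 p2 r0 r1 r2)}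
  have hD : Submodule.span k D = ⊥ := by
    refine h.C.white _ (st_span ?_ ?_ ?_) fun x hx => ?_
    · rintro t _ ⟨p0, p1, p2, r0, r1, r2, rfl⟩
      rw [h.C.act.sh, tp_u h.tp]
      exact Submodule.subset_span ⟨_, _, _, _, _, _, rfl⟩
    · rintro t _ ⟨p0, p1, p2, r0, r1, r2, rfl⟩
      rw [h.C.act.sh, tp_h h.tp]
      exact Submodule.subset_span ⟨_, _, _, _, _, _, rfl⟩
    · rintro _ ⟨p0, p1, p2, r0, r1, r2, rfl⟩
      rw [h.C.act.sh, tp_w h.tp]
      exact Submodule.subset_span ⟨_, _, _, _, _, _, rfl⟩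
    · have hle : Submodule.span k D ≤ Submodule.span k (SF ∪ SG) := by
        rw [Submodule.span_le]
        rintro _ ⟨p0, p1, p2, r0, r1, r2, rfl⟩
        exact hmem _ _ _ _ _ _
      exact hwh x (hle hx)
  have : sh (mm y p0 p1 p2 r0 r1 r2) ∈ Submodule.span k D := Submodule.subset_span ⟨_, _, _, _, _, _, rfl⟩
  rw [hD] at this
  exact (Submodule.mem_bot k).1 this

end Cfsg.Agent.R2.F4P.Th
end

-- part: R2/F4P/Th/Y9e
section
/-!
# The submodules `V_{2 3^i + 2 3^j}`, V (helper20, S5931)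

* `YC.zero` : the case of vanishing constants.
-/

set_option autoImplicit false
set_option linter.unusedSectionVars false
set_option linter.unusedVariables false

namespace Cfsg.Agent.R2.F4P.Th

open Cfsg.Lie
open Cfsg.Agent.ChevalleyStructure.E6Min.Tables Cfsg.Agent.ChevalleyStructure.E6Min.Basic
open Cfsg.Agent.H952.F4 (sh cr tf tr1 u0)
open Cfsg.Agent.H952.F4.Jord
open Cfsg.Agent.H943.SL2Rel Cfsg.Agent.H943.SL2Mod Cfsg.Agent.R2.H28.SL2 Cfsg.Agent.H943.RepAdd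
open Cfsg.Agent.R2.F4L

universe u v w

variable {k : Type u} [Field k] [DecidableEq k] {K : Type w} [Field K] [Fintype K] [DecidableEq K] {ι : K →+* k}
variable [CharP k 3] [CharP K 3] {a : ℕ}
variable {ρ : Representation k (Matrix.SpecialLinearGroup (Fin 2) K) (I27 → k)} {i j : ℕ} {y : ℕ → ℕ → I27 → k}

/-- the products of pure tensors, if all adjoints of pure tensors vanish -/
theorem cr_pure (hp : ∀ p0 p1 p2 r0 r1 r2 : k, sh (mm y p0 p1 p2 r0 r1 r2) = 0) (p0 p1 p2 q0 q1 q2 r0 r1 r2 s0 s1 s2 : k) :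
    cr (mm y p0 p1 p2 r0 r1 r2) (mm y q0 q1 q2 s0 s1 s2) =
      mm (zz y) (p0 * q1 - p1 * q0) (2 * (p0 * q2 - p2 * q0)) (p1 * q2 - p2 * q1)
        (r0 * s1 - r1 * s0) (2 * (r0 * s2 - r2 * s0)) (r1 * s2 - r2 * s1) := by
  have P1 : ∀ p0 p1 p2 q0 q1 q2 r0 r1 r2 : k, cr (mm y p0 p1 p2 r0 r1 r2) (mm y q0 q1 q2 r0 r1 r2) = 0 := by
    intro p0 p1 p2 q0 q1 q2 r0 r1 r2
    have e : mm y (p0 + q0) (p1 + q1) (p2 + q2) r0 r1 r2 = mm y p0 p1 p2 r0 r1 r2 + mm y q0 q1 q2 r0 r1 r2 := by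
      unfold mm
      module
    have h1 := hp (p0 + q0) (p1 + q1) (p2 + q2) r0 r1 r2
    rw [e, sh_add, hp, hp, zero_add, zero_add] at h1
    exact h1
  have P3 : cr (mm y p0 p1 p2 r0 r1 r2) (mm y q0 q1 q2 s0 s1 s2) + cr (mm y p0 p1 p2 s0 s1 s2) (mm y q0 q1 q2 r0 r1 r2) = 0 := by
    have h1 := P1 p0 p1 p2 q0 q1 q2 (r0 + s0) (r1 + s1) (r2 + s2)
    have e : ∀ p0 p1 p2 : k, mm y p0 p1 p2 (r0 + s0) (r1 + s1) (r2 + s2) = mm y p0 p1 p2 r0 r1 r2 + mm y p0 p1 p2 s0 s1 s2 := by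
      intro p0 p1 p2
      unfold mm col
      module
    rw [e, e, cr_add_left, cr_add_right, cr_add_right, P1, P1, zero_add, add_zero] at h1
    exact h1
  have h2 := BB_eq (two3 k) y p0 p1 p2 q0 q1 q2 r0 r1 r2 s0 s1 s2
  unfold BB at h2
  apply canc (two3 k)
  rw [← h2, ← sub_eq_zero]
  refine Eq.trans ?_ P3
  module

/-- **the case of vanishing constants** -/
theorem YC.zero (h : YC ι a ρ i j y) [IsAlgClosed k] (hy0 : y ≠ 0) (hu : ∀ z, TP ι 3 ρ 2 i 2 j z → ∃ c : k, z = c • y)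
    (hp : ∀ p0 p1 p2 r0 r1 r2 : k, sh (mm y p0 p1 p2 r0 r1 r2) = 0) : False := by
  obtain ⟨e00, e01, e02, e10, e11, e12, e20, e21, e22⟩ := mm_y y
  obtain ⟨γ, hγ⟩ := hu _ (tp_zz h.C.act h.tp)
  have hmz : ∀ a0 a1 a2 b0 b1 b2 : k, mm (zz y) a0 a1 a2 b0 b1 b2 = γ • mm y a0 a1 a2 b0 b1 b2 := by
    intro a0 a1 a2 b0 b1 b2
    rw [hγ]
    unfold mm col
    simp only [Pi.smul_apply]
    module
  have hcr : ∀ p0 p1 p2 q0 q1 q2 r0 r1 r2 s0 s1 s2 : k, cr (mm y p0 p1 p2 r0 r1 r2) (mm y q0 q1 q2 s0 s1 s2) =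
      γ • mm y (p0 * q1 - p1 * q0) (2 * (p0 * q2 - p2 * q0)) (p1 * q2 - p2 * q1)
        (r0 * s1 - r1 * s0) (2 * (r0 * s2 - r2 * s0)) (r1 * s2 - r2 * s1) := by
    intro p0 p1 p2 q0 q1 q2 r0 r1 r2 s0 s1 s2
    rw [cr_pure hp, hmz]
  -- the vector `y00 + y11 + y22`
  have c1 : cr (y 0 0) (y 1 1) = γ • y 0 0 := by
    have := hcr 1 0 0 0 1 0 1 0 0 0 1 0
    rw [← e00, ← e11] at this
    rw [this]
    unfold mm col
    module
  have c2 : cr (y 0 0) (y 2 2) = γ • y 1 1 := by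
    have := hcr 1 0 0 0 0 1 1 0 0 0 0 1
    rw [← e00, ← e22] at this
    rw [this]
    have h3 : (3 * γ) • y 1 1 = 0 := s3
    calc _ = γ • y 1 1 + (3 * γ) • y 1 1 := by unfold mm col; module
      _ = _ := by rw [h3, add_zero]
  have c3 : cr (y 1 1) (y 2 2) = γ • y 2 2 := by
    have := hcr 0 1 0 0 0 1 0 1 0 0 0 1
    rw [← e11, ← e22] at this
    rw [this]
    unfold mm col
    module
  have s0 : sh (y 0 0) = 0 := by rw [e00]; exact hp _ _ _ _ _ _
  have s1 : sh (y 1 1) = 0 := by rw [e11]; exact hp _ _ _ _ _ _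
  have s2 : sh (y 2 2) = 0 := by rw [e22]; exact hp _ _ _ _ _ _
  have hsh : sh (y 0 0 + y 1 1 + y 2 2) = γ • (y 0 0 + y 1 1 + y 2 2) := by
    rw [sh_add3, s0, s1, s2, c1, c2, c3]
    module
  have ht : tf (y 0 0) (y 2 2) = 0 := by
    have h1 := tr1_cr (y 0 0) (y 2 2)
    have t00 : tr1 (y 0 0) = 0 := by rw [e00]; exact h.tr _ _ _ _ _ _
    have t11 : tr1 (y 1 1) = 0 := by rw [e11]; exact h.tr _ _ _ _ _ _
    rw [c2, tr1_smul, t11, t00] at h1
    linear_combination h1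
  have hN : cubicT (y 0 0 + y 1 1 + y 2 2) = 0 := by
    have h1 := N_lin3 1 1 1 (y 0 0) (y 1 1) (y 2 2)
    rw [one_smul, one_smul, one_smul] at h1
    rw [h1, s0, s1, s2, c1, tf_smul_left, ht, tf_zero_left, tf_zero_left, tf_zero_left,
      h.N_y (by norm_num) (by norm_num), h.N_y (by norm_num) (by norm_num), h.N_y (by norm_num) (by norm_num)]
    ring
  have hne : y 0 0 + y 1 1 + y 2 2 ≠ 0 := by
    intro h0
    have hli := h.tp.li (a := a) h.C.card (by norm_num) (by norm_num) h.hij h.hi h.hj hy0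
    rw [Fintype.linearIndependent_iff] at hli
    have h1 := hli (fun q => if q.1 = q.2 then 1 else 0) (by
      rw [Fintype.sum_prod_type]
      simp only [Fin.sum_univ_three, _root_.Nat.reduceAdd, _root_.ite_smul, _root_.one_smul, _root_.zero_smul, _root_.Finset.sum_ite_eq, _root_.Finset.mem_univ, ↓ _root_.reduceIte, _root_.Fin.isValue, _root_.Fin.coe_ofNat_eq_mod, _root_.Nat.zero_mod, _root_.Nat.one_mod, _root_.Nat.mod_succ]
      exact h0) (0, 0)
    simp at h1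
  have hγ0 : γ = 0 := by
    have h1 := sh_sh (y 0 0 + y 1 1 + y 2 2)
    rw [hN, zero_smul, hsh, sh_smul, hsh, smul_smul] at h1
    have h3 := (smul_eq_zero.1 h1).resolve_right hne
    have h4 : γ ^ 3 = 0 := by rw [← h3]; ring
    exact pow_eq_zero_iff (by norm_num) |>.1 h4
  -- the span is white
  let S : Set (I27 → k) := {v | ∃ p0 p1 p2 r0 r1 r2 : k, v = mm y p0 p1 p2 r0 r1 r2}
  have hS : Submodule.span k S = ⊥ := by
    refine h.C.white _ (st_span ?_ ?_ ?_) fun x hx => ?_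
    · rintro t _ ⟨p0, p1, p2, r0, r1, r2, rfl⟩
      rw [tp_u h.tp]
      exact Submodule.subset_span ⟨_, _, _, _, _, _, rfl⟩
    · rintro t _ ⟨p0, p1, p2, r0, r1, r2, rfl⟩
      rw [tp_h h.tp]
      exact Submodule.subset_span ⟨_, _, _, _, _, _, rfl⟩
    · rintro _ ⟨p0, p1, p2, r0, r1, r2, rfl⟩
      rw [tp_w h.tp]
      exact Submodule.subset_span ⟨_, _, _, _, _, _, rfl⟩
    · have h1 : cr x x = 0 := cr_span (by
        rintro _ ⟨p0, p1, p2, r0, r1, r2, rfl⟩ _ ⟨q0, q1, q2, s0, s1, s2, rfl⟩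
        rw [hcr, hγ0, zero_smul]) hx hx
      rw [cr_self] at h1
      exact (smul_eq_zero.1 h1).resolve_left (two3 k)
  have h00 : y 0 0 ∈ Submodule.span k S := Submodule.subset_span ⟨_, _, _, _, _, _, e00⟩
  rw [hS, Submodule.mem_bot] at h00
  exact h.tp.ne_of (a := a) h.C.card (by norm_num) (by norm_num) h.hij h.hi h.hj hy0 (by norm_num) (by norm_num) h00

end Cfsg.Agent.R2.F4P.Th
end

-- part: R2/F4P/Th/Y9f
section
/-!
# The submodules `V_{2 3^i + 2 3^j}`, VI (helper20, S5931)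

* `card9` : labels of dimension 9; `YC.uq` : uniqueness; `y9` : the submodules `V_{2 3^i + 2 3^j}` with (H) do not exist.
-/

set_option autoImplicit false
set_option linter.unusedSectionVars false
set_option linter.unusedVariables false

namespace Cfsg.Agent.R2.F4P.Th

open Cfsg Cfsg.Lie Module Matrix
open Cfsg.Agent.ChevalleyStructure.E6Min.Tables Cfsg.Agent.ChevalleyStructure.E6Min.Basic
open Cfsg.Agent.H952.F4 (sh cr tf tr1 u0 hF4)
open Cfsg.Agent.H952.F4.Jord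
open Cfsg.Agent.H952.F4.FixV (W0 mem_W0 finrank_W0 u0_ne_zero tr1_eq)
open Cfsg.Agent.R2.H9.E6
open Cfsg.Agent.GpExc.Field (emb)
open Cfsg.Agent.H943.SL2Rel Cfsg.Agent.H943.SL2Mod Cfsg.Agent.R2.H28.SL2 Cfsg.Agent.H943.RepAdd
open Cfsg.Agent.R2.F4M Cfsg.Agent.R2.F4N Cfsg.Agent.R2.F4L

universe u v w

section Gen

variable {k : Type u} [Field k] [DecidableEq k] {K : Type w} [Field K] [Fintype K] [DecidableEq K] {ι : K →+* k}
variable [CharP k 3] [CharP K 3] {a : ℕ}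

/-- labels of dimension 9 -/
theorem card9 (b : ℕ) : (Bf k b).card = 9 → ∃ i j, i ≠ j ∧ b = 2 * 3 ^ i + 2 * 3 ^ j := by
  induction b using Nat.strong_induction_on with
  | _ b ih =>
    intro h
    rcases Nat.eq_zero_or_pos b with rfl | hb
    · rw [card_Bf_zero] at h
      omega
    have h1 := card_Bf_low k 3 b
    have h2 := ih (b / 3) (Nat.div_lt_self hb (by norm_num))
    have h3 := Nat.div_add_mod b 3
    have h4 : b % 3 < 3 := Nat.mod_lt _ (by norm_num)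
    rw [h] at h1
    have h5 : b % 3 = 0 ∨ b % 3 = 1 ∨ b % 3 = 2 := by omega
    rcases h5 with h5 | h5 | h5
    · rw [h5] at h1 h3
      obtain ⟨i, j, hij, hb'⟩ := h2 (by omega)
      refine ⟨i + 1, j + 1, by omega, ?_⟩
      rw [pow_succ, pow_succ]
      omega
    · rw [h5] at h1
      omega
    · rw [h5] at h1 h3
      obtain ⟨-, l, hl⟩ := (card_cases k 3 (by norm_num) (b / 3)).2.2.1 (by omega)
      refine ⟨0, l + 1, by omega, ?_⟩
      rw [pow_zero, pow_succ]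
      omega

variable {ρ : Representation k (Matrix.SpecialLinearGroup (Fin 2) K) (I27 → k)} {i j : ℕ} {y : ℕ → ℕ → I27 → k}

/-- the triples of the columns -/
theorem YC.tri (h : YC ι a ρ i j y) {c0 : k} (hc0 : c0 ≠ 0)
    (hc : cr (y 0 1) (y 2 1) + (4 : k) • sh (y 1 1) = c0 • u0 k) {r0 r1 r2 : k} (hr : r1 ^ 2 - r0 * r2 = 1) :
    Tri (col y r0 r1 r2 0) (col y r0 r1 r2 1) (col y r0 r1 r2 2) c0 := by
  have h9 := h.C.nine
  obtain ⟨lam, hl⟩ := _root_.Cfsg.Agent.R2.F4L.exists_prim ι i 3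
  set α := ι (lam : K) ^ 3 ^ i with hα
  have hα0 : α ≠ 0 := pow_ne_zero _ ((map_ne_zero ι).2 lam.ne_zero)
  have ne : ∀ m : ℕ, 0 < m → m < 8 → α ^ m ≠ 1 := fun m h0 h6 => hl.pow_ne_one_of_pos_of_lt (by omega) (by omega)
  have ine : ∀ m : ℕ, 0 < m → m < 8 → α⁻¹ ^ m ≠ 1 := fun m h0 h6 h => by
    rw [inv_pow] at h
    exact ne m h0 h6 (inv_injective (h.trans inv_one.symm))
  have e0 : ρ (Cfsg.Agent.H943.SL2Rel.h lam) (y 0 1) = (α⁻¹ ^ 2) • y 0 1 := by
    conv_lhs => rw [(mm_y y).2.1, tp_h h.tp]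
    unfold mm col
    module
  have e1 : ρ (Cfsg.Agent.H943.SL2Rel.h lam) (y 1 1) = y 1 1 := by
    conv_lhs => rw [(mm_y y).2.2.2.2.1, tp_h h.tp]
    unfold mm col
    module
  have e2 : ρ (Cfsg.Agent.H943.SL2Rel.h lam) (y 2 1) = (α ^ 2) • y 2 1 := by
    conv_lhs => rw [(mm_y y).2.2.2.2.2.2.2.1, tp_h h.tp]
    unfold mm col
    module
  have t0 : tr1 (sh (y 0 1)) = 0 := by
    refine wt_tr h.C.act (g := Cfsg.Agent.H943.SL2Rel.h lam) (α := α⁻¹ ^ 4) ?_ (ine 4 (by norm_num) (by norm_num))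
    rw [h.C.act.sh, e0, sh_smul]
    congr 1
    ring
  have t1 : tr1 (cr (y 0 1) (y 1 1)) = 0 := by
    refine wt_tr h.C.act (g := Cfsg.Agent.H943.SL2Rel.h lam) (α := α⁻¹ ^ 2) ?_ (ine 2 (by norm_num) (by norm_num))
    rw [h.C.act.cr, e0, e1, cr_smul_left]
  have t3 : tr1 (cr (y 1 1) (y 2 1)) = 0 := by
    refine wt_tr h.C.act (g := Cfsg.Agent.H943.SL2Rel.h lam) (α := α ^ 2) ?_ (ne 2 (by norm_num) (by norm_num))
    rw [h.C.act.cr, e2, e1, cr_smul_right]
  have t4 : tr1 (sh (y 2 1)) = 0 := by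
    refine wt_tr h.C.act (g := Cfsg.Agent.H943.SL2Rel.h lam) (α := α ^ 4) ?_ (ne 4 (by norm_num) (by norm_num))
    rw [h.C.act.sh, e2, sh_smul]
    congr 1
    ring
  refine { h.nz r0 r1 r2 with ne := hc0, w := ?_, r0 := ?_, r1 := ?_, r3 := ?_, r4 := ?_ }
  · rw [h.w_r hc, hr, one_mul]
  · rw [h.c_0, hr, one_smul, t0]
  · rw [h.c_1, hr, one_smul, t1]
  · rw [h.c_3, hr, one_smul, t3]
  · rw [h.c_4, hr, one_smul, t4]

theorem col1 (y : ℕ → ℕ → I27 → k) (s : ℕ) : col y 0 1 0 s = y s 1 := by unfold col; module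

/-- **the middle vector does not depend on the column** -/
theorem YC.mid (h : YC ι a ρ i j y) {c0 : k} (hc0 : c0 ≠ 0)
    (hc : cr (y 0 1) (y 2 1) + (4 : k) • sh (y 1 1) = c0 • u0 k) {r0 r1 r2 : k} (hr : r1 ^ 2 - r0 * r2 = 1) :
    sh (col y r0 r1 r2 1) = sh (y 1 1) := by
  have T := h.tri hc0 hc hr
  have T1 := h.tri hc0 hc (r0 := 0) (r1 := 1) (r2 := 0) (by ring)
  obtain ⟨-, e⟩ := T.trace (two3 k)
  obtain ⟨-, e1⟩ := T1.trace (two3 k)
  rw [h.c_0, h.c_4, hr, one_smul, one_smul] at e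
  rw [col1, col1, col1] at e1
  rw [e1] at e
  exact (canc (mul_ne_zero (two3 k) hc0) e).symm

/-- **the adjoints of pure tensors, `c ≠ 0`** -/
theorem YC.sh_pure (h : YC ι a ρ i j y) {c0 : k} (hc0 : c0 ≠ 0)
    (hc : cr (y 0 1) (y 2 1) + (4 : k) • sh (y 1 1) = c0 • u0 k) (p0 p1 p2 r0 r1 r2 : k) :
    sh (mm y p0 p1 p2 r0 r1 r2) = (r1 ^ 2 - r0 * r2) • sh (mm y p0 p1 p2 0 1 0) := by
  have h2 := two3 k
  have a2 := h.mid hc0 hc (r0 := 1) (r1 := 1) (r2 := 0) (by ring)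
  have a3 := h.mid hc0 hc (r0 := -1) (r1 := 1) (r2 := 0) (by ring)
  have a4 := h.mid hc0 hc (r0 := 0) (r1 := 1) (r2 := 1) (by ring)
  have a5 := h.mid hc0 hc (r0 := 0) (r1 := 1) (r2 := -1) (by ring)
  have a6 := h.mid hc0 hc (r0 := 1) (r1 := 0) (r2 := -1) (by ring)
  rw [h.sh_c1] at a2 a3 a4 a5 a6
  have b2 : sh (y 1 0) = 0 := by
    apply canc h2
    rw [smul_zero]
    have := congrArg₂ (· + ·) a2 a3
    rw [← sub_eq_zero] at this
    rw [← this]
    module
  have b3 : cr (y 1 0) (y 1 1) = 0 := by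
    rw [← sub_eq_zero] at a2
    rw [b2] at a2
    rw [← a2]
    module
  have b4 : sh (y 1 2) = 0 := by
    apply canc h2
    rw [smul_zero]
    have := congrArg₂ (· + ·) a4 a5
    rw [← sub_eq_zero] at this
    rw [← this]
    module
  have b5 : cr (y 1 1) (y 1 2) = 0 := by
    rw [← sub_eq_zero] at a4
    rw [b4] at a4
    rw [← a4]
    module
  have b6 : cr (y 1 0) (y 1 2) + (4 : k) • sh (y 1 1) = 0 := by
    rw [← sub_eq_zero, b2, b3, b4, b5] at a6
    have h3 : (3 * (1 : k)) • sh (y 1 1) = 0 := s3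
    have : cr (y 1 0) (y 1 2) + (4 : k) • sh (y 1 1) = (3 * (1 : k)) • sh (y 1 1) := by
      rw [← sub_eq_zero, ← neg_eq_zero]
      rw [← a6]
      module
    rw [this, h3]
  have key : ∀ r0 r1 r2 : k, sh (col y r0 r1 r2 1) = (r1 ^ 2 - r0 * r2) • sh (y 1 1) := by
    intro r0 r1 r2
    rw [h.sh_c1, b2, b3, b4, b5, b6]
    have h3 : (3 * (r0 * r2)) • sh (y 1 1) = 0 := s3
    calc _ = (r1 ^ 2 - r0 * r2) • sh (y 1 1) - (3 * (r0 * r2)) • sh (y 1 1) := by module
      _ = _ := by rw [h3, sub_zero]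
  rw [h.sh_mm, h.sh_mm, key, key]
  module

/-- the form on the span is not zero -/
theorem YC.tf11 (h : YC ι a ρ i j y) {c0 : k} (hc0 : c0 ≠ 0)
    (hc : cr (y 0 1) (y 2 1) + (4 : k) • sh (y 1 1) = c0 • u0 k) : tf (y 1 1) (y 1 1) ≠ 0 := by
  have T1 := h.tri hc0 hc (r0 := 0) (r1 := 1) (r2 := 0) (by ring)
  obtain ⟨e, -⟩ := T1.trace (two3 k)
  rw [col1] at e
  have h3 := tr1_sh (y 1 1)
  have t11 : tr1 (y 1 1) = 0 := by
    rw [(mm_y y).2.2.2.2.1]
    exact h.tr _ _ _ _ _ _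
  rw [t11] at h3
  intro h0
  rw [h0] at h3
  exact hc0 (by linear_combination e - h3)

/-- the span of a two-digit tuple -/
def Ys (y : ℕ → ℕ → I27 → k) : Submodule k (I27 → k) := Submodule.span k (Set.range fun q : ℕ × ℕ => y q.1 q.2)

theorem mem_Ys (y : ℕ → ℕ → I27 → k) (s s' : ℕ) : y s s' ∈ Ys y := Submodule.subset_span ⟨(s, s'), rfl⟩

theorem mm_mem (y : ℕ → ℕ → I27 → k) (p0 p1 p2 r0 r1 r2 : k) : mm y p0 p1 p2 r0 r1 r2 ∈ Ys y := by
  have hc : ∀ s, col y r0 r1 r2 s ∈ Ys y := fun s =>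
    Submodule.add_mem _ (Submodule.add_mem _ (Submodule.smul_mem _ _ (mem_Ys y _ _)) (Submodule.smul_mem _ _ (mem_Ys y _ _)))
      (Submodule.smul_mem _ _ (mem_Ys y _ _))
  exact Submodule.add_mem _ (Submodule.add_mem _ (Submodule.smul_mem _ _ (hc 0)) (Submodule.smul_mem _ _ (hc 1)))
      (Submodule.smul_mem _ _ (hc 2))

theorem Ys_swap (y : ℕ → ℕ → I27 → k) : Ys (fun s s' => y s' s) = Ys y := by
  apply le_antisymm
  · refine Submodule.span_le.2 ?_
    rintro _ ⟨⟨s, s'⟩, rfl⟩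
    exact mem_Ys y s' s
  · refine Submodule.span_le.2 ?_
    rintro _ ⟨⟨s, s'⟩, rfl⟩
    exact mem_Ys (fun s s' => y s' s) s' s

/-- **nondegeneracy** -/
theorem YC.nd (h : YC ι a ρ i j y) [IsAlgClosed k] (hy0 : y ≠ 0) (h11 : tf (y 1 1) (y 1 1) ≠ 0) {v : I27 → k} (hv : v ∈ Ys y)
    (ho : ∀ w ∈ Ys y, tf v w = 0) : v = 0 := by
  obtain ⟨hX, -⟩ := h.tp.isVb (a := a) h.C.card (by norm_num) (by norm_num) h.hij h.hi h.hj hy0
  let W : Submodule k (I27 → k) :=
    { carrier := {v | v ∈ Ys y ∧ ∀ w ∈ Ys y, tf v w = 0}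
      add_mem' := fun {v w} hv hw => ⟨Submodule.add_mem _ hv.1 hw.1, fun x hx => by
        rw [tf_add_left, hv.2 x hx, hw.2 x hx, add_zero]⟩
      zero_mem' := ⟨Submodule.zero_mem _, fun w _ => tf_zero_left w⟩
      smul_mem' := fun c v hv => ⟨Submodule.smul_mem _ _ hv.1, fun x hx => by rw [tf_smul_left, hv.2 x hx, mul_zero]⟩ }
  have hW : ∀ g, ∀ v ∈ W, ρ g v ∈ W := by
    intro g v hv
    refine ⟨hX g v hv.1, fun w hw => ?_⟩
    have h1 : w = ρ g (ρ g⁻¹ w) := by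
      rw [← Module.End.mul_apply, ← map_mul, mul_inv_cancel, map_one, Module.End.one_apply]
    rw [h1, h.C.act.tf]
    exact hv.2 _ (hX g⁻¹ w hw)
  rcases h.tp.sub (a := a) h.C.card (by norm_num) (by norm_num) h.hij h.hi h.hj hy0 (W := W) (fun v hv => hv.1) hW with h1 | h1
  · have h2 : v ∈ W := ⟨hv, ho⟩
    rw [h1] at h2
    exact (Submodule.mem_bot k).1 h2
  · exfalso
    have h2 : y 1 1 ∈ W := by rw [h1]; exact mem_Ys y 1 1
    exact h11 (h2.2 _ (mem_Ys y 1 1))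

end Gen

end Cfsg.Agent.R2.F4P.Th
end
end
end
end
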